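import Mathlib
import Cfsg.Prelude.Def_GeometricClasses

set_option autoImplicit false

/-!
Shared definitions for the GLI lemma server (S5958: elements of odd prime order `r ≠ p` of
`SL_n(q)` and direct-sum decompositions into `t` subspaces of dimension `a`).
-/

namespace Cfsg.Agent.Helper14.GLI

open Module

/-- an independent family of subspaces with supremum `R` -/
structure IsIndepFam {F V : Type*} [Field F] [AddCommGroup V] [Module F V] {K : Type*}
    (R : Submodule F V) (W : K → Submodule F V) : Prop where
  indep : iSupIndep W
  sup : iSup W = R

end Cfsg.Agent.Helper14.GLI
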