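import Mathlib
import Cfsg.Prelude.Def_GeometricClasses
import Cfsg.Prelude.Def_ClassicalGeometry

set_option autoImplicit false

/-!
Shared definitions for the SPI lemma server (S5961: elements of odd prime order `r ≠ p` of
`Sp_2d(q)` and orthogonal decompositions into `t` nondegenerate `a`-spaces).
-/

namespace Cfsg.Agent.Helper14.SPI

open Module

/-- `B` is nondegenerate on the subspace `W` -/
def NondegOn {F V : Type*} [Field F] [AddCommGroup V] [Module F V]
    (B : LinearMap.BilinForm F V) (W : Submodule F V) : Prop :=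
  ∀ u ∈ W, u ≠ 0 → ∃ v ∈ W, B u v ≠ 0

/-- `x` preserves `B` -/
def IsIsom {F V : Type*} [Field F] [AddCommGroup V] [Module F V]
    (B : LinearMap.BilinForm F V) (x : V →ₗ[F] V) : Prop :=
  ∀ u w, B (x u) (x w) = B u w

/-- an orthogonal family of nondegenerate subspaces, independent, with supremum `R` -/
structure IsOrthFam {F V : Type*} [Field F] [AddCommGroup V] [Module F V] {K : Type*}
    (B : LinearMap.BilinForm F V) (R : Submodule F V) (W : K → Submodule F V) : Prop where
  indep : iSupIndep W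
  sup : iSup W = R
  nondeg : ∀ k, NondegOn B (W k)
  orth : ∀ k k', k ≠ k' → ∀ u ∈ W k, ∀ v ∈ W k', B u v = 0

/-- the constant `c`: the order `i` of `q` mod `r` if `i` is even, `2 i` otherwise -/
noncomputable def cOf (q r : ℕ) : ℕ :=
  if Even (orderOf (q : ZMod r)) then orderOf (q : ZMod r) else 2 * orderOf (q : ZMod r)

/-- the point set of S5961, verbatim -/
def OmegaProp {F : Type*} [Field F] (d a : ℕ) {t : ℕ}
    (D : Fin t → Submodule F (Fin d ⊕ Fin d → F)) : Prop :=
  (Cfsg.Geo.IsMDecomposition a D ∧ (∀ j, ∀ u ∈ D j, u ≠ 0 → ∃ v ∈ D j, Cfsg.sympForm d F u v ≠ 0) ∧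
          (∀ j j', j ≠ j' → ∀ u ∈ D j, ∀ v ∈ D j', Cfsg.sympForm d F u v = 0))

end Cfsg.Agent.Helper14.SPI
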