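import Mathlib
import Cfsg.Prelude.Def_Characters

set_option autoImplicit false

namespace Cfsg.Agent.Helper14

universe u

theorem extendByZero_of_mem {G : Type u} [Group G] (H : Subgroup G) (θ : H → ℂ) {g : G}
    (hg : g ∈ H) : Cfsg.extendByZero H θ g = θ ⟨g, hg⟩ := by
  unfold Cfsg.extendByZero
  exact Subtype.val_injective.extend_apply θ 0 ⟨g, hg⟩

theorem extendByZero_of_not_mem {G : Type u} [Group G] (H : Subgroup G) (θ : H → ℂ) {g : G}
    (hg : g ∉ H) : Cfsg.extendByZero H θ g = 0 := by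
  unfold Cfsg.extendByZero
  rw [Function.extend_apply']
  · rfl
  · rintro ⟨a, rfl⟩
    exact hg a.2

theorem indFun_apply {G : Type u} [Group G] [Fintype G] (H : Subgroup G) (θ : H → ℂ) (g : G) :
    Cfsg.indFun H θ g = (Nat.card H : ℂ)⁻¹ * ∑ x : G, Cfsg.extendByZero H θ (x⁻¹ * g * x) := rfl

end Cfsg.Agent.Helper14
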