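import Mathlib

set_option autoImplicit false

namespace Cfsg.Agent.Helper14

/-- in a finite cyclic group, subgroups are ordered by divisibility of their orders -/
theorem le_of_card_dvd_cyclic {α : Type*} [Group α] [Finite α] [IsCyclic α] (K₁ K₂ : Subgroup α)
    (hdvd : Nat.card K₁ ∣ Nat.card K₂) : K₁ ≤ K₂ := by
  classical
  have : Fintype α := Fintype.ofFinite α
  set d := Nat.card K₂ with hd
  have hd0 : 0 < d := Nat.card_pos
  have hT : (Finset.univ.filter (fun a : α => a ^ d = 1)).card ≤ d := IsCyclic.card_pow_eq_one_le hd0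
  have hU : (Finset.univ.filter (fun a : α => a ∈ K₂)).card = d := by
    rw [hd, Nat.card_eq_fintype_card, Fintype.card_subtype]
  have hsub : Finset.univ.filter (fun a : α => a ∈ K₂) ⊆ Finset.univ.filter (fun a : α => a ^ d = 1) := by
    intro x hx
    simp only [Finset.mem_filter, Finset.mem_univ, true_and] at hx ⊢
    have : (⟨x, hx⟩ : K₂) ^ Nat.card K₂ = 1 := pow_card_eq_one'
    exact congrArg Subtype.val this
  have heq := Finset.eq_of_subset_of_card_le hsub (by rw [hU]; exact hT)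
  intro x hx
  have hx1 : x ^ d = 1 := by
    have h1 : orderOf x ∣ Nat.card K₁ := Subgroup.orderOf_dvd_natCard K₁ hx
    exact orderOf_dvd_iff_pow_eq_one.mp (h1.trans hdvd)
  have : x ∈ Finset.univ.filter (fun a : α => a ∈ K₂) := by
    rw [heq]
    simp [hx1]
  simpa using this

theorem le_of_card_dvd_of_le_cyclic {G : Type*} [Group G] [Finite G] (A H₁ H₂ : Subgroup G)
    [IsCyclic A] (h₁ : H₁ ≤ A) (h₂ : H₂ ≤ A) (hdvd : Nat.card H₁ ∣ Nat.card H₂) : H₁ ≤ H₂ := by
  have key := le_of_card_dvd_cyclic (H₁.subgroupOf A) (H₂.subgroupOf A) (by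
    rw [Nat.card_congr (Subgroup.subgroupOfEquivOfLe h₁).toEquiv,
      Nat.card_congr (Subgroup.subgroupOfEquivOfLe h₂).toEquiv]
    exact hdvd)
  intro x hx
  have : (⟨x, h₁ hx⟩ : A) ∈ H₁.subgroupOf A := by
    rw [Subgroup.mem_subgroupOf]
    exact hx
  have := key this
  rw [Subgroup.mem_subgroupOf] at this
  exact this

open QuaternionGroup
open scoped commutatorElement

/-- the rotation subgroup of the generalized quaternion group -/
def rot (k : ℕ) : Subgroup (QuaternionGroup k) where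
  carrier := Set.range a
  mul_mem' := by
    rintro _ _ ⟨i, rfl⟩ ⟨j, rfl⟩
    exact ⟨i + j, rfl⟩
  one_mem' := ⟨0, rfl⟩
  inv_mem' := by
    rintro _ ⟨i, rfl⟩
    exact ⟨-i, rfl⟩

theorem a_inv' {k : ℕ} (i : ZMod (2 * k)) : (a i : QuaternionGroup k)⁻¹ = a (-i) := rfl

theorem xa_inv' {k : ℕ} (i : ZMod (2 * k)) : (xa i : QuaternionGroup k)⁻¹ = xa ((k : ZMod (2 * k)) + i) := rfl

theorem mem_rot_iff {k : ℕ} (x : QuaternionGroup k) : x ∈ rot k ↔ ∃ i, a i = x := Iff.rfl

theorem a_mem_rot {k : ℕ} (i : ZMod (2 * k)) : (a i : QuaternionGroup k) ∈ rot k := ⟨i, rfl⟩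

theorem xa_not_mem_rot {k : ℕ} (i : ZMod (2 * k)) : (xa i : QuaternionGroup k) ∉ rot k := by
  rintro ⟨j, hj⟩
  cases hj

theorem rot_le_zpowers {k : ℕ} [NeZero k] : rot k ≤ Subgroup.zpowers (a 1 : QuaternionGroup k) := by
  rintro _ ⟨i, rfl⟩
  rw [Subgroup.mem_zpowers_iff]
  refine ⟨(i.val : ℤ), ?_⟩
  rw [zpow_natCast, a_one_pow, ZMod.natCast_zmod_val]

theorem rot_comm {k : ℕ} (x y : QuaternionGroup k) (hx : x ∈ rot k) (hy : y ∈ rot k) :
    x * y = y * x := by
  obtain ⟨i, rfl⟩ := hx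
  obtain ⟨j, rfl⟩ := hy
  simp [add_comm]

theorem commutator_le_rot (k : ℕ) : commutator (QuaternionGroup k) ≤ rot k := by
  rw [commutator_def, Subgroup.commutator_le]
  rintro (i | i) - (j | j) - <;> simp [commutatorElement_def, mem_rot_iff, a_inv', xa_inv']

theorem a_two_mem_commutator (k : ℕ) : (a 2 : QuaternionGroup k) ∈ commutator (QuaternionGroup k) := by
  have h : ⁅(xa 0 : QuaternionGroup k), (a 1 : QuaternionGroup k)⁆ ∈ commutator (QuaternionGroup k) :=
    Subgroup.commutator_mem_commutator (Subgroup.mem_top _) (Subgroup.mem_top _)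
  have h2 : (⁅(xa 0 : QuaternionGroup k), (a 1 : QuaternionGroup k)⁆)⁻¹ = a 2 := by
    rw [commutatorElement_inv, commutatorElement_def]
    simp only [a_inv', xa_inv', a_mul_xa, xa_mul_a, xa_mul_xa]
    congr 1
    have : (2 * k : ZMod (2 * k)) = 0 := by norm_cast; simp
    linear_combination this
  rw [← h2]
  exact Subgroup.inv_mem _ h

theorem mem_rot_of_commute_a_two {k : ℕ} (h4 : (4 : ZMod (2 * k)) ≠ 0) (x : QuaternionGroup k)
    (hx : x * a 2 = a 2 * x) : x ∈ rot k := by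
  rcases x with i | i
  · exact a_mem_rot i
  · exfalso
    apply h4
    simp only [xa_mul_a, a_mul_xa, xa.injEq] at hx
    linear_combination hx

open scoped Pointwise

/-- Sylow conjugation inside a subgroup `H` containing the Sylow subgroup `S`. -/
theorem exists_conj_mem_sylow_of_le {G : Type*} [Group G] [Finite G] {p : ℕ} [Fact p.Prime]
    (S : Sylow p G) (H : Subgroup G) (hSH : (S : Subgroup G) ≤ H) (T : Subgroup G) (hTH : T ≤ H)
    (hT : IsPGroup p T) : ∃ x ∈ H, ∀ t ∈ T, x * t * x⁻¹ ∈ (S : Subgroup G) := by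
  let S' : Sylow p H := S.subtype hSH
  have hT' : IsPGroup p (T.subgroupOf H) := by
    exact hT.comap_subtype
  obtain ⟨Q, hQ⟩ := hT'.exists_le_sylow
  obtain ⟨x, hx⟩ := MulAction.exists_smul_eq H Q S'
  refine ⟨x, x.2, ?_⟩
  intro t ht
  have h1 : (⟨t, hTH ht⟩ : H) ∈ (Q : Subgroup H) := hQ (by simpa [Subgroup.mem_subgroupOf] using ht)
  have h2 : MulAut.conj x • (⟨t, hTH ht⟩ : H) ∈ MulAut.conj x • (Q : Subgroup H) :=
    Subgroup.smul_mem_pointwise_smul _ _ _ h1
  rw [← Sylow.coe_subgroup_smul, hx] at h2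
  have h3 : (MulAut.conj x • (⟨t, hTH ht⟩ : H)) ∈ (S : Subgroup G).subgroupOf H := by
    simpa [S', Sylow.coe_subtype] using h2
  rw [Subgroup.mem_subgroupOf] at h3
  simpa using h3


section SLevel

variable {G : Type*} [Group G] (S : Subgroup G) {k : ℕ} (e : S ≃* QuaternionGroup k)

/-- the cyclic maximal subgroup of `S`, as a subgroup of `G` -/
def rotS : Subgroup G := ((rot k).comap e.toMonoidHom).map S.subtype

theorem mem_rotS_iff (x : G) : x ∈ rotS S e ↔ ∃ s : S, e s ∈ rot k ∧ (s : G) = x := by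
  unfold rotS
  rw [Subgroup.mem_map]
  constructor
  · rintro ⟨s, hs, rfl⟩
    exact ⟨s, hs, rfl⟩
  · rintro ⟨s, hs, rfl⟩
    exact ⟨s, hs, rfl⟩

theorem rotS_le : rotS S e ≤ S := by
  intro x hx
  obtain ⟨s, -, rfl⟩ := (mem_rotS_iff S e x).mp hx
  exact s.2

theorem commutator_eq_map : ⁅S, S⁆ = (commutator S).map S.subtype := by
  rw [commutator_def, Subgroup.map_commutator, ← MonoidHom.range_eq_map, Subgroup.range_subtype]

theorem mem_commutator_iff (d : G) :
    d ∈ ⁅S, S⁆ ↔ ∃ s : S, e s ∈ commutator (QuaternionGroup k) ∧ (s : G) = d := by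
  have hmap : (commutator S).map e.toMonoidHom = commutator (QuaternionGroup k) := by
    rw [commutator_def, Subgroup.map_commutator, commutator_def,
      Subgroup.map_top_of_surjective _ e.surjective]
  rw [commutator_eq_map, Subgroup.mem_map]
  constructor
  · rintro ⟨s, hs, rfl⟩
    refine ⟨s, ?_, rfl⟩
    rw [← hmap]
    exact Subgroup.mem_map_of_mem _ hs
  · rintro ⟨s, hs, rfl⟩
    refine ⟨s, ?_, rfl⟩
    rw [← hmap, Subgroup.mem_map] at hs
    obtain ⟨s', hs', hss⟩ := hs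
    have : s' = s := e.injective hss
    rw [← this]
    exact hs'

theorem commutator_le_self : ⁅S, S⁆ ≤ S := by
  rw [commutator_eq_map]
  exact Subgroup.map_subtype_le _

theorem conj_mem_commutator {s h : G} (hs : s ∈ S) (hh : h ∈ ⁅S, S⁆) : s * h * s⁻¹ ∈ ⁅S, S⁆ := by
  rw [commutator_eq_map, Subgroup.mem_map] at hh ⊢
  obtain ⟨t, ht, rfl⟩ := hh
  have hn : (commutator S).Normal := inferInstance
  exact ⟨⟨s, hs⟩ * t * ⟨s, hs⟩⁻¹, hn.conj_mem t ht ⟨s, hs⟩, rfl⟩

theorem le_normalizer_commutator : S ≤ Subgroup.normalizer ((⁅S, S⁆ : Subgroup G) : Set G) := by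
  intro s hs
  rw [Subgroup.mem_normalizer_iff]
  intro h
  constructor
  · intro hh
    exact conj_mem_commutator S hs hh
  · intro hh
    have := conj_mem_commutator S (S.inv_mem hs) hh
    simpa [mul_assoc] using this

/-- the centralizer is normalized by the normalizer -/
theorem conj_mem_centralizer_of_mem_normalizer (D : Subgroup G) {g c : G}
    (hg : g ∈ Subgroup.normalizer (D : Set G)) (hc : c ∈ Subgroup.centralizer (D : Set G)) :
    g * c * g⁻¹ ∈ Subgroup.centralizer (D : Set G) := by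
  rw [Subgroup.mem_centralizer_iff] at hc ⊢
  intro d hd
  have hd' : g⁻¹ * d * g ∈ D := by
    have := (Subgroup.mem_normalizer_iff''.mp hg d).mp hd
    exact this
  have := hc _ hd'
  calc d * (g * c * g⁻¹) = g * ((g⁻¹ * d * g) * c) * g⁻¹ := by group
    _ = g * (c * (g⁻¹ * d * g)) * g⁻¹ := by rw [this]
    _ = g * c * g⁻¹ * d := by group

theorem centralizer_le_normalizer' (D : Subgroup G) :
    Subgroup.centralizer (D : Set G) ≤ Subgroup.normalizer (D : Set G) := by
  intro c hc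
  rw [Subgroup.mem_normalizer_iff]
  intro h
  rw [Subgroup.mem_centralizer_iff] at hc
  constructor
  · intro hh
    have := hc h hh
    have e1 : c * h * c⁻¹ = h := by rw [← this]; group
    rw [e1]; exact hh
  · intro hh
    have := hc _ hh
    have e1 : c * h * c⁻¹ = h := by
      calc c * h * c⁻¹ = c⁻¹ * (c * (c * h * c⁻¹)) * c⁻¹ * c := by group
        _ = c⁻¹ * ((c * h * c⁻¹) * c) * c⁻¹ * c := by rw [this]
        _ = h := by group
    rw [e1] at hh; exact hh

theorem commutator_le_rotS : ⁅S, S⁆ ≤ rotS S e := by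
  intro d hd
  obtain ⟨s, hs, rfl⟩ := (mem_commutator_iff S e d).mp hd
  exact (mem_rotS_iff S e _).mpr ⟨s, commutator_le_rot k hs, rfl⟩

theorem rotS_le_centralizer : rotS S e ≤ Subgroup.centralizer ((⁅S, S⁆ : Subgroup G) : Set G) := by
  intro x hx
  obtain ⟨s, hs, rfl⟩ := (mem_rotS_iff S e x).mp hx
  rw [Subgroup.mem_centralizer_iff]
  intro d hd
  obtain ⟨t, ht, rfl⟩ := (mem_commutator_iff S e d).mp hd
  have := rot_comm (e t) (e s) (commutator_le_rot k ht) hs
  rw [← map_mul, ← map_mul] at this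
  have := e.injective this
  exact congrArg Subtype.val this

theorem inf_centralizer_le_rotS (h4 : (4 : ZMod (2 * k)) ≠ 0) :
    S ⊓ Subgroup.centralizer ((⁅S, S⁆ : Subgroup G) : Set G) ≤ rotS S e := by
  intro x hx
  obtain ⟨hxS, hxC⟩ := Subgroup.mem_inf.mp hx
  rw [mem_rotS_iff]
  refine ⟨⟨x, hxS⟩, ?_, rfl⟩
  apply mem_rot_of_commute_a_two h4
  set d₀ : S := e.symm (QuaternionGroup.a 2) with hd₀
  have hd₀D : (d₀ : G) ∈ ⁅S, S⁆ := by
    rw [mem_commutator_iff S e]
    exact ⟨d₀, by simp [hd₀, a_two_mem_commutator], rfl⟩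
  rw [Subgroup.mem_centralizer_iff] at hxC
  have := hxC _ hd₀D
  have h2 : d₀ * ⟨x, hxS⟩ = ⟨x, hxS⟩ * d₀ := Subtype.ext this
  have h3 := congrArg e h2
  rw [map_mul, map_mul] at h3
  simp only [hd₀, MulEquiv.apply_symm_apply] at h3
  exact h3.symm

theorem rotS_isCyclic [NeZero k] : IsCyclic (rotS S e) := by
  have hle : rotS S e ≤ Subgroup.zpowers ((e.symm (QuaternionGroup.a 1) : S) : G) := by
    intro x hx
    obtain ⟨s, hs, rfl⟩ := (mem_rotS_iff S e x).mp hx
    have := rot_le_zpowers hs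
    rw [Subgroup.mem_zpowers_iff] at this ⊢
    obtain ⟨z, hz⟩ := this
    refine ⟨z, ?_⟩
    have : s = (e.symm (QuaternionGroup.a 1)) ^ z := by
      apply e.injective
      rw [map_zpow, MulEquiv.apply_symm_apply, hz]
    rw [this]
    simp
  exact Subgroup.isCyclic_of_le hle


theorem orderOf_conj' (x y : G) : orderOf (x * y * x⁻¹) = orderOf y := by
  have : SemiconjBy x y (x * y * x⁻¹) := by
    unfold SemiconjBy
    group
  exact (this.orderOf_eq x).symm

theorem four_ne_zero_zmod (n : ℕ) : (4 : ZMod (2 * 2 ^ (n + 2))) ≠ 0 := by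
  have h : ((4 : ℕ) : ZMod (2 * 2 ^ (n + 2))) ≠ 0 := by
    rw [Ne, ZMod.natCast_eq_zero_iff]
    intro hdvd
    have := Nat.le_of_dvd (by norm_num) hdvd
    have h2 : 2 ^ (n + 2) ≥ 4 := by
      calc 2 ^ (n + 2) = 2 ^ n * 4 := by ring
        _ ≥ 1 * 4 := Nat.mul_le_mul_right 4 (Nat.one_le_two_pow)
    omega
  exact_mod_cast h

end SLevel

end Cfsg.Agent.Helper14
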