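import Mathlib

set_option autoImplicit false

namespace Cfsg.Agent.Helper14.Witt

open QuadraticMap

variable {F V : Type*} [Field F] [AddCommGroup V] [Module F V]

section Basic

variable (Q : QuadraticForm F V)

theorem Q_add (x y : V) : Q (x + y) = Q x + Q y + polarBilin Q x y := by
  rw [polarBilin_apply_apply, polar]; ring

theorem Q_smul (a : F) (x : V) : Q (a • x) = a * a * Q x := by
  rw [QuadraticMap.map_smul, smul_eq_mul]

theorem B_self (x : V) : polarBilin Q x x = 2 * Q x := by
  rw [polarBilin_apply_apply, polar_self]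
  simp

theorem B_comm (x y : V) : polarBilin Q x y = polarBilin Q y x := by
  rw [polarBilin_apply_apply, polarBilin_apply_apply, polar_comm]

/-- Q-preserving linear maps from a subspace preserve the polar form -/
theorem B_map {U : Submodule F V} (f : U →ₗ[F] V) (hf : ∀ u : U, Q (f u) = Q (u : V)) (u w : U) :
    polarBilin Q (f u) (f w) = polarBilin Q (u : V) (w : V) := by
  simp only [polarBilin_apply_apply, polar, ← map_add, hf, Submodule.coe_add]

theorem B_map' (g : V →ₗ[F] V) (hg : ∀ v, Q (g v) = Q v) (x y : V) :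
    polarBilin Q (g x) (g y) = polarBilin Q x y := by
  simp only [polarBilin_apply_apply, polar, ← map_add, hg]

/-- a `Q`-preserving endomorphism of a nondegenerate space is injective -/
theorem injective_of_isom (hQ : (polarBilin Q).Nondegenerate) (g : V →ₗ[F] V)
    (hg : ∀ v, Q (g v) = Q v) : Function.Injective g := by
  rw [← LinearMap.ker_eq_bot, LinearMap.ker_eq_bot']
  intro x hx
  apply hQ.1 x
  intro y
  rw [← B_map' Q g hg, hx, map_zero, LinearMap.zero_apply]

end Basic

section Compl

/-- two proper subspaces do not cover -/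
theorem exists_notMem_two (M U₁ U₂ : Submodule F V) (h₁ : U₁ < M) (h₂ : U₂ < M) :
    ∃ x ∈ M, x ∉ U₁ ∧ x ∉ U₂ := by
  obtain ⟨a, haM, ha⟩ := SetLike.exists_of_lt h₁
  obtain ⟨b, hbM, hb⟩ := SetLike.exists_of_lt h₂
  by_cases ha2 : a ∈ U₂
  · by_cases hb1 : b ∈ U₁
    · refine ⟨a + b, M.add_mem haM hbM, ?_, ?_⟩
      · intro h
        exact ha ((U₁.add_mem_iff_left hb1).mp h)
      · intro h
        exact hb ((U₂.add_mem_iff_right ha2).mp h)
    · exact ⟨b, hbM, hb1, hb⟩
  · exact ⟨a, haM, ha, ha2⟩

variable [FiniteDimensional F V]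

/-- two subspaces of the same dimension have a common complement -/
theorem exists_common_compl : ∀ (k : ℕ) (U₁ U₂ : Submodule F V),
    Module.finrank F U₁ = Module.finrank F U₂ →
    Module.finrank F V = Module.finrank F U₁ + k →
    ∃ W : Submodule F V, IsCompl U₁ W ∧ IsCompl U₂ W := by
  intro k
  induction k with
  | zero =>
    intro U₁ U₂ h12 hk
    have e1 : U₁ = ⊤ := Submodule.eq_top_of_finrank_eq (by omega)
    have e2 : U₂ = ⊤ := Submodule.eq_top_of_finrank_eq (by omega)
    exact ⟨⊥, e1 ▸ isCompl_top_bot, e2 ▸ isCompl_top_bot⟩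
  | succ k ih =>
    intro U₁ U₂ h12 hk
    have hlt₁ : U₁ < ⊤ := by
      rw [lt_top_iff_ne_top]
      intro h
      rw [h, finrank_top] at hk
      omega
    have hlt₂ : U₂ < ⊤ := by
      rw [lt_top_iff_ne_top]
      intro h
      rw [h, finrank_top] at h12
      omega
    obtain ⟨x, -, hx₁, hx₂⟩ := exists_notMem_two ⊤ U₁ U₂ hlt₁ hlt₂
    have hx0 : x ≠ 0 := fun h => hx₁ (h ▸ U₁.zero_mem)
    have hd : ∀ U : Submodule F V, x ∉ U →
        Module.finrank F ↥(U ⊔ Submodule.span F {x}) = Module.finrank F U + 1 := by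
      intro U hxU
      have hdisj : U ⊓ Submodule.span F {x} = ⊥ := by
        rw [eq_bot_iff]
        intro y hy
        obtain ⟨hyU, hyx⟩ := Submodule.mem_inf.mp hy
        obtain ⟨c, rfl⟩ := Submodule.mem_span_singleton.mp hyx
        by_cases hc : c = 0
        · rw [hc, zero_smul]; exact Submodule.zero_mem _
        · exfalso
          apply hxU
          have := U.smul_mem c⁻¹ hyU
          rwa [smul_smul, inv_mul_cancel₀ hc, one_smul] at this
      have := Submodule.finrank_sup_add_finrank_inf_eq U (Submodule.span F {x})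
      rw [hdisj, finrank_bot, add_zero, finrank_span_singleton hx0] at this
      exact this
    obtain ⟨W', hW₁, hW₂⟩ := ih (U₁ ⊔ Submodule.span F {x}) (U₂ ⊔ Submodule.span F {x})
      (by rw [hd U₁ hx₁, hd U₂ hx₂, h12]) (by rw [hd U₁ hx₁]; omega)
    have key : ∀ U : Submodule F V, x ∉ U → IsCompl (U ⊔ Submodule.span F {x}) W' →
        IsCompl U (W' ⊔ Submodule.span F {x}) := by
      intro U hxU hc
      constructor
      · rw [disjoint_iff, eq_bot_iff]
        intro y hy
        obtain ⟨hyU, hyW⟩ := Submodule.mem_inf.mp hy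
        obtain ⟨w, hw, z, hz, rfl⟩ := Submodule.mem_sup.mp hyW
        obtain ⟨c, rfl⟩ := Submodule.mem_span_singleton.mp hz
        have hw0 : w = 0 := by
          have hmem : w ∈ (U ⊔ Submodule.span F {x}) ⊓ W' := by
            refine Submodule.mem_inf.mpr ⟨?_, hw⟩
            have : w = (w + c • x) + (-c) • x := by
              rw [neg_smul]; abel
            rw [this]
            exact Submodule.add_mem_sup hyU (Submodule.smul_mem _ _ (Submodule.mem_span_singleton_self x))
          rw [hc.inf_eq_bot] at hmem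
          exact (Submodule.mem_bot F).mp hmem
        rw [hw0, zero_add] at hyU ⊢
        by_cases hc0 : c = 0
        · rw [hc0, zero_smul]; exact Submodule.zero_mem _
        · exfalso
          apply hxU
          have := U.smul_mem c⁻¹ hyU
          rwa [smul_smul, inv_mul_cancel₀ hc0, one_smul] at this
      · rw [codisjoint_iff, ← hc.sup_eq_top]
        rw [sup_assoc, sup_comm (Submodule.span F {x}) W']
    exact ⟨W' ⊔ Submodule.span F {x}, key U₁ hx₁ hW₁, key U₂ hx₂ hW₂⟩

end Compl

section Main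

variable [FiniteDimensional F V] (Q : QuadraticForm F V)

/-- glueing computation: `Q (f u + w) = Q (u + w)` when `f u - u ⊥ w` -/
theorem Q_glue {U : Submodule F V} (f : U →ₗ[F] V) (hf : ∀ u : U, Q (f u) = Q (u : V))
    (u : U) (w : V) (h : polarBilin Q (f u - u) w = 0) : Q (f u + w) = Q ((u : V) + w) := by
  rw [Q_add, Q_add, hf]
  have : polarBilin Q (f u) w = polarBilin Q (u : V) w := by
    rw [map_sub, LinearMap.sub_apply] at h
    linear_combination h
  rw [this]

theorem proj_decomp {U C : Submodule F V} (hc : IsCompl U C) (x : V) :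
    x - (Submodule.projectionOnto U C hc x : V) ∈ C := by
  have h1 : Submodule.projectionOnto U C hc
      (x - (Submodule.projectionOnto U C hc x : V)) = 0 := by
    rw [map_sub, Submodule.projectionOnto_apply_left, sub_self]
  exact (Submodule.projectionOnto_apply_eq_zero_iff hc).mp h1

/-- the partial extension `g₁ = id + (f - ι) ∘ π` -/
noncomputable def ext₁ {U C : Submodule F V} (hc : IsCompl U C) (f : U →ₗ[F] V) : V →ₗ[F] V :=
  LinearMap.id + (f - U.subtype) ∘ₗ Submodule.projectionOnto U C hc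

theorem ext₁_apply {U C : Submodule F V} (hc : IsCompl U C) (f : U →ₗ[F] V) (x : V) :
    ext₁ hc f x = f (Submodule.projectionOnto U C hc x) +
      (x - (Submodule.projectionOnto U C hc x : V)) := by
  simp only [ext₁, LinearMap.add_apply, LinearMap.id_apply, LinearMap.comp_apply,
    LinearMap.sub_apply, Submodule.subtype_apply]
  abel

theorem ext₁_left {U C : Submodule F V} (hc : IsCompl U C) (f : U →ₗ[F] V) (u : U) :
    ext₁ hc f u = f u := by
  rw [ext₁_apply, Submodule.projectionOnto_apply_left, sub_self, add_zero]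

theorem ext₁_right {U C : Submodule F V} (hc : IsCompl U C) (f : U →ₗ[F] V) (c : V) (h : c ∈ C) :
    ext₁ hc f c = c := by
  rw [ext₁_apply, Submodule.projectionOnto_apply_of_mem_right hc h, map_zero, zero_add,
    Submodule.coe_zero, sub_zero]

theorem Q_ext₁ {U C : Submodule F V} (hc : IsCompl U C) (f : U →ₗ[F] V)
    (hf : ∀ u : U, Q (f u) = Q (u : V)) (p : V) (hP : ∀ u : U, ∃ c : F, f u - u = c • p) (x : V)
    (hx : polarBilin Q p (x - (Submodule.projectionOnto U C hc x : V)) = 0) :
    Q (ext₁ hc f x) = Q x := by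
  rw [ext₁_apply]
  obtain ⟨c, hc'⟩ := hP (Submodule.projectionOnto U C hc x)
  rw [Q_glue Q f hf _ _ (by rw [hc', map_smul, LinearMap.smul_apply, hx, smul_zero])]
  congr 1
  abel

theorem extend_step (hQ : (polarBilin Q).Nondegenerate) (U H : Submodule F V) (hHU : H ≤ U)
    (u₀ : V) (hu₀ : u₀ ∈ U) (hUle : U ≤ H ⊔ Submodule.span F {u₀}) (f : U →ₗ[F] V)
    (hinj : Function.Injective f) (hf : ∀ u : U, Q (f u) = Q (u : V))
    (hfix : ∀ u : U, (u : V) ∈ H → f u = u) :
    ∃ g : V →ₗ[F] V, (∀ v, Q (g v) = Q v) ∧ ∀ u : U, g u = f u := by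
  set u₀' : U := ⟨u₀, hu₀⟩ with hu₀'
  set p : V := f u₀' - u₀ with hp
  set B := polarBilin Q with hB
  have hdec : ∀ u : U, ∃ c : F, ∃ h ∈ H, (u : V) = h + c • u₀ ∧ f u = h + c • f u₀' := by
    intro u
    obtain ⟨h, hh, z, hz, hsum⟩ := Submodule.mem_sup.mp (hUle u.2)
    obtain ⟨c, rfl⟩ := Submodule.mem_span_singleton.mp hz
    refine ⟨c, h, hh, hsum.symm, ?_⟩
    have : u = ⟨h, hHU hh⟩ + c • u₀' := Subtype.ext (by simp [← hsum, hu₀'])
    rw [this, map_add, map_smul, hfix ⟨h, hHU hh⟩ hh]
  have hP : ∀ u : U, ∃ c : F, f u - u = c • p := by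
    intro u
    obtain ⟨c, h, hh, h1, h2⟩ := hdec u
    exact ⟨c, by rw [h1, h2, hp, smul_sub]; abel⟩
  by_cases hp0 : p = 0
  · refine ⟨LinearMap.id, fun v => rfl, ?_⟩
    intro u
    obtain ⟨c, hc⟩ := hP u
    rw [hp0, smul_zero, sub_eq_zero] at hc
    simp [hc]
  have hQp : Q p = - B p u₀ := by
    have h1 : f u₀' = p + u₀ := by rw [hp]; abel
    have h2 := hf u₀'
    rw [h1, Q_add] at h2
    have h3 : ((u₀' : U) : V) = u₀ := rfl
    rw [h3] at h2
    linear_combination h2
  have hBH : ∀ h ∈ H, B p h = 0 := by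
    intro h hh
    have h1 := hf (u₀' + ⟨h, hHU hh⟩)
    rw [map_add, hfix ⟨h, hHU hh⟩ hh] at h1
    have h2 : f u₀' + h = p + (u₀ + h) := by rw [hp]; abel
    have h3 : ((u₀' + ⟨h, hHU hh⟩ : U) : V) = u₀ + h := rfl
    rw [h3] at h1
    have h1' : Q (f u₀' + h) = Q (u₀ + h) := h1
    rw [h2, Q_add] at h1'
    have h4 : (polarBilin Q p) (u₀ + h) = B p u₀ + B p h := map_add _ _ _
    rw [h4] at h1'
    linear_combination h1' - hQp
  by_cases hc₀ : B p u₀ = 0
  · -- Case B
    have hQp0 : Q p = 0 := by rw [hQp, hc₀, neg_zero]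
    have hBpp : B p p = 0 := by rw [hB, B_self, hQp0, mul_zero]
    set M : Submodule F V := LinearMap.ker (B p) with hM
    have hUM : U ≤ M := by
      intro y hy
      obtain ⟨c, h, hh, h1, -⟩ := hdec ⟨y, hy⟩
      have h1' : y = h + c • u₀ := h1
      rw [hM, LinearMap.mem_ker, h1', map_add, map_smul, hBH h hh, hc₀, smul_zero, add_zero]
    have hRM : LinearMap.range f ≤ M := by
      rintro _ ⟨u, rfl⟩
      obtain ⟨c, hc⟩ := hP u
      have : f u = u + c • p := by rw [← hc]; abel
      rw [hM, LinearMap.mem_ker, this, map_add, map_smul, hBpp, smul_zero, add_zero]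
      exact LinearMap.mem_ker.mp (hUM u.2)
    have hfr : Module.finrank F (LinearMap.range f) = Module.finrank F U :=
      LinearMap.finrank_range_of_inj hinj
    obtain ⟨k, hk⟩ : ∃ k, Module.finrank F V = Module.finrank F U + k :=
      ⟨_, (Nat.add_sub_cancel' (Submodule.finrank_le U)).symm⟩
    obtain ⟨W₀, hW₀U, hW₀R⟩ := exists_common_compl k U (LinearMap.range f) hfr.symm hk
    obtain ⟨v, hv⟩ : ∃ v, B p v ≠ 0 := by
      by_contra hcon
      push Not at hcon
      exact hp0 (hQ.1 p hcon)
    set C : Submodule F V := (W₀ ⊓ M) ⊔ Submodule.span F {v} with hC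
    have hMeq : ∀ U' : Submodule F V, U' ≤ M → IsCompl U' W₀ → M = U' ⊔ (W₀ ⊓ M) := by
      intro U' hU'M hc
      rw [← sup_inf_assoc_of_le W₀ hU'M, hc.sup_eq_top, top_inf_eq]
    have hcomplC : ∀ U' : Submodule F V, U' ≤ M → IsCompl U' W₀ → IsCompl U' C := by
      intro U' hU'M hc
      constructor
      · rw [disjoint_iff, eq_bot_iff]
        intro y hy
        obtain ⟨hyU, hyC⟩ := Submodule.mem_inf.mp hy
        obtain ⟨w, hw, z, hz, hsum⟩ := Submodule.mem_sup.mp hyC
        obtain ⟨s, rfl⟩ := Submodule.mem_span_singleton.mp hz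
        obtain ⟨hwW₀, hwM⟩ := Submodule.mem_inf.mp hw
        have h1 : B p y = 0 := LinearMap.mem_ker.mp (hU'M hyU)
        rw [← hsum, map_add, map_smul, LinearMap.mem_ker.mp hwM, zero_add, smul_eq_mul] at h1
        have hs0 : s = 0 := (mul_eq_zero.mp h1).resolve_right hv
        rw [hs0, zero_smul, add_zero] at hsum
        have : y ∈ U' ⊓ W₀ := Submodule.mem_inf.mpr ⟨hyU, hsum ▸ hwW₀⟩
        rw [hc.inf_eq_bot] at this
        exact this
      · rw [codisjoint_iff, eq_top_iff]
        intro x _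
        have hxm : x - (B p x / B p v) • v ∈ M := by
          rw [hM, LinearMap.mem_ker, map_sub, map_smul, smul_eq_mul, div_mul_cancel₀ _ hv,
            sub_self]
        rw [hMeq U' hU'M hc] at hxm
        obtain ⟨u, hu, w, hw, hsum⟩ := Submodule.mem_sup.mp hxm
        have : x = u + (w + (B p x / B p v) • v) := by rw [← add_assoc, hsum]; abel
        rw [this]
        exact Submodule.add_mem_sup hu (Submodule.add_mem_sup hw
          (Submodule.smul_mem _ _ (Submodule.mem_span_singleton_self v)))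
    have hcU := hcomplC U hUM hW₀U
    have hcR := hcomplC (LinearMap.range f) hRM hW₀R
    set g₁ := ext₁ hcU f with hg₁
    have hg₁P : ∀ x, ∃ c : F, g₁ x = x + c • p := by
      intro x
      obtain ⟨c, hc⟩ := hP (Submodule.projectionOnto U C hcU x)
      refine ⟨c, ?_⟩
      rw [hg₁, ext₁_apply, ← hc]; abel
    have hg₁M : ∀ m ∈ M, g₁ m ∈ M := by
      intro m hm
      obtain ⟨c, hc⟩ := hg₁P m
      rw [hc, hM, LinearMap.mem_ker, map_add, map_smul, hBpp, smul_zero, add_zero]
      exact LinearMap.mem_ker.mp hm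
    have hg₁Q : ∀ m ∈ M, Q (g₁ m) = Q m := by
      intro m hm
      apply Q_ext₁ Q hcU f hf p hP
      rw [map_sub, LinearMap.mem_ker.mp hm, LinearMap.mem_ker.mp (hUM (Submodule.coe_mem _)),
        sub_zero]
    have hg₁inj : Function.Injective g₁ := by
      rw [← LinearMap.ker_eq_bot, LinearMap.ker_eq_bot']
      intro x hx
      rw [hg₁, ext₁_apply] at hx
      have hmem : f (Submodule.projectionOnto U C hcU x) ∈ LinearMap.range f ⊓ C := by
        refine Submodule.mem_inf.mpr ⟨LinearMap.mem_range_self _ _, ?_⟩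
        have : f (Submodule.projectionOnto U C hcU x)
            = -(x - (Submodule.projectionOnto U C hcU x : V)) := eq_neg_of_add_eq_zero_left hx
        rw [this]
        exact C.neg_mem (proj_decomp hcU x)
      rw [hcR.inf_eq_bot, Submodule.mem_bot] at hmem
      have hπ : Submodule.projectionOnto U C hcU x = 0 := by
        apply hinj; rw [hmem, map_zero]
      rw [hπ, map_zero, zero_add, Submodule.coe_zero, sub_zero] at hx
      exact hx
    set G₁ : V ≃ₗ[F] V := LinearEquiv.ofInjectiveEndo g₁ hg₁inj with hG₁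
    have hG₁app : ∀ x, G₁ x = g₁ x := fun x => rfl
    set Λ : V →ₗ[F] F := (B v) ∘ₗ G₁.symm.toLinearMap with hΛ
    set v'' : V := (LinearMap.BilinForm.toDual B hQ).symm Λ with hv''
    have hv''B : ∀ y, B v'' y = B v (G₁.symm y) := by
      intro y
      rw [hv'', LinearMap.BilinForm.apply_toDual_symm_apply]; rfl
    have hv''g : ∀ x, B v'' (g₁ x) = B v x := by
      intro x
      rw [hv''B, ← hG₁app, LinearEquiv.symm_apply_apply]
    obtain ⟨c₁, hc₁⟩ := hg₁P p
    have hc₁' : g₁ p = (1 + c₁) • p := by rw [hc₁, add_smul, one_smul]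
    have hc₁0 : (1 + c₁) ≠ 0 := by
      intro h0
      rw [h0, zero_smul] at hc₁'
      exact hp0 (hg₁inj (by rw [hc₁', map_zero]))
    have hv''p : B v'' p ≠ 0 := by
      have := hv''g p
      rw [hc₁', map_smul, smul_eq_mul] at this
      intro h0
      rw [h0, mul_zero] at this
      apply hv
      rw [hB, B_comm, ← hB]; exact this.symm
    set t : F := (Q v - Q v'') / B v'' p with ht
    set v' : V := v'' + t • p with hv'
    have hQv' : Q v' = Q v := by
      rw [hv', Q_add, Q_smul, hQp0, mul_zero, add_zero, ← hB, map_smul, smul_eq_mul, ht,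
        div_mul_cancel₀ _ hv''p]; ring
    have hv'g : ∀ m ∈ M, B v' (g₁ m) = B v m := by
      intro m hm
      rw [hv', map_add, map_smul, LinearMap.add_apply, LinearMap.smul_apply, hv''g,
        LinearMap.mem_ker.mp (hg₁M m hm), smul_zero, add_zero]
    set lam : V →ₗ[F] F := (B p v)⁻¹ • (B p) with hlam
    refine ⟨g₁ + lam.smulRight (v' - v), ?_, ?_⟩
    · intro x
      set s := lam x with hs
      have hsx : s = (B p v)⁻¹ * B p x := by rw [hs, hlam]; simp
      have hm : x - s • v ∈ M := by
        rw [hM, LinearMap.mem_ker, map_sub, map_smul, smul_eq_mul, hsx]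
        field_simp
        ring
      have hg₁v : g₁ v = v := ext₁_right hcU f v
        (Submodule.mem_sup_right (Submodule.mem_span_singleton_self v))
      have hgx : (g₁ + lam.smulRight (v' - v)) x = g₁ (x - s • v) + s • v' := by
        rw [LinearMap.add_apply, LinearMap.smulRight_apply, map_sub, map_smul, hg₁v, smul_sub]
        abel
      rw [hgx, Q_add, hg₁Q _ hm, Q_smul, hQv', ← hB, map_smul, smul_eq_mul]
      have : B (g₁ (x - s • v)) v' = B (x - s • v) v := by
        rw [hB, B_comm, ← hB, hv'g _ hm, hB, B_comm]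
      rw [this]
      have hx : x = (x - s • v) + s • v := by abel
      conv_rhs => rw [hx, Q_add, Q_smul, ← hB, map_smul, smul_eq_mul]
    · intro u
      have : lam u = 0 := by rw [hlam]; simp [LinearMap.mem_ker.mp (hUM u.2)]
      rw [LinearMap.add_apply, LinearMap.smulRight_apply, this, zero_smul, add_zero, hg₁,
        ext₁_left]
  · -- Case A
    set M : Submodule F V := LinearMap.ker (B p) with hM
    have hHM : H ≤ M := fun h hh => LinearMap.mem_ker.mpr (hBH h hh)
    obtain ⟨W₀, hW₀⟩ := Submodule.exists_isCompl H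
    have hcompl : IsCompl U (W₀ ⊓ M) := by
      constructor
      · rw [disjoint_iff, eq_bot_iff]
        intro y hy
        obtain ⟨hyU, hyW⟩ := Submodule.mem_inf.mp hy
        obtain ⟨hyW₀, hyM⟩ := Submodule.mem_inf.mp hyW
        obtain ⟨c, h, hh, h1, -⟩ := hdec ⟨y, hyU⟩
        have h1' : y = h + c • u₀ := h1
        have h2 : B p y = 0 := LinearMap.mem_ker.mp hyM
        rw [h1', map_add, map_smul, hBH h hh, zero_add, smul_eq_mul] at h2
        have hc0 : c = 0 := (mul_eq_zero.mp h2).resolve_right hc₀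
        rw [hc0, zero_smul, add_zero] at h1'
        have : y ∈ H ⊓ W₀ := Submodule.mem_inf.mpr ⟨h1' ▸ hh, hyW₀⟩
        rw [hW₀.inf_eq_bot] at this
        exact this
      · rw [codisjoint_iff, eq_top_iff]
        intro x _
        have hxm : x - (B p x / B p u₀) • u₀ ∈ M := by
          rw [hM, LinearMap.mem_ker, map_sub, map_smul, smul_eq_mul, div_mul_cancel₀ _ hc₀,
            sub_self]
        have hMeq : M = H ⊔ (W₀ ⊓ M) := by
          rw [← sup_inf_assoc_of_le W₀ hHM, hW₀.sup_eq_top, top_inf_eq]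
        rw [hMeq] at hxm
        obtain ⟨h, hh, w, hw, hsum⟩ := Submodule.mem_sup.mp hxm
        have : x = (h + (B p x / B p u₀) • u₀) + w := by rw [add_right_comm, hsum]; abel
        rw [this]
        exact Submodule.add_mem_sup (U.add_mem (hHU hh) (U.smul_mem _ hu₀)) hw
    refine ⟨ext₁ hcompl f, ?_, ext₁_left hcompl f⟩
    intro x
    apply Q_ext₁ Q hcompl f hf p hP
    have := proj_decomp hcompl x
    exact LinearMap.mem_ker.mp (Submodule.mem_inf.mp this).2

theorem witt_aux (hQ : (polarBilin Q).Nondegenerate) : ∀ (d : ℕ) (U : Submodule F V),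
    Module.finrank F U = d → ∀ f : U →ₗ[F] V, Function.Injective f →
    (∀ u : U, Q (f u) = Q (u : V)) →
    ∃ g : V ≃ₗ[F] V, (∀ v, Q (g v) = Q v) ∧ ∀ u : U, g u = f u := by
  intro d
  induction d with
  | zero =>
    intro U hU f _ _
    refine ⟨LinearEquiv.refl F V, fun v => rfl, ?_⟩
    intro u
    have hbot : U = ⊥ := Submodule.finrank_eq_zero.mp hU
    have hu0 : u = 0 := by
      apply Subtype.ext
      have h1 : ∀ y ∈ U, y = 0 := by
        intro y hy
        rw [hbot, Submodule.mem_bot] at hy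
        exact hy
      exact h1 _ u.2
    rw [hu0, map_zero]
    simp
  | succ d ih =>
    intro U hU f hinj hf
    have hne : U ≠ ⊥ := by
      intro h
      rw [h, finrank_bot] at hU
      omega
    obtain ⟨u₀, hu₀U, hu₀0⟩ := Submodule.exists_mem_ne_zero_of_ne_bot hne
    set u₀' : U := ⟨u₀, hu₀U⟩ with hu₀'
    have hu₀'0 : u₀' ≠ 0 := fun h => hu₀0 (congrArg Subtype.val h)
    obtain ⟨H', hH'⟩ := Submodule.exists_isCompl (Submodule.span F {u₀'})
    set H : Submodule F V := H'.map U.subtype with hH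
    have hHU : H ≤ U := by
      rintro _ ⟨x, _, rfl⟩
      exact x.2
    have hHd : Module.finrank F H = d := by
      rw [hH, Submodule.finrank_map_subtype_eq]
      have := Submodule.finrank_add_eq_of_isCompl hH'
      rw [finrank_span_singleton hu₀'0, hU] at this
      omega
    have hUle : U ≤ H ⊔ Submodule.span F {u₀} := by
      intro x hx
      have hmem : (⟨x, hx⟩ : U) ∈ Submodule.span F {u₀'} ⊔ H' := by
        rw [hH'.sup_eq_top]; trivial
      obtain ⟨z, hz, h', hh', hsum⟩ := Submodule.mem_sup.mp hmem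
      obtain ⟨c, rfl⟩ := Submodule.mem_span_singleton.mp hz
      have hx' : x = (h' : V) + c • u₀ := by
        have := congrArg Subtype.val hsum
        simp only [Submodule.coe_add, Submodule.coe_smul] at this
        rw [← this, hu₀']
        abel
      rw [hx']
      exact Submodule.add_mem_sup ⟨h', hh', rfl⟩
        (Submodule.smul_mem _ _ (Submodule.mem_span_singleton_self u₀))
    set fH : H →ₗ[F] V := f ∘ₗ Submodule.inclusion hHU with hfH
    obtain ⟨g₀, hg₀Q, hg₀⟩ := ih H hHd fH (hinj.comp (Submodule.inclusion_injective hHU))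
      (fun h => hf _)
    set f₁ : U →ₗ[F] V := g₀.symm.toLinearMap ∘ₗ f with hf₁
    have hg₀symQ : ∀ y, Q (g₀.symm y) = Q y := by
      intro y
      rw [← hg₀Q (g₀.symm y), LinearEquiv.apply_symm_apply]
    have hf₁Q : ∀ u : U, Q (f₁ u) = Q (u : V) := by
      intro u
      rw [hf₁]
      simp only [LinearMap.comp_apply, LinearEquiv.coe_coe]
      rw [hg₀symQ, hf]
    have hf₁fix : ∀ u : U, (u : V) ∈ H → f₁ u = u := by
      intro u hu
      have h1 := hg₀ ⟨u, hu⟩
      rw [hf₁]
      simp only [LinearMap.comp_apply, LinearEquiv.coe_coe]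
      rw [LinearEquiv.symm_apply_eq]
      exact h1.symm
    obtain ⟨g₁, hg₁Q, hg₁⟩ := extend_step Q hQ U H hHU u₀ hu₀U hUle f₁
      (g₀.symm.injective.comp hinj) hf₁Q hf₁fix
    have hg₁inj := injective_of_isom Q hQ g₁ hg₁Q
    refine ⟨(LinearEquiv.ofInjectiveEndo g₁ hg₁inj).trans g₀, ?_, ?_⟩
    · intro v
      simp only [LinearEquiv.trans_apply]
      rw [hg₀Q]
      exact hg₁Q v
    · intro u
      simp only [LinearEquiv.trans_apply]
      change g₀ (g₁ u) = f u
      rw [hg₁, hf₁]
      simp

/-- **Witt's lemma** for quadratic forms with nondegenerate polar form (any characteristic) -/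
theorem witt (hQ : (polarBilin Q).Nondegenerate) (X Y : Submodule F V) (φ : X ≃ₗ[F] Y)
    (hφ : ∀ x : X, Q (φ x : V) = Q (x : V)) :
    ∃ g : V ≃ₗ[F] V, (∀ v, Q (g v) = Q v) ∧ ∀ x : X, g (x : V) = (φ x : V) :=
  witt_aux Q hQ _ X rfl (Y.subtype ∘ₗ φ.toLinearMap)
    (Y.injective_subtype.comp φ.injective) hφ

end Main

end Cfsg.Agent.Helper14.Witt
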