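import Mathlib
import Cfsg.Prelude.Def_Classical
import Cfsg.Agent.Lib.Helper13.Herm

set_option autoImplicit false
set_option linter.unusedSectionVars false

namespace Cfsg.Agent.Helper14

open Polynomial Cfsg.Agent.Helper13

/-- if all fibres over `S` have at most `m` elements, `S` has at most `k` elements and the
source has `k * m` elements, then every fibre over `S` has exactly `m` elements -/
theorem fiber_card_eq {α β : Type*} [Fintype α] [DecidableEq β] (f : α → β) (S : Finset β)
    (hf : ∀ a, f a ∈ S) (m k : ℕ)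
    (hfib : ∀ s ∈ S, (Finset.univ.filter (fun a => f a = s)).card ≤ m)
    (hS : S.card ≤ k) (hcard : Fintype.card α = k * m) :
    ∀ s ∈ S, (Finset.univ.filter (fun a => f a = s)).card = m := by
  intro s₀ hs₀
  by_contra hne
  have hlt : (Finset.univ.filter (fun a => f a = s₀)).card < m :=
    lt_of_le_of_ne (hfib s₀ hs₀) hne
  have hsum : Fintype.card α = ∑ s ∈ S, (Finset.univ.filter (fun a => f a = s)).card := by
    rw [← Finset.card_univ]
    exact Finset.card_eq_sum_card_fiberwise (fun a _ => hf a)
  have h1 : ∑ s ∈ S, (Finset.univ.filter (fun a => f a = s)).card < ∑ s ∈ S, m :=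
    Finset.sum_lt_sum hfib ⟨s₀, hs₀, hlt⟩
  rw [Finset.sum_const, smul_eq_mul] at h1
  have h2 : Fintype.card α < k * m := by
    calc _ = _ := hsum
      _ < S.card * m := h1
      _ ≤ k * m := Nat.mul_le_mul_right m hS
  omega

section Field

variable {F : Type*} [Field F] [Fintype F] [DecidableEq F]

theorem card_filter_eval_le (p : F[X]) (hp : p ≠ 0) :
    (Finset.univ.filter (fun a : F => p.eval a = 0)).card ≤ p.natDegree := by
  calc _ ≤ p.roots.toFinset.card := by
        apply Finset.card_le_card
        intro a ha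
        simp only [Finset.mem_filter, Finset.mem_univ, true_and] at ha
        rw [Multiset.mem_toFinset, Polynomial.mem_roots hp]
        exact ha
    _ ≤ p.roots.card := Multiset.toFinset_card_le _
    _ ≤ p.natDegree := Polynomial.card_roots' p

/-- at most `m` solutions of `a ^ m = r(a)` when `deg r < m` -/
theorem card_pow_eq_eval_le (m : ℕ) (r : F[X]) (hr : r.natDegree < m) :
    (Finset.univ.filter (fun a : F => a ^ m = r.eval a)).card ≤ m := by
  have hdeg : (X ^ m - r : F[X]).natDegree = m := by
    rw [Polynomial.natDegree_sub_eq_left_of_natDegree_lt (by rwa [natDegree_X_pow]),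
      natDegree_X_pow]
  have hne : (X ^ m - r : F[X]) ≠ 0 := by
    intro h
    rw [h, natDegree_zero] at hdeg
    omega
  have := card_filter_eval_le (X ^ m - r : F[X]) hne
  rw [hdeg] at this
  refine le_trans (Finset.card_le_card ?_) this
  intro a ha
  simp only [Finset.mem_filter, Finset.mem_univ, true_and] at ha ⊢
  rw [eval_sub, eval_pow, eval_X, ha, sub_self]

variable {q : ℕ}

theorem two_le_q (hF : Fintype.card F = q ^ 2) : 2 ≤ q := by
  have h1 : 1 < Fintype.card F := Fintype.one_lt_card
  rw [hF] at h1
  by_contra h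
  have : q = 0 ∨ q = 1 := by omega
  rcases this with rfl | rfl <;> simp at h1

/-- the fixed field of the involution -/
def fixSet (F : Type*) [Field F] [Fintype F] [DecidableEq F] (q : ℕ) : Finset F :=
  Finset.univ.filter (fun s : F => s ^ q = s)

theorem mem_fixSet (s : F) : s ∈ fixSet F q ↔ s ^ q = s := by
  simp [fixSet]

theorem card_fixSet_le (hF : Fintype.card F = q ^ 2) : (fixSet F q).card ≤ q := by
  have h2 := two_le_q hF
  have := card_pow_eq_eval_le (F := F) q X (by rw [natDegree_X]; omega)
  simpa [fixSet] using this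

theorem frob_neg (hF : Fintype.card F = q ^ 2) (a : F) : (-a) ^ q = -(a ^ q) := by
  have h := frob_add hF (-a) a
  rw [neg_add_cancel, zero_pow (by have := two_le_q hF; omega)] at h
  exact eq_neg_of_add_eq_zero_left h.symm

theorem frob_mul (a b : F) : (a * b) ^ q = a ^ q * b ^ q := mul_pow a b q

/-- trace fibres -/
theorem card_trace_fiber (hF : Fintype.card F = q ^ 2) (t : F) (ht : t ^ q = t) :
    (Finset.univ.filter (fun a : F => a + a ^ q = t)).card = q := by
  have h2 := two_le_q hF
  have := fiber_card_eq (fun a : F => a + a ^ q) (fixSet F q)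
    (fun a => by rw [mem_fixSet, frob_add hF, frob_frob hF, add_comm]) q q
    (fun s _ => by
      have := card_pow_eq_eval_le (F := F) q (C s - X) (by
        have : (C s - X : F[X]).natDegree ≤ 1 := by
          refine le_trans (natDegree_sub_le _ _) ?_
          simp
        omega)
      refine le_trans (Finset.card_le_card ?_) this
      intro a ha
      simp only [Finset.mem_filter, Finset.mem_univ, true_and] at ha ⊢
      rw [eval_sub, eval_C, eval_X, ← ha]; ring)
    (card_fixSet_le hF) (by rw [hF]; ring) t ((mem_fixSet t).mpr ht)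
  exact this

theorem norm_pow_frob (hF : Fintype.card F = q ^ 2) (y : F) : (y ^ (q + 1)) ^ q = y ^ (q + 1) := by
  rw [← pow_mul, add_mul, one_mul, pow_add, pow_mul, frob_frob hF, pow_succ, mul_comm]

/-- norm fibres -/
theorem card_norm_fiber (hF : Fintype.card F = q ^ 2) (s : F) (hs0 : s ≠ 0) (hs : s ^ q = s) :
    (Finset.univ.filter (fun a : F => a ^ (q + 1) = s)).card = q + 1 := by
  have h2 := two_le_q hF
  have hS' : ((fixSet F q).erase 0).card ≤ q - 1 := by
    rw [Finset.card_erase_of_mem ((mem_fixSet 0).mpr (zero_pow (by omega)))]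
    have := card_fixSet_le (F := F) hF
    omega
  have hfibF : ∀ s : F, (Finset.univ.filter (fun a : F => a ^ (q + 1) = s)).card ≤ q + 1 := by
    intro s
    have := card_pow_eq_eval_le (F := F) (q + 1) (C s) (by rw [natDegree_C]; omega)
    simpa using this
  have key := fiber_card_eq (fun y : Fˣ => ((y : F)) ^ (q + 1)) ((fixSet F q).erase 0)
    (fun y => by
      rw [Finset.mem_erase, mem_fixSet]
      exact ⟨pow_ne_zero _ y.ne_zero, norm_pow_frob hF _⟩) (q + 1) (q - 1)
    (fun s _ => by
      refine le_trans ?_ (hfibF s)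
      apply Finset.card_le_card_of_injOn (fun y : Fˣ => (y : F))
      · intro y hy
        simp only [Finset.coe_filter, Finset.mem_univ, true_and, Set.mem_ofPred_eq] at hy ⊢
        exact hy
      · intro y _ z _ hyz
        exact Units.ext hyz)
    hS' (by
      rw [Fintype.card_units, hF]
      obtain ⟨r, rfl⟩ : ∃ r, q = r + 1 := ⟨q - 1, by omega⟩
      have : (r + 1) ^ 2 = (r + 1 - 1) * (r + 1 + 1) + 1 := by
        simp only [Nat.add_sub_cancel]; ring
      omega) s (by rw [Finset.mem_erase, mem_fixSet]; exact ⟨hs0, hs⟩)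
  refine Eq.trans ?_ key
  symm
  apply Finset.card_bij (fun (y : Fˣ) _ => (y : F))
  · intro y hy
    simp only [Finset.mem_filter, Finset.mem_univ, true_and] at hy ⊢
    exact hy
  · intro y _ z _ hyz
    exact Units.ext hyz
  · intro a ha
    simp only [Finset.mem_filter, Finset.mem_univ, true_and] at ha
    have ha0 : a ≠ 0 := by
      rintro rfl
      rw [zero_pow (by omega)] at ha
      exact hs0 ha.symm
    exact ⟨Units.mk0 a ha0, by simpa using ha, rfl⟩

end Field

section Count

variable {F : Type*} [Field F] [Fintype F] [DecidableEq F] {q : ℕ}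

/-- number of isotropic vectors of the standard hermitian form -/
def isoCount (F : Type*) [Field F] [Fintype F] [DecidableEq F] (q n : ℕ) : ℕ :=
  (Finset.univ.filter (fun x : Fin n → F => Cfsg.hermForm n F q x x = 0)).card

theorem hermForm_self_fix (hF : Fintype.card F = q ^ 2) {n : ℕ} (x : Fin n → F) :
    (Cfsg.hermForm n F q x x) ^ q = Cfsg.hermForm n F q x x := hermForm_conj hF x x

theorem hermForm_cons {n : ℕ} (y : F) (x : Fin n → F) :
    Cfsg.hermForm (n + 1) F q (Fin.cons y x : Fin (n + 1) → F) (Fin.cons y x) =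
      y ^ (q + 1) + Cfsg.hermForm n F q x x := by
  unfold Cfsg.hermForm
  rw [Fin.sum_univ_succ]
  simp only [Fin.cons_zero, Fin.cons_succ]
  rw [pow_succ, mul_comm]

theorem card_vec (hF : Fintype.card F = q ^ 2) (n : ℕ) :
    Fintype.card (Fin n → F) = q ^ (2 * n) := by
  rw [Fintype.card_fun, Fintype.card_fin, hF, ← pow_mul]

theorem isoCount_succ (hF : Fintype.card F = q ^ 2) (n : ℕ) :
    isoCount F q (n + 1) + isoCount F q n * q = (q + 1) * q ^ (2 * n) := by
  have h2 := two_le_q hF
  have h1 : isoCount F q (n + 1) = (Finset.univ.filter (fun p : F × (Fin n → F) =>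
      p.1 ^ (q + 1) + Cfsg.hermForm n F q p.2 p.2 = 0)).card := by
    unfold isoCount
    symm
    apply Finset.card_equiv (Fin.consEquiv (fun _ => F))
    intro p
    simp only [Finset.mem_filter, Finset.mem_univ, true_and]
    rw [← hermForm_cons]
    rfl
  rw [h1, Finset.card_filter, Fintype.sum_prod_type_right]
  have h3 : ∀ x : Fin n → F, (∑ y : F, if (y, x).1 ^ (q + 1) + Cfsg.hermForm n F q (y, x).2 (y, x).2 = 0
      then 1 else 0) = if Cfsg.hermForm n F q x x = 0 then 1 else q + 1 := by
    intro x
    rw [← Finset.card_filter]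
    simp only
    split_ifs with hx
    · rw [hx]
      rw [Finset.card_eq_one]
      refine ⟨0, ?_⟩
      ext y
      simp only [add_zero, Finset.mem_filter, Finset.mem_univ, true_and, Finset.mem_singleton]
      exact pow_eq_zero_iff (by omega)
    · refine Eq.trans ?_ (card_norm_fiber hF (-(Cfsg.hermForm n F q x x)) (neg_ne_zero.mpr hx)
        (by rw [frob_neg hF, hermForm_self_fix hF]))
      congr 1
      ext y
      simp only [Finset.mem_filter, Finset.mem_univ, true_and]
      exact add_eq_zero_iff_eq_neg (G := F)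
  rw [Finset.sum_congr rfl (fun x _ => h3 x), Finset.sum_ite, Finset.sum_const, Finset.sum_const,
    smul_eq_mul, smul_eq_mul, mul_one]
  have h4 := Finset.card_filter_add_card_filter_not (s := (Finset.univ : Finset (Fin n → F)))
    (fun x => Cfsg.hermForm n F q x x = 0)
  rw [Finset.card_univ, card_vec hF] at h4
  unfold isoCount
  rw [← h4]
  ring

/-- the functional `h(·, v)` -/
def hermFun (q : ℕ) {n : ℕ} (v : Fin n → F) : (Fin n → F) →ₗ[F] F where
  toFun w := Cfsg.hermForm n F q w v
  map_add' := fun a b => hermForm_add_left a b v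
  map_smul' := fun a w => hermForm_smul_left a w v

theorem hermFun_apply {n : ℕ} (v w : Fin n → F) : hermFun q v w = Cfsg.hermForm n F q w v := rfl

theorem hermFun_ne_zero {n : ℕ} {v : Fin n → F} (hv : v ≠ 0) : hermFun q v ≠ 0 := by
  intro h
  obtain ⟨i, hi⟩ := Function.ne_iff.mp hv
  have h1 : hermFun q v (Pi.single i 1) = (v i) ^ q := by
    rw [hermFun_apply]
    unfold Cfsg.hermForm
    rw [Finset.sum_eq_single i]
    · simp
    · intro j _ hj
      simp [hj]
    · intro hi'
      exact absurd (Finset.mem_univ i) hi'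
  rw [h, LinearMap.zero_apply] at h1
  exact hi (pow_eq_zero_iff (n := q) (by
    intro hq; rw [hq, pow_zero] at h1; exact zero_ne_one h1) |>.mp h1.symm)

theorem card_perp (hF : Fintype.card F = q ^ 2) {n : ℕ} {v : Fin (n + 1) → F} (hv : v ≠ 0) :
    (Finset.univ.filter (fun w : Fin (n + 1) → F => Cfsg.hermForm (n + 1) F q w v = 0)).card =
      q ^ (2 * n) := by
  have h1 := Module.Dual.finrank_ker_add_one_of_ne_zero (hermFun_ne_zero (q := q) hv)
  rw [Module.finrank_pi, Fintype.card_fin] at h1
  have h2 : Module.finrank F (LinearMap.ker (hermFun q v)) = n := by omega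
  have h3 : Nat.card (LinearMap.ker (hermFun q v)) = q ^ (2 * n) := by
    rw [Module.natCard_eq_pow_finrank (K := F), Nat.card_eq_fintype_card, hF, h2, ← pow_mul]
  refine Eq.trans ?_ h3
  rw [← Nat.card_eq_finsetCard]
  apply Nat.card_congr
  apply Equiv.subtypeEquivRight
  intro w
  simp only [Finset.mem_filter, Finset.mem_univ, true_and, LinearMap.mem_ker, hermFun_apply]

/-- `K + q^(2n) = q^(2n+2)` for `K` the number of `w` with `h(w, v) ≠ 0` -/
theorem card_not_perp (hF : Fintype.card F = q ^ 2) {n : ℕ} {v : Fin (n + 1) → F} (hv : v ≠ 0) :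
    (Finset.univ.filter (fun w : Fin (n + 1) → F => Cfsg.hermForm (n + 1) F q w v ≠ 0)).card +
      q ^ (2 * n) = q ^ (2 * (n + 1)) := by
  have h4 := Finset.card_filter_add_card_filter_not
    (s := (Finset.univ : Finset (Fin (n + 1) → F)))
    (fun w => Cfsg.hermForm (n + 1) F q w v = 0)
  rw [Finset.card_univ, card_vec hF, card_perp hF hv] at h4
  rw [← h4, add_comm]

theorem hermForm_add_smul_self (hF : Fintype.card F = q ^ 2) {n : ℕ} (v w : Fin n → F)
    (hvv : Cfsg.hermForm n F q v v = 0) (a : F) :
    Cfsg.hermForm n F q (w + a • v) (w + a • v) = Cfsg.hermForm n F q w w +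
      (a * (Cfsg.hermForm n F q w v) ^ q + (a * (Cfsg.hermForm n F q w v) ^ q) ^ q) := by
  rw [hermForm_add_left, hermForm_add_right hF, hermForm_add_right hF, hermForm_smul_left,
    hermForm_smul_left, hermForm_smul_right, hermForm_smul_right, hvv, mul_pow, frob_frob hF,
    hermForm_conj hF w v]
  ring

theorem card_line_iso (hF : Fintype.card F = q ^ 2) {n : ℕ} (v w : Fin n → F)
    (hvv : Cfsg.hermForm n F q v v = 0) (hwv : Cfsg.hermForm n F q w v ≠ 0) :
    (Finset.univ.filter (fun a : F =>
      Cfsg.hermForm n F q (w + a • v) (w + a • v) = 0)).card = q := by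
  have hc : (Cfsg.hermForm n F q w v) ^ q ≠ 0 := pow_ne_zero _ hwv
  refine Eq.trans ?_ (card_trace_fiber hF (-(Cfsg.hermForm n F q w w))
    (by rw [frob_neg hF, hermForm_self_fix hF]))
  apply Finset.card_equiv (Equiv.mulRight₀ _ hc)
  intro a
  simp only [Finset.mem_filter, Finset.mem_univ, true_and, Equiv.mulRight₀_apply]
  rw [hermForm_add_smul_self hF v w hvv a]
  constructor
  · intro h; exact eq_neg_of_add_eq_zero_right h
  · intro h; rw [h]; ring

/-- the number `A` of isotropic `w` not orthogonal to an isotropic `v ≠ 0` satisfies `A q = K` -/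
theorem card_iso_not_perp (hF : Fintype.card F = q ^ 2) {n : ℕ} {v : Fin (n + 1) → F} (hv : v ≠ 0)
    (hvv : Cfsg.hermForm (n + 1) F q v v = 0) :
    (Finset.univ.filter (fun w : Fin (n + 1) → F => Cfsg.hermForm (n + 1) F q w v ≠ 0 ∧
      Cfsg.hermForm (n + 1) F q w w = 0)).card * q =
    (Finset.univ.filter (fun w : Fin (n + 1) → F => Cfsg.hermForm (n + 1) F q w v ≠ 0)).card := by
  have h2 := two_le_q hF
  set P := Finset.univ.filter (fun p : (Fin (n + 1) → F) × F =>
    Cfsg.hermForm (n + 1) F q p.1 v ≠ 0 ∧
      Cfsg.hermForm (n + 1) F q (p.1 + p.2 • v) (p.1 + p.2 • v) = 0) with hP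
  have hP1 : P.card = (Finset.univ.filter (fun w : Fin (n + 1) → F =>
      Cfsg.hermForm (n + 1) F q w v ≠ 0)).card * q := by
    rw [hP, Finset.card_filter, Fintype.sum_prod_type]
    have : ∀ w : Fin (n + 1) → F, (∑ a : F, if Cfsg.hermForm (n + 1) F q (w, a).1 v ≠ 0 ∧
        Cfsg.hermForm (n + 1) F q ((w, a).1 + (w, a).2 • v) ((w, a).1 + (w, a).2 • v) = 0
        then 1 else 0) = if Cfsg.hermForm (n + 1) F q w v ≠ 0 then q else 0 := by
      intro w
      simp only
      split_ifs with hw
      · refine Eq.trans ?_ (card_line_iso hF v w hvv hw)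
        rw [Finset.card_filter]
        apply Finset.sum_congr rfl
        intro a _
        simp [hw]
      · apply Finset.sum_eq_zero
        intro a _
        simp [hw]
    rw [Finset.sum_congr rfl (fun w _ => this w), Finset.sum_ite, Finset.sum_const,
      Finset.sum_const_zero, add_zero, smul_eq_mul]
  have hP2 : P.card = (Finset.univ.filter (fun w : Fin (n + 1) → F =>
      Cfsg.hermForm (n + 1) F q w v ≠ 0 ∧ Cfsg.hermForm (n + 1) F q w w = 0)).card * q ^ 2 := by
    rw [← hF, ← Finset.card_univ (α := F), ← Finset.card_product]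
    let e : (Fin (n + 1) → F) × F ≃ (Fin (n + 1) → F) × F :=
      { toFun := fun p => (p.1 + p.2 • v, p.2)
        invFun := fun p => (p.1 - p.2 • v, p.2)
        left_inv := fun p => by simp
        right_inv := fun p => by simp }
    apply Finset.card_equiv e
    intro p
    simp only [hP, Finset.mem_filter, Finset.mem_univ, true_and, Finset.mem_product, and_true, e,
      Equiv.coe_fn_mk]
    have hkey : Cfsg.hermForm (n + 1) F q (p.1 + p.2 • v) v = Cfsg.hermForm (n + 1) F q p.1 v := by
      rw [hermForm_add_left, hermForm_smul_left, hvv, mul_zero, add_zero]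
    rw [hkey]
  have h5 : (Finset.univ.filter (fun w : Fin (n + 1) → F =>
      Cfsg.hermForm (n + 1) F q w v ≠ 0 ∧ Cfsg.hermForm (n + 1) F q w w = 0)).card * q * q =
      (Finset.univ.filter (fun w : Fin (n + 1) → F =>
        Cfsg.hermForm (n + 1) F q w v ≠ 0)).card * q := by
    rw [← hP1, hP2]; ring
  exact Nat.eq_of_mul_eq_mul_right (by omega) h5

theorem isoCount_zero : isoCount F q 0 = 1 := by
  unfold isoCount Cfsg.hermForm
  simp

end Count

section general

open Module

variable {F : Type*} [Field F] {V : Type*} [AddCommGroup V] [Module F V]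

theorem finrank_span_pair {v w : V} (hv : v ≠ 0) (hw : w ∉ Submodule.span F {v}) :
    finrank F (Submodule.span F {v, w}) = 2 := by
  have hli : LinearIndependent F ![v, w] := by
    rw [LinearIndependent.pair_iff]
    intro s t hst
    by_cases ht : t = 0
    · subst ht
      rw [zero_smul, add_zero] at hst
      exact ⟨(smul_eq_zero.mp hst).resolve_right hv, rfl⟩
    · exfalso
      apply hw
      rw [Submodule.mem_span_singleton]
      refine ⟨-(t⁻¹ * s), ?_⟩
      have h1 : t • w = -(s • v) := eq_neg_of_add_eq_zero_right hst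
      have h2 : w = t⁻¹ • (t • w) := by rw [smul_smul, inv_mul_cancel₀ ht, one_smul]
      rw [h2, h1, smul_neg, smul_smul, neg_smul]
  have h := finrank_span_eq_card (R := F) hli
  rw [Fintype.card_fin] at h
  have hr : Set.range ![v, w] = {v, w} := by
    simp [Matrix.range_cons, Set.pair_comm]
  rw [hr] at h
  exact h

theorem card_submodule [Fintype F] [Module.Finite F V] (W : Submodule F V) :
    Nat.card W = Fintype.card F ^ finrank F W := by
  rw [Module.natCard_eq_pow_finrank (K := F), Nat.card_eq_fintype_card]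

theorem card_filter_mem [Fintype V] (W : Submodule F V) [DecidablePred (· ∈ W)] :
    (Finset.univ.filter (fun w : V => w ∈ W)).card = Nat.card W := by
  rw [Nat.card_eq_fintype_card, Fintype.card_subtype]

theorem card_filter_sdiff [Fintype V] [DecidableEq V] (A B : Submodule F V) (hAB : A ≤ B)
    [DecidablePred (· ∈ A)] [DecidablePred (· ∈ B)] :
    (Finset.univ.filter (fun w : V => w ∈ B ∧ w ∉ A)).card + Nat.card A = Nat.card B := by
  rw [← card_filter_mem A, ← card_filter_mem B]
  have hsub : Finset.univ.filter (fun w : V => w ∈ A) ⊆ Finset.univ.filter (fun w : V => w ∈ B) := by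
    intro w hw
    simp only [Finset.mem_filter, Finset.mem_univ, true_and] at hw ⊢
    exact hAB hw
  rw [← Finset.card_sdiff_add_card_eq_card hsub]
  congr 2
  ext w
  simp only [Finset.mem_filter, Finset.mem_univ, true_and, Finset.mem_sdiff]

end general

end Cfsg.Agent.Helper14
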