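import Mathlib
import Cfsg.Agent.S0794
import Cfsg.Agent.Lib.Helper14.HermCount

set_option autoImplicit false

namespace Cfsg.Agent.Helper14.ReflGen

open Matrix QuadraticMap Cfsg.Agent.Helper13 Cfsg.Agent.S0794

variable {F : Type*} [Field F] {ι : Type} [Fintype ι] [DecidableEq ι]
  (Q : QuadraticForm F (ι → F))

theorem Q_sub (a b : ι → F) : Q (a - b) = Q a + Q b - polar (⇑Q) a b := by
  have h := QuadraticMap.map_add Q (a - b) b
  rw [sub_add_cancel, polar_sub_left, polar_self] at h
  simp only [nsmul_eq_mul, Nat.cast_ofNat] at h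
  linear_combination -h

theorem Q_add' (a b : ι → F) : Q (a + b) = Q a + Q b + polar (⇑Q) a b :=
  QuadraticMap.map_add Q a b

theorem Q_smul' (c : F) (a : ι → F) : Q (c • a) = c * c * Q a := by
  rw [QuadraticMap.map_smul, smul_eq_mul]

theorem polar_self' (a : ι → F) : polar (⇑Q) a a = 2 * Q a := by
  rw [polar_self]; simp

theorem refl_isom (v : ι → F) (hv : Q v ≠ 0) (x : ι → F) :
    Q (Cfsg.reflectionMatrix (⇑Q) v *ᵥ x) = Q x := by
  rw [reflectionMatrix_mulVec, Q_sub, Q_smul', polar_smul_right, polar_comm (⇑Q) x v]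
  have hinv : (Q v)⁻¹ * Q v = 1 := inv_mul_cancel₀ hv
  simp only [smul_eq_mul]
  linear_combination ((Q v)⁻¹ * polar (⇑Q) v x * polar (⇑Q) v x) * hinv

theorem refl_sq (v : ι → F) (hv : Q v ≠ 0) :
    Cfsg.reflectionMatrix (⇑Q) v * Cfsg.reflectionMatrix (⇑Q) v = 1 := by
  apply mat_ext_mulVec
  intro x
  rw [← Matrix.mulVec_mulVec, reflectionMatrix_mulVec Q v x, reflectionMatrix_mulVec,
    Matrix.one_mulVec, polar_sub_right, polar_smul_right, polar_self']
  have hinv : (Q v)⁻¹ * Q v = 1 := inv_mul_cancel₀ hv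
  match_scalars
  · ring
  · simp only [smul_eq_mul]
    linear_combination (2 * (Q v)⁻¹ * polar (⇑Q) v x) * hinv

/-- reflection as an element of `GL` -/
def reflGL (v : ι → F) (hv : Q v ≠ 0) : GL ι F :=
  ⟨Cfsg.reflectionMatrix (⇑Q) v, Cfsg.reflectionMatrix (⇑Q) v, refl_sq Q v hv, refl_sq Q v hv⟩

/-- the subgroup of `GL` generated by reflections -/
def RG : Subgroup (GL ι F) :=
  Subgroup.closure {g | ∃ v, Q v ≠ 0 ∧ (g : Matrix ι ι F) = Cfsg.reflectionMatrix (⇑Q) v}

theorem reflGL_mem (v : ι → F) (hv : Q v ≠ 0) : reflGL Q v hv ∈ RG Q :=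
  Subgroup.subset_closure ⟨v, hv, rfl⟩

theorem eich_eq_refl_mul (u w : ι → F) (hu : Q u = 0) (huw : polar (⇑Q) u w = 0) (hw : Q w ≠ 0) :
    eichM Q u w = Cfsg.reflectionMatrix (⇑Q) w * Cfsg.reflectionMatrix (⇑Q) (w + Q w • u) := by
  apply mat_ext_mulVec
  intro x
  have hw' : Q (w + Q w • u) = Q w := by
    rw [Q_add', Q_smul', hu, polar_smul_right, polar_comm (⇑Q) w u, huw]
    ring
  rw [← Matrix.mulVec_mulVec, reflectionMatrix_mulVec Q (w + Q w • u) x, reflectionMatrix_mulVec,
    eichM_mulVec, hw', polar_sub_right, polar_smul_right, polar_add_right, polar_smul_right,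
    polar_add_left, polar_smul_left, polar_self', polar_comm (⇑Q) w u, huw]
  have hinv : (Q w)⁻¹ * Q w = 1 := inv_mul_cancel₀ hw
  match_scalars
  · ring
  · simp only [smul_eq_mul]
    linear_combination (-(2 * (Q w)⁻¹ * polar (⇑Q) w x + polar (⇑Q) u x * (2 * (Q w)⁻¹ * Q w + 1))) * hinv
  · simp only [smul_eq_mul]
    linear_combination (polar (⇑Q) w x + Q w * polar (⇑Q) u x) * hinv

/-- Eichler transformation as an element of `GL` -/
def eichGL (u w : ι → F) (hu : Q u = 0) (huw : polar (⇑Q) u w = 0) : GL ι F :=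
  ⟨eichM Q u w, eichM Q u (-w),
    by rw [eichM_mul Q u w (-w) hu huw (by rw [polar_neg_right, huw, neg_zero]), add_neg_cancel,
      eichM_zero],
    by rw [eichM_mul Q u (-w) w hu (by rw [polar_neg_right, huw, neg_zero]) huw, neg_add_cancel,
      eichM_zero]⟩

theorem eichGL_mem_of_nonsing (u w : ι → F) (hu : Q u = 0) (huw : polar (⇑Q) u w = 0)
    (hw : Q w ≠ 0) : eichGL Q u w hu huw ∈ RG Q := by
  have hw' : Q (w + Q w • u) ≠ 0 := by
    rw [Q_add', Q_smul', hu, polar_smul_right, polar_comm (⇑Q) w u, huw]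
    simpa using hw
  have : eichGL Q u w hu huw = reflGL Q w hw * reflGL Q (w + Q w • u) hw' := by
    apply Units.ext
    rw [Units.val_mul]
    exact eich_eq_refl_mul Q u w hu huw hw
  rw [this]
  exact (RG Q).mul_mem (reflGL_mem Q _ _) (reflGL_mem Q _ _)

theorem eichGL_mem (u w : ι → F) (hu : Q u = 0) (huw : polar (⇑Q) u w = 0) (w₁ : ι → F)
    (h1 : polar (⇑Q) u w₁ = 0) (h2 : Q w₁ ≠ 0) (h3 : Q (w - w₁) ≠ 0) :
    eichGL Q u w hu huw ∈ RG Q := by
  have h4 : polar (⇑Q) u (w - w₁) = 0 := by rw [polar_sub_right, huw, h1, sub_zero]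
  have : eichGL Q u w hu huw = eichGL Q u w₁ hu h1 * eichGL Q u (w - w₁) hu h4 := by
    apply Units.ext
    rw [Units.val_mul]
    change eichM Q u w = eichM Q u w₁ * eichM Q u (w - w₁)
    rw [eichM_mul Q u w₁ (w - w₁) hu h1 h4, add_sub_cancel]
  rw [this]
  exact (RG Q).mul_mem (eichGL_mem_of_nonsing Q u w₁ hu h1 h2)
    (eichGL_mem_of_nonsing Q u (w - w₁) hu h4 h3)

/-- nonsingular vector orthogonal to two given vectors, in dimension at least 5 -/
theorem exists_nonsingular_perp' (hn : 5 ≤ Fintype.card ι)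
    (hQ : (QuadraticMap.polarBilin Q).Nondegenerate) (u v : ι → F) :
    ∃ w, polar (⇑Q) u w = 0 ∧ polar (⇑Q) v w = 0 ∧ Q w ≠ 0 := by
  classical
  by_contra hcon
  push Not at hcon
  set B : LinearMap.BilinForm F (ι → F) := QuadraticMap.polarBilin Q with hB
  set P := B.orthogonal (Submodule.span F {u, v}) with hP
  have hfrP : Module.finrank F P = Fintype.card ι -
      Module.finrank F (Submodule.span F ({u, v} : Set (ι → F))) := by
    rw [hP, LinearMap.BilinForm.finrank_orthogonal hQ, Module.finrank_fintype_fun_eq_card]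
  have hspan : Module.finrank F (Submodule.span F ({u, v} : Set (ι → F))) ≤ 2 := by
    have := finrank_span_finset_le_card (R := F) ({u, v} : Finset (ι → F))
    rw [Finset.coe_insert, Finset.coe_singleton] at this
    exact le_trans this Finset.card_le_two
  have hPQ : ∀ w ∈ P, Q w = 0 := by
    intro w hw
    rw [hP, LinearMap.BilinForm.mem_orthogonal_iff] at hw
    apply hcon w
    · have := hw u (Submodule.subset_span (by simp))
      rwa [hB, QuadraticMap.polarBilin_apply_apply] at this
    · have := hw v (Submodule.subset_span (by simp))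
      rwa [hB, QuadraticMap.polarBilin_apply_apply] at this
  have hPP : P ≤ B.orthogonal P := by
    intro w hw
    rw [LinearMap.BilinForm.mem_orthogonal_iff]
    intro p hp
    rw [hB, QuadraticMap.polarBilin_apply_apply]
    unfold polar
    rw [hPQ _ (P.add_mem hp hw), hPQ p hp, hPQ w hw]
    simp
  have h1 := Submodule.finrank_mono hPP
  have h3 : Module.finrank F (B.orthogonal P) = Fintype.card ι - Module.finrank F P := by
    rw [LinearMap.BilinForm.finrank_orthogonal hQ, Module.finrank_fintype_fun_eq_card]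
  omega

/-- a totally singular plane forces dimension at least 4 -/
theorem four_le_card (hQ : (QuadraticMap.polarBilin Q).Nondegenerate) (u w x : ι → F)
    (hu0 : u ≠ 0) (hu : Q u = 0) (hw : Q w = 0) (huw : polar (⇑Q) u w = 0)
    (hux : polar (⇑Q) u x = 0) (hwx : polar (⇑Q) w x ≠ 0) : 4 ≤ Fintype.card ι := by
  classical
  set B : LinearMap.BilinForm F (ι → F) := QuadraticMap.polarBilin Q with hB
  have hwspan : w ∉ Submodule.span F {u} := by
    intro h
    obtain ⟨c, rfl⟩ := Submodule.mem_span_singleton.mp h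
    apply hwx
    rw [polar_smul_left, hux, smul_zero]
  have h2 : Module.finrank F (Submodule.span F ({u, w} : Set (ι → F))) = 2 :=
    Cfsg.Agent.Helper14.finrank_span_pair hu0 hwspan
  set P := Submodule.span F ({u, w} : Set (ι → F)) with hP
  have hPQ : ∀ y ∈ P, Q y = 0 := by
    intro y hy
    obtain ⟨a, b, rfl⟩ := Submodule.mem_span_pair.mp hy
    rw [Q_add', Q_smul', Q_smul', hu, hw, polar_smul_left, polar_smul_right, huw]
    simp
  have hPP : P ≤ B.orthogonal P := by
    intro y hy
    rw [LinearMap.BilinForm.mem_orthogonal_iff]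
    intro p hp
    rw [hB, QuadraticMap.polarBilin_apply_apply]
    unfold polar
    rw [hPQ _ (P.add_mem hp hy), hPQ p hp, hPQ y hy]
    simp
  have h1 := Submodule.finrank_mono hPP
  have h3 : Module.finrank F (B.orthogonal P) = Fintype.card ι - Module.finrank F P := by
    rw [LinearMap.BilinForm.finrank_orthogonal hQ, Module.finrank_fintype_fun_eq_card]
  omega

/-- splitting vector for the Siegel transformation -/
theorem exists_split (hQ : (QuadraticMap.polarBilin Q).Nondegenerate)
    (hF : (∃ s : F, s ≠ 0 ∧ s ≠ 1) ∨ Fintype.card ι ≠ 4) (u w x : ι → F) (hu0 : u ≠ 0)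
    (hu : Q u = 0) (hw : Q w = 0) (huw : polar (⇑Q) u w = 0) (hux : polar (⇑Q) u x = 0)
    (hwx : polar (⇑Q) w x ≠ 0) :
    ∃ w₁, polar (⇑Q) u w₁ = 0 ∧ Q w₁ ≠ 0 ∧ Q (w - w₁) ≠ 0 := by
  rcases hF with ⟨s, hs0, hs1⟩ | hcard
  · set β := polar (⇑Q) w x with hβ
    refine ⟨x + ((s * β - Q x) / β) • w, ?_, ?_, ?_⟩
    · rw [polar_add_right, polar_smul_right, hux, huw]
      simp
    · rw [Q_add', Q_smul', hw, polar_smul_right, polar_comm (⇑Q) x w, ← hβ]
      simp only [smul_eq_mul, mul_zero, add_zero]
      rw [div_mul_cancel₀ _ hwx]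
      intro h
      have : s * β = 0 := by linear_combination h
      exact (mul_ne_zero hs0 hwx) this
    · rw [Q_sub, hw, Q_add', Q_smul', hw, polar_smul_right, polar_comm (⇑Q) x w, ← hβ,
        polar_add_right, polar_smul_right, polar_self', hw, ← hβ]
      simp only [smul_eq_mul, mul_zero, add_zero, zero_add]
      rw [div_mul_cancel₀ _ hwx]
      intro h
      have : (s - 1) * β = 0 := by linear_combination h
      exact (mul_ne_zero (sub_ne_zero.mpr hs1) hwx) this
  · have h4 := four_le_card Q hQ u w x hu0 hu hw huw hux hwx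
    have h5 : 5 ≤ Fintype.card ι := by omega
    obtain ⟨w₁, h1, h2, h3⟩ := exists_nonsingular_perp' Q h5 hQ u w
    refine ⟨w₁, h1, h3, ?_⟩
    rw [Q_sub, hw, h2]
    simpa using h3

/-- the fixed space of a matrix -/
def fixS (M : Matrix ι ι F) : Submodule F (ι → F) := LinearMap.ker (Matrix.toLin' (M - 1))

theorem mem_fixS (M : Matrix ι ι F) (x : ι → F) : x ∈ fixS M ↔ M *ᵥ x = x := by
  rw [fixS, LinearMap.mem_ker, Matrix.toLin'_apply, Matrix.sub_mulVec, Matrix.one_mulVec,
    sub_eq_zero]

/-- **Generation by reflections**: every isometry is a product of reflections, unless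
`|F| = 2` and the dimension is 4. -/
theorem isom_mem_RG (hQ : (QuadraticMap.polarBilin Q).Nondegenerate)
    (hF : (∃ s : F, s ≠ 0 ∧ s ≠ 1) ∨ Fintype.card ι ≠ 4) (g : GL ι F)
    (hg : ∀ x, Q ((g : Matrix ι ι F) *ᵥ x) = Q x) : g ∈ RG Q := by
  have key : ∀ S : Submodule F (ι → F), ∀ g : GL ι F,
      (∀ x, Q ((g : Matrix ι ι F) *ᵥ x) = Q x) → fixS (g : Matrix ι ι F) = S → g ∈ RG Q := by
    intro S
    induction S using WellFoundedGT.induction with
    | ind S ih =>
      intro g hg hS
      by_cases hall : ∀ x, (g : Matrix ι ι F) *ᵥ x = x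
      · have : g = 1 := by
          apply Units.ext
          rw [Units.val_one]
          apply mat_ext_mulVec
          intro x
          rw [hall, Matrix.one_mulVec]
        rw [this]
        exact (RG Q).one_mem
      push Not at hall
      have hpol : ∀ y z, polar (⇑Q) ((g : Matrix ι ι F) *ᵥ y) ((g : Matrix ι ι F) *ᵥ z)
          = polar (⇑Q) y z := polar_of_isometry Q g hg
      have hfixpol : ∀ y ∈ S, ∀ z, polar (⇑Q) ((g : Matrix ι ι F) *ᵥ z - z) y = 0 := by
        intro y hy z
        rw [← hS, mem_fixS] at hy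
        have := hpol z y
        rw [hy] at this
        rw [polar_sub_left, this, sub_self]
      have finish : ∀ (r : GL ι F) (x₀ : ι → F), r ∈ RG Q →
          (∀ x, Q ((r : Matrix ι ι F) *ᵥ x) = Q x) →
          (∀ y ∈ S, (r : Matrix ι ι F) *ᵥ y = y) →
          (r : Matrix ι ι F) *ᵥ ((g : Matrix ι ι F) *ᵥ x₀) = x₀ →
          (g : Matrix ι ι F) *ᵥ x₀ ≠ x₀ → g ∈ RG Q := by
        intro r x₀ hr hrQ hrS hrx hgx
        have hlt : S < fixS ((r * g : GL ι F) : Matrix ι ι F) := by
          rw [SetLike.lt_iff_le_and_exists]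
          refine ⟨?_, x₀, ?_, ?_⟩
          · intro y hy
            have hy' := hy
            rw [← hS, mem_fixS] at hy'
            rw [mem_fixS, Units.val_mul, ← Matrix.mulVec_mulVec, hy', hrS y hy]
          · rw [mem_fixS, Units.val_mul, ← Matrix.mulVec_mulVec, hrx]
          · rw [← hS, mem_fixS]
            exact hgx
        have hmem := ih _ hlt (r * g) (by
          intro x
          rw [Units.val_mul, ← Matrix.mulVec_mulVec, hrQ, hg]) rfl
        have h2 : g = r⁻¹ * (r * g) := by group
        rw [h2]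
        exact (RG Q).mul_mem ((RG Q).inv_mem hr) hmem
      by_cases hc1 : ∃ x, Q ((g : Matrix ι ι F) *ᵥ x - x) ≠ 0
      · obtain ⟨x, hx⟩ := hc1
        set w := (g : Matrix ι ι F) *ᵥ x - x with hw
        have hgx : (g : Matrix ι ι F) *ᵥ x ≠ x := by
          intro h
          apply hx
          rw [hw, h, sub_self, QuadraticMap.map_zero]
        apply finish (reflGL Q w hx) x (reflGL_mem Q w hx) (refl_isom Q w hx) _ _ hgx
        · intro y hy
          change Cfsg.reflectionMatrix (⇑Q) w *ᵥ y = y
          rw [reflectionMatrix_mulVec, hfixpol y hy x, mul_zero, zero_smul, sub_zero]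
        · change Cfsg.reflectionMatrix (⇑Q) w *ᵥ ((g : Matrix ι ι F) *ᵥ x) = x
          rw [reflectionMatrix_mulVec]
          have h1 : polar (⇑Q) w ((g : Matrix ι ι F) *ᵥ x) = Q w := by
            rw [hw, polar_sub_left, polar_self', Q_sub, hg x,
              polar_comm (⇑Q) x ((g : Matrix ι ι F) *ᵥ x)]
            ring
          rw [h1, inv_mul_cancel₀ hx, one_smul, hw]
          abel
      · push Not at hc1
        obtain ⟨x, hgx⟩ := hall
        set u := (g : Matrix ι ι F) *ᵥ x - x with hu
        have hu0 : u ≠ 0 := by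
          rw [hu]
          exact sub_ne_zero.mpr hgx
        have hQu : Q u = 0 := hc1 x
        have hB0 : ∀ y z, polar (⇑Q) ((g : Matrix ι ι F) *ᵥ y - y)
            ((g : Matrix ι ι F) *ᵥ z - z) = 0 := by
          intro y z
          have h1 := hc1 (y + z)
          have h2 : (g : Matrix ι ι F) *ᵥ (y + z) - (y + z) =
              ((g : Matrix ι ι F) *ᵥ y - y) + ((g : Matrix ι ι F) *ᵥ z - z) := by
            rw [Matrix.mulVec_add]
            abel
          rw [h2, Q_add', hc1 y, hc1 z, zero_add, zero_add] at h1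
          exact h1
        have hux : polar (⇑Q) u x = 0 := by
          have h1 := hg x
          have h2 : (g : Matrix ι ι F) *ᵥ x = x + u := by rw [hu]; abel
          rw [h2, Q_add', hQu, polar_comm (⇑Q) x u] at h1
          linear_combination h1
        obtain ⟨z, hz⟩ : ∃ z, polar (⇑Q) x ((g : Matrix ι ι F) *ᵥ z - z) ≠ 0 := by
          by_contra hcon
          push Not at hcon
          apply hgx
          set x' := ((g⁻¹ : GL ι F) : Matrix ι ι F) *ᵥ x with hx'
          have hgx' : (g : Matrix ι ι F) *ᵥ x' = x := by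
            rw [hx', Matrix.mulVec_mulVec, ← Units.val_mul, mul_inv_cancel, Units.val_one,
              Matrix.one_mulVec]
          have hxx : x' - x = 0 := by
            apply hQ.1
            intro z
            rw [QuadraticMap.polarBilin_apply_apply, polar_sub_left]
            have h1 := hcon z
            rw [polar_sub_right] at h1
            have h2 := hpol x' z
            rw [hgx'] at h2
            rw [← h2]
            linear_combination h1
          rw [sub_eq_zero] at hxx
          rw [← hxx] at hgx' ⊢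
          exact hgx'
        set β := polar (⇑Q) x ((g : Matrix ι ι F) *ᵥ z - z) with hβ
        set w := β⁻¹ • ((g : Matrix ι ι F) *ᵥ z - z) with hw
        have hQw : Q w = 0 := by rw [hw, Q_smul', hc1 z, mul_zero]
        have huw : polar (⇑Q) u w = 0 := by rw [hw, polar_smul_right, hu, hB0 x z, smul_zero]
        have hwx : polar (⇑Q) w x = 1 := by
          rw [hw, polar_smul_left, polar_comm (⇑Q) _ x, ← hβ, smul_eq_mul, inv_mul_cancel₀ hz]
        obtain ⟨w₁, h1, h2, h3⟩ := exists_split Q hQ hF u w x hu0 hQu hQw huw hux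
          (by rw [hwx]; exact one_ne_zero)
        apply finish (eichGL Q u w hQu huw) x (eichGL_mem Q u w hQu huw w₁ h1 h2 h3)
          (eichM_isometry Q u w hQu huw) _ _ hgx
        · intro y hy
          change eichM Q u w *ᵥ y = y
          rw [eichM_mulVec, hu, hfixpol y hy x, hw, polar_smul_left, hfixpol y hy z]
          simp
        · change eichM Q u w *ᵥ ((g : Matrix ι ι F) *ᵥ x) = x
          have h4 : (g : Matrix ι ι F) *ᵥ x = x + u := by rw [hu]; abel
          rw [eichM_mulVec, h4, polar_add_right, polar_add_right, hux, polar_self', hQu, hwx,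
            polar_comm (⇑Q) w u, huw]
          simp
  exact key _ g hg rfl

theorem closure_subtype_eq_top {G : Type*} [Group G] (H : Subgroup G) (S : Set G)
    (hS : S ⊆ H) (h : ∀ g ∈ H, g ∈ Subgroup.closure S) :
    Subgroup.closure {g : H | (g : G) ∈ S} = ⊤ := by
  have hle : Subgroup.closure S ≤ H := (Subgroup.closure_le H).mpr hS
  have key : ∀ x (hx : x ∈ Subgroup.closure S),
      (⟨x, hle hx⟩ : H) ∈ Subgroup.closure {g : H | (g : G) ∈ S} := by
    intro x hx
    induction hx using Subgroup.closure_induction with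
    | mem x hx => exact Subgroup.subset_closure hx
    | one => exact Subgroup.one_mem _
    | mul x y hx hy ihx ihy => exact Subgroup.mul_mem _ ihx ihy
    | inv x hx ih => exact Subgroup.inv_mem _ ih
  rw [eq_top_iff]
  intro g _
  exact key g.1 (h g.1 g.2)

theorem exists_ne_zero_one [Fintype F] (h : Fintype.card F ≠ 2) : ∃ s : F, s ≠ 0 ∧ s ≠ 1 := by
  classical
  have h1 : 1 < Fintype.card F := Fintype.one_lt_card
  have h3 : ({0, 1} : Finset F).card < (Finset.univ : Finset F).card := by
    rw [Finset.card_univ]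
    have : ({0, 1} : Finset F).card ≤ 2 := Finset.card_le_two
    omega
  obtain ⟨s, -, hs⟩ := Finset.exists_mem_notMem_of_card_lt_card h3
  simp only [Finset.mem_insert, Finset.mem_singleton, not_or] at hs
  exact ⟨s, hs.1, hs.2⟩

/-- generation by reflections, in the isometry group -/
theorem isometryGroup_closure_refl (hQ : (QuadraticMap.polarBilin Q).Nondegenerate)
    (hF : (∃ s : F, s ≠ 0 ∧ s ≠ 1) ∨ Fintype.card ι ≠ 4) :
    Subgroup.closure {g : ↥(Cfsg.isometryGroup F ⇑Q) | ∃ v : ι → F, Q v ≠ 0 ∧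
      ((g : GL ι F) : Matrix ι ι F) = Cfsg.reflectionMatrix ⇑Q v} = ⊤ := by
  apply closure_subtype_eq_top (Cfsg.isometryGroup F ⇑Q)
    {g : GL ι F | ∃ v, Q v ≠ 0 ∧ (g : Matrix ι ι F) = Cfsg.reflectionMatrix (⇑Q) v}
  · rintro g ⟨v, hv, hgv⟩
    intro x _
    change Q ((g : Matrix ι ι F) *ᵥ x) = Q x
    rw [hgv]
    exact refl_isom Q v hv x
  · intro g hg
    exact isom_mem_RG Q hQ hF g (fun x => hg x x)

end Cfsg.Agent.Helper14.ReflGen
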