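import Mathlib
import Cfsg.Prelude.Def_SporadicB
import Cfsg.Agent.Lib.Helper14.ReflGen
import Cfsg.Agent.Lib.Helper14.WittQuad

set_option autoImplicit false

namespace Cfsg.Agent.Helper14.ReflClass

open Matrix QuadraticMap Cfsg.Agent.Helper13 Cfsg.Agent.S0794 Cfsg.Agent.Helper14.ReflGen

section General

variable {F : Type*} [Field F] {ι : Type} [Fintype ι] [DecidableEq ι]
  (Q : QuadraticForm F (ι → F))

/-- A square matrix of rank one is an outer product of two nonzero vectors. -/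
theorem exists_vecMulVec_of_rank_one' (N : Matrix ι ι F) (h : N.rank = 1) :
    ∃ u φ : ι → F, u ≠ 0 ∧ φ ≠ 0 ∧ N = vecMulVec u φ := by
  unfold Matrix.rank at h
  rw [finrank_eq_one_iff'] at h
  obtain ⟨⟨u, hu⟩, hu0, hspan⟩ := h
  have hcol : ∀ j, ∃ c : F, c • u = N *ᵥ Pi.single j 1 := fun j => by
    obtain ⟨c, hc⟩ := hspan ⟨N *ᵥ Pi.single j 1, ⟨Pi.single j 1, rfl⟩⟩
    exact ⟨c, congrArg Subtype.val hc⟩
  choose φ hφ using hcol
  have hN : N = vecMulVec u φ := by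
    ext i j
    have := congrFun (hφ j) i
    rw [Matrix.mulVec_single_one] at this
    simp only [Pi.smul_apply, smul_eq_mul, Matrix.col_apply] at this
    rw [vecMulVec_apply, ← this, mul_comm]
  have hu0' : u ≠ 0 := fun h0 => hu0 (Subtype.ext h0)
  refine ⟨u, φ, hu0', ?_, hN⟩
  rintro rfl
  obtain ⟨y, hy⟩ := hu
  apply hu0'
  rw [← hy, hN]
  simp

theorem ne_zero_of_Q_ne_zero (v : ι → F) (hv : Q v ≠ 0) : v ≠ 0 := by
  rintro rfl
  exact hv (QuadraticMap.map_zero Q)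

theorem exists_polar_ne_zero (hQ : (QuadraticMap.polarBilin Q).Nondegenerate) (v : ι → F)
    (hv : v ≠ 0) : ∃ x, polar (⇑Q) v x ≠ 0 := by
  by_contra hcon
  push Not at hcon
  exact hv (hQ.1 v (fun x => by rw [QuadraticMap.polarBilin_apply_apply]; exact hcon x))

theorem rank_refl_sub_one (hQ : (QuadraticMap.polarBilin Q).Nondegenerate) (v : ι → F)
    (hv : Q v ≠ 0) : (Cfsg.reflectionMatrix (⇑Q) v - 1).rank = 1 := by
  have hv0 := ne_zero_of_Q_ne_zero Q v hv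
  have hrange : LinearMap.range (Cfsg.reflectionMatrix (⇑Q) v - 1).mulVecLin
      = Submodule.span F {v} := by
    apply le_antisymm
    · rintro _ ⟨x, rfl⟩
      rw [Matrix.mulVecLin_apply, Matrix.sub_mulVec, Matrix.one_mulVec, reflectionMatrix_mulVec,
        sub_sub_cancel_left, ← neg_smul]
      exact Submodule.smul_mem _ _ (Submodule.mem_span_singleton_self v)
    · rw [Submodule.span_singleton_le_iff_mem]
      obtain ⟨x, hx⟩ := exists_polar_ne_zero Q hQ v hv0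
      refine ⟨(-(Q v) / polar (⇑Q) v x) • x, ?_⟩
      rw [Matrix.mulVecLin_apply, Matrix.sub_mulVec, Matrix.one_mulVec, reflectionMatrix_mulVec,
        sub_sub_cancel_left, polar_smul_right, ← neg_smul, smul_eq_mul]
      have : -((Q v)⁻¹ * (-(Q v) / polar (⇑Q) v x * polar (⇑Q) v x)) = 1 := by
        rw [div_mul_cancel₀ _ hx, mul_neg, neg_neg, inv_mul_cancel₀ hv]
      rw [this, one_smul]
  unfold Matrix.rank
  rw [hrange, finrank_span_singleton hv0]

theorem exists_refl_of_rank_one (hQ : (QuadraticMap.polarBilin Q).Nondegenerate)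
    (g : Matrix ι ι F) (hg : ∀ x, Q (g *ᵥ x) = Q x) (h : (g - 1).rank = 1) :
    ∃ v, Q v ≠ 0 ∧ g = Cfsg.reflectionMatrix (⇑Q) v := by
  obtain ⟨a, b, ha, hb, hab⟩ := exists_vecMulVec_of_rank_one' (g - 1) h
  have hgx : ∀ x, g *ᵥ x = x + (b ⬝ᵥ x) • a := by
    intro x
    have : g = 1 + vecMulVec a b := by rw [← hab]; abel
    rw [this, Matrix.add_mulVec, Matrix.one_mulVec, vecMulVec_mulVec']
  have hkey : ∀ x, (b ⬝ᵥ x) * ((b ⬝ᵥ x) * Q a + polar (⇑Q) a x) = 0 := by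
    intro x
    have h1 := hg x
    rw [hgx, Q_add', Q_smul', polar_smul_right, polar_comm (⇑Q) x a, smul_eq_mul] at h1
    linear_combination h1
  obtain ⟨x₀, hx₀⟩ : ∃ x₀, b ⬝ᵥ x₀ ≠ 0 := by
    by_contra hcon
    push Not at hcon
    apply hb
    funext j
    have := hcon (Pi.single j 1)
    rw [dotProduct_single, mul_one] at this
    exact this
  have hlin1 : ∀ x, b ⬝ᵥ x ≠ 0 → polar (⇑Q) a x = -(Q a) * (b ⬝ᵥ x) := by
    intro x hx
    have := (mul_eq_zero.mp (hkey x)).resolve_left hx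
    linear_combination this
  have hlin : ∀ x, polar (⇑Q) a x = -(Q a) * (b ⬝ᵥ x) := by
    intro x
    by_cases hx : b ⬝ᵥ x = 0
    · have h1 := hlin1 (x + x₀) (by rw [dotProduct_add, hx, zero_add]; exact hx₀)
      have h2 := hlin1 x₀ hx₀
      rw [polar_add_right, dotProduct_add] at h1
      linear_combination h1 - h2
    · exact hlin1 x hx
  have hQa : Q a ≠ 0 := by
    intro h0
    obtain ⟨x, hx⟩ := exists_polar_ne_zero Q hQ a ha
    apply hx
    rw [hlin, h0, neg_zero, zero_mul]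
  refine ⟨a, hQa, ?_⟩
  apply mat_ext_mulVec
  intro x
  rw [hgx, reflectionMatrix_mulVec, hlin, sub_eq_add_neg, ← neg_smul]
  congr 2
  field_simp

theorem refl_conj (M M' : Matrix ι ι F) (hMM' : M * M' = 1) (hM : ∀ x, Q (M *ᵥ x) = Q x)
    (v : ι → F) :
    M * Cfsg.reflectionMatrix (⇑Q) v * M' = Cfsg.reflectionMatrix (⇑Q) (M *ᵥ v) := by
  apply mat_ext_mulVec
  intro x
  rw [← Matrix.mulVec_mulVec, ← Matrix.mulVec_mulVec, reflectionMatrix_mulVec,
    reflectionMatrix_mulVec]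
  have hx : M *ᵥ (M' *ᵥ x) = x := by
    rw [Matrix.mulVec_mulVec, hMM', Matrix.one_mulVec]
  have h1 : polar (⇑Q) v (M' *ᵥ x) = polar (⇑Q) (M *ᵥ v) x := by
    rw [← polar_of_isometry Q M hM v (M' *ᵥ x), hx]
  rw [h1, hM v, Matrix.mulVec_sub, Matrix.mulVec_smul, hx]

theorem exists_GL_of_linearEquiv (g : (ι → F) ≃ₗ[F] (ι → F)) :
    ∃ G : GL ι F, ∀ x, (G : Matrix ι ι F) *ᵥ x = g x := by
  refine ⟨⟨LinearMap.toMatrix' g.toLinearMap, LinearMap.toMatrix' g.symm.toLinearMap, ?_, ?_⟩, ?_⟩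
  · rw [← LinearMap.toMatrix'_comp]
    simp
  · rw [← LinearMap.toMatrix'_comp]
    simp
  · intro x
    change LinearMap.toMatrix' g.toLinearMap *ᵥ x = g x
    rw [LinearMap.toMatrix'_mulVec]
    rfl

/-- the isometry group is transitive on nonzero vectors of a given norm (Witt) -/
theorem exists_isom_map (hQ : (QuadraticMap.polarBilin Q).Nondegenerate) (u v : ι → F)
    (hu : u ≠ 0) (hv : v ≠ 0) (h : Q u = Q v) :
    ∃ G : GL ι F, (∀ x, Q ((G : Matrix ι ι F) *ᵥ x) = Q x) ∧ (G : Matrix ι ι F) *ᵥ u = v := by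
  set φ : Submodule.span F {u} ≃ₗ[F] Submodule.span F {v} :=
    (LinearEquiv.toSpanNonzeroSingleton F (ι → F) u hu).symm.trans
      (LinearEquiv.toSpanNonzeroSingleton F (ι → F) v hv) with hφ
  have hφx : ∀ x : Submodule.span F {u}, Q (φ x : ι → F) = Q (x : ι → F) := by
    intro x
    have h1 : (φ x : ι → F) = (LinearEquiv.coord F (ι → F) u hu x) • v := by
      rw [hφ]
      simp
    have h2 : (x : ι → F) = (LinearEquiv.coord F (ι → F) u hu x) • u :=
      (LinearEquiv.coord_apply_smul F (ι → F) u hu x).symm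
    rw [h1]
    conv_rhs => rw [h2]
    rw [Q_smul', Q_smul', h]
  obtain ⟨g, hgQ, hgx⟩ := Cfsg.Agent.Helper14.Witt.witt Q hQ _ _ φ hφx
  obtain ⟨G, hG⟩ := exists_GL_of_linearEquiv g
  refine ⟨G, fun x => by rw [hG, hgQ], ?_⟩
  rw [hG]
  have := hgx ⟨u, Submodule.mem_span_singleton_self u⟩
  rw [this, hφ]
  simp only [LinearEquiv.trans_apply, LinearEquiv.toSpanNonzeroSingleton_apply]
  have h1 := LinearEquiv.coord_self F (ι → F) u hu
  change (LinearEquiv.coord F (ι → F) u hu ⟨u, _⟩) • v = v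
  rw [h1, one_smul]

theorem exists_Q_ne_zero [Nonempty ι] (hQ : (QuadraticMap.polarBilin Q).Nondegenerate) :
    ∃ v, Q v ≠ 0 := by
  by_contra hcon
  push Not at hcon
  obtain ⟨i⟩ := ‹Nonempty ι›
  have h0 : (Pi.single i 1 : ι → F) = 0 := by
    apply hQ.1
    intro y
    rw [QuadraticMap.polarBilin_apply_apply]
    unfold polar
    rw [hcon, hcon, hcon]
    simp
  have := congrFun h0 i
  simp at this

end General

section F2

variable {ι : Type} [Fintype ι] [DecidableEq ι] (Q : QuadraticForm (ZMod 2) (ι → ZMod 2))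

theorem zmod2_eq_one {a : ZMod 2} (h : a ≠ 0) : a = 1 := by
  revert a
  decide

theorem refl_mulVec_F2 (v x : ι → ZMod 2) (hv : Q v = 1) :
    Cfsg.reflectionMatrix (⇑Q) v *ᵥ x = x + polar (⇑Q) v x • v := by
  rw [reflectionMatrix_mulVec, hv, inv_one, one_mul, sub_eq_add_neg, ← neg_smul, CharTwo.neg_eq]

theorem refl_mul_sq (u v : ι → ZMod 2) (hu : Q u = 1) (hv : Q v = 1)
    (h : polar (⇑Q) u v = 0) :
    (Cfsg.reflectionMatrix (⇑Q) u * Cfsg.reflectionMatrix (⇑Q) v) *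
      (Cfsg.reflectionMatrix (⇑Q) u * Cfsg.reflectionMatrix (⇑Q) v) = 1 := by
  have hu' : Q u ≠ 0 := by rw [hu]; exact one_ne_zero
  have hv' : Q v ≠ 0 := by rw [hv]; exact one_ne_zero
  have hc := refl_conj Q _ _ (refl_sq Q u hu') (refl_isom Q u hu') v
  rw [refl_mulVec_F2 Q u v hu, h, zero_smul, add_zero] at hc
  calc _ = (Cfsg.reflectionMatrix (⇑Q) u * Cfsg.reflectionMatrix (⇑Q) v *
        Cfsg.reflectionMatrix (⇑Q) u) * Cfsg.reflectionMatrix (⇑Q) v := by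
        simp only [Matrix.mul_assoc]
    _ = 1 := by rw [hc, refl_sq Q v hv']

theorem refl_mul_cube (u v : ι → ZMod 2) (hu : Q u = 1) (hv : Q v = 1)
    (h : polar (⇑Q) u v = 1) :
    (Cfsg.reflectionMatrix (⇑Q) u * Cfsg.reflectionMatrix (⇑Q) v) *
      (Cfsg.reflectionMatrix (⇑Q) u * Cfsg.reflectionMatrix (⇑Q) v) *
      (Cfsg.reflectionMatrix (⇑Q) u * Cfsg.reflectionMatrix (⇑Q) v) = 1 := by
  have hu' : Q u ≠ 0 := by rw [hu]; exact one_ne_zero
  have hv' : Q v ≠ 0 := by rw [hv]; exact one_ne_zero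
  have hc1 := refl_conj Q _ _ (refl_sq Q u hu') (refl_isom Q u hu') v
  rw [refl_mulVec_F2 Q u v hu, h, one_smul] at hc1
  have hc2 := refl_conj Q _ _ (refl_sq Q v hv') (refl_isom Q v hv') u
  rw [refl_mulVec_F2 Q v u hv, polar_comm, h, one_smul, add_comm u v] at hc2
  have huv : Q (v + u) ≠ 0 := by
    rw [Q_add', hu, hv, polar_comm, h]
    decide
  calc _ = (Cfsg.reflectionMatrix (⇑Q) u * Cfsg.reflectionMatrix (⇑Q) v *
        Cfsg.reflectionMatrix (⇑Q) u) * (Cfsg.reflectionMatrix (⇑Q) v *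
        Cfsg.reflectionMatrix (⇑Q) u * Cfsg.reflectionMatrix (⇑Q) v) := by
        simp only [Matrix.mul_assoc]
    _ = 1 := by rw [hc1, hc2, refl_sq Q _ huv]

/-- Over `ZMod 2`, the isometries `g` with `g - 1` of rank one form a generating conjugacy
class of 3-transpositions (dimension `≠ 4`). -/
theorem three_transposition_class (hQ : (QuadraticMap.polarBilin Q).Nondegenerate)
    (hcard : Fintype.card ι ≠ 4) (v₀ : ι → ZMod 2) (hv₀ : Q v₀ ≠ 0) :
    Cfsg.IsThreeTranspositionClass {g : ↥(Cfsg.isometryGroup (ZMod 2) ⇑Q) |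
      (((g : GL ι (ZMod 2)) : Matrix ι ι (ZMod 2)) - 1).rank = 1} := by
  have hD : ∀ g : ↥(Cfsg.isometryGroup (ZMod 2) ⇑Q),
      (((g : GL ι (ZMod 2)) : Matrix ι ι (ZMod 2)) - 1).rank = 1 ↔
      ∃ v, Q v ≠ 0 ∧ ((g : GL ι (ZMod 2)) : Matrix ι ι (ZMod 2)) = Cfsg.reflectionMatrix ⇑Q v := by
    intro g
    constructor
    · intro h
      exact exists_refl_of_rank_one Q hQ _ (fun x => g.2 x x) h
    · rintro ⟨v, hv, hgv⟩
      rw [hgv]
      exact rank_refl_sub_one Q hQ v hv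
  have hext : ∀ g h : ↥(Cfsg.isometryGroup (ZMod 2) ⇑Q),
      ((g : GL ι (ZMod 2)) : Matrix ι ι (ZMod 2)) = ((h : GL ι (ZMod 2)) : Matrix ι ι (ZMod 2)) →
      g = h := fun g h hgh => Subtype.ext (Units.ext hgh)
  refine ⟨⟨?_, ?_⟩, ?_, ?_⟩
  · intro d hd
    obtain ⟨v, hv, hdv⟩ := (hD d).mp hd
    have h1 : d ^ 2 = 1 := by
      apply hext
      rw [pow_two]
      change ((d : GL ι (ZMod 2)) : Matrix ι ι (ZMod 2)) * ((d : GL ι (ZMod 2)) : Matrix ι ι (ZMod 2))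
        = 1
      rw [hdv, refl_sq Q v hv]
    have h2 : d ≠ 1 := by
      rintro rfl
      have : (((1 : ↥(Cfsg.isometryGroup (ZMod 2) ⇑Q)) : GL ι (ZMod 2)) : Matrix ι ι (ZMod 2)) - 1
          = 0 := by simp
      rw [Set.mem_ofPred_eq, this, Matrix.rank_zero] at hd
      exact zero_ne_one hd
    exact orderOf_eq_prime h1 h2
  · intro d hd e he
    obtain ⟨u, hu, hdu⟩ := (hD d).mp hd
    obtain ⟨v, hv, hev⟩ := (hD e).mp he
    have hu1 := zmod2_eq_one hu
    have hv1 := zmod2_eq_one hv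
    by_cases hc : polar (⇑Q) u v = 0
    · left
      apply hext
      rw [pow_two]
      change (((d : GL ι (ZMod 2)) : Matrix ι ι (ZMod 2)) * ((e : GL ι (ZMod 2)) : Matrix ι ι (ZMod 2)))
        * (((d : GL ι (ZMod 2)) : Matrix ι ι (ZMod 2)) * ((e : GL ι (ZMod 2)) : Matrix ι ι (ZMod 2)))
        = 1
      rw [hdu, hev]
      exact refl_mul_sq Q u v hu1 hv1 hc
    · right
      apply hext
      rw [pow_succ, pow_two]
      change (((d : GL ι (ZMod 2)) : Matrix ι ι (ZMod 2)) * ((e : GL ι (ZMod 2)) : Matrix ι ι (ZMod 2)))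
        * (((d : GL ι (ZMod 2)) : Matrix ι ι (ZMod 2)) * ((e : GL ι (ZMod 2)) : Matrix ι ι (ZMod 2)))
        * (((d : GL ι (ZMod 2)) : Matrix ι ι (ZMod 2)) * ((e : GL ι (ZMod 2)) : Matrix ι ι (ZMod 2)))
        = 1
      rw [hdu, hev]
      exact refl_mul_cube Q u v hu1 hv1 (zmod2_eq_one hc)
  · -- single conjugacy class
    set d₀ : ↥(Cfsg.isometryGroup (ZMod 2) ⇑Q) :=
      ⟨reflGL Q v₀ hv₀, fun x _ => refl_isom Q v₀ hv₀ x⟩ with hd₀
    have hd₀D : (((d₀ : GL ι (ZMod 2)) : Matrix ι ι (ZMod 2)) - 1).rank = 1 :=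
      (hD d₀).mpr ⟨v₀, hv₀, rfl⟩
    refine ⟨d₀, hd₀D, ?_⟩
    ext g
    change _ ↔ IsConj d₀ g
    rw [isConj_iff, Set.mem_ofPred_eq, hD]
    constructor
    · rintro ⟨v, hv, hgv⟩
      have hv00 := ne_zero_of_Q_ne_zero Q v₀ hv₀
      have hv0 := ne_zero_of_Q_ne_zero Q v hv
      obtain ⟨G, hGQ, hGv⟩ := exists_isom_map Q hQ v₀ v hv00 hv0
        (by rw [zmod2_eq_one hv₀, zmod2_eq_one hv])
      refine ⟨⟨G, fun x _ => hGQ x⟩, ?_⟩
      apply hext
      change (G : Matrix ι ι (ZMod 2)) * Cfsg.reflectionMatrix (⇑Q) v₀ *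
        ((G⁻¹ : GL ι (ZMod 2)) : Matrix ι ι (ZMod 2)) = _
      rw [refl_conj Q _ _ (by rw [← Units.val_mul, mul_inv_cancel, Units.val_one]) hGQ, hGv, hgv]
    · rintro ⟨c, hc⟩
      refine ⟨((c : GL ι (ZMod 2)) : Matrix ι ι (ZMod 2)) *ᵥ v₀, ?_, ?_⟩
      · have := c.2 v₀ v₀
        change Q (((c : GL ι (ZMod 2)) : Matrix ι ι (ZMod 2)) *ᵥ v₀) = Q v₀ at this
        rw [this]
        exact hv₀
      · rw [← hc]
        change ((c : GL ι (ZMod 2)) : Matrix ι ι (ZMod 2)) * Cfsg.reflectionMatrix (⇑Q) v₀ *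
          (((c : GL ι (ZMod 2))⁻¹ : GL ι (ZMod 2)) : Matrix ι ι (ZMod 2)) = _
        exact refl_conj Q ((c : GL ι (ZMod 2)) : Matrix ι ι (ZMod 2))
          (((c : GL ι (ZMod 2))⁻¹ : GL ι (ZMod 2)) : Matrix ι ι (ZMod 2))
          (by rw [← Units.val_mul, mul_inv_cancel, Units.val_one]) (fun x => c.2 x x) v₀
  · -- generation
    have hset : {g : ↥(Cfsg.isometryGroup (ZMod 2) ⇑Q) |
        (((g : GL ι (ZMod 2)) : Matrix ι ι (ZMod 2)) - 1).rank = 1} =
        {g : ↥(Cfsg.isometryGroup (ZMod 2) ⇑Q) | ∃ v : ι → ZMod 2, Q v ≠ 0 ∧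
          ((g : GL ι (ZMod 2)) : Matrix ι ι (ZMod 2)) = Cfsg.reflectionMatrix ⇑Q v} := by
      ext g
      exact hD g
    rw [hset]
    exact isometryGroup_closure_refl Q hQ (Or.inr hcard)

end F2

end Cfsg.Agent.Helper14.ReflClass
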