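import Mathlib
import Cfsg.Prelude.Def_Classical

set_option autoImplicit false
set_option linter.unusedSectionVars false

namespace Cfsg.Agent.Helper14

open Matrix

section transfer

variable {ι : Type} [Fintype ι] [DecidableEq ι] {F K : Type*} [Field F] [Field K]

/-- transfer of general linear groups along a ring isomorphism -/
def glEquiv (e : F ≃+* K) : Matrix.GeneralLinearGroup ι F ≃* Matrix.GeneralLinearGroup ι K :=
  Units.mapEquiv (RingEquiv.mapMatrix e).toMulEquiv

theorem glEquiv_coe (e : F ≃+* K) (g : Matrix.GeneralLinearGroup ι F) :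
    ((glEquiv e g : Matrix.GeneralLinearGroup ι K) : Matrix ι ι K) =
      (g : Matrix ι ι F).map e := rfl

theorem map_mulVec_comp (e : F ≃+* K) (M : Matrix ι ι F) (v : ι → F) :
    (M.map e) *ᵥ (e ∘ v) = e ∘ (M *ᵥ v) := by
  funext i
  have := RingHom.map_mulVec (e : F →+* K) M v i
  simpa using this.symm

theorem mem_isometryGroup_iff (Q : (ι → F) → F) (g : Matrix.GeneralLinearGroup ι F) :
    g ∈ Cfsg.isometryGroup F Q ↔ ∀ u, Q ((g : Matrix ι ι F) *ᵥ u) = Q u := by
  constructor
  · intro h u; exact h u u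
  · intro h u _; exact h u

theorem glEquiv_mem_iff (e : F ≃+* K) (QF : (ι → F) → F) (QK : (ι → K) → K)
    (hQ : ∀ v, QK (e ∘ v) = e (QF v)) (g : Matrix.GeneralLinearGroup ι F) :
    glEquiv e g ∈ Cfsg.isometryGroup K QK ↔ g ∈ Cfsg.isometryGroup F QF := by
  rw [mem_isometryGroup_iff, mem_isometryGroup_iff]
  constructor
  · intro h u
    have := h (e ∘ u)
    rw [glEquiv_coe, map_mulVec_comp, hQ, hQ] at this
    exact e.injective this
  · intro h u'
    obtain ⟨u, rfl⟩ : ∃ u : ι → F, e ∘ u = u' := ⟨e.symm ∘ u', by funext i; simp⟩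
    rw [glEquiv_coe, map_mulVec_comp, hQ, hQ, h u]

/-- transfer of isometry groups along a ring isomorphism -/
noncomputable def isometryGroupEquiv (e : F ≃+* K) (QF : (ι → F) → F) (QK : (ι → K) → K)
    (hQ : ∀ v, QK (e ∘ v) = e (QF v)) :
    ↥(Cfsg.isometryGroup F QF) ≃* ↥(Cfsg.isometryGroup K QK) :=
  ((glEquiv e).subgroupMap (Cfsg.isometryGroup F QF)).trans
    (MulEquiv.subgroupCongr (by
      ext g'
      rw [Subgroup.mem_map]
      constructor
      · rintro ⟨g, hg, rfl⟩
        exact (glEquiv_mem_iff e QF QK hQ g).mpr hg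
      · intro hg'
        refine ⟨(glEquiv e).symm g', ?_, by simp⟩
        rw [← glEquiv_mem_iff e QF QK hQ]
        simpa using hg'))

end transfer

end Cfsg.Agent.Helper14
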