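import Mathlib
import Cfsg.Prelude.Def_KGroupFacts

set_option autoImplicit false

/-!
`|Aut(G)| = |Out(G)| · |G|` for groups with trivial centre.
-/

namespace Cfsg.Agent.Helper14.AutCount

variable {G : Type*} [Group G]

theorem center_eq_bot_of_simple_perfect (hs : IsSimpleGroup G) (hp : commutator G = ⊤) :
    Subgroup.center G = ⊥ := by
  rcases hs.eq_bot_or_eq_top_of_normal (Subgroup.center G) inferInstance with h | h
  · exact h
  · exfalso
    have h1 := (commutator_eq_bot_iff_center_eq_top G).mpr h
    rw [hp] at h1
    haveI := hs.toNontrivial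
    exact bot_ne_top (α := Subgroup G) h1.symm

theorem conj_injective (hc : Subgroup.center G = ⊥) :
    Function.Injective (MulAut.conj : G →* MulAut G) := by
  rw [injective_iff_map_eq_one]
  intro g hg
  have : g ∈ Subgroup.center G := by
    rw [Subgroup.mem_center_iff]
    intro x
    have := congrArg (fun φ : MulAut G => φ x) hg
    simp only [MulAut.conj_apply, MulAut.one_apply] at this
    calc x * g = g * x * g⁻¹ * g := by rw [this]
      _ = g * x := by group
  rw [hc] at this
  exact Subgroup.mem_bot.mp this

theorem card_inn (hc : Subgroup.center G = ⊥) : Nat.card (Cfsg.Inn G) = Nat.card G :=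
  (Nat.card_congr (Equiv.ofInjective _ (conj_injective hc))).symm

theorem card_mulAut (hc : Subgroup.center G = ⊥) :
    Nat.card (MulAut G) = Nat.card (Cfsg.Out G) * Nat.card G := by
  rw [Subgroup.card_eq_card_quotient_mul_card_subgroup (Cfsg.Inn G), card_inn hc]

theorem commutator_quotient_eq_top (N : Subgroup G) [N.Normal] (hp : commutator G = ⊤) :
    commutator (G ⧸ N) = ⊤ := by
  have h1 : (commutator G).map (QuotientGroup.mk' N) = commutator (G ⧸ N) := by
    rw [commutator_def, commutator_def, Subgroup.map_commutator,
      Subgroup.map_top_of_surjective _ (QuotientGroup.mk'_surjective N)]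
  rw [← h1, hp, Subgroup.map_top_of_surjective _ (QuotientGroup.mk'_surjective N)]

theorem card_mul_zmod (k f : ℕ) : Nat.card (Multiplicative (ZMod k × ZMod f)) = k * f := by
  have : Nat.card (Multiplicative (ZMod k × ZMod f)) = Nat.card (ZMod k × ZMod f) :=
    Nat.card_congr Multiplicative.toAdd
  rw [this, Nat.card_prod, Nat.card_zmod, Nat.card_zmod]

end Cfsg.Agent.Helper14.AutCount
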