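import Mathlib
import Cfsg.Agent.Lib.Helper43.OGam5
import Cfsg.Agent.Lib.Helper40.AutPOmBasic
import Cfsg.Agent.Lib.Helper14.AutCount

set_option autoImplicit false
set_option linter.unusedSectionVars false

/-!
# `|Aut(PΩ(Q))| = |Aut F| · |PGO(Q)-image|` when `Aut(PΩ(Q)) = PΓO(Q)` and every field automorphism
is realised by a semisimilarity.
-/

namespace Cfsg.Agent.Helper14.OrthAutCount

open Matrix QuadraticMap Cfsg.Agent.Helper13 Cfsg.Agent.Helper43 Cfsg.Agent.Helper5.OrthAut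
open Cfsg.Agent.Helper43.OGam Cfsg.Agent.Helper16.OSemiAut

section sig

variable {F : Type*} [Field F] {ι : Type} [Fintype ι] [DecidableEq ι] [Nonempty ι]
  (Q : (ι → F) → F)

theorem sig_unique (L : GamO Q) (σ : F ≃+* F)
    (hσ : ∀ (c : F) (x : ι → F),
      (L : Equiv.Perm (ι → F)) (c • x) = σ c • (L : Equiv.Perm (ι → F)) x) :
    sig Q L = σ := by
  obtain ⟨i₀⟩ := (inferInstance : Nonempty ι)
  apply RingEquiv.ext
  intro c
  obtain ⟨x, hx⟩ := (L : Equiv.Perm (ι → F)).surjective (Pi.single i₀ 1)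
  have h1 : toAdd Q L (c • x) = sig Q L c • toAdd Q L x := sig_spec Q L c x
  have h2 := hσ c x
  rw [toAdd_apply, toAdd_apply, h2, hx] at h1
  have h3 := congrFun h1 i₀
  simpa using h3.symm

/-- the field automorphism of a semisimilarity, as a homomorphism -/
noncomputable def sigHom : GamO Q →* RingAut F where
  toFun L := sig Q L
  map_one' := by
    apply sig_unique
    intro c x
    rfl
  map_mul' L M := by
    apply sig_unique
    intro c x
    show (L : Equiv.Perm (ι → F)) ((M : Equiv.Perm (ι → F)) (c • x)) = _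
    have hM : (M : Equiv.Perm (ι → F)) (c • x) = sig Q M c • (M : Equiv.Perm (ι → F)) x :=
      sig_spec Q M c x
    have hL : ∀ (d : F) (y : ι → F), (L : Equiv.Perm (ι → F)) (d • y) =
        sig Q L d • (L : Equiv.Perm (ι → F)) y := sig_spec Q L
    rw [hM, hL]
    rfl

theorem sigHom_ker : (sigHom Q).ker = Lin Q := by
  ext L
  rw [MonoidHom.mem_ker, mem_Lin]
  constructor
  · intro h c x
    have h1 : (L : Equiv.Perm (ι → F)) (c • x) = sig Q L c • (L : Equiv.Perm (ι → F)) x :=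
      sig_spec Q L c x
    have h2 : sig Q L = 1 := h
    rw [h1, h2]
    rfl
  · intro h
    exact sig_unique Q L 1 h

theorem sigHom_surjective
    (hσ : ∀ σ : F ≃+* F, ∃ g : GL ι F, Cfsg.IsSemisimilarityPair Q g σ) :
    Function.Surjective (sigHom Q) := by
  intro σ
  obtain ⟨g, hg⟩ := hσ σ
  refine ⟨⟨pairL g σ, pairL_mem Q hg⟩, ?_⟩
  apply sig_unique
  intro c x
  exact pairL_smul g σ c x

end sig

section pgo

variable {F : Type*} [Field F] {ι : Type} [Fintype ι] [DecidableEq ι] [Nonempty ι]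
  (Q : (ι → F) → F)

/-- the linear semisimilarities induce exactly the image of the conformal orthogonal group -/
theorem map_Lin_eq_pgoAut : (Lin Q).map (Theta Q) = Cfsg.pgoAut F Q := by
  rw [Cfsg.Agent.Helper40.AutPOm.pgoAut_eq_range]
  apply le_antisymm
  · rintro β ⟨L, hL, rfl⟩
    have hlin' : ∀ (c : F) (x : ι → F),
        toAdd Q L (c • x) = (RingEquiv.refl F) c • toAdd Q L x := hL
    set g : GL ι F := colGL (RingEquiv.refl F) (toAdd Q L) hlin' with hgdef
    have hg : ∀ x, (L : Equiv.Perm (ι → F)) x = (g : Matrix ι ι F) *ᵥ x := by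
      intro x
      have := colMat_mulVec (RingEquiv.refl F) (toAdd Q L) hlin' x
      rw [hgdef, colGL_coe]
      exact this.symm
    have hsig : sig Q L = 1 := sig_unique Q L 1 hL
    have hsim : ∀ x, Q ((g : Matrix ι ι F) *ᵥ x) = (mu Q L : F) * Q x := by
      intro x
      rw [← hg]
      have := mu_spec Q L x
      rw [hsig, toAdd_apply] at this
      exact this
    have hgGO : g ∈ Cfsg.Geo.quadSimilarityGroup (F := F) Q := ⟨mu Q L, hsim⟩
    refine ⟨⟨g, hgGO⟩, ?_⟩
    rw [Cfsg.Agent.Helper40.AutPOm.PhiGO_apply]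
    symm
    apply Theta_eq_Phi Q L ⟨g, sim_le_NO Q hgGO⟩ 1
    intro x
    rw [one_smul, hg]
  · rintro β ⟨g, rfl⟩
    have hpair : Cfsg.IsSemisimilarityPair Q (g : GL ι F) (RingEquiv.refl F) := by
      obtain ⟨c, hc⟩ := (mem_sim_iff Q (g : GL ι F)).1 g.2
      exact ⟨c, fun v => by simpa using hc v⟩
    refine ⟨⟨pairL (g : GL ι F) (RingEquiv.refl F), pairL_mem Q hpair⟩, ?_, ?_⟩
    · intro c x
      exact pairL_smul (g : GL ι F) (RingEquiv.refl F) c x
    · rw [Cfsg.Agent.Helper40.AutPOm.PhiGO_apply]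
      apply Theta_eq_Phi Q _ ⟨g.1, sim_le_NO Q g.2⟩ 1
      intro x
      rw [one_smul]
      rfl

end pgo

section count

variable {F : Type*} [Field F] [Fintype F] {ι : Type} [Fintype ι] [DecidableEq ι]
  (Q : QuadraticForm F (ι → F))

/-- `|Aut(PΩ(Q))| = |Aut F| · |PGO-image|` -/
theorem card_mulAut (hQ : (polarBilin Q).Nondegenerate) {k : ℕ}
    (e f : Fin k → (ι → F)) (hef : IsHypFamily Q e f) (hk : 3 ≤ k) (hn : 5 ≤ Fintype.card ι)
    (hgam : Cfsg.gammaPOmega F ⇑Q = ⊤)
    (hσ : ∀ σ : F ≃+* F, ∃ g : GL ι F, Cfsg.IsSemisimilarityPair (⇑Q) g σ) :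
    Nat.card (MulAut (Cfsg.POmega F ⇑Q)) =
      Nat.card (RingAut F) * Nat.card (Cfsg.pgoAut F ⇑Q) := by
  have hι : Nonempty ι := by
    by_contra h
    rw [not_nonempty_iff] at h
    rw [Fintype.card_eq_zero] at hn
    omega
  have hsurj := Theta_surjective (⇑Q) hgam
  have hker : (Theta ⇑Q).ker ≤ Lin ⇑Q := by
    intro L hL
    rw [MonoidHom.mem_ker] at hL
    have h2 := (rigid Q hQ e f hef hk hn L hL (sig (⇑Q) L) (sig_spec (⇑Q) L)).2
    intro c x
    have h1 : (L : Equiv.Perm (ι → F)) (c • x) = sig (⇑Q) L c • (L : Equiv.Perm (ι → F)) x :=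
      sig_spec (⇑Q) L c x
    rw [h1, h2]
  have hidx : ((Lin ⇑Q).map (Theta ⇑Q)).index = Nat.card (RingAut F) := by
    rw [Subgroup.index_map, sup_eq_left.mpr hker, MonoidHom.range_eq_top.mpr hsurj,
      Subgroup.index_top, mul_one, ← sigHom_ker, Subgroup.index_ker,
      MonoidHom.range_eq_top.mpr (sigHom_surjective (⇑Q) hσ), Subgroup.card_top]
  rw [← Subgroup.index_mul_card ((Lin ⇑Q).map (Theta ⇑Q)), hidx, map_Lin_eq_pgoAut]

end count

end Cfsg.Agent.Helper14.OrthAutCount
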