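import Mathlib

/-!
# Normal form of a linear map satisfying a quadratic relation `x² = α x + β`

`V ≃ ((ι → F) × (ι → F)) × (κ → F)` with `x` acting as `(a, b) ↦ (β b, a + α b)` on the first factor
and as a scalar `c` on the second.
-/

set_option autoImplicit false

namespace Cfsg.Agent.Helper14.QuadNF

open Module

universe u

variable {F : Type*} [Field F]

/-- the cyclic model: `(a, b) ↦ (β b, a + α b)` on `(ι → F) × (ι → F)` -/
def cyc (α β : F) (ι : Type*) : ((ι → F) × (ι → F)) →ₗ[F] ((ι → F) × (ι → F)) :=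
  LinearMap.prod (β • LinearMap.snd F (ι → F) (ι → F))
    (LinearMap.fst F (ι → F) (ι → F) + α • LinearMap.snd F (ι → F) (ι → F))

theorem cyc_apply (α β : F) (ι : Type*) (v : (ι → F) × (ι → F)) :
    cyc α β ι v = (β • v.2, v.1 + α • v.2) := rfl

theorem exists_functional {V : Type*} [AddCommGroup V] [Module F V] (u w : V)
    (h : LinearIndependent F ![u, w]) : ∃ φ : V →ₗ[F] F, φ u = 0 ∧ φ w = 1 := by
  have hw : w ∉ Submodule.span F {u} := by
    intro hmem
    obtain ⟨c, hc⟩ := Submodule.mem_span_singleton.mp hmem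
    rw [LinearIndependent.pair_iff] at h
    have := h c (-1) (by rw [hc]; simp)
    exact one_ne_zero (neg_eq_zero.mp this.2)
  obtain ⟨f, hf, hp⟩ := Submodule.exists_dual_map_eq_bot_of_notMem hw inferInstance
  have hu : f u = 0 := by
    have : f u ∈ (Submodule.span F {u}).map f :=
      Submodule.mem_map_of_mem (Submodule.mem_span_singleton_self u)
    rw [hp] at this
    exact (Submodule.mem_bot F).mp this
  refine ⟨(f w)⁻¹ • f, ?_, ?_⟩
  · simp [hu]
  · simp [hf]

theorem exists_split {V : Type u} [AddCommGroup V] [Module F V] (α β : F) (x : V →ₗ[F] V)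
    (hx : ∀ v, x (x v) = α • x v + β • v) (u : V) (hu : LinearIndependent F ![u, x u]) :
    ∃ (V' : Submodule F V) (hV' : ∀ v ∈ V', x v ∈ V') (σ : V ≃ₗ[F] (F × F) × V'),
      ∀ v, σ (x v) = ((β * (σ v).1.2, (σ v).1.1 + α * (σ v).1.2), (x.restrict hV') (σ v).2) := by
  obtain ⟨φ, hφu, hφx⟩ := exists_functional u (x u) hu
  let V' : Submodule F V := LinearMap.ker φ ⊓ LinearMap.ker (φ ∘ₗ x)
  have hV' : ∀ v ∈ V', x v ∈ V' := by
    intro v hv
    have h1 : φ v = 0 := LinearMap.mem_ker.mp hv.1
    have h2 : φ (x v) = 0 := LinearMap.mem_ker.mp hv.2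
    refine ⟨LinearMap.mem_ker.mpr h2, LinearMap.mem_ker.mpr ?_⟩
    show φ (x (x v)) = 0
    rw [hx, map_add, map_smul, map_smul, h1, h2]; simp
  have hmem : ∀ v, v - (φ (x v) - α * φ v) • u - φ v • x u ∈ V' := by
    intro v
    refine ⟨LinearMap.mem_ker.mpr ?_, LinearMap.mem_ker.mpr ?_⟩
    · rw [map_sub, map_sub, map_smul, map_smul, hφu, hφx]; simp
    · show φ (x (v - (φ (x v) - α * φ v) • u - φ v • x u)) = 0
      rw [map_sub, map_sub, map_smul, map_smul, hx, map_sub, map_sub, map_smul, map_smul, map_add,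
        map_smul, map_smul, hφu, hφx]
      simp only [smul_eq_mul]; ring
  let σ : V ≃ₗ[F] (F × F) × V' :=
    { toFun := fun v => ((φ (x v) - α * φ v, φ v), ⟨_, hmem v⟩)
      map_add' := by
        intro v w
        refine Prod.ext (Prod.ext ?_ ?_) (Subtype.ext ?_)
        · simp only [map_add, Prod.mk_add_mk]; ring
        · simp only [map_add, Prod.mk_add_mk]
        · simp only [map_add, Prod.mk_add_mk, Submodule.coe_add]
          module
      map_smul' := by
        intro c v
        refine Prod.ext (Prod.ext ?_ ?_) (Subtype.ext ?_)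
        · simp only [map_smul, smul_eq_mul, RingHom.id_apply, Prod.smul_mk]; ring
        · simp only [map_smul, smul_eq_mul, RingHom.id_apply, Prod.smul_mk]
        · simp only [map_smul, smul_eq_mul, RingHom.id_apply, Prod.smul_mk, Submodule.coe_smul]
          module
      invFun := fun m => m.1.1 • u + m.1.2 • x u + (m.2 : V)
      left_inv := by
        intro v
        simp only
        module
      right_inv := by
        rintro ⟨⟨a, b⟩, ⟨v', hv'⟩⟩
        have h1 : φ v' = 0 := LinearMap.mem_ker.mp hv'.1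
        have h2 : φ (x v') = 0 := LinearMap.mem_ker.mp hv'.2
        have e1 : φ (a • u + b • x u + v') = b := by
          rw [map_add, map_add, map_smul, map_smul, hφu, hφx, h1]; simp
        have e2 : φ (x (a • u + b • x u + v')) = a + α * b := by
          simp only [map_add, map_smul, hx, hφu, hφx, h2, smul_eq_mul]; ring
        refine Prod.ext (Prod.ext ?_ ?_) (Subtype.ext ?_)
        · simp only [e1, e2]; ring
        · simp only [e1]
        · simp only [e1, e2]
          module }
  refine ⟨V', hV', σ, ?_⟩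
  intro v
  have hσsymm : ∀ m : (F × F) × V', σ.symm m = m.1.1 • u + m.1.2 • x u + (m.2 : V) := fun _ => rfl
  have hv : v = (σ v).1.1 • u + (σ v).1.2 • x u + ((σ v).2 : V) := by
    conv_lhs => rw [← σ.symm_apply_apply v]
    rw [hσsymm]
  set a := (σ v).1.1
  set b := (σ v).1.2
  set v' := (σ v).2
  have hxv : x v = σ.symm ((β * b, a + α * b), (x.restrict hV') v') := by
    rw [hσsymm]
    conv_lhs => rw [hv]
    rw [map_add, map_add, map_smul, map_smul, hx]
    simp only [LinearMap.coe_restrict_apply]
    module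
  rw [hxv, σ.apply_symm_apply]


/-- coordinate shuffle used in the induction step -/
def rearr (ι κ : Type*) :
    ((F × F) × (((ι → F) × (ι → F)) × (κ → F))) ≃ₗ[F]
      ((Option ι → F) × (Option ι → F)) × (κ → F) where
  toFun m := ((fun o => o.elim m.1.1 m.2.1.1, fun o => o.elim m.1.2 m.2.1.2), m.2.2)
  invFun m := ((m.1.1 none, m.1.2 none), ((fun i => m.1.1 (some i), fun i => m.1.2 (some i)), m.2))
  map_add' := by
    intro m m'
    refine Prod.ext (Prod.ext ?_ ?_) rfl
    · funext o; cases o <;> rfl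
    · funext o; cases o <;> rfl
  map_smul' := by
    intro c m
    refine Prod.ext (Prod.ext ?_ ?_) rfl
    · funext o; cases o <;> rfl
    · funext o; cases o <;> rfl
  left_inv := by
    intro m; rfl
  right_inv := by
    intro m
    refine Prod.ext (Prod.ext ?_ ?_) rfl
    · funext o; cases o <;> rfl
    · funext o; cases o <;> rfl

theorem rearr_cyc (α β c : F) (ι κ : Type*) (p : F × F) (m : ((ι → F) × (ι → F)) × (κ → F)) :
    rearr ι κ ((β * p.2, p.1 + α * p.2), ((cyc α β ι).prodMap (c • LinearMap.id) m)) =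
      (cyc α β (Option ι)).prodMap (c • LinearMap.id) (rearr ι κ (p, m)) := by
  refine Prod.ext (Prod.ext ?_ ?_) rfl
  · funext o; cases o <;> rfl
  · funext o; cases o <;> rfl

/-- **Normal form** for `x² = α x + β`. -/
theorem exists_nf (α β : F) :
    ∀ (n : ℕ) (V : Type u) [AddCommGroup V] [Module F V] [FiniteDimensional F V] (x : V →ₗ[F] V),
      finrank F V = n → (∀ v, x (x v) = α • x v + β • v) →
      ∃ (ι : Type) (_ : Fintype ι) (κ : Type) (_ : Fintype κ) (c : F)
        (e : V ≃ₗ[F] ((ι → F) × (ι → F)) × (κ → F)),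
        (Nonempty κ → c * c = α * c + β) ∧
          ∀ v, e (x v) = (cyc α β ι).prodMap (c • LinearMap.id) (e v) := by
  intro n
  induction n using Nat.strong_induction_on with
  | _ n ih =>
  intro V _ _ _ x hn hx
  by_cases hsc : ∀ v, ¬ LinearIndependent F ![v, x v]
  · -- scalar case
    obtain ⟨c, hc⟩ := LinearMap.exists_eq_smul_id_of_forall_notLinearIndependent hsc
    let b := Module.finBasisOfFinrankEq F V hn
    haveI : Unique ((Empty → F) × (Empty → F)) := Unique.mk' _
    refine ⟨Empty, inferInstance, Fin n, inferInstance, c,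
      b.equivFun.trans (LinearEquiv.uniqueProd (R := F) (M := Fin n → F)
        (M₂ := (Empty → F) × (Empty → F))).symm, ?_, ?_⟩
    · rintro ⟨i⟩
      have hb : b i ≠ 0 := b.ne_zero i
      have h1 := hx (b i)
      rw [hc] at h1
      simp only [LinearMap.smul_apply, Module.End.one_apply, smul_smul] at h1
      rw [← add_smul] at h1
      have := sub_eq_zero.mpr h1
      rw [← sub_smul] at this
      rcases smul_eq_zero.mp this with h | h
      · exact sub_eq_zero.mp h
      · exact absurd h hb
    · intro v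
      refine Prod.ext (Subsingleton.elim _ _) ?_
      rw [hc]
      simp
  · -- split a cyclic plane off
    push Not at hsc
    obtain ⟨u, hu⟩ := hsc
    obtain ⟨V', hV', σ, hσ⟩ := exists_split α β x hx u hu
    have hfin : finrank F V = 2 + finrank F V' := by
      rw [σ.finrank_eq, Module.finrank_prod, Module.finrank_prod, Module.finrank_self]
    obtain ⟨ι, _, κ, _, c, e', hc, he'⟩ := ih (finrank F V') (by omega) V' (x.restrict hV') rfl
      (by
        intro v
        apply Subtype.ext
        simp only [LinearMap.coe_restrict_apply, Submodule.coe_add, Submodule.coe_smul]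
        exact hx v)
    refine ⟨Option ι, inferInstance, κ, inferInstance, c,
      σ.trans (((LinearEquiv.refl F (F × F)).prodCongr e').trans (rearr ι κ)), hc, ?_⟩
    intro v
    simp only [LinearEquiv.trans_apply]
    rw [hσ v]
    have : ((LinearEquiv.refl F (F × F)).prodCongr e')
        ((β * (σ v).1.2, (σ v).1.1 + α * (σ v).1.2), (x.restrict hV') (σ v).2) =
        ((β * (σ v).1.2, (σ v).1.1 + α * (σ v).1.2),
          (cyc α β ι).prodMap (c • LinearMap.id) (e' (σ v).2)) := by
      rw [LinearEquiv.prodCongr_apply, he']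
      rfl
    rw [this, rearr_cyc]
    rfl


/-- rootless case: only cyclic planes -/
theorem exists_nf_rootless (α β : F) (hroot : ∀ c : F, c * c ≠ α * c + β)
    {V : Type u} [AddCommGroup V] [Module F V] [FiniteDimensional F V] (x : V →ₗ[F] V)
    (hx : ∀ v, x (x v) = α • x v + β • v) :
    ∃ (ι : Type) (_ : Fintype ι) (e : V ≃ₗ[F] ((ι → F) × (ι → F))),
      finrank F V = 2 * Fintype.card ι ∧ ∀ v, e (x v) = cyc α β ι (e v) := by
  obtain ⟨ι, _, κ, _, c, e, hc, he⟩ := exists_nf α β (finrank F V) V x rfl hx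
  have hκ : IsEmpty κ := by
    by_contra h
    rw [not_isEmpty_iff] at h
    exact hroot c (hc h)
  haveI : Unique (κ → F) := Pi.uniqueOfIsEmpty _
  refine ⟨ι, inferInstance, e.trans (LinearEquiv.prodUnique (R := F) (M := (ι → F) × (ι → F))
    (M₂ := κ → F)), ?_, ?_⟩
  · have hκ0 : Fintype.card κ = 0 := Fintype.card_eq_zero
    rw [e.finrank_eq, Module.finrank_prod, Module.finrank_prod, Module.finrank_pi,
      Module.finrank_pi, hκ0]
    ring
  · intro v
    simp only [LinearEquiv.trans_apply, LinearEquiv.prodUnique_apply]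
    rw [he v]
    rfl

/-- two maps with the same rootless quadratic relation are conjugate -/
theorem exists_conj_of_rootless (α β : F) (hroot : ∀ c : F, c * c ≠ α * c + β)
    {V : Type u} [AddCommGroup V] [Module F V] [FiniteDimensional F V] (x y : V →ₗ[F] V)
    (hx : ∀ v, x (x v) = α • x v + β • v) (hy : ∀ v, y (y v) = α • y v + β • v) :
    ∃ A : V ≃ₗ[F] V, ∀ v, A (x v) = y (A v) := by
  obtain ⟨ι₁, _, e₁, h₁, he₁⟩ := exists_nf_rootless α β hroot x hx
  obtain ⟨ι₂, _, e₂, h₂, he₂⟩ := exists_nf_rootless α β hroot y hy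
  have hcard : Fintype.card ι₁ = Fintype.card ι₂ := by omega
  let ε : ι₂ ≃ ι₁ := (Fintype.equivOfCardEq hcard).symm
  let G : ((ι₁ → F) × (ι₁ → F)) ≃ₗ[F] ((ι₂ → F) × (ι₂ → F)) :=
    (LinearEquiv.funCongrLeft F F ε).prodCongr (LinearEquiv.funCongrLeft F F ε)
  have hG : ∀ m, G (cyc α β ι₁ m) = cyc α β ι₂ (G m) := by
    intro m
    rfl
  refine ⟨(e₁.trans G).trans e₂.symm, ?_⟩
  intro v
  simp only [LinearEquiv.trans_apply]
  rw [he₁, hG]
  apply e₂.injective
  rw [he₂, LinearEquiv.apply_symm_apply, LinearEquiv.apply_symm_apply]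

end Cfsg.Agent.Helper14.QuadNF
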