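import Mathlib
import Cfsg.Prelude.Def_GeometricClasses
import Cfsg.Agent.S0752
import Cfsg.Agent.Lib.Helper14.QuadNF

/-!
# Linear maps that are similarities of some nondegenerate alternating form
-/

set_option autoImplicit false

namespace Cfsg.Agent.Helper14.SimForm

open Module Cfsg.Agent.Helper14.QuadNF

variable {F : Type*} [Field F]

/-- `x` is a similarity with multiplier `μ` of some nondegenerate alternating form -/
def HasSim {V : Type*} [AddCommGroup V] [Module F V] (x : V →ₗ[F] V) (μ : F) : Prop :=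
  ∃ g : LinearMap.BilinForm F V, (∀ u, g u u = 0) ∧ (∀ u, (∀ v, g u v = 0) → u = 0) ∧
    ∀ u v, g (x u) (x v) = μ * g u v

theorem hasSim_congr {V W : Type*} [AddCommGroup V] [Module F V] [AddCommGroup W] [Module F W]
    (e : V ≃ₗ[F] W) (x : V →ₗ[F] V) (y : W →ₗ[F] W) (h : ∀ v, e (x v) = y (e v)) {μ : F}
    (hx : HasSim x μ) : HasSim y μ := by
  obtain ⟨g, h1, h2, h3⟩ := hx
  have hy : ∀ w, e.symm (y w) = x (e.symm w) := by
    intro w
    apply e.injective
    rw [h, e.apply_symm_apply, e.apply_symm_apply]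
  refine ⟨g.comp (e.symm : W →ₗ[F] V) (e.symm : W →ₗ[F] V), ?_, ?_, ?_⟩
  · intro u
    simp only [LinearMap.BilinForm.comp_apply, LinearEquiv.coe_coe]
    exact h1 _
  · intro u hu
    have : e.symm u = 0 := by
      apply h2
      intro v
      have := hu (e v)
      simpa only [LinearMap.BilinForm.comp_apply, LinearEquiv.coe_coe, e.symm_apply_apply] using this
    exact e.symm.map_eq_zero_iff.mp this
  · intro u v
    simp only [LinearMap.BilinForm.comp_apply, LinearEquiv.coe_coe]
    rw [hy, hy, h3]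

theorem hasSim_prod {V W : Type*} [AddCommGroup V] [Module F V] [AddCommGroup W] [Module F W]
    (x : V →ₗ[F] V) (y : W →ₗ[F] W) {μ : F} (hx : HasSim x μ) (hy : HasSim y μ) :
    HasSim (x.prodMap y) μ := by
  obtain ⟨g, h1, h2, h3⟩ := hx
  obtain ⟨g', h1', h2', h3'⟩ := hy
  refine ⟨g.comp (LinearMap.fst F V W) (LinearMap.fst F V W) +
    g'.comp (LinearMap.snd F V W) (LinearMap.snd F V W), ?_, ?_, ?_⟩
  · intro u
    simp only [LinearMap.add_apply, LinearMap.BilinForm.comp_apply, LinearMap.fst_apply,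
      LinearMap.snd_apply, h1, h1', add_zero]
  · intro u hu
    have e1 : u.1 = 0 := by
      apply h2
      intro v
      have := hu (v, 0)
      simpa only [LinearMap.add_apply, LinearMap.BilinForm.comp_apply, LinearMap.fst_apply,
        LinearMap.snd_apply, map_zero, add_zero] using this
    have e2 : u.2 = 0 := by
      apply h2'
      intro v
      have := hu (0, v)
      simpa only [LinearMap.add_apply, LinearMap.BilinForm.comp_apply, LinearMap.fst_apply,
        LinearMap.snd_apply, map_zero, zero_add] using this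
    exact Prod.ext e1 e2
  · intro u v
    simp only [LinearMap.add_apply, LinearMap.BilinForm.comp_apply, LinearMap.fst_apply,
      LinearMap.snd_apply, LinearMap.prodMap_apply, h3, h3']
    ring

/-- the standard alternating form on `(ι → F) × (ι → F)` -/
def stdAlt (ι : Type*) [Fintype ι] : LinearMap.BilinForm F ((ι → F) × (ι → F)) :=
  LinearMap.mk₂ F (fun u v => ∑ i, (u.1 i * v.2 i - u.2 i * v.1 i))
    (by
      intro u u' v
      rw [← Finset.sum_add_distrib]
      refine Finset.sum_congr rfl fun i _ => ?_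
      simp only [Prod.fst_add, Prod.snd_add, Pi.add_apply]; ring)
    (by
      intro c u v
      rw [smul_eq_mul, Finset.mul_sum]
      refine Finset.sum_congr rfl fun i _ => ?_
      simp only [Prod.smul_fst, Prod.smul_snd, Pi.smul_apply, smul_eq_mul]; ring)
    (by
      intro u v v'
      rw [← Finset.sum_add_distrib]
      refine Finset.sum_congr rfl fun i _ => ?_
      simp only [Prod.fst_add, Prod.snd_add, Pi.add_apply]; ring)
    (by
      intro c u v
      rw [smul_eq_mul, Finset.mul_sum]
      refine Finset.sum_congr rfl fun i _ => ?_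
      simp only [Prod.smul_fst, Prod.smul_snd, Pi.smul_apply, smul_eq_mul]; ring)

theorem stdAlt_apply (ι : Type*) [Fintype ι] (u v : (ι → F) × (ι → F)) :
    stdAlt ι u v = ∑ i, (u.1 i * v.2 i - u.2 i * v.1 i) := rfl

theorem stdAlt_self (ι : Type*) [Fintype ι] (u : (ι → F) × (ι → F)) : stdAlt ι u u = 0 := by
  rw [stdAlt_apply]
  refine Finset.sum_eq_zero fun i _ => ?_
  ring

theorem stdAlt_nondeg (ι : Type*) [Fintype ι] [DecidableEq ι] (u : (ι → F) × (ι → F))
    (hu : ∀ v, stdAlt ι u v = 0) : u = 0 := by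
  refine Prod.ext (funext fun i => ?_) (funext fun i => ?_)
  · have := hu (0, Pi.single i 1)
    rw [stdAlt_apply] at this
    simpa [Pi.single_apply] using this
  · have := hu (Pi.single i 1, 0)
    rw [stdAlt_apply] at this
    simpa [Pi.single_apply] using this

theorem hasSim_cyc (z : F) (ι : Type*) [Fintype ι] : HasSim (cyc 0 z ι) (-z) := by
  classical
  refine ⟨stdAlt ι, stdAlt_self ι, stdAlt_nondeg ι, ?_⟩
  intro u v
  rw [stdAlt_apply, stdAlt_apply, Finset.mul_sum]
  refine Finset.sum_congr rfl fun i _ => ?_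
  simp only [cyc_apply, zero_smul, add_zero, Pi.smul_apply, smul_eq_mul]
  ring

theorem hasSim_scalar_model (c : F) (ι : Type*) [Fintype ι] :
    HasSim (c • (LinearMap.id : ((ι → F) × (ι → F)) →ₗ[F] ((ι → F) × (ι → F)))) (c * c) := by
  classical
  refine ⟨stdAlt ι, stdAlt_self ι, stdAlt_nondeg ι, ?_⟩
  intro u v
  simp only [LinearMap.smul_apply, LinearMap.id_apply, map_smul, LinearMap.smul_apply, smul_eq_mul]
  ring

theorem hasSim_of_subsingleton {V : Type*} [AddCommGroup V] [Module F V] [Subsingleton V]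
    (x : V →ₗ[F] V) (μ : F) : HasSim x μ :=
  ⟨0, fun _ => rfl, fun u _ => Subsingleton.elim u 0, fun u v => by simp⟩

/-- a scalar map on an even-dimensional space -/
theorem hasSim_scalar {V : Type*} [AddCommGroup V] [Module F V] [FiniteDimensional F V]
    (c : F) (k : ℕ) (hV : finrank F V = 2 * k) :
    HasSim (c • (LinearMap.id : V →ₗ[F] V)) (c * c) := by
  have hfin : finrank F V = finrank F ((Fin k → F) × (Fin k → F)) := by
    rw [hV, Module.finrank_prod, Module.finrank_pi, Fintype.card_fin]; ring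
  let e : ((Fin k → F) × (Fin k → F)) ≃ₗ[F] V := (LinearEquiv.ofFinrankEq _ _ hfin).symm
  refine hasSim_congr e _ _ ?_ (hasSim_scalar_model c (Fin k))
  intro v
  simp


/-- a symplectic basis of an abstract nondegenerate alternating space -/
theorem exists_symp_basis {W : Type*} [AddCommGroup W] [Module F W] [FiniteDimensional F W]
    (B : LinearMap.BilinForm F W) (hA : ∀ x, B x x = 0) (hnd : ∀ x, (∀ y, B x y = 0) → x = 0)
    (m : ℕ) (hdim : finrank F W = 2 * m) :
    ∃ b : Basis (Fin m ⊕ Fin m) F W, ∀ x x', B (b x) (b x') = Matrix.J (Fin m) F x x' := by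
  have hAlt : B.IsAlt := hA
  obtain ⟨m', k', b₀, h1, h2, h3, h4⟩ := Cfsg.Agent.S0752.result B hAlt
  have hk' : k' = 0 := by
    by_contra hne
    have hpos : 0 < k' := Nat.pos_of_ne_zero hne
    have h0 : b₀ (Sum.inr ⟨0, hpos⟩) = 0 := by
      apply hnd
      intro v
      exact h4 ⟨0, hpos⟩ v
    exact b₀.ne_zero _ h0
  subst hk'
  have hm' : m' = m := by
    have := Module.finrank_eq_card_basis b₀
    rw [hdim] at this
    simp only [Fintype.card_sum, Fintype.card_fin] at this
    omega
  subst hm'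
  refine ⟨b₀.reindex ((Equiv.sumEmpty _ _).trans (Equiv.sumComm _ _)), ?_⟩
  intro x x'
  rw [Basis.reindex_apply, Basis.reindex_apply]
  rcases x with i | i <;> rcases x' with j | j
  · simp only [Equiv.symm_trans_apply, Equiv.sumComm_symm, Equiv.sumComm_apply, Sum.swap_inl,
      Equiv.sumEmpty_symm_apply, Matrix.J, Matrix.fromBlocks_apply₁₁, Matrix.zero_apply]
    exact h3 i j
  · simp only [Equiv.symm_trans_apply, Equiv.sumComm_symm, Equiv.sumComm_apply, Sum.swap_inl,
      Sum.swap_inr, Equiv.sumEmpty_symm_apply, Matrix.J, Matrix.fromBlocks_apply₁₂,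
      Matrix.neg_apply, Matrix.one_apply]
    rw [← hAlt.neg_eq, h1 j i]
    simp [eq_comm]
  · simp only [Equiv.symm_trans_apply, Equiv.sumComm_symm, Equiv.sumComm_apply, Sum.swap_inl,
      Sum.swap_inr, Equiv.sumEmpty_symm_apply, Matrix.J, Matrix.fromBlocks_apply₂₁,
      Matrix.one_apply]
    rw [h1 i j]
  · simp only [Equiv.symm_trans_apply, Equiv.sumComm_symm, Equiv.sumComm_apply, Sum.swap_inr,
      Equiv.sumEmpty_symm_apply, Matrix.J, Matrix.fromBlocks_apply₂₂, Matrix.zero_apply]
    exact h2 i j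

/-- two nondegenerate alternating forms on spaces of the same even dimension are equivalent -/
theorem exists_equiv_of_alt {V W : Type*} [AddCommGroup V] [Module F V] [FiniteDimensional F V]
    [AddCommGroup W] [Module F W] [FiniteDimensional F W]
    (g : LinearMap.BilinForm F V) (hg1 : ∀ x, g x x = 0) (hg2 : ∀ x, (∀ y, g x y = 0) → x = 0)
    (B : LinearMap.BilinForm F W) (hB1 : ∀ x, B x x = 0) (hB2 : ∀ x, (∀ y, B x y = 0) → x = 0)
    (m : ℕ) (hV : finrank F V = 2 * m) (hW : finrank F W = 2 * m) :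
    ∃ A : V ≃ₗ[F] W, ∀ u v, B (A u) (A v) = g u v := by
  obtain ⟨bg, hbg⟩ := exists_symp_basis g hg1 hg2 m hV
  obtain ⟨bB, hbB⟩ := exists_symp_basis B hB1 hB2 m hW
  let A : V ≃ₗ[F] W := bg.equiv bB (Equiv.refl _)
  have hA : ∀ s, A (bg s) = bB s := by
    intro s
    simp [A]
  refine ⟨A, ?_⟩
  have : B.comp (A : V →ₗ[F] W) (A : V →ₗ[F] W) = g := by
    apply LinearMap.BilinForm.ext_basis bg
    intro i j
    simp only [LinearMap.BilinForm.comp_apply, LinearEquiv.coe_coe, hA, hbg, hbB]
  intro u v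
  rw [← this]
  rfl

open Cfsg.Geo in
/-- transfer of a similarity to a given symplectic form on `F^n` -/
theorem exists_conj_sim {n m : ℕ} (hn : n = 2 * m) (f : (Fin n → F) → (Fin n → F) → F)
    (hf : IsSymplecticForm f) (X : (Fin n → F) →ₗ[F] (Fin n → F)) (μ : F) (h : HasSim X μ) :
    ∃ A : (Fin n → F) ≃ₗ[F] (Fin n → F),
      ∀ u v, f (A (X (A.symm u))) (A (X (A.symm v))) = μ * f u v := by
  obtain ⟨g, hg1, hg2, hg3⟩ := h
  let B : LinearMap.BilinForm F (Fin n → F) :=
    LinearMap.mk₂ F f hf.bilinear.add_left (fun c x v => by rw [hf.bilinear.smul_left, smul_eq_mul])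
      hf.bilinear.add_right (fun c v x => by rw [hf.bilinear.smul_right, smul_eq_mul])
  have hB : ∀ u v, B u v = f u v := fun _ _ => rfl
  have hfin : finrank F (Fin n → F) = 2 * m := by rw [Module.finrank_pi, Fintype.card_fin, hn]
  obtain ⟨A, hA⟩ := exists_equiv_of_alt g hg1 hg2 B (fun x => hf.alternating x)
    (by
      intro x hx
      by_contra hne
      obtain ⟨-, y, hy⟩ := hf.nondegenerate x hne
      exact hy (hx y)) m hfin hfin
  refine ⟨A, ?_⟩
  intro u v
  rw [← hB, hA, hg3, ← hA, hB, A.apply_symm_apply, A.apply_symm_apply]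

end Cfsg.Agent.Helper14.SimForm
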