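import Mathlib

set_option autoImplicit false

/-!
# Anticommuting pairs of operators force the dimension to be divisible by `2 ^ k`
-/

namespace Cfsg.Agent.Helper14.AntiComm

open Module

section Halving

variable {K : Type*} [Field K] {W : Type*} [AddCommGroup W] [Module K W]

/-- eigenspaces of an operator `x` with `x * x = (lam * lam) • 1` -/
def eig (x : Module.End K W) (lam : K) : Submodule K W := LinearMap.ker (x - lam • 1)

theorem mem_eig (x : Module.End K W) (lam : K) (v : W) : v ∈ eig x lam ↔ x v = lam • v := by
  rw [eig, LinearMap.mem_ker, LinearMap.sub_apply, LinearMap.smul_apply, Module.End.one_apply,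
    sub_eq_zero]

theorem isCompl_eig (h2 : (2 : K) ≠ 0) (x : Module.End K W) (lam : K) (hlam : lam ≠ 0)
    (hx : ∀ v, x (x v) = (lam * lam) • v) : IsCompl (eig x lam) (eig x (-lam)) := by
  have h2l : (2 * lam) ≠ 0 := mul_ne_zero h2 hlam
  constructor
  · rw [Submodule.disjoint_def]
    intro v hv hv'
    rw [mem_eig] at hv hv'
    have : (2 * lam) • v = 0 := by
      have e : lam • v = (-lam) • v := by rw [← hv, hv']
      rw [neg_smul] at e
      rw [mul_smul, two_smul]
      nth_rewrite 1 [e]
      exact neg_add_cancel _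
    exact (smul_eq_zero.mp this).resolve_left h2l
  · rw [codisjoint_iff, eq_top_iff]
    intro v _
    have e : v = (2 * lam)⁻¹ • (x v + lam • v) + (2 * lam)⁻¹ • (-(x v) + lam • v) := by
      rw [← smul_add]
      have : x v + lam • v + (-(x v) + lam • v) = (2 * lam) • v := by
        rw [mul_smul, two_smul]; abel
      rw [this, smul_smul, inv_mul_cancel₀ h2l, one_smul]
    rw [e]
    apply Submodule.add_mem_sup
    · apply Submodule.smul_mem
      rw [mem_eig, map_add, map_smul, hx, smul_add, mul_smul]
      abel
    · apply Submodule.smul_mem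
      rw [mem_eig, map_add, map_smul, map_neg, hx, smul_add, neg_smul, neg_smul, mul_smul,
        smul_neg, neg_neg]
      abel

theorem finrank_eig_le [FiniteDimensional K W] (x y : Module.End K W) (lam : K)
    (hxy : ∀ v, x (y v) = -(y (x v))) (hy : Function.Injective y) :
    finrank K (eig x lam) ≤ finrank K (eig x (-lam)) := by
  have hmaps : ∀ v ∈ eig x lam, y v ∈ eig x (-lam) := by
    intro v hv
    rw [mem_eig] at hv ⊢
    rw [hxy, hv, map_smul, neg_smul]
  apply LinearMap.finrank_le_finrank_of_injective (f := y.restrict hmaps)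
  intro a b hab
  apply Subtype.ext
  apply hy
  have := congrArg Subtype.val hab
  simpa using this

theorem finrank_eq_two_mul [FiniteDimensional K W] (h2 : (2 : K) ≠ 0) (x y : Module.End K W)
    (lam : K) (hlam : lam ≠ 0) (hx : ∀ v, x (x v) = (lam * lam) • v)
    (hxy : ∀ v, x (y v) = -(y (x v))) (hy : Function.Injective y) :
    finrank K W = 2 * finrank K (eig x lam) := by
  have h1 := finrank_eig_le x y lam hxy hy
  have h3 := finrank_eig_le x y (-lam) hxy hy
  rw [neg_neg] at h3
  have h4 := Submodule.finrank_add_eq_of_isCompl (isCompl_eig h2 x lam hlam hx)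
  omega

/-- the hypotheses on a system of `k` anticommuting pairs -/
structure IsSystem {k : ℕ} (x y : Fin k → Module.End K W) : Prop where
  sqx : ∀ j, (∀ v, x j (x j v) = v) ∨ (∀ v, x j (x j v) = -v)
  sqy : ∀ j, (∀ v, y j (y j v) = v) ∨ (∀ v, y j (y j v) = -v)
  anti : ∀ j v, x j (y j v) = -(y j (x j v))
  cxx : ∀ j l, j ≠ l → ∀ v, x j (x l v) = x l (x j v)
  cxy : ∀ j l, j ≠ l → ∀ v, x j (y l v) = y l (x j v)
  cyy : ∀ j l, j ≠ l → ∀ v, y j (y l v) = y l (y j v)

theorem injective_of_sq (y : Module.End K W)
    (h : (∀ v, y (y v) = v) ∨ (∀ v, y (y v) = -v)) : Function.Injective y := by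
  intro a b hab
  rcases h with h | h
  · rw [← h a, ← h b, hab]
  · have := congrArg y hab
    rw [h a, h b] at this
    exact neg_injective this

end Halving

theorem two_pow_dvd_finrank {K : Type*} [Field K] (h2 : (2 : K) ≠ 0) (i : K) (hi : i * i = -1) :
    ∀ (k : ℕ) (W : Type*) [AddCommGroup W] [Module K W] [FiniteDimensional K W]
      (x y : Fin k → Module.End K W), IsSystem x y → 2 ^ k ∣ finrank K W := by
  intro k
  induction k with
  | zero => intro W _ _ _ x y _; simp
  | succ k ih =>
    intro W _ _ _ x y hS
    -- choose the eigenvalue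
    obtain ⟨lam, hlam, hx⟩ : ∃ lam : K, lam ≠ 0 ∧ ∀ v, x 0 (x 0 v) = (lam * lam) • v := by
      rcases hS.sqx 0 with h | h
      · exact ⟨1, one_ne_zero, fun v => by rw [h v]; simp⟩
      · refine ⟨i, ?_, fun v => by rw [h v, hi]; simp⟩
        rintro rfl
        simp at hi
    have hy := injective_of_sq (y 0) (hS.sqy 0)
    have hdim := finrank_eq_two_mul h2 (x 0) (y 0) lam hlam hx (hS.anti 0) hy
    -- restrict the remaining operators
    have hmx : ∀ j : Fin k, ∀ v ∈ eig (x 0) lam, x j.succ v ∈ eig (x 0) lam := by
      intro j v hv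
      rw [mem_eig] at hv ⊢
      rw [hS.cxx 0 j.succ (Fin.succ_ne_zero j).symm, hv, map_smul]
    have hmy : ∀ j : Fin k, ∀ v ∈ eig (x 0) lam, y j.succ v ∈ eig (x 0) lam := by
      intro j v hv
      rw [mem_eig] at hv ⊢
      rw [hS.cxy 0 j.succ (Fin.succ_ne_zero j).symm, hv, map_smul]
    have hS' : IsSystem (fun j : Fin k => (x j.succ).restrict (hmx j))
        (fun j : Fin k => (y j.succ).restrict (hmy j)) := by
      constructor
      · intro j
        rcases hS.sqx j.succ with h | h
        · left; intro v; apply Subtype.ext; simp [h]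
        · right; intro v; apply Subtype.ext; simp [h]
      · intro j
        rcases hS.sqy j.succ with h | h
        · left; intro v; apply Subtype.ext; simp [h]
        · right; intro v; apply Subtype.ext; simp [h]
      · intro j v; apply Subtype.ext; simp [hS.anti j.succ]
      · intro j l hjl v; apply Subtype.ext
        have := hS.cxx j.succ l.succ (fun h => hjl (Fin.succ_injective _ h)) v
        simpa using this
      · intro j l hjl v; apply Subtype.ext
        have := hS.cxy j.succ l.succ (fun h => hjl (Fin.succ_injective _ h)) v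
        simpa using this
      · intro j l hjl v; apply Subtype.ext
        have := hS.cyy j.succ l.succ (fun h => hjl (Fin.succ_injective _ h)) v
        simpa using this
    have := ih (eig (x 0) lam) _ _ hS'
    rw [hdim, pow_succ, mul_comm]
    exact Nat.mul_dvd_mul_left 2 this

/-- matrix version: a system of `k` anticommuting pairs of matrices with squares `± 1` forces
`2 ^ k` to divide the size -/
theorem two_pow_dvd_card {F : Type*} [Field F] (h2 : (2 : F) ≠ 0) {ι : Type*} [Fintype ι]
    [DecidableEq ι] {k : ℕ} (X Y : Fin k → Matrix ι ι F)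
    (sqx : ∀ j, X j * X j = 1 ∨ X j * X j = -1) (sqy : ∀ j, Y j * Y j = 1 ∨ Y j * Y j = -1)
    (anti : ∀ j, X j * Y j = -(Y j * X j))
    (cxx : ∀ j l, j ≠ l → X j * X l = X l * X j)
    (cxy : ∀ j l, j ≠ l → X j * Y l = Y l * X j)
    (cyy : ∀ j l, j ≠ l → Y j * Y l = Y l * Y j) : 2 ^ k ∣ Fintype.card ι := by
  classical
  let K := AlgebraicClosure F
  let f : Matrix ι ι F →+* Matrix ι ι K := (algebraMap F K).mapMatrix
  have h2K : (2 : K) ≠ 0 := by
    have : (2 : K) = algebraMap F K 2 := (map_ofNat (algebraMap F K) 2).symm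
    rw [this]
    exact (map_ne_zero_iff _ (algebraMap F K).injective).mpr h2
  obtain ⟨i, hi⟩ := IsAlgClosed.exists_eq_mul_self (-1 : K)
  have key : ∀ A B : Matrix ι ι K, ∀ v : ι → K,
      Matrix.toLin' A (Matrix.toLin' B v) = Matrix.toLin' (A * B) v := by
    intro A B v
    rw [Matrix.toLin'_mul, LinearMap.comp_apply]
  have hS : IsSystem (K := K) (W := ι → K) (fun j => Matrix.toLin' (f (X j)))
      (fun j => Matrix.toLin' (f (Y j))) := by
    constructor
    · intro j
      rcases sqx j with h | h
      · left; intro v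
        rw [key, ← map_mul, h, map_one, Matrix.toLin'_one, LinearMap.id_apply]
      · right; intro v
        rw [key, ← map_mul, h, map_neg, map_one, map_neg, Matrix.toLin'_one, LinearMap.neg_apply,
          LinearMap.id_apply]
    · intro j
      rcases sqy j with h | h
      · left; intro v
        rw [key, ← map_mul, h, map_one, Matrix.toLin'_one, LinearMap.id_apply]
      · right; intro v
        rw [key, ← map_mul, h, map_neg, map_one, map_neg, Matrix.toLin'_one, LinearMap.neg_apply,
          LinearMap.id_apply]
    · intro j v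
      rw [key, key, ← map_mul, ← map_mul, anti j, map_neg, map_neg, LinearMap.neg_apply]
    · intro j l hjl v
      rw [key, key, ← map_mul, ← map_mul, cxx j l hjl]
    · intro j l hjl v
      rw [key, key, ← map_mul, ← map_mul, cxy j l hjl]
    · intro j l hjl v
      rw [key, key, ← map_mul, ← map_mul, cyy j l hjl]
  have := two_pow_dvd_finrank h2K i hi.symm k (ι → K) _ _ hS
  rwa [Module.finrank_fintype_fun_eq_card] at this

end Cfsg.Agent.Helper14.AntiComm
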