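import Mathlib
import Cfsg.Prelude.Def_OddOrder
import Cfsg.Prelude.Def_OddOrderLocal
import Cfsg.Agent.Lib.Helper1.ZCoprime

set_option autoImplicit false

namespace Cfsg.Agent.Helper14.BG139Req

/-- (R2) coprime action on an abelian group: `[A,B] = A` implies `C_A(B) = 1`. -/
theorem inf_centralizer_eq_bot_of_commutator_eq {G : Type*} [Group G] [Finite G] (A B : Subgroup G)
    (hA : IsMulCommutative A) (hBA : B ≤ Subgroup.normalizer (A : Set G))
    (hcop : (Nat.card A).Coprime (Nat.card B)) (h : ⁅A, B⁆ = A) :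
    A ⊓ Subgroup.centralizer (B : Set G) = ⊥ := by
  have key := Cfsg.Agent.Helper1.ZCoprime.commutator_inf_centralizer_eq_bot B A hBA hcop.symm
  rw [h] at key
  exact key

end Cfsg.Agent.Helper14.BG139Req
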