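import Mathlib
import Cfsg.Agent.Lib.Helper42.SemiConj5
import Cfsg.Agent.Lib.Helper42.SemiConj6

set_option autoImplicit false

/-!
Kronecker products `A ⊗ₖ B` acting on `Fin a × Fin b → F`: a large eigenspace forces the first
factor to be scalar, and `1 ⊗ₖ N` has primary dimensions divisible by `a`.
-/

namespace Cfsg.Agent.Helper14.TensorStab

open Matrix Module Polynomial
open scoped Kronecker

universe u

variable {F : Type u} [Field F] {a b : ℕ}

/-- pure tensors -/
def pure (u : Fin a → F) (w : Fin b → F) : Fin a × Fin b → F := fun ij => u ij.1 * w ij.2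

theorem kron_mulVec_pure (A : Matrix (Fin a) (Fin a) F) (B : Matrix (Fin b) (Fin b) F)
    (u : Fin a → F) (w : Fin b → F) :
    (A ⊗ₖ B) *ᵥ pure u w = pure (A *ᵥ u) (B *ᵥ w) := by
  funext ⟨i, j⟩
  simp only [Matrix.mulVec, dotProduct, pure, Matrix.kroneckerMap_apply]
  rw [← Finset.univ_product_univ, Finset.sum_product, Finset.sum_mul_sum]
  apply Finset.sum_congr rfl
  intro i' _
  apply Finset.sum_congr rfl
  intro j' _
  ring

/-- `w ↦ u ⊗ w` -/
def pureR (u : Fin a → F) : (Fin b → F) →ₗ[F] (Fin a × Fin b → F) where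
  toFun w := pure u w
  map_add' w w' := by
    funext ij
    simp only [pure, Pi.add_apply]
    ring
  map_smul' c w := by
    funext ij
    simp only [pure, Pi.smul_apply, smul_eq_mul, RingHom.id_apply]
    ring

theorem pureR_injective (u : Fin a → F) (hu : u ≠ 0) : Function.Injective (pureR (b := b) u) := by
  rw [← LinearMap.ker_eq_bot, LinearMap.ker_eq_bot']
  intro w hw
  obtain ⟨i, hi⟩ : ∃ i, u i ≠ 0 := by
    by_contra h
    push Not at h
    exact hu (funext h)
  funext j
  have := congrFun hw (i, j)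
  simp only [pureR, LinearMap.coe_mk, AddHom.coe_mk, pure, Pi.zero_apply] at this
  exact (mul_eq_zero.mp this).resolve_left hi

theorem finrank_W : finrank F (Fin a × Fin b → F) = a * b := by
  rw [Module.finrank_fintype_fun_eq_card, Fintype.card_prod, Fintype.card_fin, Fintype.card_fin]

/-- a large eigenspace of `A ⊗ₖ B` forces every vector to be an eigenvector of `A` -/
theorem eigen_of_large_ker (A : Matrix (Fin a) (Fin a) F) (B : Matrix (Fin b) (Fin b) F)
    (hB : ∀ w : Fin b → F, B *ᵥ w = 0 → w = 0) (l : F)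
    (hlarge : a * b < finrank F (LinearMap.ker (Matrix.toLin' (A ⊗ₖ B) - l • 1)) + b)
    (u : Fin a → F) (hu : u ≠ 0) : ∃ c : F, A *ᵥ u = c • u := by
  set K := LinearMap.ker (Matrix.toLin' (A ⊗ₖ B) - l • 1) with hK
  set R := LinearMap.range (pureR (b := b) u) with hR
  have hRdim : finrank F R = b := by
    rw [hR, LinearMap.finrank_range_of_inj (pureR_injective u hu), Module.finrank_fin_fun]
  have h1 := Submodule.finrank_sup_add_finrank_inf_eq K R
  have h2 : finrank F ↥(K ⊔ R) ≤ a * b := by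
    have := Submodule.finrank_le (K ⊔ R)
    rw [finrank_W] at this
    exact this
  have hpos : 0 < finrank F ↥(K ⊓ R) := by omega
  obtain ⟨⟨x, hx⟩, hx0⟩ := Module.finrank_pos_iff_exists_ne_zero.mp hpos
  have hx0' : x ≠ 0 := fun h => hx0 (Subtype.ext h)
  obtain ⟨hxK, hxR⟩ := Submodule.mem_inf.mp hx
  obtain ⟨w, rfl⟩ := LinearMap.mem_range.mp hxR
  have hw0 : w ≠ 0 := by
    rintro rfl
    exact hx0' (map_zero _)
  rw [hK, LinearMap.mem_ker, LinearMap.sub_apply, LinearMap.smul_apply, Module.End.one_apply,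
    sub_eq_zero, Matrix.toLin'_apply] at hxK
  have hxK' : pure (A *ᵥ u) (B *ᵥ w) = l • pure u w := by
    rw [← kron_mulVec_pure]
    exact hxK
  obtain ⟨j₁, hj₁⟩ : ∃ j, (B *ᵥ w) j ≠ 0 := by
    by_contra h
    push Not at h
    exact hw0 (hB w (funext h))
  refine ⟨l * w j₁ / (B *ᵥ w) j₁, ?_⟩
  funext i
  have := congrFun hxK' (i, j₁)
  simp only [pure, Pi.smul_apply, smul_eq_mul] at this
  rw [Pi.smul_apply, smul_eq_mul]
  field_simp
  linear_combination this

/-- a large eigenspace of `A ⊗ₖ B` forces `A` to be scalar -/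
theorem scalar_of_large_ker (A : Matrix (Fin a) (Fin a) F)
    (B : Matrix (Fin b) (Fin b) F)
    (hB : ∀ w : Fin b → F, B *ᵥ w = 0 → w = 0) (l : F)
    (hlarge : a * b < finrank F (LinearMap.ker (Matrix.toLin' (A ⊗ₖ B) - l • 1)) + b) :
    ∃ α : F, A = α • 1 := by
  have h : ∀ v : Fin a → F, ¬ LinearIndependent F ![v, Matrix.toLin' A v] := by
    intro v hli
    have hv : v ≠ 0 := by
      have := hli.ne_zero 0
      simpa using this
    obtain ⟨c, hc⟩ := eigen_of_large_ker A B hB l hlarge v hv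
    rw [LinearIndependent.pair_iff] at hli
    have := hli c (-1) (by rw [Matrix.toLin'_apply, hc]; module)
    exact absurd this.2 (by norm_num)
  obtain ⟨α, hα⟩ := LinearMap.exists_eq_smul_id_of_forall_notLinearIndependent h
  refine ⟨α, ?_⟩
  apply Matrix.toLin'.injective
  rw [hα, map_smul, Matrix.toLin'_one]
  rfl


/-- the `i`-th slice of a vector of `Fin a × Fin b → F` -/
def slice (i : Fin a) : (Fin a × Fin b → F) →ₗ[F] (Fin b → F) where
  toFun v := fun j => v (i, j)
  map_add' _ _ := rfl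
  map_smul' _ _ := rfl

theorem slice_one_kron (N : Matrix (Fin b) (Fin b) F) (i : Fin a) (v : Fin a × Fin b → F) :
    slice i (((1 : Matrix (Fin a) (Fin a) F) ⊗ₖ N) *ᵥ v) = N *ᵥ slice i v := by
  funext j
  simp only [slice, LinearMap.coe_mk, AddHom.coe_mk, Matrix.mulVec, dotProduct,
    Matrix.kroneckerMap_apply]
  rw [← Finset.univ_product_univ, Finset.sum_product, Finset.sum_eq_single i]
  · apply Finset.sum_congr rfl
    intro j' _
    rw [Matrix.one_apply_eq, one_mul]
  · intro i' _ hi'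
    apply Finset.sum_eq_zero
    intro j' _
    rw [Matrix.one_apply_ne (Ne.symm hi'), zero_mul, zero_mul]
  · intro h
    exact absurd (Finset.mem_univ i) h

theorem slice_aeval (N : Matrix (Fin b) (Fin b) F) (f : F[X]) (i : Fin a)
    (v : Fin a × Fin b → F) :
    slice i (aeval (Matrix.toLin' ((1 : Matrix (Fin a) (Fin a) F) ⊗ₖ N)) f v) =
      aeval (Matrix.toLin' N) f (slice i v) := by
  apply Cfsg.Agent.Helper42.SemiConj.aeval_intertwine
  intro w
  rw [Matrix.toLin'_apply, Matrix.toLin'_apply, slice_one_kron]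

theorem mem_ker_one_kron (N : Matrix (Fin b) (Fin b) F) (f : F[X]) (v : Fin a × Fin b → F) :
    v ∈ LinearMap.ker (aeval (Matrix.toLin' ((1 : Matrix (Fin a) (Fin a) F) ⊗ₖ N)) f) ↔
      ∀ i, slice i v ∈ LinearMap.ker (aeval (Matrix.toLin' N) f) := by
  constructor
  · intro hv i
    rw [LinearMap.mem_ker] at hv ⊢
    rw [← slice_aeval, hv, map_zero]
  · intro hv
    rw [LinearMap.mem_ker]
    funext ⟨i, j⟩
    have := congrFun (slice_aeval N f i v) j
    rw [LinearMap.mem_ker.mp (hv i)] at this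
    exact this

/-- the primary dimensions of `1 ⊗ₖ N` are `a` times those of `N` -/
theorem finrank_ker_one_kron (N : Matrix (Fin b) (Fin b) F) (f : F[X]) :
    finrank F (LinearMap.ker (aeval (Matrix.toLin' ((1 : Matrix (Fin a) (Fin a) F) ⊗ₖ N)) f)) =
      a * finrank F (LinearMap.ker (aeval (Matrix.toLin' N) f)) := by
  let e : LinearMap.ker (aeval (Matrix.toLin' ((1 : Matrix (Fin a) (Fin a) F) ⊗ₖ N)) f) ≃ₗ[F]
      (Fin a → LinearMap.ker (aeval (Matrix.toLin' N) f)) :=
    { toFun := fun v i => ⟨slice i v.1, (mem_ker_one_kron N f v.1).mp v.2 i⟩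
      map_add' := fun v w => by
        funext i
        apply Subtype.ext
        simp
      map_smul' := fun c v => by
        funext i
        apply Subtype.ext
        simp
      invFun := fun g => ⟨fun ij => (g ij.1).1 ij.2, by
        rw [mem_ker_one_kron]
        intro i
        exact (g i).2⟩
      left_inv := fun v => by
        apply Subtype.ext
        funext ⟨i, j⟩
        rfl
      right_inv := fun g => by
        funext i
        apply Subtype.ext
        funext j
        rfl }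
  rw [e.finrank_eq, Module.finrank_pi_fintype, Finset.sum_const, Finset.card_univ,
    Fintype.card_fin, smul_eq_mul]


section kron

open Cfsg.Agent.Helper42.SemiConj

variable {n : ℕ}

/-- `x` is linearly equivalent to a Kronecker product of invertible matrices -/
def IsKron (a b : ℕ) (x : Matrix (Fin n) (Fin n) F) : Prop :=
  ∃ (Ψ : (Fin n → F) ≃ₗ[F] (Fin a × Fin b → F)) (A : GL (Fin a) F) (B : GL (Fin b) F),
    ∀ v, Ψ (x *ᵥ v) = ((A : Matrix (Fin a) (Fin a) F) ⊗ₖ (B : Matrix (Fin b) (Fin b) F)) *ᵥ Ψ v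

theorem aeval_X_sub_C {V : Type*} [AddCommGroup V] [Module F V] (T : V →ₗ[F] V) (l : F) :
    aeval T (X - C l : F[X]) = T - l • 1 := by
  rw [map_sub, aeval_X, aeval_C, Algebra.algebraMap_eq_smul_one]

theorem gl_mulVec_eq_zero {m : ℕ} (B : GL (Fin m) F) (w : Fin m → F)
    (h : (B : Matrix (Fin m) (Fin m) F) *ᵥ w = 0) : w = 0 := by
  have h1 : ((B⁻¹ : GL (Fin m) F) : Matrix (Fin m) (Fin m) F) *ᵥ
      ((B : Matrix (Fin m) (Fin m) F) *ᵥ w) = w := by
    rw [Matrix.mulVec_mulVec, ← Units.val_mul, inv_mul_cancel, Units.val_one, Matrix.one_mulVec]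
  rw [← h1, h, Matrix.mulVec_zero]

/-- the conclusion of the structure lemmas: all primary dimensions are `a` times those of a
`b × b` matrix -/
def IsRepeated (a b : ℕ) (x : Matrix (Fin n) (Fin n) F) : Prop :=
  ∃ N : Matrix (Fin b) (Fin b) F, ∀ f : F[X],
    finrank F (LinearMap.ker (aeval (Matrix.toLin' x) f)) =
      a * finrank F (LinearMap.ker (aeval (Matrix.toLin' N) f))

theorem isRepeated_of_scalar (x : Matrix (Fin n) (Fin n) F)
    (Ψ : (Fin n → F) ≃ₗ[F] (Fin a × Fin b → F)) (A : Matrix (Fin a) (Fin a) F)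
    (B : Matrix (Fin b) (Fin b) F)
    (hΨ : ∀ v, Ψ (x *ᵥ v) = (A ⊗ₖ B) *ᵥ Ψ v) (α : F) (hα : A = α • 1) : IsRepeated a b x := by
  refine ⟨α • B, ?_⟩
  intro f
  have hM : A ⊗ₖ B = (1 : Matrix (Fin a) (Fin a) F) ⊗ₖ (α • B) := by
    rw [hα, Matrix.smul_kronecker, Matrix.kronecker_smul]
  rw [← finrank_ker_one_kron, ← hM]
  apply finrank_ker_aeval_eq_of_conj Ψ
  intro v
  rw [Matrix.toLin'_apply, Matrix.toLin'_apply]
  exact hΨ v

/-- a Kronecker product with a large eigenspace has a scalar first factor -/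
theorem isRepeated_of_large_ker (hn : n = a * b) (x : Matrix (Fin n) (Fin n) F)
    (hx : IsKron a b x) (l : F)
    (hlarge : n < finrank F (LinearMap.ker (aeval (Matrix.toLin' x) (X - C l))) + b) :
    IsRepeated a b x := by
  obtain ⟨Ψ, A, B, hΨ⟩ := hx
  have hconj : ∀ v, Ψ (Matrix.toLin' x v) =
      Matrix.toLin' ((A : Matrix (Fin a) (Fin a) F) ⊗ₖ (B : Matrix (Fin b) (Fin b) F)) (Ψ v) := by
    intro v
    rw [Matrix.toLin'_apply, Matrix.toLin'_apply]
    exact hΨ v
  have h1 := finrank_ker_aeval_eq_of_conj Ψ _ _ hconj (X - C l)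
  rw [h1, aeval_X_sub_C, hn] at hlarge
  obtain ⟨α, hα⟩ := scalar_of_large_ker (A : Matrix (Fin a) (Fin a) F)
    (B : Matrix (Fin b) (Fin b) F) (gl_mulVec_eq_zero B) l hlarge
  exact isRepeated_of_scalar x Ψ _ _ hΨ α hα

theorem kron_pow (A : Matrix (Fin a) (Fin a) F) (B : Matrix (Fin b) (Fin b) F) (k : ℕ) :
    (A ⊗ₖ B) ^ k = (A ^ k) ⊗ₖ (B ^ k) := by
  induction k with
  | zero => rw [pow_zero, pow_zero, pow_zero, Matrix.one_kronecker_one]
  | succ k ih => rw [pow_succ, pow_succ, pow_succ, ih, Matrix.mul_kronecker_mul]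

theorem scalar_of_kron_eq_one (hb : 0 < b) (A : Matrix (Fin a) (Fin a) F)
    (B : Matrix (Fin b) (Fin b) F) (h : A ⊗ₖ B = 1) : ∃ c : F, A = c • 1 := by
  let j₀ : Fin b := ⟨0, hb⟩
  have key : ∀ i i', A i i' * B j₀ j₀ = if i = i' then 1 else 0 := by
    intro i i'
    have := congrFun (congrFun h (i, j₀)) (i', j₀)
    rw [Matrix.kroneckerMap_apply, Matrix.one_apply] at this
    rw [this]
    by_cases hii : i = i'
    · simp [hii]
    · simp [hii]
  refine ⟨(B j₀ j₀)⁻¹, ?_⟩
  ext i i'
  rw [Matrix.smul_apply, Matrix.one_apply, smul_eq_mul]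
  by_cases ha : a = 0
  · subst ha
    exact i.elim0
  have hB0 : B j₀ j₀ ≠ 0 := by
    intro h0
    have := key i i
    rw [h0, mul_zero, if_pos rfl] at this
    exact zero_ne_one this
  have := key i i'
  field_simp
  rw [this]

/-- a Kronecker product of prime order `r`, where `r` does not divide `|GL_a(q)|`,
has a scalar first factor -/
theorem isRepeated_of_pow_eq_one [Fintype F] (hb : 0 < b) (x : Matrix (Fin n) (Fin n) F)
    (hx : IsKron a b x) (r : ℕ) (hr : r.Prime) (hxr : x ^ r = 1)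
    (hr2 : ¬ r ∣ Nat.card (GL (Fin a) F)) :
    IsRepeated a b x := by
  classical
  obtain ⟨Ψ, A, B, hΨ⟩ := hx
  set M := (A : Matrix (Fin a) (Fin a) F) ⊗ₖ (B : Matrix (Fin b) (Fin b) F) with hM
  have hconj : ∀ v, Ψ (Matrix.toLin' x v) = Matrix.toLin' M (Ψ v) := by
    intro v
    rw [Matrix.toLin'_apply, Matrix.toLin'_apply]
    exact hΨ v
  have hMr : M ^ r = 1 := by
    apply Matrix.toLin'.injective
    apply LinearMap.ext
    intro w
    obtain ⟨v, rfl⟩ := Ψ.surjective w
    have h1 := pow_intertwine (Ψ : (Fin n → F) →ₗ[F] (Fin a × Fin b → F)) (Matrix.toLin' x)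
      (Matrix.toLin' M) hconj r v
    have h2 : (Matrix.toLin' x) ^ r = 1 := by
      have := map_pow (Matrix.toLinAlgEquiv' (R := F) (n := Fin n)) x r
      rw [hxr, map_one] at this
      exact this.symm
    have h3 : Matrix.toLin' (M ^ r) = (Matrix.toLin' M) ^ r :=
      map_pow (Matrix.toLinAlgEquiv' (R := F) (n := Fin a × Fin b)) M r
    rw [h3, Matrix.toLin'_one]
    rw [h2] at h1
    exact h1.symm
  rw [hM, kron_pow] at hMr
  obtain ⟨c, hc⟩ := scalar_of_kron_eq_one hb _ _ hMr
  have hAr : ((A ^ r : GL (Fin a) F) : Matrix (Fin a) (Fin a) F) = c • 1 := by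
    rw [Units.val_pow_eq_pow_val]
    exact hc
  have hcen : A ^ r ∈ Subgroup.center (GL (Fin a) F) := by
    rw [Matrix.GeneralLinearGroup.mem_center_iff_val_mem_range_scalar]
    refine ⟨c, ?_⟩
    rw [hAr, Matrix.scalar_apply, Matrix.smul_one_eq_diagonal]
  have hcop : Nat.Coprime r (orderOf A) := by
    rw [hr.coprime_iff_not_dvd]
    intro h
    exact hr2 (h.trans (orderOf_dvd_natCard A))
  obtain ⟨m, hm⟩ := exists_pow_eq_self_of_coprime hcop
  have hA : A ∈ Subgroup.center (GL (Fin a) F) := by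
    rw [← hm]
    exact Subgroup.pow_mem _ hcen m
  rw [Matrix.GeneralLinearGroup.mem_center_iff_val_mem_range_scalar] at hA
  obtain ⟨α, hα⟩ := hA
  rw [Matrix.scalar_apply, ← Matrix.smul_one_eq_diagonal] at hα
  exact isRepeated_of_scalar x Ψ _ _ hΨ α hα.symm

end kron

end Cfsg.Agent.Helper14.TensorStab
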