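import Mathlib
import Cfsg.Agent.Lib.Helper14.TensorStab

set_option autoImplicit false

/-!
Primary dimensions of diagonal matrices and of transvections.
-/

namespace Cfsg.Agent.Helper14.DiagKd

open Matrix Module Polynomial
open Cfsg.Agent.Helper14.TensorStab

universe u

variable {F : Type u} [Field F] {n : ℕ}

theorem finrank_ker_toLin' (M : Matrix (Fin n) (Fin n) F) :
    finrank F (LinearMap.ker (Matrix.toLin' M)) + M.rank = n := by
  have h := LinearMap.finrank_range_add_finrank_ker (Matrix.toLin' M)
  rw [Module.finrank_fin_fun] at h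
  unfold Matrix.rank
  rw [← Matrix.toLin'_apply']
  omega

theorem aeval_toLin'_X_sub_C (M : Matrix (Fin n) (Fin n) F) (l : F) :
    aeval (Matrix.toLin' M) (X - C l : F[X]) = Matrix.toLin' (M - l • 1) := by
  rw [aeval_X_sub_C, map_sub, map_smul, Matrix.toLin'_one]
  rfl

/-- the eigenspace dimensions of a diagonal matrix -/
theorem kd_diagonal [DecidableEq F] (d : Fin n → F) (l : F) :
    finrank F (LinearMap.ker (aeval (Matrix.toLin' (Matrix.diagonal d)) (X - C l))) =
      (Finset.univ.filter (fun i => d i = l)).card := by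
  rw [aeval_toLin'_X_sub_C]
  have h1 : Matrix.diagonal d - l • (1 : Matrix (Fin n) (Fin n) F) =
      Matrix.diagonal (fun i => d i - l) := by
    ext i j
    by_cases hij : i = j
    · subst hij
      simp
    · simp [hij]
  rw [h1]
  have h2 := finrank_ker_toLin' (Matrix.diagonal (fun i => d i - l))
  rw [Matrix.rank_diagonal, Fintype.card_subtype] at h2
  have h3 := Finset.card_filter_add_card_filter_not (s := (Finset.univ : Finset (Fin n)))
    (fun i => d i = l)
  rw [Finset.card_univ, Fintype.card_fin] at h3
  have h4 : (Finset.univ.filter (fun i : Fin n => d i - l ≠ 0)) =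
      (Finset.univ.filter (fun i : Fin n => ¬ d i = l)) := by
    apply Finset.filter_congr
    intro i _
    rw [Ne, sub_eq_zero]
  rw [h4] at h2
  omega

/-- a two-valued diagonal -/
def two (n k : ℕ) (α β : F) : Fin n → F := fun i => if i.val < k then α else β

theorem card_two_left [DecidableEq F] (k : ℕ) (hk : k ≤ n) (α β : F) (hαβ : α ≠ β) :
    (Finset.univ.filter (fun i => two n k α β i = α)).card = k := by
  have h1 : (Finset.univ.filter (fun i : Fin n => two n k α β i = α)) =
      (Finset.univ.filter (fun i : Fin n => i < k)) := by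
    apply Finset.filter_congr
    intro i _
    unfold two
    split_ifs with h
    · simp [h]
    · simp [h, hαβ.symm]
  rw [h1, Fin.card_filter_val_lt]
  omega

theorem card_two_right [DecidableEq F] (k : ℕ) (hk : k ≤ n) (α β : F) (hαβ : α ≠ β) :
    (Finset.univ.filter (fun i => two n k α β i = β)).card = n - k := by
  have h0 := card_two_left (n := n) k hk α β hαβ
  have h3 := Finset.card_filter_add_card_filter_not (s := (Finset.univ : Finset (Fin n)))
    (fun i => two n k α β i = α)
  rw [Finset.card_univ, Fintype.card_fin] at h3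
  have h1 : (Finset.univ.filter (fun i : Fin n => two n k α β i = β)) =
      (Finset.univ.filter (fun i : Fin n => ¬ two n k α β i = α)) := by
    apply Finset.filter_congr
    intro i _
    unfold two
    split_ifs with h
    · simp [hαβ]
    · simp [hαβ.symm]
  rw [h1]
  omega

theorem kd_two_left (k : ℕ) (hk : k ≤ n) (α β : F) (hαβ : α ≠ β) :
    finrank F (LinearMap.ker (aeval (Matrix.toLin' (Matrix.diagonal (two n k α β))) (X - C α))) =
      k := by
  classical
  rw [kd_diagonal, card_two_left k hk α β hαβ]

theorem kd_two_right (k : ℕ) (hk : k ≤ n) (α β : F) (hαβ : α ≠ β) :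
    finrank F (LinearMap.ker (aeval (Matrix.toLin' (Matrix.diagonal (two n k α β))) (X - C β))) =
      n - k := by
  classical
  rw [kd_diagonal, card_two_right k hk α β hαβ]

theorem prod_two (k : ℕ) (hk : k ≤ n) (α β : F) :
    ∏ i, two n k α β i = α ^ k * β ^ (n - k) := by
  classical
  unfold two
  rw [Finset.prod_ite, Finset.prod_const, Finset.prod_const]
  have h1 : (Finset.univ.filter (fun i : Fin n => (i : ℕ) < k)).card = k := by
    rw [Fin.card_filter_val_lt]
    omega
  have h3 := Finset.card_filter_add_card_filter_not (s := (Finset.univ : Finset (Fin n)))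
    (fun i => (i : ℕ) < k)
  rw [Finset.card_univ, Fintype.card_fin] at h3
  have h2 : (Finset.univ.filter (fun i : Fin n => ¬ (i : ℕ) < k)).card = n - k := by omega
  rw [h1, h2]

theorem det_two (k : ℕ) (hk : k ≤ n) (α β : F) :
    (Matrix.diagonal (two n k α β)).det = α ^ k * β ^ (n - k) := by
  rw [Matrix.det_diagonal, prod_two k hk]

theorem two_sq (k : ℕ) (α β z : F) (hα : α * α = z) (hβ : β * β = z) :
    Matrix.diagonal (two n k α β) * Matrix.diagonal (two n k α β) =
      z • (1 : Matrix (Fin n) (Fin n) F) := by
  rw [Matrix.diagonal_mul_diagonal, Matrix.smul_one_eq_diagonal]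
  congr 1
  funext i
  unfold two
  split_ifs
  · exact hα
  · exact hβ

theorem two_ne_scalar (k : ℕ) (hk0 : 0 < k) (hk : k < n) (α β : F) (hαβ : α ≠ β) (z : F) :
    Matrix.diagonal (two n k α β) ≠ z • (1 : Matrix (Fin n) (Fin n) F) := by
  intro h
  have h0 := congrFun (congrFun h ⟨0, by omega⟩) ⟨0, by omega⟩
  have h1 := congrFun (congrFun h ⟨k, hk⟩) ⟨k, hk⟩
  rw [Matrix.diagonal_apply_eq, Matrix.smul_apply, Matrix.one_apply_eq, smul_eq_mul, mul_one]
    at h0 h1
  unfold two at h0 h1
  simp only [hk0, if_true, lt_irrefl, if_false] at h0 h1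
  exact hαβ (h0.trans h1.symm)

end Cfsg.Agent.Helper14.DiagKd
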