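import Mathlib
import Cfsg.Agent.S0838

set_option autoImplicit false

namespace Cfsg.Agent.Helper14

open QuadraticMap

section Coord

variable {F : Type*} [Field F]

/-- a totally singular subspace of dimension `m` exists -/
def HasTS {V : Type*} [AddCommGroup V] [Module F V] (Q : QuadraticForm F V) (m : ℕ) : Prop :=
  ∃ X : Submodule F V, Module.finrank F X = m ∧ ∀ x ∈ X, Q x = 0

theorem HasTS.of_equivalent {V W : Type*} [AddCommGroup V] [Module F V] [AddCommGroup W]
    [Module F W] {Q : QuadraticForm F V} {Q' : QuadraticForm F W} (h : Equivalent Q Q') {m : ℕ}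
    (hts : HasTS Q m) : HasTS Q' m := by
  obtain ⟨e⟩ := h
  obtain ⟨X, hX, hQ⟩ := hts
  refine ⟨X.map e.toLinearEquiv.toLinearMap, ?_, ?_⟩
  · rw [LinearEquiv.finrank_map_eq]; exact hX
  · rintro _ ⟨x, hx, rfl⟩
    have := e.map_app x
    simp only [LinearEquiv.coe_coe]
    change Q' (e x) = 0
    rw [this]; exact hQ x hx

variable {α : Type*} [Fintype α] [DecidableEq α]

theorem hasTS_pm :
    HasTS (weightedSumSquares F (Sum.elim (fun _ : α => (1 : F)) (fun _ : α => (-1 : F))))
      (Fintype.card α) := by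
  let f : (α → F) →ₗ[F] (α ⊕ α → F) := LinearMap.funLeft F F (Sum.elim id id)
  have hinj : Function.Injective f := by
    apply LinearMap.funLeft_injective_of_surjective
    intro a
    exact ⟨Sum.inl a, rfl⟩
  refine ⟨LinearMap.range f, ?_, ?_⟩
  · rw [LinearMap.finrank_range_of_inj hinj, Module.finrank_pi]
  · rintro _ ⟨t, rfl⟩
    rw [weightedSumSquares_apply, Fintype.sum_sum_type]
    simp only [Sum.elim_inl, Sum.elim_inr, f, LinearMap.funLeft_apply, id_eq, smul_eq_mul]
    rw [← Finset.sum_add_distrib]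
    apply Finset.sum_eq_zero
    intro a _
    ring

theorem prod_pm : ∏ i, (Sum.elim (fun _ : α => (1 : F)) (fun _ : α => (-1 : F))) i
    = (-1) ^ Fintype.card α := by
  rw [Fintype.prod_sum_type]
  simp only [Sum.elim_inl, Sum.elim_inr, Finset.prod_const_one, one_mul, Finset.prod_const,
    Finset.card_univ]

theorem hasTS_of_isSquare [Fintype F] (h2 : (2 : F) ≠ 0) (c : α ⊕ α → F) (hc : ∀ i, c i ≠ 0)
    (hs : IsSquare ((-1) ^ Fintype.card α * ∏ i, c i)) :
    HasTS (weightedSumSquares F c) (Fintype.card α) := by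
  classical
  rcases isEmpty_or_nonempty α with hα | ⟨⟨a₀⟩⟩
  · refine ⟨⊥, ?_, ?_⟩
    · rw [finrank_bot, Fintype.card_eq_zero]
    · intro x hx
      rw [(Submodule.mem_bot F).mp hx, map_zero]
  · set m := Fintype.card α with hm
    set c'' : α ⊕ α → F := Sum.elim (fun _ : α => (1 : F)) (fun _ : α => (-1 : F)) with hc''
    have hc''0 : ∀ i, c'' i ≠ 0 := by
      rintro (a | a) <;> simp [hc'']
    have h1 := Cfsg.Agent.S0838.diag_normal h2 c hc (Sum.inl a₀)
    have h2' := Cfsg.Agent.S0838.diag_normal h2 c'' hc''0 (Sum.inl a₀)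
    rw [prod_pm] at h2'
    obtain ⟨s, hs⟩ := hs
    have hsq : ((-1 : F) ^ m) * (-1) ^ m = 1 := by
      rw [← mul_pow]; simp
    have hprod : ∏ i, c i = (-1) ^ m * s ^ 2 := by
      have : ∏ i, c i = ((-1 : F) ^ m * (-1) ^ m) * ∏ i, c i := by rw [hsq, one_mul]
      rw [this, mul_assoc, hs]; ring
    have hs0 : s ≠ 0 := by
      intro h0
      have : ∏ i, c i = 0 := by rw [hprod, h0]; ring
      exact (Finset.prod_ne_zero_iff.mpr (fun i _ => hc i)) this
    have h3 := Cfsg.Agent.S0838.std_square_equivalent (Sum.inl a₀ : α ⊕ α) ((-1 : F) ^ m) s hs0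
    rw [hprod] at h1
    exact HasTS.of_equivalent ((h1.trans h3).trans h2'.symm).symm hasTS_pm

end Coord

section Gram

variable {F : Type*} [Field F] {ι : Type*} [Fintype ι] [DecidableEq ι]

/-- diagonal bilinear form -/
def diagB (c : ι → F) : LinearMap.BilinForm F (ι → F) := Matrix.toBilin' (Matrix.diagonal c)

theorem diagB_apply (c : ι → F) (x y : ι → F) : diagB c x y = ∑ i, c i * x i * y i := by
  rw [diagB, Matrix.toBilin'_apply']
  simp only [dotProduct, Matrix.mulVec_diagonal]
  apply Finset.sum_congr rfl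
  intro i _
  ring

theorem diagB_symm (c : ι → F) (x y : ι → F) : diagB c x y = diagB c y x := by
  rw [diagB_apply, diagB_apply]
  apply Finset.sum_congr rfl
  intro i _
  ring

theorem wss_eq_diagB (c : ι → F) (x : ι → F) : weightedSumSquares F c x = diagB c x x := by
  rw [weightedSumSquares_apply, diagB_apply]
  apply Finset.sum_congr rfl
  intro i _
  simp only [smul_eq_mul]
  ring

theorem diagB_single (c : ι → F) (x : ι → F) (i : ι) :
    diagB c x (fun j => if i = j then 1 else 0) = c i * x i := by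
  rw [diagB_apply, Finset.sum_eq_single i]
  · simp
  · intro j _ hj
    simp [Ne.symm hj]
  · intro h
    exact absurd (Finset.mem_univ i) h

theorem diagB_nondeg (c : ι → F) (hc : ∀ i, c i ≠ 0) (x : ι → F)
    (h : ∀ y, diagB c x y = 0) : x = 0 := by
  funext i
  have := h (fun j => if i = j then 1 else 0)
  rw [diagB_single] at this
  exact (mul_eq_zero.mp this).resolve_left (hc i)

/-- Gram determinant relation -/
theorem gram_det (c c'' : ι → F) (w : ι → ι → F)
    (hw : ∀ i j, diagB c (w i) (w j) = if i = j then c'' i else 0) :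
    ∃ d : F, d * (∏ i, c i) * d = ∏ i, c'' i := by
  let W : Matrix ι ι F := Matrix.of fun k i => w i k
  refine ⟨W.det, ?_⟩
  have hM : W.transpose * Matrix.diagonal c * W = Matrix.diagonal c'' := by
    ext i j
    rw [Matrix.mul_apply]
    simp only [W, Matrix.mul_diagonal, Matrix.transpose_apply, Matrix.of_apply,
      Matrix.diagonal_apply]
    rw [← hw i j, diagB_apply]
    apply Finset.sum_congr rfl
    intro k _
    ring
  have h := congrArg Matrix.det hM
  rw [Matrix.det_mul, Matrix.det_mul, Matrix.det_transpose, Matrix.det_diagonal,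
    Matrix.det_diagonal] at h
  exact h

theorem hyp_gram {V : Type*} [AddCommGroup V] [Module F V] (h2 : (2 : F) ≠ 0)
    (β : LinearMap.BilinForm F V) (hsym : ∀ x y, β x y = β y x) {α : Type*} [DecidableEq α]
    (x y : α → V) (hxx : ∀ a b, β (x a) (x b) = 0) (hyy : ∀ a b, β (y a) (y b) = 0)
    (hxy : ∀ a b, β (x a) (y b) = if a = b then 1 else 0) (s t : α ⊕ α) :
    β (Sum.elim (fun a => x a + (2⁻¹ : F) • y a) (fun a => x a - (2⁻¹ : F) • y a) s)
      (Sum.elim (fun a => x a + (2⁻¹ : F) • y a) (fun a => x a - (2⁻¹ : F) • y a) t)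
      = if s = t then Sum.elim (fun _ : α => (1 : F)) (fun _ : α => (-1 : F)) s else 0 := by
  have h22 : (2⁻¹ : F) + 2⁻¹ = 1 := by field_simp; norm_num
  rcases s with a | a <;> rcases t with b | b <;>
    simp only [Sum.elim_inl, Sum.elim_inr, map_add, map_sub, map_smul, LinearMap.add_apply,
      LinearMap.sub_apply, LinearMap.smul_apply, smul_eq_mul, hxx, hyy, hxy, hsym (y _) (x _)] <;>
    by_cases hab : a = b
  · subst hab
    simp only [if_true, mul_one, mul_zero, add_zero, zero_add]
    exact h22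
  · simp [hab, Ne.symm hab]
  · subst hab
    simp
  · simp [hab, Ne.symm hab]
  · subst hab
    simp
  · simp [hab, Ne.symm hab]
  · subst hab
    simp only [if_true, mul_one, mul_zero, sub_zero, zero_sub, Sum.inr.injEq]
    linear_combination -h22
  · simp [hab, Ne.symm hab]

variable {α : Type*} [Fintype α] [DecidableEq α]

theorem exists_dual_family (c : ι → F) (hc : ∀ i, c i ≠ 0) (x : α → ι → F)
    (hli : LinearIndependent F x) :
    ∃ y : α → ι → F, ∀ a b, diagB c (x a) (y b) = if a = b then 1 else 0 := by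
  let φ : (ι → F) →ₗ[F] (α → F) := LinearMap.pi (fun a => diagB c (x a))
  have hφ : ∀ v a, φ v a = diagB c (x a) v := fun v a => rfl
  have hsurj : Function.Surjective φ := by
    rw [← LinearMap.range_eq_top]
    by_contra hne
    obtain ⟨g, hg0, hle⟩ := Submodule.exists_le_ker_of_lt_top _ (lt_top_iff_ne_top.mpr hne)
    apply hg0
    have hg : ∀ v, g (φ v) = 0 := fun v => hle (LinearMap.mem_range_self φ v)
    have hz : ∑ a, g (fun j => if a = j then 1 else 0) • x a = 0 := by
      apply diagB_nondeg c hc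
      intro v
      rw [map_sum, LinearMap.sum_apply]
      simp only [map_smul, LinearMap.smul_apply, smul_eq_mul]
      have := hg v
      rw [LinearMap.pi_apply_eq_sum_univ g (φ v)] at this
      refine Eq.trans ?_ this
      apply Finset.sum_congr rfl
      intro a _
      rw [hφ, smul_eq_mul, mul_comm]
    have hcoef := Fintype.linearIndependent_iff.mp hli _ hz
    apply LinearMap.ext
    intro t
    rw [LinearMap.pi_apply_eq_sum_univ g t]
    simp only [hcoef, smul_zero, Finset.sum_const_zero, LinearMap.zero_apply]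
  choose y hy using fun b : α => hsurj (fun a => if a = b then 1 else 0)
  refine ⟨y, ?_⟩
  intro a b
  rw [← hφ, hy b]

theorem exists_hyp_family (h2 : (2 : F) ≠ 0) (c : ι → F) (hc : ∀ i, c i ≠ 0) (x : α → ι → F)
    (hli : LinearIndependent F x) (hxx : ∀ a b, diagB c (x a) (x b) = 0) :
    ∃ y : α → ι → F, (∀ a b, diagB c (x a) (y b) = if a = b then 1 else 0) ∧
      ∀ a b, diagB c (y a) (y b) = 0 := by
  obtain ⟨y₀, hy₀⟩ := exists_dual_family c hc x hli
  set S : α → ι → F := fun a => ∑ b, diagB c (y₀ a) (y₀ b) • x b with hS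
  have hxS : ∀ a b, diagB c (x a) (S b) = 0 := by
    intro a b
    simp only [hS, map_sum, map_smul, smul_eq_mul, hxx, mul_zero, Finset.sum_const_zero]
  have hSy : ∀ a b, diagB c (S a) (y₀ b) = diagB c (y₀ a) (y₀ b) := by
    intro a b
    simp only [hS, map_sum, LinearMap.sum_apply, map_smul, LinearMap.smul_apply, smul_eq_mul,
      hy₀, mul_ite, mul_one, mul_zero, Finset.sum_ite_eq', Finset.mem_univ, if_true]
  have hyS : ∀ a b, diagB c (y₀ a) (S b) = diagB c (y₀ a) (y₀ b) := by
    intro a b
    rw [diagB_symm, hSy, diagB_symm]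
  have hSS : ∀ a b, diagB c (S a) (S b) = 0 := by
    have hgen : ∀ (a : α) (t : ι → F), (∀ b', diagB c (x b') t = 0) → diagB c (S a) t = 0 := by
      intro a t ht
      have hSa : S a = ∑ b', diagB c (y₀ a) (y₀ b') • x b' := rfl
      rw [hSa, map_sum, LinearMap.sum_apply]
      apply Finset.sum_eq_zero
      intro b' _
      rw [map_smul, LinearMap.smul_apply, ht, smul_zero]
    intro a b
    exact hgen a (S b) (fun b' => hxS b' b)
  refine ⟨fun a => y₀ a - (2⁻¹ : F) • S a, ?_, ?_⟩
  · intro a b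
    simp only [map_sub, map_smul, smul_eq_mul, hxS, mul_zero, sub_zero, hy₀]
  · intro a b
    simp only [map_sub, map_smul, LinearMap.sub_apply, LinearMap.smul_apply, smul_eq_mul, hSy, hyS,
      hSS]
    have h22 : (2⁻¹ : F) + 2⁻¹ = 1 := by field_simp; norm_num
    linear_combination (-(diagB c (y₀ a) (y₀ b))) * h22

theorem isSquare_of_hasTS (h2 : (2 : F) ≠ 0) (c : α ⊕ α → F) (hc : ∀ i, c i ≠ 0)
    (h : HasTS (weightedSumSquares F c) (Fintype.card α)) :
    IsSquare ((-1) ^ Fintype.card α * ∏ i, c i) := by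
  obtain ⟨X, hX, hQ⟩ := h
  let bX : Module.Basis α F X :=
    (Module.finBasisOfFinrankEq F X hX).reindex (Fintype.equivFin α).symm
  set x : α → (α ⊕ α → F) := fun a => (bX a : α ⊕ α → F) with hx
  have hli : LinearIndependent F x :=
    bX.linearIndependent.map' X.subtype (Submodule.ker_subtype X)
  have hQ0 : ∀ u ∈ X, diagB c u u = 0 := fun u hu => by rw [← wss_eq_diagB]; exact hQ u hu
  have hXX : ∀ u ∈ X, ∀ v ∈ X, diagB c u v = 0 := by
    intro u hu v hv
    have h1 := hQ0 (u + v) (X.add_mem hu hv)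
    simp only [map_add, LinearMap.add_apply, hQ0 u hu, hQ0 v hv, diagB_symm c v u] at h1
    have : (2 : F) * diagB c u v = 0 := by linear_combination h1
    exact (mul_eq_zero.mp this).resolve_left h2
  have hxx : ∀ a b, diagB c (x a) (x b) = 0 := fun a b => hXX _ (bX a).2 _ (bX b).2
  obtain ⟨y, hxy, hyy⟩ := exists_hyp_family h2 c hc x hli hxx
  have hg := hyp_gram h2 (diagB c) (diagB_symm c) x y hxx hyy hxy
  obtain ⟨d, hd⟩ := gram_det c (Sum.elim (fun _ : α => (1 : F)) (fun _ : α => (-1 : F)))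
    (Sum.elim (fun a => x a + (2⁻¹ : F) • y a) (fun a => x a - (2⁻¹ : F) • y a)) hg
  rw [prod_pm] at hd
  refine ⟨d * ∏ i, c i, ?_⟩
  rw [← hd]
  ring

end Gram

section Abstract

variable {F : Type*} [Field F] {V : Type*} [AddCommGroup V] [Module F V]

theorem bilin_self_eq_wss {ι : Type*} [Fintype ι] [DecidableEq ι] (B : LinearMap.BilinForm F V)
    (v : Module.Basis ι F V) (hv : ∀ i j, i ≠ j → B (v i) (v j) = 0) (x : V) :
    B x x = weightedSumSquares F (fun i => B (v i) (v i)) (v.equivFun x) := by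
  rw [weightedSumSquares_apply]
  conv_lhs => rw [← v.sum_equivFun x]
  simp only [map_sum, LinearMap.sum_apply, map_smul, LinearMap.smul_apply, smul_eq_mul]
  apply Finset.sum_congr rfl
  intro i _
  rw [Finset.sum_eq_single i]
  · ring
  · intro j _ hj
    rw [hv j i hj]
    ring
  · intro h
    exact absurd (Finset.mem_univ i) h

theorem ti_iff_hasTS (h2 : (2 : F) ≠ 0) (B : LinearMap.BilinForm F V) (hS : B.IsSymm)
    {ι : Type*} [Fintype ι] [DecidableEq ι] (v : Module.Basis ι F V)
    (hv : ∀ i j, i ≠ j → B (v i) (v j) = 0) (m : ℕ) :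
    (∃ X : Submodule F V, Module.finrank F X = m ∧ ∀ x ∈ X, ∀ y ∈ X, B x y = 0) ↔
      HasTS (weightedSumSquares F (fun i => B (v i) (v i))) m := by
  have hsym : ∀ x y, B x y = B y x := fun x y => by simpa using hS.eq x y
  constructor
  · rintro ⟨X, hX, hB⟩
    refine ⟨X.map v.equivFun.toLinearMap, ?_, ?_⟩
    · rw [LinearEquiv.finrank_map_eq]; exact hX
    · rintro _ ⟨x, hx, rfl⟩
      change weightedSumSquares F _ (v.equivFun x) = 0
      rw [← bilin_self_eq_wss B v hv]
      exact hB x hx x hx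
  · rintro ⟨X, hX, hQ⟩
    refine ⟨X.map v.equivFun.symm.toLinearMap, ?_, ?_⟩
    · rw [LinearEquiv.finrank_map_eq]; exact hX
    · have hself : ∀ x ∈ X.map v.equivFun.symm.toLinearMap, B x x = 0 := by
        rintro _ ⟨x, hx, rfl⟩
        rw [bilin_self_eq_wss B v hv]
        simp only [LinearEquiv.coe_coe, LinearEquiv.apply_symm_apply]
        exact hQ x hx
      intro x hx y hy
      have h1 := hself (x + y) (Submodule.add_mem _ hx hy)
      simp only [map_add, LinearMap.add_apply, hself x hx, hself y hy, hsym y x] at h1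
      have : (2 : F) * B x y = 0 := by linear_combination h1
      exact (mul_eq_zero.mp this).resolve_left h2

/-- discriminant criterion: a `2m`-dimensional space with an orthogonal basis with nonzero
weights has a totally isotropic `m`-subspace iff `(-1)^m * ∏ weights` is a square. -/
theorem exists_ti_iff_isSquare [Fintype F] (h2 : (2 : F) ≠ 0) (B : LinearMap.BilinForm F V)
    (hS : B.IsSymm) {ι : Type*} [Fintype ι] [DecidableEq ι] (v : Module.Basis ι F V)
    (hv : ∀ i j, i ≠ j → B (v i) (v j) = 0) (hne : ∀ i, B (v i) (v i) ≠ 0) (m : ℕ)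
    (hcard : Fintype.card ι = 2 * m) :
    (∃ X : Submodule F V, Module.finrank F X = m ∧ ∀ x ∈ X, ∀ y ∈ X, B x y = 0) ↔
      IsSquare ((-1) ^ m * ∏ i, B (v i) (v i)) := by
  classical
  have e : ι ≃ Fin m ⊕ Fin m := Fintype.equivOfCardEq (by simp [hcard, two_mul])
  have hv' : ∀ s t, s ≠ t → B (v.reindex e s) (v.reindex e t) = 0 := by
    intro s t hst
    simp only [Module.Basis.reindex_apply]
    exact hv _ _ (fun h => hst (e.symm.injective h))
  rw [ti_iff_hasTS h2 B hS (v.reindex e) hv' m]
  have hprod : ∏ s, B (v.reindex e s) (v.reindex e s) = ∏ i, B (v i) (v i) := by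
    simp only [Module.Basis.reindex_apply]
    exact Equiv.prod_comp e.symm (fun i => B (v i) (v i))
  have hne' : ∀ s, B (v.reindex e s) (v.reindex e s) ≠ 0 := by
    intro s
    simp only [Module.Basis.reindex_apply]
    exact hne _
  have hm : Fintype.card (Fin m) = m := Fintype.card_fin m
  constructor
  · intro h
    have := isSquare_of_hasTS h2 (fun s => B (v.reindex e s) (v.reindex e s)) hne'
      (by rw [hm]; exact h)
    rw [hm, hprod] at this
    exact this
  · intro h
    have := hasTS_of_isSquare h2 (fun s => B (v.reindex e s) (v.reindex e s)) hne'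
      (by rw [hm, hprod]; exact h)
    rw [hm] at this
    exact this

/-- orthogonal basis with nonzero weights for a nondegenerate symmetric form -/
theorem exists_orthogonal_basis_ne [FiniteDimensional F V] (h2 : (2 : F) ≠ 0)
    (B : LinearMap.BilinForm F V) (hS : B.IsSymm) (hN : B.Nondegenerate) :
    ∃ v : Module.Basis (Fin (Module.finrank F V)) F V,
      (∀ i j, i ≠ j → B (v i) (v j) = 0) ∧ ∀ i, B (v i) (v i) ≠ 0 := by
  have : Invertible (2 : F) := invertibleOfNonzero h2
  obtain ⟨v, hv⟩ := LinearMap.BilinForm.exists_orthogonal_basis (LinearMap.BilinForm.isSymm_iff.mp hS)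
  refine ⟨v, hv, ?_⟩
  intro i
  exact LinearMap.BilinForm.iIsOrtho.not_isOrtho_basis_self_of_nondegenerate hv hN i

theorem prod_prod_mul {ι₁ ι₂ : Type*} [Fintype ι₁] [Fintype ι₂] (a : ι₁ → F) (b : ι₂ → F) :
    ∏ p : ι₁ × ι₂, b p.2 * a p.1 =
      (∏ i, a i) ^ Fintype.card ι₂ * (∏ j, b j) ^ Fintype.card ι₁ := by
  rw [Fintype.prod_prod_type]
  simp only [Finset.prod_mul_distrib, Finset.prod_const, Finset.card_univ]
  rw [Finset.prod_pow]
  ring

/-- the tensor basis of two orthogonal bases is orthogonal, with product weights -/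
theorem tensor_basis_ortho {U W : Type*} [AddCommGroup U] [Module F U] [AddCommGroup W]
    [Module F W] (B₁ : LinearMap.BilinForm F U) (B₂ : LinearMap.BilinForm F W)
    {ι₁ ι₂ : Type*} (e : Module.Basis ι₁ F U) (f : Module.Basis ι₂ F W)
    (he : ∀ i j, i ≠ j → B₁ (e i) (e j) = 0) (hf : ∀ i j, i ≠ j → B₂ (f i) (f j) = 0) :
    (∀ p q, p ≠ q → (B₁.tmul B₂) (e.tensorProduct f p) (e.tensorProduct f q) = 0) ∧
    ∀ p, (B₁.tmul B₂) (e.tensorProduct f p) (e.tensorProduct f p)
      = B₂ (f p.2) (f p.2) * B₁ (e p.1) (e p.1) := by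
  have happ : ∀ (u u' : U) (w w' : W),
      (B₁.tmul B₂) (u ⊗ₜ w) (u' ⊗ₜ w') = B₂ w w' * B₁ u u' := fun _ _ _ _ => rfl
  constructor
  · rintro ⟨i, j⟩ ⟨i', j'⟩ hpq
    rw [Module.Basis.tensorProduct_apply, Module.Basis.tensorProduct_apply, happ]
    by_cases hi : i = i'
    · have hj : j ≠ j' := fun h => hpq (by rw [hi, h])
      rw [hf j j' hj, zero_mul]
    · rw [he i i' hi, mul_zero]
  · rintro ⟨i, j⟩
    rw [Module.Basis.tensorProduct_apply, happ]

end Abstract

end Cfsg.Agent.Helper14
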