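import Mathlib
import Cfsg.Agent.Lib.Helper14.QuadNF
import Cfsg.Agent.Lib.Helper14.SimForm

/-!
# Elements of `SL_n(q)` with scalar square: centralizers, conjugation inside `SL_n`
-/

set_option autoImplicit false

namespace Cfsg.Agent.Helper14.InvolSL

open Module Polynomial Cfsg.Agent.Helper14.QuadNF Cfsg.Agent.Helper14.SimForm

universe u

variable {F : Type*} [Field F]

/-- the binary form `a² - z b²` is universal over a finite field -/
theorem exists_norm_eq [Fintype F] (z l : F) (hz : z ≠ 0) : ∃ a b : F, a * a - z * (b * b) = l := by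
  by_cases h2 : ringChar F = 2
  · obtain ⟨a, ha⟩ := FiniteField.isSquare_of_char_two h2 l
    exact ⟨a, 0, by rw [ha]; ring⟩
  · have hodd := FiniteField.odd_card_of_char_ne_two h2
    have hf : degree (X ^ 2 - C l : F[X]) = 2 := degree_X_pow_sub_C (by norm_num) l
    have hg : degree (C (-z) * X ^ 2 : F[X]) = 2 := by
      rw [degree_C_mul_X_pow 2 (neg_ne_zero.mpr hz)]; rfl
    obtain ⟨a, b, hab⟩ := FiniteField.exists_root_sum_quadratic hf hg hodd
    refine ⟨a, b, ?_⟩
    simp only [eval_sub, eval_pow, eval_X, eval_C, eval_mul] at hab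
    linear_combination hab

/-- a linear automorphism of `F × F` commuting with `(a, b) ↦ (z b, a)` -/
def planeEquiv (z a₀ b₀ : F) (h : a₀ * a₀ - z * (b₀ * b₀) ≠ 0) : (F × F) ≃ₗ[F] (F × F) where
  toFun p := (a₀ * p.1 + z * b₀ * p.2, b₀ * p.1 + a₀ * p.2)
  invFun p := ((a₀ * a₀ - z * (b₀ * b₀))⁻¹ * (a₀ * p.1 - z * b₀ * p.2),
    (a₀ * a₀ - z * (b₀ * b₀))⁻¹ * (-b₀ * p.1 + a₀ * p.2))
  map_add' p p' := by
    refine Prod.ext ?_ ?_ <;> simp only [Prod.fst_add, Prod.snd_add] <;> ring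
  map_smul' c p := by
    refine Prod.ext ?_ ?_ <;>
      simp only [Prod.smul_fst, Prod.smul_snd, smul_eq_mul, RingHom.id_apply] <;> ring
  left_inv p := by
    refine Prod.ext ?_ ?_
    · show (a₀ * a₀ - z * (b₀ * b₀))⁻¹ *
        (a₀ * (a₀ * p.1 + z * b₀ * p.2) - z * b₀ * (b₀ * p.1 + a₀ * p.2)) = p.1
      rw [show a₀ * (a₀ * p.1 + z * b₀ * p.2) - z * b₀ * (b₀ * p.1 + a₀ * p.2) =
        (a₀ * a₀ - z * (b₀ * b₀)) * p.1 by ring, inv_mul_cancel_left₀ h]
    · show (a₀ * a₀ - z * (b₀ * b₀))⁻¹ *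
        (-b₀ * (a₀ * p.1 + z * b₀ * p.2) + a₀ * (b₀ * p.1 + a₀ * p.2)) = p.2
      rw [show -b₀ * (a₀ * p.1 + z * b₀ * p.2) + a₀ * (b₀ * p.1 + a₀ * p.2) =
        (a₀ * a₀ - z * (b₀ * b₀)) * p.2 by ring, inv_mul_cancel_left₀ h]
  right_inv p := by
    refine Prod.ext ?_ ?_
    · show a₀ * ((a₀ * a₀ - z * (b₀ * b₀))⁻¹ * (a₀ * p.1 - z * b₀ * p.2)) +
        z * b₀ * ((a₀ * a₀ - z * (b₀ * b₀))⁻¹ * (-b₀ * p.1 + a₀ * p.2)) = p.1
      rw [show a₀ * ((a₀ * a₀ - z * (b₀ * b₀))⁻¹ * (a₀ * p.1 - z * b₀ * p.2)) +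
        z * b₀ * ((a₀ * a₀ - z * (b₀ * b₀))⁻¹ * (-b₀ * p.1 + a₀ * p.2)) =
        (a₀ * a₀ - z * (b₀ * b₀))⁻¹ * ((a₀ * a₀ - z * (b₀ * b₀)) * p.1) by ring,
        inv_mul_cancel_left₀ h]
    · show b₀ * ((a₀ * a₀ - z * (b₀ * b₀))⁻¹ * (a₀ * p.1 - z * b₀ * p.2)) +
        a₀ * ((a₀ * a₀ - z * (b₀ * b₀))⁻¹ * (-b₀ * p.1 + a₀ * p.2)) = p.2
      rw [show b₀ * ((a₀ * a₀ - z * (b₀ * b₀))⁻¹ * (a₀ * p.1 - z * b₀ * p.2)) +
        a₀ * ((a₀ * a₀ - z * (b₀ * b₀))⁻¹ * (-b₀ * p.1 + a₀ * p.2)) =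
        (a₀ * a₀ - z * (b₀ * b₀))⁻¹ * ((a₀ * a₀ - z * (b₀ * b₀)) * p.2) by ring,
        inv_mul_cancel_left₀ h]

theorem planeEquiv_det (z a₀ b₀ : F) (h : a₀ * a₀ - z * (b₀ * b₀) ≠ 0) :
    LinearMap.det ((planeEquiv z a₀ b₀ h : (F × F) ≃ₗ[F] (F × F)) : (F × F) →ₗ[F] (F × F)) =
      a₀ * a₀ - z * (b₀ * b₀) := by
  rw [← LinearMap.det_toMatrix (Basis.finTwoProd F), Matrix.det_fin_two]
  simp only [LinearMap.toMatrix_apply, Basis.finTwoProd_zero, Basis.finTwoProd_one,
    Basis.coe_finTwoProd_repr, LinearEquiv.coe_coe]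
  simp [planeEquiv]
  ring


theorem planeEquiv_apply (z a₀ b₀ : F) (h : a₀ * a₀ - z * (b₀ * b₀) ≠ 0) (p : F × F) :
    planeEquiv z a₀ b₀ h p = (a₀ * p.1 + z * b₀ * p.2, b₀ * p.1 + a₀ * p.2) := rfl

/-- the determinant is surjective on the centralizer of a non-scalar `x` with `x² = z` -/
theorem exists_centralizer_det [Fintype F] {V : Type u} [AddCommGroup V] [Module F V]
    [FiniteDimensional F V] (z : F) (hz : z ≠ 0) (x : V →ₗ[F] V) (hx : ∀ v, x (x v) = z • v)
    (hns : ∀ c : F, x ≠ c • (1 : V →ₗ[F] V)) (l : F) (hl : l ≠ 0) :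
    ∃ C : V ≃ₗ[F] V, (∀ v, C (x v) = x (C v)) ∧ LinearMap.det (C : V →ₗ[F] V) = l := by
  have : ∃ u, LinearIndependent F ![u, x u] := by
    by_contra h
    push Not at h
    obtain ⟨c, hc⟩ := LinearMap.exists_eq_smul_id_of_forall_notLinearIndependent h
    exact hns c hc
  obtain ⟨u, hu⟩ := this
  obtain ⟨V', hV', σ, hσ⟩ := exists_split 0 z x (by intro v; rw [hx]; simp) u hu
  obtain ⟨a₀, b₀, hab⟩ := exists_norm_eq z l hz
  have hne : a₀ * a₀ - z * (b₀ * b₀) ≠ 0 := by rw [hab]; exact hl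
  let C : V ≃ₗ[F] V :=
    (σ.trans ((planeEquiv z a₀ b₀ hne).prodCongr (LinearEquiv.refl F V'))).trans σ.symm
  have hC : ∀ v, σ (C v) = (planeEquiv z a₀ b₀ hne (σ v).1, (σ v).2) := by
    intro v
    simp only [C, LinearEquiv.trans_apply, LinearEquiv.apply_symm_apply]
    rfl
  refine ⟨C, ?_, ?_⟩
  · intro v
    apply σ.injective
    rw [hC, hσ, hσ, hC]
    simp only [planeEquiv_apply]
    refine Prod.ext (Prod.ext ?_ ?_) rfl
    · simp only; ring
    · simp only; ring
  · have : (C : V →ₗ[F] V) = (σ.symm : _ →ₗ[F] V) ∘ₗ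
        (((planeEquiv z a₀ b₀ hne : (F × F) ≃ₗ[F] (F × F)) : (F × F) →ₗ[F] (F × F)).prodMap
          (LinearMap.id : V' →ₗ[F] V')) ∘ₗ ((σ.symm.symm : V ≃ₗ[F] _) : V →ₗ[F] _) := by
      ext v
      rfl
    rw [this, LinearMap.det_conj, LinearMap.det_prodMap, planeEquiv_det, LinearMap.det_id, mul_one,
      hab]


section twoadic

theorem odd_div_gcd {N n : ℕ} (hN : N ≠ 0) (hn : n ≠ 0)
    (h : padicValNat 2 N ≤ padicValNat 2 n) : ¬ 2 ∣ N / N.gcd n := by
  intro h2
  have hg0 : N.gcd n ≠ 0 := Nat.gcd_ne_zero_left hN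
  obtain ⟨N', hN'⟩ : N.gcd n ∣ N := Nat.gcd_dvd_left N n
  obtain ⟨n', hn'⟩ : N.gcd n ∣ n := Nat.gcd_dvd_right N n
  have hN'0 : N' ≠ 0 := by rintro rfl; rw [mul_zero] at hN'; exact hN hN'
  have hn'0 : n' ≠ 0 := by rintro rfl; rw [mul_zero] at hn'; exact hn hn'
  have hdiv : N / N.gcd n = N' :=
    Nat.div_eq_of_eq_mul_right (Nat.pos_of_ne_zero hg0) hN'
  rw [hdiv] at h2
  have hcop : Nat.Coprime N' n' := by
    have := Nat.coprime_div_gcd_div_gcd (Nat.pos_of_ne_zero hg0) (m := N) (n := n)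
    rw [hdiv] at this
    have h3 : n / N.gcd n = n' :=
      Nat.div_eq_of_eq_mul_right (Nat.pos_of_ne_zero hg0) hn'
    rwa [h3] at this
  have hn'odd : ¬ 2 ∣ n' := by
    intro h3
    have := Nat.dvd_gcd h2 h3
    rw [hcop] at this
    exact absurd this (by norm_num)
  have e1 : padicValNat 2 N = padicValNat 2 (N.gcd n) + padicValNat 2 N' := by
    conv_lhs => rw [hN']
    exact padicValNat.mul hg0 hN'0
  have e2 : padicValNat 2 n = padicValNat 2 (N.gcd n) + padicValNat 2 n' := by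
    conv_lhs => rw [hn']
    exact padicValNat.mul hg0 hn'0
  have e3 : padicValNat 2 n' = 0 := padicValNat.eq_zero_of_not_dvd hn'odd
  have e4 : 1 ≤ padicValNat 2 N' := one_le_padicValNat_of_dvd hN'0 h2
  omega

theorem even_div_gcd {N n : ℕ} (hN : N ≠ 0) (hn : n ≠ 0)
    (h : padicValNat 2 n < padicValNat 2 N) : 2 ∣ N / N.gcd n := by
  by_contra h2
  have hg0 : N.gcd n ≠ 0 := Nat.gcd_ne_zero_left hN
  obtain ⟨N', hN'⟩ : N.gcd n ∣ N := Nat.gcd_dvd_left N n
  obtain ⟨n', hn'⟩ : N.gcd n ∣ n := Nat.gcd_dvd_right N n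
  have hN'0 : N' ≠ 0 := by rintro rfl; rw [mul_zero] at hN'; exact hN hN'
  have hn'0 : n' ≠ 0 := by rintro rfl; rw [mul_zero] at hn'; exact hn hn'
  have hdiv : N / N.gcd n = N' :=
    Nat.div_eq_of_eq_mul_right (Nat.pos_of_ne_zero hg0) hN'
  rw [hdiv] at h2
  have e1 : padicValNat 2 N = padicValNat 2 (N.gcd n) + padicValNat 2 N' := by
    conv_lhs => rw [hN']
    exact padicValNat.mul hg0 hN'0
  have e2 : padicValNat 2 n = padicValNat 2 (N.gcd n) + padicValNat 2 n' := by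
    conv_lhs => rw [hn']
    exact padicValNat.mul hg0 hn'0
  have e3 : padicValNat 2 N' = 0 := padicValNat.eq_zero_of_not_dvd h2
  omega

variable [Fintype F]

theorem card_units_ne_zero : Fintype.card F - 1 ≠ 0 := by
  have := Fintype.one_lt_card (α := F)
  omega

theorem natCard_units : Nat.card Fˣ = Fintype.card F - 1 := by
  rw [Nat.card_units, Nat.card_eq_fintype_card]

/-- if `(q-1)_2 ≤ (n)_2` then `-1` is not an `n`-th power (odd characteristic) -/
theorem pow_ne_neg_one (h2 : (2 : F) ≠ 0) (n : ℕ) (hn : n ≠ 0)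
    (h : padicValNat 2 (Fintype.card F - 1) ≤ padicValNat 2 n) (w : F) : w ^ n ≠ -1 := by
  intro hw
  have hw0 : w ≠ 0 := by
    rintro rfl
    rw [zero_pow hn] at hw
    exact absurd hw.symm (by simp)
  have hneg : (-1 : Fˣ) ∈ (powMonoidHom n : Fˣ →* Fˣ).range := by
    refine ⟨Units.mk0 w hw0, ?_⟩
    ext
    simp [hw]
  have hord : orderOf (-1 : Fˣ) = 2 := by
    rw [orderOf_eq_iff (by norm_num)]
    refine ⟨by simp, ?_⟩
    intro m hm hm0
    interval_cases m
    simp only [pow_one, ne_eq, Units.ext_iff, Units.val_neg, Units.val_one]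
    intro h3
    apply h2
    have : (2 : F) = 1 - (-1) := by ring
    rw [this, h3]; ring
  have hdvd : 2 ∣ Nat.card (powMonoidHom n : Fˣ →* Fˣ).range := by
    rw [← hord]
    have := orderOf_dvd_natCard (⟨-1, hneg⟩ : (powMonoidHom n : Fˣ →* Fˣ).range)
    rwa [← Subgroup.orderOf_coe] at this
  rw [IsCyclic.card_powMonoidHom_range, natCard_units] at hdvd
  exact odd_div_gcd card_units_ne_zero hn h hdvd

/-- if `(n)_2 < (q-1)_2` then `-1` is an `n`-th power -/
theorem exists_pow_eq_neg_one (n : ℕ) (hn : n ≠ 0)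
    (h : padicValNat 2 n < padicValNat 2 (Fintype.card F - 1)) : ∃ w : F, w ^ n = -1 := by
  have hdvd : 2 ∣ Nat.card (powMonoidHom n : Fˣ →* Fˣ).range := by
    rw [IsCyclic.card_powMonoidHom_range, natCard_units]
    exact even_div_gcd card_units_ne_zero hn h
  haveI : Fact (Nat.Prime 2) := ⟨Nat.prime_two⟩
  obtain ⟨r, hr⟩ := exists_prime_orderOf_dvd_card' 2 hdvd
  obtain ⟨v, hv⟩ := r.2
  have hr2 : (r : Fˣ) ^ 2 = 1 := by
    have := pow_orderOf_eq_one r
    rw [hr] at this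
    have := congrArg Subtype.val this
    simpa using this
  have hr1 : (r : Fˣ) ≠ 1 := by
    intro h1
    have : r = 1 := Subtype.ext h1
    rw [this, orderOf_one] at hr
    exact absurd hr (by norm_num)
  refine ⟨(v : F), ?_⟩
  have hvr : ((v : Fˣ) : F) ^ n = ((r : Fˣ) : F) := by
    have := congrArg Units.val hv
    simpa using this
  rw [hvr]
  have h3 : (((r : Fˣ) : F) - 1) * (((r : Fˣ) : F) + 1) = 0 := by
    have := congrArg Units.val hr2
    simp only [Units.val_pow_eq_pow_val, Units.val_one] at this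
    linear_combination this
  rcases mul_eq_zero.mp h3 with h4 | h4
  · exfalso
    apply hr1
    ext
    simpa using sub_eq_zero.mp h4
  · exact eq_neg_of_add_eq_zero_left h4

end twoadic


section wrapper

variable [Fintype F] {n : ℕ}

theorem scalar_ne_zero (hn : 0 < n) (x : Matrix.SpecialLinearGroup (Fin n) F) (z : F)
    (hz : ((x ^ 2 : Matrix.SpecialLinearGroup (Fin n) F) : Matrix (Fin n) (Fin n) F) =
      z • (1 : Matrix (Fin n) (Fin n) F)) : z ≠ 0 := by
  rintro rfl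
  rw [zero_smul] at hz
  have hdet : ((x ^ 2 : Matrix.SpecialLinearGroup (Fin n) F) : Matrix (Fin n) (Fin n) F).det = 1 :=
    (x ^ 2).2
  haveI : Nonempty (Fin n) := ⟨⟨0, hn⟩⟩
  rw [hz, Matrix.det_zero] at hdet
  exact zero_ne_one hdet

theorem toLin_sq (x : Matrix.SpecialLinearGroup (Fin n) F) (z : F)
    (hz : ((x ^ 2 : Matrix.SpecialLinearGroup (Fin n) F) : Matrix (Fin n) (Fin n) F) =
      z • (1 : Matrix (Fin n) (Fin n) F)) (v : Fin n → F) :
    Matrix.toLin' (x : Matrix (Fin n) (Fin n) F)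
      (Matrix.toLin' (x : Matrix (Fin n) (Fin n) F) v) = z • v := by
  have hmul : (x : Matrix (Fin n) (Fin n) F) * (x : Matrix (Fin n) (Fin n) F)
      = z • (1 : Matrix (Fin n) (Fin n) F) := by
    rw [← hz]; simp [pow_two]
  rw [← LinearMap.comp_apply, ← Matrix.toLin'_mul, hmul]
  simp

theorem toLin_ne_scalar (x : Matrix.SpecialLinearGroup (Fin n) F)
    (hns : ∀ c : F, (x : Matrix (Fin n) (Fin n) F) ≠ c • (1 : Matrix (Fin n) (Fin n) F)) (c : F) :
    Matrix.toLin' (x : Matrix (Fin n) (Fin n) F) ≠ c • (1 : (Fin n → F) →ₗ[F] (Fin n → F)) := by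
  intro h
  apply hns c
  apply Matrix.toLin'.injective
  rw [h, map_smul, Matrix.toLin'_one]
  rfl

/-- conjugation by a linear automorphism can be realised inside `SL_n` -/
theorem exists_SL_conj (hn : 0 < n) (x : Matrix.SpecialLinearGroup (Fin n) F) (z : F)
    (hz : ((x ^ 2 : Matrix.SpecialLinearGroup (Fin n) F) : Matrix (Fin n) (Fin n) F) =
      z • (1 : Matrix (Fin n) (Fin n) F))
    (hns : ∀ c : F, (x : Matrix (Fin n) (Fin n) F) ≠ c • (1 : Matrix (Fin n) (Fin n) F))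
    (A : (Fin n → F) ≃ₗ[F] (Fin n → F)) :
    ∃ P : Matrix.SpecialLinearGroup (Fin n) F, ∀ u : Fin n → F,
      ((P⁻¹ * x * P : Matrix.SpecialLinearGroup (Fin n) F) : Matrix (Fin n) (Fin n) F).mulVec u =
        A (Matrix.toLin' (x : Matrix (Fin n) (Fin n) F) (A.symm u)) := by
  set X := Matrix.toLin' (x : Matrix (Fin n) (Fin n) F) with hX
  have hz0 := scalar_ne_zero hn x z hz
  have hdA : LinearMap.det (A : (Fin n → F) →ₗ[F] (Fin n → F)) ≠ 0 :=
    (LinearEquiv.isUnit_det' A).ne_zero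
  obtain ⟨C, hC, hCdet⟩ := exists_centralizer_det z hz0 X (toLin_sq x z hz) (toLin_ne_scalar x hns)
    (LinearMap.det (A : (Fin n → F) →ₗ[F] (Fin n → F)))⁻¹ (inv_ne_zero hdA)
  let Q : (Fin n → F) ≃ₗ[F] (Fin n → F) := C.trans A
  have hQdet : LinearMap.det (Q : (Fin n → F) →ₗ[F] (Fin n → F)) = 1 := by
    have : (Q : (Fin n → F) →ₗ[F] (Fin n → F)) =
        (A : (Fin n → F) →ₗ[F] (Fin n → F)) ∘ₗ (C : (Fin n → F) →ₗ[F] (Fin n → F)) := rfl
    rw [this, LinearMap.det_comp, hCdet, mul_inv_cancel₀ hdA]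
  have hQsdet : LinearMap.det (Q.symm : (Fin n → F) →ₗ[F] (Fin n → F)) = 1 := by
    have h1 : (Q.symm : (Fin n → F) →ₗ[F] (Fin n → F)) ∘ₗ (Q : (Fin n → F) →ₗ[F] (Fin n → F)) =
        LinearMap.id := by
      ext v; simp
    have h2 := congrArg LinearMap.det h1
    rw [LinearMap.det_comp, hQdet, mul_one, LinearMap.det_id] at h2
    exact h2
  let P : Matrix.SpecialLinearGroup (Fin n) F :=
    ⟨LinearMap.toMatrix' (Q.symm : (Fin n → F) →ₗ[F] (Fin n → F)), by
      rw [LinearMap.det_toMatrix', hQsdet]⟩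
  let P' : Matrix.SpecialLinearGroup (Fin n) F :=
    ⟨LinearMap.toMatrix' (Q : (Fin n → F) →ₗ[F] (Fin n → F)), by
      rw [LinearMap.det_toMatrix', hQdet]⟩
  have hPP : P' * P = 1 := by
    apply Subtype.ext
    show LinearMap.toMatrix' (Q : (Fin n → F) →ₗ[F] (Fin n → F)) *
      LinearMap.toMatrix' (Q.symm : (Fin n → F) →ₗ[F] (Fin n → F)) = 1
    rw [← LinearMap.toMatrix'_comp]
    have : (Q : (Fin n → F) →ₗ[F] (Fin n → F)) ∘ₗ (Q.symm : (Fin n → F) →ₗ[F] (Fin n → F)) =
        LinearMap.id := by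
      ext v; simp
    rw [this, LinearMap.toMatrix'_id]
  have hP' : P⁻¹ = P' := (eq_inv_of_mul_eq_one_left hPP).symm
  refine ⟨P, ?_⟩
  intro u
  rw [hP']
  show (LinearMap.toMatrix' (Q : (Fin n → F) →ₗ[F] (Fin n → F)) *
    (x : Matrix (Fin n) (Fin n) F) *
    LinearMap.toMatrix' (Q.symm : (Fin n → F) →ₗ[F] (Fin n → F))).mulVec u = _
  rw [← Matrix.toLin'_apply, Matrix.toLin'_mul, Matrix.toLin'_mul, Matrix.toLin'_toMatrix',
    Matrix.toLin'_toMatrix']
  show A (C (X (C.symm (A.symm u)))) = A (X (A.symm u))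
  rw [hC, C.apply_symm_apply]

end wrapper


section sim

variable {V : Type u} [AddCommGroup V] [Module F V] [FiniteDimensional F V]

/-- characteristic 2, or `z` a non-square: `x` is a similarity with multiplier `-z` -/
theorem hasSim_neg (z : F) (x : V →ₗ[F] V) (hx : ∀ v, x (x v) = z • v)
    (heven : Even (finrank F V)) (h : (2 : F) = 0 ∨ ∀ c : F, c * c ≠ z) : HasSim x (-z) := by
  obtain ⟨ι, _, κ, _, c, e, hc, he⟩ := exists_nf 0 z (finrank F V) V x rfl
    (by intro v; rw [hx]; simp)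
  have hdim : finrank F V = 2 * Fintype.card ι + Fintype.card κ := by
    rw [e.finrank_eq, Module.finrank_prod, Module.finrank_prod, Module.finrank_pi,
      Module.finrank_pi]
    ring
  have hκ : HasSim (c • (LinearMap.id : (κ → F) →ₗ[F] (κ → F))) (-z) := by
    by_cases hne : Nonempty κ
    · have hcc : c * c = z := by rw [hc hne]; ring
      rcases h with h | h
      · have hκe : Even (Fintype.card κ) := by
          rw [hdim] at heven
          rcases heven with ⟨t, ht⟩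
          exact ⟨t - Fintype.card ι, by omega⟩
        obtain ⟨k, hk⟩ := hκe
        have hzz : -z = c * c := by
          rw [hcc]
          have : z + z = 0 := by rw [← two_mul, h, zero_mul]
          exact neg_eq_of_add_eq_zero_left this
        rw [hzz]
        exact hasSim_scalar c k (by rw [Module.finrank_pi, hk]; ring)
      · exact absurd hcc (h c)
    · rw [not_nonempty_iff] at hne
      exact hasSim_of_subsingleton _ _
  have hmodel := hasSim_prod _ _ (hasSim_cyc z ι) hκ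
  refine hasSim_congr e.symm _ x ?_ hmodel
  intro m
  apply e.injective
  rw [he, e.apply_symm_apply, e.apply_symm_apply]

/-- odd characteristic, `z = w²`: eigenspace decomposition -/
theorem exists_eigen (w : F) (hw : w ≠ 0) (h2 : (2 : F) ≠ 0) (x : V →ₗ[F] V)
    (hx : ∀ v, x (x v) = (w * w) • v) :
    ∃ (Ep Em : Submodule F V) (e : (Ep × Em) ≃ₗ[F] V),
      (∀ v ∈ Ep, x v = w • v) ∧ (∀ v ∈ Em, x v = -w • v) ∧
      (∀ m : Ep × Em, e m = (m.1 : V) + (m.2 : V)) := by
  let Ep : Submodule F V := LinearMap.ker (x - w • (1 : V →ₗ[F] V))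
  let Em : Submodule F V := LinearMap.ker (x + w • (1 : V →ₗ[F] V))
  have hEp : ∀ v, v ∈ Ep ↔ x v = w • v := by
    intro v
    simp only [Ep, LinearMap.mem_ker, LinearMap.sub_apply, LinearMap.smul_apply,
      Module.End.one_apply, sub_eq_zero]
  have hEm : ∀ v, v ∈ Em ↔ x v = -w • v := by
    intro v
    simp only [Em, LinearMap.mem_ker, LinearMap.add_apply, LinearMap.smul_apply,
      Module.End.one_apply, neg_smul]
    exact add_eq_zero_iff_eq_neg
  have h2w : (2 * w : F) ≠ 0 := mul_ne_zero h2 hw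
  have hcompl : IsCompl Ep Em := by
    constructor
    · rw [Submodule.disjoint_def]
      intro v hp hm
      rw [hEp] at hp
      rw [hEm] at hm
      have : (2 * w) • v = 0 := by
        have h3 : w • v = -w • v := hp.symm.trans hm
        have h4 : (2 * w) • v = w • v - (-w • v) := by module
        rw [h4, ← h3, sub_self]
      exact (smul_eq_zero.mp this).resolve_left h2w
    · rw [Submodule.codisjoint_iff_exists_add_eq]
      intro v
      refine ⟨(2 * w)⁻¹ • (x v + w • v), (2 * w)⁻¹ • (w • v - x v), ?_, ?_, ?_⟩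
      · rw [hEp, map_smul, map_add, map_smul, hx]
        module
      · rw [hEm, map_smul, map_sub, map_smul, hx]
        module
      · rw [← smul_add]
        have : x v + w • v + (w • v - x v) = (2 * w) • v := by
          rw [two_mul, add_smul]; abel
        rw [this, smul_smul, inv_mul_cancel₀ h2w, one_smul]
  refine ⟨Ep, Em, Submodule.prodEquivOfIsCompl Ep Em hcompl, fun v hv => (hEp v).mp hv,
    fun v hv => (hEm v).mp hv, ?_⟩
  intro m
  rfl


/-- odd characteristic, `z = w²`: dimensions of the eigenspaces, determinant, similarity form -/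
theorem eigen_data (w : F) (hw : w ≠ 0) (h2 : (2 : F) ≠ 0) (x : V →ₗ[F] V)
    (hx : ∀ v, x (x v) = (w * w) • v) :
    ∃ a b : ℕ, a + b = finrank F V ∧ LinearMap.det x = w ^ a * (-w) ^ b ∧
      (Even a → Even b → HasSim x (w * w)) := by
  obtain ⟨Ep, Em, e, hp, hm, he⟩ := exists_eigen w hw h2 x hx
  let pm : (Ep × Em) →ₗ[F] (Ep × Em) :=
    (w • (LinearMap.id : Ep →ₗ[F] Ep)).prodMap ((-w) • (LinearMap.id : Em →ₗ[F] Em))
  have hpm : ∀ m, e (pm m) = x (e m) := by
    intro m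
    rw [he, he, map_add, hp _ m.1.2, hm _ m.2.2]
    simp [pm]
  refine ⟨finrank F Ep, finrank F Em, ?_, ?_, ?_⟩
  · rw [← e.finrank_eq, Module.finrank_prod]
  · have hxe : x = (e : (Ep × Em) →ₗ[F] V) ∘ₗ pm ∘ₗ (e.symm : V →ₗ[F] (Ep × Em)) := by
      ext v
      simp only [LinearMap.comp_apply, LinearEquiv.coe_coe]
      rw [hpm, e.apply_symm_apply]
    rw [hxe, LinearMap.det_conj, LinearMap.det_prodMap, LinearMap.det_smul, LinearMap.det_smul,
      LinearMap.det_id, LinearMap.det_id, mul_one, mul_one]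
  · rintro ⟨k, hk⟩ ⟨k', hk'⟩
    have h1 : HasSim (w • (LinearMap.id : Ep →ₗ[F] Ep)) (w * w) :=
      hasSim_scalar w k (by rw [hk]; ring)
    have h2' : HasSim ((-w) • (LinearMap.id : Em →ₗ[F] Em)) (w * w) := by
      have := hasSim_scalar (V := Em) (-w) k' (by rw [hk']; ring)
      rwa [neg_mul_neg] at this
    exact hasSim_congr e pm x hpm (hasSim_prod _ _ h1 h2')

end sim

section bad

open Cfsg.Geo

variable {n : ℕ}

/-- a "reflection-like" map (one eigenvalue `-w`, all others `w`) is not a similarity of a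
symplectic form in dimension at least 3 -/
theorem no_sim_of_reflection (hn : 3 ≤ n) (f : (Fin n → F) → (Fin n → F) → F)
    (hf : IsSymplecticForm f) (w : F) (hw : w ≠ 0) (h2 : (2 : F) ≠ 0)
    (M : (Fin n → F) →ₗ[F] (Fin n → F)) (b : Basis (Fin n) F (Fin n → F)) (i₀ : Fin n)
    (hb0 : M (b i₀) = -w • b i₀) (hb : ∀ i, i ≠ i₀ → M (b i) = w • b i) (c : F)
    (hM : ∀ u v, f (M u) (M v) = c * f u v) : False := by
  let B : LinearMap.BilinForm F (Fin n → F) :=
    LinearMap.mk₂ F f hf.bilinear.add_left (fun c x v => by rw [hf.bilinear.smul_left, smul_eq_mul])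
      hf.bilinear.add_right (fun c v x => by rw [hf.bilinear.smul_right, smul_eq_mul])
  have hB : ∀ u v, B u v = f u v := fun _ _ => rfl
  have hMB : ∀ u v, B (M u) (M v) = c * B u v := hM
  have hnd : ∀ u, (∀ i, B u (b i) = 0) → u = 0 := by
    intro u hu
    by_contra hne
    obtain ⟨-, y, hy⟩ := hf.nondegenerate u hne
    apply hy
    rw [← hB, ← b.sum_repr y, map_sum]
    refine Finset.sum_eq_zero fun i _ => ?_
    rw [map_smul, hu, smul_zero]
  have hnd' : ∀ u, u ≠ 0 → ∃ i, B (b i) u ≠ 0 := by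
    intro u hne
    obtain ⟨⟨y, hy⟩, -⟩ := hf.nondegenerate u hne
    by_contra hall
    push Not at hall
    apply hy
    rw [← hB, ← b.sum_repr y, map_sum, LinearMap.sum_apply]
    refine Finset.sum_eq_zero fun i _ => ?_
    rw [map_smul, LinearMap.smul_apply, hall, smul_zero]
  have hw2 : w * w ≠ 0 := mul_ne_zero hw hw
  -- some `B (b j) (b i₀) ≠ 0`
  obtain ⟨j, hj⟩ := hnd' (b i₀) (b.ne_zero i₀)
  have hji : j ≠ i₀ := by
    rintro rfl
    exact hj (hf.alternating _)
  have hc : c = -(w * w) := by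
    have := hMB (b j) (b i₀)
    rw [hb j hji, hb0] at this
    simp only [map_smul, LinearMap.smul_apply, smul_eq_mul] at this
    have h3 : (c + w * w) * B (b j) (b i₀) = 0 := by linear_combination -this
    rcases mul_eq_zero.mp h3 with h4 | h4
    · exact eq_neg_of_add_eq_zero_left h4
    · exact absurd h4 hj
  have hzero : ∀ i i', i ≠ i₀ → i' ≠ i₀ → B (b i) (b i') = 0 := by
    intro i i' hi hi'
    have := hMB (b i) (b i')
    rw [hb i hi, hb i' hi', hc] at this
    simp only [map_smul, LinearMap.smul_apply, smul_eq_mul] at this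
    have h3 : (2 * (w * w)) * B (b i) (b i') = 0 := by linear_combination this
    exact (mul_eq_zero.mp h3).resolve_left (mul_ne_zero h2 hw2)
  -- a third index
  obtain ⟨j', hj'i, hj'j⟩ : ∃ j' : Fin n, j' ≠ i₀ ∧ j' ≠ j := by
    by_contra hall
    push Not at hall
    have : Fintype.card (Fin n) ≤ 2 := by
      have hsub : (Finset.univ : Finset (Fin n)) ⊆ {i₀, j} := by
        intro k _
        by_cases hk : k = i₀
        · simp [hk]
        · simp [hall k hk]
      calc Fintype.card (Fin n) = (Finset.univ : Finset (Fin n)).card := rfl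
        _ ≤ ({i₀, j} : Finset (Fin n)).card := Finset.card_le_card hsub
        _ ≤ 2 := Finset.card_le_two
    rw [Fintype.card_fin] at this
    omega
  have hu : B (b j') (b i₀) • b j - B (b j) (b i₀) • b j' = 0 := by
    apply hnd
    intro i
    simp only [map_sub, LinearMap.sub_apply, map_smul, LinearMap.smul_apply, smul_eq_mul]
    by_cases hi : i = i₀
    · rw [hi]; ring
    · rw [hzero j i hji hi, hzero j' i hj'i hi]; ring
  have hli := b.linearIndependent
  have := congrArg (fun v => b.repr v j') hu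
  simp only [map_sub, map_smul, Basis.repr_self, Finsupp.coe_sub, Finsupp.coe_smul, Pi.sub_apply,
    Pi.smul_apply, smul_eq_mul, map_zero, Finsupp.coe_zero, Pi.zero_apply] at this
  rw [Finsupp.single_eq_of_ne (by exact hj'j), Finsupp.single_eq_same] at this
  apply hj
  linear_combination -this

end bad

end Cfsg.Agent.Helper14.InvolSL
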