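import Mathlib
import Cfsg.Prelude.Def_GeometricClasses
import Cfsg.Agent.Lib.Helper14.QuadNF
import Cfsg.Agent.Lib.Helper14.InvolSL

/-!
# Quadratic field subalgebras of matrix algebras and elements with scalar square
-/

set_option autoImplicit false

namespace Cfsg.Agent.Helper14.ExtFieldInvol

open Module Cfsg.Geo Cfsg.Agent.Helper14.QuadNF Cfsg.Agent.Helper14.InvolSL

universe u

variable {F : Type*} [Field F] {n : ℕ}

/-- a generator of a quadratic field subalgebra -/
theorem exists_gen (K : Subalgebra F (Matrix (Fin n) (Fin n) F)) (hK : IsFieldSubalgebra 2 K) :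
    ∃ θ ∈ K, ∃ α β : F, θ * θ = α • θ + β • (1 : Matrix (Fin n) (Fin n) F) ∧
      (∀ c : F, c * c ≠ α * c + β) ∧
      (∀ k, k ∈ K ↔ ∃ a b : F, k = a • (1 : Matrix (Fin n) (Fin n) F) + b • θ) ∧
      (∀ c : F, θ ≠ c • (1 : Matrix (Fin n) (Fin n) F)) := by
  have hfin : finrank F K = 2 := hK.finrank_eq
  haveI : FiniteDimensional F K := FiniteDimensional.of_finrank_pos (by rw [hfin]; norm_num)
  have h1 : (1 : K) ≠ 0 := by
    intro h
    have : Subsingleton K := by
      refine ⟨fun a b => ?_⟩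
      rw [← mul_one a, ← mul_one b, h, mul_zero, mul_zero]
    have := finrank_zero_of_subsingleton (R := F) (M := K)
    omega
  -- an element outside the scalars
  obtain ⟨θK, hθK⟩ : ∃ θK : K, θK ∉ Submodule.span F {(1 : K)} := by
    by_contra hall
    push Not at hall
    have htop : Submodule.span F {(1 : K)} = ⊤ := by
      rw [eq_top_iff]; intro v _; exact hall v
    have := finrank_span_singleton (K := F) h1
    rw [htop, finrank_top, hfin] at this
    omega
  have hli : LinearIndependent F ![(1 : K), θK] := by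
    rw [LinearIndependent.pair_iff' h1]
    intro a ha
    apply hθK
    rw [← ha]
    exact Submodule.smul_mem _ _ (Submodule.mem_span_singleton_self _)
  let b : Basis (Fin 2) F K := basisOfLinearIndependentOfCardEqFinrank hli (by rw [hfin]; rfl)
  have hb : ∀ k : K, k = (b.repr k 0) • (1 : K) + (b.repr k 1) • θK := by
    intro k
    conv_lhs => rw [← b.sum_repr k]
    rw [Fin.sum_univ_two]
    simp [b]
  set θ : Matrix (Fin n) (Fin n) F := (θK : Matrix (Fin n) (Fin n) F) with hθ
  have hspan : ∀ k, k ∈ K ↔ ∃ a b : F, k = a • (1 : Matrix (Fin n) (Fin n) F) + b • θ := by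
    intro k
    constructor
    · intro hk
      refine ⟨b.repr ⟨k, hk⟩ 0, b.repr ⟨k, hk⟩ 1, ?_⟩
      have := congrArg (Subtype.val) (hb ⟨k, hk⟩)
      simpa using this
    · rintro ⟨a, b', rfl⟩
      exact K.add_mem (K.smul_mem K.one_mem a) (K.smul_mem θK.2 b')
  have hns : ∀ c : F, θ ≠ c • (1 : Matrix (Fin n) (Fin n) F) := by
    intro c hc
    apply hθK
    have : θK = c • (1 : K) := by
      apply Subtype.ext
      rw [← hθ, hc]
      simp
    rw [this]
    exact Submodule.smul_mem _ _ (Submodule.mem_span_singleton_self _)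
  obtain ⟨β, α, hrel⟩ := (hspan (θ * θ)).mp (K.mul_mem θK.2 θK.2)
  refine ⟨θ, θK.2, α, β, by rw [hrel, add_comm], ?_, hspan, hns⟩
  intro c hc
  set u : Matrix (Fin n) (Fin n) F := θ - c • 1 with hu
  set u' : Matrix (Fin n) (Fin n) F := θ - (α - c) • 1 with hu'
  have huK : u ∈ K := K.sub_mem θK.2 (K.smul_mem K.one_mem c)
  have hu'K : u' ∈ K := K.sub_mem θK.2 (K.smul_mem K.one_mem (α - c))
  have hu0 : u ≠ 0 := by
    intro h
    exact hns c (sub_eq_zero.mp h)
  have hu'0 : u' ≠ 0 := by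
    intro h
    exact hns (α - c) (sub_eq_zero.mp h)
  have hprod : u * u' = 0 := by
    rw [hu, hu', sub_mul, mul_sub, mul_sub, hrel]
    simp only [Matrix.smul_mul, Matrix.mul_smul, Matrix.one_mul, Matrix.mul_one, smul_smul]
    have e : β + c * α - c * c = 0 := by rw [hc]; ring
    have : β • (1 : Matrix (Fin n) (Fin n) F) + α • θ - (α - c) • θ -
        (c • θ - ((α - c) * c) • 1) = (β + c * α - c * c) • (1 : Matrix (Fin n) (Fin n) F) := by
      module
    rw [this, e, zero_smul]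
  obtain ⟨y, hyK, hy⟩ := hK.inv u huK hu0
  apply hu'0
  calc u' = (u * y) * u' := by rw [hy, one_mul]
    _ = (y * u) * u' := by rw [hK.comm u huK y hyK]
    _ = y * (u * u') := by rw [mul_assoc]
    _ = 0 := by rw [hprod, mul_zero]

/-- criterion for lying in the normalizer of `K = F[θ]` -/
theorem mem_normalizer_of_conj (K : Subalgebra F (Matrix (Fin n) (Fin n) F))
    (θ : Matrix (Fin n) (Fin n) F)
    (hspan : ∀ k, k ∈ K ↔ ∃ a b : F, k = a • (1 : Matrix (Fin n) (Fin n) F) + b • θ)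
    (g : GL (Fin n) F) (ε α' : F) (hε : ε ≠ 0)
    (h : (g : Matrix (Fin n) (Fin n) F) * θ =
      (ε • θ + α' • (1 : Matrix (Fin n) (Fin n) F)) * (g : Matrix (Fin n) (Fin n) F)) :
    g ∈ subalgebraNormalizer K := by
  set G : Matrix (Fin n) (Fin n) F := (g : Matrix (Fin n) (Fin n) F) with hG
  set Gi : Matrix (Fin n) (Fin n) F := ((g⁻¹ : GL (Fin n) F) : Matrix (Fin n) (Fin n) F) with hGi
  have h1 : G * Gi = 1 := by
    rw [hG, hGi, ← Units.val_mul, mul_inv_cancel, Units.val_one]
  have h2 : Gi * G = 1 := by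
    rw [hG, hGi, ← Units.val_mul, inv_mul_cancel, Units.val_one]
  have hconj : G * θ * Gi = ε • θ + α' • 1 := by
    rw [h, mul_assoc, h1, mul_one]
  have hconj' : Gi * θ * G = ε⁻¹ • (θ - α' • 1) := by
    have h3 : Gi * (ε • θ + α' • 1) * G = θ := by
      rw [mul_assoc, ← h, ← mul_assoc, h2, one_mul]
    have h4 : Gi * (ε • θ + α' • 1) * G = ε • (Gi * θ * G) + α' • 1 := by
      rw [mul_add, add_mul, Matrix.mul_smul, Matrix.smul_mul, Matrix.mul_smul, Matrix.smul_mul,
        mul_one, h2]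
    rw [h4] at h3
    conv_rhs => rw [← h3]
    rw [add_sub_cancel_right, smul_smul, inv_mul_cancel₀ hε, one_smul]
  show ∀ k, k ∈ K ↔ G * k * Gi ∈ K
  intro k
  constructor
  · intro hk
    obtain ⟨a, b, rfl⟩ := (hspan k).mp hk
    rw [hspan]
    refine ⟨a + b * α', b * ε, ?_⟩
    rw [mul_add, add_mul, Matrix.mul_smul, Matrix.smul_mul, Matrix.mul_smul, Matrix.smul_mul,
      mul_one, h1, hconj]
    module
  · intro hk
    obtain ⟨a, b, hab⟩ := (hspan _).mp hk
    have hk' : k = Gi * (G * k * Gi) * G := by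
      rw [mul_assoc G k Gi, ← mul_assoc Gi G, h2, one_mul, mul_assoc, h2, mul_one]
    rw [hk', hab, hspan]
    refine ⟨a - b * ε⁻¹ * α', b * ε⁻¹, ?_⟩
    rw [mul_add, add_mul, Matrix.mul_smul, Matrix.smul_mul, Matrix.mul_smul, Matrix.smul_mul,
      mul_one, h2, hconj']
    module


/-- odd characteristic: a generator with scalar square -/
theorem exists_gen_odd (h2 : (2 : F) ≠ 0) (K : Subalgebra F (Matrix (Fin n) (Fin n) F))
    (hK : IsFieldSubalgebra 2 K) :
    ∃ θ ∈ K, ∃ d : F, θ * θ = d • (1 : Matrix (Fin n) (Fin n) F) ∧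
      (∀ c : F, c * c ≠ d) ∧
      (∀ k, k ∈ K ↔ ∃ a b : F, k = a • (1 : Matrix (Fin n) (Fin n) F) + b • θ) := by
  obtain ⟨θ, hθK, α, β, hrel, hroot, hspan, hns⟩ := exists_gen K hK
  refine ⟨(2 : F) • θ - α • 1, K.sub_mem (K.smul_mem hθK 2) (K.smul_mem K.one_mem α),
    α * α + 4 * β, ?_, ?_, ?_⟩
  · rw [sub_mul, mul_sub, mul_sub]
    simp only [Matrix.smul_mul, Matrix.mul_smul, Matrix.one_mul, Matrix.mul_one, smul_smul, hrel]
    module
  · intro c hc
    apply hroot ((c + α) / 2)
    field_simp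
    linear_combination hc
  · intro k
    rw [hspan]
    constructor
    · rintro ⟨a, b, rfl⟩
      refine ⟨a + b * α / 2, b / 2, ?_⟩
      rw [smul_sub, smul_smul, smul_smul]
      have e1 : b / 2 * 2 = b := by field_simp
      have e2 : b / 2 * α = b * α / 2 := by ring
      rw [e1, e2]
      module
    · rintro ⟨a, b, rfl⟩
      exact ⟨a - b * α, b * 2, by module⟩

section field

variable [Fintype F]

theorem ringChar_ne_two (h2 : (2 : F) ≠ 0) : ringChar F ≠ 2 := by
  intro h
  apply h2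
  have := ringChar.Nat.cast_ringChar (R := F)
  rw [h] at this
  exact_mod_cast this

theorem ringChar_eq_two (h2 : (2 : F) = 0) : ringChar F = 2 := by
  have hdvd : ringChar F ∣ 2 := ringChar.dvd (by exact_mod_cast h2)
  rcases (Nat.dvd_prime Nat.prime_two).mp hdvd with h | h
  · exact absurd h (CharP.ringChar_ne_one)
  · exact h

/-- the ratio of two non-squares is a square -/
theorem exists_sq_ratio (h2 : (2 : F) ≠ 0) (z d : F) (hz : ∀ c : F, c * c ≠ z)
    (hd : ∀ c : F, c * c ≠ d) : ∃ e : F, e * e * z = d := by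
  have hF := ringChar_ne_two h2
  have hz0 : z ≠ 0 := by rintro rfl; exact hz 0 (by ring)
  have hd0 : d ≠ 0 := by rintro rfl; exact hd 0 (by ring)
  have hzq : z ^ (Fintype.card F / 2) = -1 := by
    rcases FiniteField.pow_dichotomy hF hz0 with h | h
    · exfalso
      obtain ⟨c, hc⟩ := (FiniteField.isSquare_iff hF hz0).mpr h
      exact hz c hc.symm
    · exact h
  have hdq : d ^ (Fintype.card F / 2) = -1 := by
    rcases FiniteField.pow_dichotomy hF hd0 with h | h
    · exfalso
      obtain ⟨c, hc⟩ := (FiniteField.isSquare_iff hF hd0).mpr h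
      exact hd c hc.symm
    · exact h
  have hdz : (d / z) ^ (Fintype.card F / 2) = 1 := by
    rw [div_pow, hzq, hdq]; norm_num
  obtain ⟨e, he⟩ := (FiniteField.isSquare_iff hF (div_ne_zero hd0 hz0)).mpr hdz
  refine ⟨e, ?_⟩
  rw [← he]
  field_simp

end field

section models

variable (ι : Type*)

/-- a map anticommuting with `cyc 0 z` whose square is `p² - z r²` -/
def acyc (p r z : F) : ((ι → F) × (ι → F)) →ₗ[F] ((ι → F) × (ι → F)) :=
  LinearMap.prod (p • LinearMap.fst F (ι → F) (ι → F) - (z * r) • LinearMap.snd F (ι → F) (ι → F))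
    (r • LinearMap.fst F (ι → F) (ι → F) - p • LinearMap.snd F (ι → F) (ι → F))

theorem acyc_apply (p r z : F) (m : (ι → F) × (ι → F)) :
    acyc ι p r z m = (p • m.1 - (z * r) • m.2, r • m.1 - p • m.2) := rfl

theorem acyc_sq (p r z : F) (m : (ι → F) × (ι → F)) :
    acyc ι p r z (acyc ι p r z m) = (p * p - z * (r * r)) • m := by
  rw [acyc_apply, acyc_apply]
  refine Prod.ext ?_ ?_
  · funext i
    simp only [Prod.smul_fst, Pi.sub_apply, Pi.smul_apply, smul_eq_mul]
    ring
  · funext i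
    simp only [Prod.smul_snd, Pi.sub_apply, Pi.smul_apply, smul_eq_mul]
    ring

theorem cyc_acyc (p r z : F) (m : (ι → F) × (ι → F)) :
    cyc 0 z ι (acyc ι p r z m) = -acyc ι p r z (cyc 0 z ι m) := by
  rw [cyc_apply, acyc_apply, acyc_apply, cyc_apply]
  refine Prod.ext ?_ ?_
  · funext i
    simp only [Prod.fst_neg, Pi.neg_apply, Pi.sub_apply, Pi.smul_apply, Pi.add_apply, smul_eq_mul]
    ring
  · funext i
    simp only [Prod.snd_neg, Pi.neg_apply, Pi.sub_apply, Pi.smul_apply, Pi.add_apply, smul_eq_mul]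
    ring

/-- characteristic 2: a map `κ` with `κ² = α κ + z r²` and `x κ = (κ + α) x` for `x = cyc 0 z` -/
def bcyc (r α z : F) : ((ι → F) × (ι → F)) →ₗ[F] ((ι → F) × (ι → F)) :=
  LinearMap.prod ((z * r) • LinearMap.snd F (ι → F) (ι → F))
    (r • LinearMap.fst F (ι → F) (ι → F) + α • LinearMap.snd F (ι → F) (ι → F))

theorem bcyc_apply (r α z : F) (m : (ι → F) × (ι → F)) :
    bcyc ι r α z m = ((z * r) • m.2, r • m.1 + α • m.2) := rfl

theorem bcyc_sq (r α z : F) (m : (ι → F) × (ι → F)) :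
    bcyc ι r α z (bcyc ι r α z m) = α • bcyc ι r α z m + (z * (r * r)) • m := by
  rw [bcyc_apply, bcyc_apply]
  refine Prod.ext ?_ ?_
  · funext i
    simp only [Prod.fst_add, Prod.smul_fst, Pi.add_apply, Pi.smul_apply, smul_eq_mul]
    ring
  · funext i
    simp only [Prod.snd_add, Prod.smul_snd, Pi.add_apply, Pi.smul_apply, smul_eq_mul]
    ring

theorem cyc_bcyc (h2 : (2 : F) = 0) (r α z : F) (m : (ι → F) × (ι → F)) :
    cyc 0 z ι (bcyc ι r α z m) = bcyc ι r α z (cyc 0 z ι m) + α • cyc 0 z ι m := by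
  rw [cyc_apply, bcyc_apply, bcyc_apply, cyc_apply]
  refine Prod.ext ?_ ?_
  · funext i
    simp only [Prod.fst_add, Prod.smul_fst, Pi.add_apply, Pi.smul_apply, smul_eq_mul]
    ring
  · funext i
    simp only [Prod.snd_add, Prod.smul_snd, Pi.add_apply, Pi.smul_apply, smul_eq_mul]
    linear_combination (-(α * m.1 i)) * h2

end models


section kappa

variable {V : Type u} [AddCommGroup V] [Module F V] [FiniteDimensional F V]

/-- dimension 2, non-scalar: a single cyclic plane -/
theorem exists_nf_two (α β : F) (x : V →ₗ[F] V) (hx : ∀ v, x (x v) = α • x v + β • v)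
    (hdim : finrank F V = 2) (hns : ∀ c : F, x ≠ c • (1 : V →ₗ[F] V)) :
    ∃ (ι : Type) (_ : Fintype ι) (e : V ≃ₗ[F] ((ι → F) × (ι → F))),
      ∀ v, e (x v) = cyc α β ι (e v) := by
  obtain ⟨ι, _, κ, _, c, e, hc, he⟩ := exists_nf α β (finrank F V) V x rfl hx
  have hd : finrank F V = 2 * Fintype.card ι + Fintype.card κ := by
    rw [e.finrank_eq, Module.finrank_prod, Module.finrank_prod, Module.finrank_pi,
      Module.finrank_pi]
    ring
  have hι : Fintype.card ι ≠ 0 := by
    intro h0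
    have : IsEmpty ι := Fintype.card_eq_zero_iff.mp h0
    apply hns c
    ext v
    apply e.injective
    rw [he]
    simp only [LinearMap.smul_apply, Module.End.one_apply, map_smul]
    refine Prod.ext (Subsingleton.elim _ _) ?_
    simp
  have hκ0 : Fintype.card κ = 0 := by omega
  have : IsEmpty κ := Fintype.card_eq_zero_iff.mp hκ0
  haveI : Unique (κ → F) := Pi.uniqueOfIsEmpty _
  refine ⟨ι, inferInstance, e.trans (LinearEquiv.prodUnique (R := F) (M := (ι → F) × (ι → F))
    (M₂ := κ → F)), ?_⟩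
  intro v
  simp only [LinearEquiv.trans_apply, LinearEquiv.prodUnique_apply]
  rw [he v]
  rfl

/-- transfer of a map on a model along a linear equivalence -/
theorem transfer {M : Type*} [AddCommGroup M] [Module F M] (e : V ≃ₗ[F] M) (x : V →ₗ[F] V)
    (xm km : M →ₗ[F] M) (he : ∀ v, e (x v) = xm (e v)) (α β ε α' : F)
    (h1 : ∀ m, km (km m) = α • km m + β • m)
    (h2 : ∀ m, xm (km m) = ε • km (xm m) + α' • xm m) :
    ∃ κ' : V →ₗ[F] V, (∀ v, κ' (κ' v) = α • κ' v + β • v) ∧
      ∀ v, x (κ' v) = ε • κ' (x v) + α' • x v := by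
  refine ⟨(e.symm : M →ₗ[F] V) ∘ₗ km ∘ₗ (e : V →ₗ[F] M), ?_, ?_⟩
  · intro v
    simp only [LinearMap.comp_apply, LinearEquiv.coe_coe, e.apply_symm_apply]
    rw [h1, map_add, map_smul, map_smul, e.symm_apply_apply]
  · intro v
    simp only [LinearMap.comp_apply, LinearEquiv.coe_coe]
    apply e.injective
    rw [he, e.apply_symm_apply, h2, map_add, map_smul, map_smul, e.apply_symm_apply, he]

/-- odd characteristic, `z = w²`, even-dimensional eigenspaces: a commuting `κ'` with `κ'² = d` -/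
theorem eigen_commuting (w : F) (hw : w ≠ 0) (h2 : (2 : F) ≠ 0) (x : V →ₗ[F] V)
    (hx : ∀ v, x (x v) = (w * w) • v) (d : F) :
    ∃ a b : ℕ, a + b = finrank F V ∧ LinearMap.det x = w ^ a * (-w) ^ b ∧
      (Even a → Even b → ∃ κ' : V →ₗ[F] V, (∀ v, κ' (κ' v) = (0 : F) • κ' v + d • v) ∧
        ∀ v, x (κ' v) = (1 : F) • κ' (x v) + (0 : F) • x v) := by
  obtain ⟨Ep, Em, e, hp, hm, he⟩ := exists_eigen w hw h2 x hx
  let pm : (Ep × Em) →ₗ[F] (Ep × Em) :=
    (w • (LinearMap.id : Ep →ₗ[F] Ep)).prodMap ((-w) • (LinearMap.id : Em →ₗ[F] Em))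
  have hpm : ∀ m, e (pm m) = x (e m) := by
    intro m
    rw [he, he, map_add, hp _ m.1.2, hm _ m.2.2]
    simp [pm]
  refine ⟨finrank F Ep, finrank F Em, ?_, ?_, ?_⟩
  · rw [← e.finrank_eq, Module.finrank_prod]
  · have hxe : x = (e : (Ep × Em) →ₗ[F] V) ∘ₗ pm ∘ₗ (e.symm : V →ₗ[F] (Ep × Em)) := by
      ext v
      simp only [LinearMap.comp_apply, LinearEquiv.coe_coe]
      rw [hpm, e.apply_symm_apply]
    rw [hxe, LinearMap.det_conj, LinearMap.det_prodMap, LinearMap.det_smul, LinearMap.det_smul,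
      LinearMap.det_id, LinearMap.det_id, mul_one, mul_one]
  · rintro ⟨k, hk⟩ ⟨k', hk'⟩
    have hsq : ∀ (E : Type u) [AddCommGroup E] [Module F E] [FiniteDimensional F E] (j : ℕ),
        finrank F E = j + j → ∃ κ : E →ₗ[F] E, ∀ v, κ (κ v) = d • v := by
      intro E _ _ _ j hj
      have hfin : finrank F E = finrank F ((Fin j → F) × (Fin j → F)) := by
        rw [hj, Module.finrank_prod, Module.finrank_pi, Fintype.card_fin]
      let ε : E ≃ₗ[F] ((Fin j → F) × (Fin j → F)) := LinearEquiv.ofFinrankEq _ _ hfin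
      refine ⟨(ε.symm : _ →ₗ[F] E) ∘ₗ cyc 0 d (Fin j) ∘ₗ (ε : E →ₗ[F] _), ?_⟩
      intro v
      simp only [LinearMap.comp_apply, LinearEquiv.coe_coe, ε.apply_symm_apply]
      rw [cyc_apply, cyc_apply]
      simp only [zero_smul, add_zero]
      have : ((d • (ε v).1, d • (ε v).2) : (Fin j → F) × (Fin j → F)) = d • ε v := rfl
      rw [this, map_smul, ε.symm_apply_apply]
    obtain ⟨κp, hκp⟩ := hsq Ep k hk
    obtain ⟨κm, hκm⟩ := hsq Em k' hk'
    refine transfer e.symm x pm (κp.prodMap κm) ?_ 0 d 1 0 ?_ ?_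
    · intro v
      apply e.injective
      rw [hpm, e.apply_symm_apply, e.apply_symm_apply]
    · intro m
      simp only [LinearMap.prodMap_apply, hκp, hκm, zero_smul, zero_add]
      rfl
    · intro m
      simp only [LinearMap.prodMap_apply, pm, LinearMap.smul_apply, LinearMap.id_apply, map_smul,
        one_smul, zero_smul, add_zero]

end kappa


section main

variable [Fintype F]

/-- the data needed to conjugate `x` into the normalizer of `K` -/
theorem exists_kappa (hn : 2 ≤ n) (hev : Even n)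
    (K : Subalgebra F (Matrix (Fin n) (Fin n) F)) (hK : IsFieldSubalgebra 2 K)
    (hcond : n = 2 ∨ ((2 : F) ≠ 0 ∧ padicValNat 2 (Fintype.card F - 1) ≤ padicValNat 2 n))
    (x : Matrix.SpecialLinearGroup (Fin n) F) (z : F)
    (hz : ((x ^ 2 : Matrix.SpecialLinearGroup (Fin n) F) : Matrix (Fin n) (Fin n) F) =
      z • (1 : Matrix (Fin n) (Fin n) F))
    (hns : ∀ c : F, (x : Matrix (Fin n) (Fin n) F) ≠ c • (1 : Matrix (Fin n) (Fin n) F)) :
    ∃ θ ∈ K, ∃ α β ε α' : F, ε ≠ 0 ∧
      θ * θ = α • θ + β • (1 : Matrix (Fin n) (Fin n) F) ∧ (∀ c : F, c * c ≠ α * c + β) ∧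
      (∀ k, k ∈ K ↔ ∃ a b : F, k = a • (1 : Matrix (Fin n) (Fin n) F) + b • θ) ∧
      ∃ κ' : (Fin n → F) →ₗ[F] (Fin n → F), (∀ v, κ' (κ' v) = α • κ' v + β • v) ∧
        ∀ v, Matrix.toLin' (x : Matrix (Fin n) (Fin n) F) (κ' v) =
          ε • κ' (Matrix.toLin' (x : Matrix (Fin n) (Fin n) F) v) +
            α' • Matrix.toLin' (x : Matrix (Fin n) (Fin n) F) v := by
  have hnpos : 0 < n := by omega
  have hn0 : n ≠ 0 := by omega
  set X := Matrix.toLin' (x : Matrix (Fin n) (Fin n) F) with hXdef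
  have hz0 := scalar_ne_zero hnpos x z hz
  have hX : ∀ v, X (X v) = z • v := toLin_sq x z hz
  have hX' : ∀ v, X (X v) = (0 : F) • X v + z • v := by
    intro v; rw [hX, zero_smul, zero_add]
  have hXns := toLin_ne_scalar x hns
  have hfin : finrank F (Fin n → F) = n := by rw [Module.finrank_pi, Fintype.card_fin]
  by_cases h2 : (2 : F) = 0
  · -- characteristic 2: `n = 2`
    have hn2 : n = 2 := by
      rcases hcond with h | ⟨h, -⟩
      · exact h
      · exact absurd h2 h
    obtain ⟨θ, hθK, α, β, hrel, hroot, hspan, -⟩ := exists_gen K hK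
    obtain ⟨r, hr⟩ := FiniteField.isSquare_of_char_two (ringChar_eq_two h2) (β / z)
    have hr' : z * (r * r) = β := by
      rw [← hr]; field_simp
    obtain ⟨ι, _, e, he⟩ := exists_nf_two 0 z X hX' (by rw [hfin, hn2]) hXns
    refine ⟨θ, hθK, α, β, 1, α, one_ne_zero, hrel, hroot, hspan, ?_⟩
    refine transfer e X (cyc 0 z ι) (bcyc ι r α z) he α β 1 α ?_ ?_
    · intro m
      rw [bcyc_sq, hr']
    · intro m
      rw [cyc_bcyc ι h2, one_smul]
  · -- odd characteristic
    obtain ⟨θ, hθK, d, hrel, hroot, hspan⟩ := exists_gen_odd h2 K hK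
    have hrel' : θ * θ = (0 : F) • θ + d • (1 : Matrix (Fin n) (Fin n) F) := by
      rw [hrel, zero_smul, zero_add]
    have hroot' : ∀ c : F, c * c ≠ 0 * c + d := by
      intro c; rw [zero_mul, zero_add]; exact hroot c
    by_cases hsq : ∃ w : F, w * w = z
    · obtain ⟨w, rfl⟩ := hsq
      have hw0 : w ≠ 0 := by
        rintro rfl
        exact hz0 (by ring)
      by_cases hn2 : n = 2
      · obtain ⟨ι, _, e, he⟩ := exists_nf_two 0 (w * w) X hX' (by rw [hfin, hn2]) hXns
        obtain ⟨p, r, hpr⟩ := exists_norm_eq (w * w) d hz0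
        refine ⟨θ, hθK, 0, d, -1, 0, by norm_num, hrel', hroot', hspan, ?_⟩
        refine transfer e X (cyc 0 (w * w) ι) (acyc ι p r (w * w)) he 0 d (-1) 0 ?_ ?_
        · intro m
          rw [acyc_sq, hpr, zero_smul, zero_add]
        · intro m
          rw [cyc_acyc, zero_smul, add_zero, neg_smul, one_smul]
      · have hle : padicValNat 2 (Fintype.card F - 1) ≤ padicValNat 2 n := by
          rcases hcond with h | ⟨-, h⟩
          · exact absurd h hn2
          · exact h
        obtain ⟨a, b, hab, hdet, hκ⟩ := eigen_commuting w hw0 h2 X hX d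
        have hdetX : LinearMap.det X = 1 := by
          rw [hXdef, LinearMap.det_toLin']
          exact x.2
        rw [hfin] at hab
        have hb : Even b := by
          by_contra hodd
          rw [Nat.not_even_iff_odd] at hodd
          have h1 : w ^ a * (-w) ^ b = 1 := by rw [← hdet, hdetX]
          rw [neg_pow, hodd.neg_one_pow] at h1
          have h3 : w ^ n = -1 := by
            rw [← hab, pow_add]
            linear_combination -h1
          exact pow_ne_neg_one h2 n hn0 hle w h3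
        have ha : Even a := by
          have hne : Even (a + b) := by rw [hab]; exact hev
          exact (Nat.even_add.mp hne).mpr hb
        exact ⟨θ, hθK, 0, d, 1, 0, one_ne_zero, hrel', hroot', hspan, hκ ha hb⟩
    · push Not at hsq
      obtain ⟨e, he⟩ := exists_sq_ratio h2 z d hsq hroot
      refine ⟨θ, hθK, 0, d, 1, 0, one_ne_zero, hrel', hroot', hspan, e • X, ?_, ?_⟩
      · intro v
        rw [zero_smul, zero_add]
        simp only [LinearMap.smul_apply, map_smul, hX, smul_smul]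
        rw [← he]
        congr 1
        ring
      · intro v
        simp only [LinearMap.smul_apply, map_smul, one_smul, zero_smul, add_zero]

/-- every element of `SL_n` with scalar square is `SL_n`-conjugate into the normalizer of `K` -/
theorem exists_SL_normalizing (hn : 2 ≤ n) (hev : Even n)
    (K : Subalgebra F (Matrix (Fin n) (Fin n) F)) (hK : IsFieldSubalgebra 2 K)
    (hcond : n = 2 ∨ ((2 : F) ≠ 0 ∧ padicValNat 2 (Fintype.card F - 1) ≤ padicValNat 2 n))
    (x : Matrix.SpecialLinearGroup (Fin n) F) (z : F)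
    (hz : ((x ^ 2 : Matrix.SpecialLinearGroup (Fin n) F) : Matrix (Fin n) (Fin n) F) =
      z • (1 : Matrix (Fin n) (Fin n) F))
    (hns : ∀ c : F, (x : Matrix (Fin n) (Fin n) F) ≠ c • (1 : Matrix (Fin n) (Fin n) F)) :
    ∃ P : Matrix.SpecialLinearGroup (Fin n) F, P⁻¹ * x * P ∈ (subalgebraNormalizer K).comap
      (Matrix.SpecialLinearGroup.toGL : Matrix.SpecialLinearGroup (Fin n) F →* GL (Fin n) F) := by
  have hnpos : 0 < n := by omega
  obtain ⟨θ, hθK, α, β, ε, α', hε, hrel, hroot, hspan, κ', hκ1, hκ2⟩ :=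
    exists_kappa hn hev K hK hcond x z hz hns
  set X := Matrix.toLin' (x : Matrix (Fin n) (Fin n) F) with hXdef
  set Θ := Matrix.toLin' θ with hΘdef
  have hΘ : ∀ v, Θ (Θ v) = α • Θ v + β • v := by
    intro v
    rw [hΘdef, ← LinearMap.comp_apply, ← Matrix.toLin'_mul, hrel]
    simp only [map_add, map_smul, LinearMap.add_apply, LinearMap.smul_apply, Matrix.toLin'_one,
      LinearMap.id_apply]
  obtain ⟨A, hA⟩ := exists_conj_of_rootless α β hroot Θ κ' hΘ hκ1
  obtain ⟨P, hP⟩ := exists_SL_conj hnpos x z hz hns A.symm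
  refine ⟨P, ?_⟩
  rw [Subgroup.mem_comap]
  apply mem_normalizer_of_conj K θ hspan _ ε α' hε
  set g : Matrix (Fin n) (Fin n) F :=
    ((P⁻¹ * x * P : Matrix.SpecialLinearGroup (Fin n) F) : Matrix (Fin n) (Fin n) F) with hg
  show g * θ = (ε • θ + α' • (1 : Matrix (Fin n) (Fin n) F)) * g
  have hgu : ∀ u, g.mulVec u = A.symm (X (A u)) := by
    intro u
    rw [hg, hP u]
    rfl
  have hΘA : ∀ y, Θ (A.symm y) = A.symm (κ' y) := by
    intro y
    apply A.injective
    rw [hA, A.apply_symm_apply, A.apply_symm_apply]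
  apply Matrix.toLin'.injective
  apply LinearMap.ext
  intro u
  rw [Matrix.toLin'_mul, Matrix.toLin'_mul, LinearMap.comp_apply, LinearMap.comp_apply,
    Matrix.toLin'_apply g, Matrix.toLin'_apply g, hgu, hgu]
  simp only [map_add, map_smul, LinearMap.add_apply, LinearMap.smul_apply, Matrix.toLin'_one,
    LinearMap.id_apply]
  rw [← hΘdef, hA, hκ2, map_add, map_smul, map_smul, hΘA]

end main


section bad

/-- an element normalizing a quadratic field subalgebra cannot differ from a scalar by a map of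
rank one, in dimension at least 3 -/
theorem no_rank_one_normalizer (hn : 3 ≤ n) (K : Subalgebra F (Matrix (Fin n) (Fin n) F))
    (hK : IsFieldSubalgebra 2 K) (g : GL (Fin n) F) (hg : g ∈ subalgebraNormalizer K)
    (w : F) (hw : w ≠ 0) (u₀ : Fin n → F)
    (hrange : ∀ v, ∃ t : F, (g : Matrix (Fin n) (Fin n) F).mulVec v - w • v = t • u₀)
    (hne : ∃ v, (g : Matrix (Fin n) (Fin n) F).mulVec v ≠ w • v) : False := by
  classical
  set G : Matrix (Fin n) (Fin n) F := (g : Matrix (Fin n) (Fin n) F) with hG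
  set Gi : Matrix (Fin n) (Fin n) F := ((g⁻¹ : GL (Fin n) F) : Matrix (Fin n) (Fin n) F) with hGi
  have h1 : G * Gi = 1 := by
    rw [hG, hGi, ← Units.val_mul, mul_inv_cancel, Units.val_one]
  have h2 : Gi * G = 1 := by
    rw [hG, hGi, ← Units.val_mul, inv_mul_cancel, Units.val_one]
  have hgK : ∀ k, k ∈ K → G * k * Gi ∈ K := fun k hk => (hg k).mp hk
  obtain ⟨θ, hθK, α, β, hrel, hroot, hspan, hns⟩ := exists_gen K hK
  obtain ⟨v₀, hv₀⟩ := hne
  obtain ⟨t₀, ht₀⟩ := hrange v₀
  have ht₀0 : t₀ ≠ 0 := by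
    rintro rfl
    rw [zero_smul] at ht₀
    exact hv₀ (sub_eq_zero.mp ht₀)
  have hu₀ : u₀ ≠ 0 := by
    rintro rfl
    rw [smul_zero] at ht₀
    exact hv₀ (sub_eq_zero.mp ht₀)
  by_cases hcomm : ∀ k ∈ K, G * k * Gi = k
  · -- `g` centralizes `K`
    have hGθ : G * θ = θ * G := by
      have := hcomm θ hθK
      calc G * θ = G * θ * (Gi * G) := by rw [h2, mul_one]
        _ = (G * θ * Gi) * G := by simp only [mul_assoc]
        _ = θ * G := by rw [this]
    obtain ⟨t₁, ht₁⟩ := hrange (θ.mulVec v₀)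
    have hθu : θ.mulVec u₀ = (t₁ / t₀) • u₀ := by
      have e1 : θ.mulVec (t₀ • u₀) = t₁ • u₀ := by
        rw [← ht₀, ← ht₁, Matrix.mulVec_sub, Matrix.mulVec_smul, Matrix.mulVec_mulVec, ← hGθ,
          ← Matrix.mulVec_mulVec]
      rw [Matrix.mulVec_smul] at e1
      have : θ.mulVec u₀ = t₀⁻¹ • (t₀ • θ.mulVec u₀) := by
        rw [smul_smul, inv_mul_cancel₀ ht₀0, one_smul]
      rw [this, e1, smul_smul]
      congr 1
      rw [div_eq_inv_mul]
    set l := t₁ / t₀
    have hu : θ - l • 1 ∈ K := K.sub_mem hθK (K.smul_mem K.one_mem l)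
    have hu0 : θ - l • 1 ≠ 0 := fun h => hns l (sub_eq_zero.mp h)
    obtain ⟨y, hyK, hy⟩ := hK.inv _ hu hu0
    have hy' : y * (θ - l • 1) = 1 := by rw [hK.comm y hyK _ hu, hy]
    apply hu₀
    have e2 : (θ - l • (1 : Matrix (Fin n) (Fin n) F)).mulVec u₀ = 0 := by
      rw [Matrix.sub_mulVec, hθu, Matrix.smul_mulVec, Matrix.one_mulVec, sub_self]
    calc u₀ = (y * (θ - l • 1)).mulVec u₀ := by rw [hy', Matrix.one_mulVec]
      _ = y.mulVec ((θ - l • 1).mulVec u₀) := by rw [Matrix.mulVec_mulVec]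
      _ = 0 := by rw [e2, Matrix.mulVec_zero]
  · -- `g` moves some `k₀ ∈ K`
    push Not at hcomm
    obtain ⟨k₀, hk₀K, hk₀⟩ := hcomm
    set k₁ := G * k₀ * Gi with hk₁
    have hk₁K : k₁ ∈ K := hgK k₀ hk₀K
    have hGk : G * k₀ = k₁ * G := by
      rw [hk₁, mul_assoc, mul_assoc, h2, mul_one]
    have hD : k₁ - k₀ ∈ K := K.sub_mem hk₁K hk₀K
    have hD0 : k₁ - k₀ ≠ 0 := fun h => hk₀ (sub_eq_zero.mp h)
    obtain ⟨y, hyK, hy⟩ := hK.inv _ hD hD0
    have hy' : y * (k₁ - k₀) = 1 := by rw [hK.comm y hyK _ hD, hy]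
    have hall : ∀ v : Fin n → F, v ∈ Submodule.span F
        (({y.mulVec u₀, y.mulVec (k₁.mulVec u₀)} : Finset (Fin n → F)) : Set (Fin n → F)) := by
      intro v
      obtain ⟨t, ht⟩ := hrange (k₀.mulVec v)
      obtain ⟨t', ht'⟩ := hrange v
      have e1 : G.mulVec (k₀.mulVec v) = k₁.mulVec (G.mulVec v) := by
        rw [Matrix.mulVec_mulVec, hGk, ← Matrix.mulVec_mulVec]
      have e2 : G.mulVec v = w • v + t' • u₀ := by rw [← ht']; abel
      have e3 : w • (k₁ - k₀).mulVec v = t • u₀ - t' • k₁.mulVec u₀ := by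
        have e4 : G.mulVec (k₀.mulVec v) = w • k₀.mulVec v + t • u₀ := by rw [← ht]; abel
        rw [e1, e2, Matrix.mulVec_add, Matrix.mulVec_smul, Matrix.mulVec_smul] at e4
        rw [Matrix.sub_mulVec, smul_sub]
        have : w • k₁.mulVec v = w • k₀.mulVec v + t • u₀ - t' • k₁.mulVec u₀ := by
          rw [← e4]; abel
        rw [this]; abel
      have e5 : v = w⁻¹ • y.mulVec (w • (k₁ - k₀).mulVec v) := by
        rw [Matrix.mulVec_smul, smul_smul, inv_mul_cancel₀ hw, one_smul, Matrix.mulVec_mulVec, hy',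
          Matrix.one_mulVec]
      rw [e5, e3, Matrix.mulVec_sub, Matrix.mulVec_smul, Matrix.mulVec_smul]
      apply Submodule.smul_mem
      apply Submodule.sub_mem
      · apply Submodule.smul_mem
        apply Submodule.subset_span
        simp
      · apply Submodule.smul_mem
        apply Submodule.subset_span
        simp
    have htop : Submodule.span F
        (({y.mulVec u₀, y.mulVec (k₁.mulVec u₀)} : Finset (Fin n → F)) : Set (Fin n → F)) = ⊤ := by
      rw [eq_top_iff]
      intro v _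
      exact hall v
    have hle := finrank_span_finset_le_card (R := F)
      ({y.mulVec u₀, y.mulVec (k₁.mulVec u₀)} : Finset (Fin n → F))
    unfold Set.finrank at hle
    rw [htop, finrank_top, Module.finrank_pi, Fintype.card_fin] at hle
    have := Finset.card_le_two (a := y.mulVec u₀) (b := y.mulVec (k₁.mulVec u₀))
    omega

/-- `SL_n`-level version -/
theorem no_normalizer_of_rank_one (hn : 3 ≤ n) (K : Subalgebra F (Matrix (Fin n) (Fin n) F))
    (hK : IsFieldSubalgebra 2 K) (x : Matrix.SpecialLinearGroup (Fin n) F) (w : F) (hw : w ≠ 0)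
    (i₀ : Fin n)
    (hrange : ∀ v, ∃ t : F, (x : Matrix (Fin n) (Fin n) F).mulVec v - w • v =
      t • (Pi.single i₀ 1 : Fin n → F))
    (hne : ∃ v, (x : Matrix (Fin n) (Fin n) F).mulVec v ≠ w • v)
    (P : Matrix.SpecialLinearGroup (Fin n) F)
    (hP : P⁻¹ * x * P ∈ (subalgebraNormalizer K).comap
      (Matrix.SpecialLinearGroup.toGL : Matrix.SpecialLinearGroup (Fin n) F →* GL (Fin n) F)) :
    False := by
  rw [Subgroup.mem_comap] at hP
  set Pm : Matrix (Fin n) (Fin n) F := (P : Matrix (Fin n) (Fin n) F) with hPm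
  set Pi' : Matrix (Fin n) (Fin n) F :=
    ((P⁻¹ : Matrix.SpecialLinearGroup (Fin n) F) : Matrix (Fin n) (Fin n) F) with hPi
  have h1 : Pi' * Pm = 1 := by
    rw [hPi, hPm, ← Matrix.SpecialLinearGroup.coe_mul, inv_mul_cancel]; rfl
  have h2 : Pm * Pi' = 1 := by
    rw [hPi, hPm, ← Matrix.SpecialLinearGroup.coe_mul, mul_inv_cancel]; rfl
  have hg : ((Matrix.SpecialLinearGroup.toGL (P⁻¹ * x * P) : GL (Fin n) F) :
      Matrix (Fin n) (Fin n) F) = Pi' * (x : Matrix (Fin n) (Fin n) F) * Pm := by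
    rw [Matrix.SpecialLinearGroup.coe_GL_coe_matrix, Matrix.SpecialLinearGroup.coe_mul,
      Matrix.SpecialLinearGroup.coe_mul]
  refine no_rank_one_normalizer hn K hK _ hP w hw (Pi'.mulVec (Pi.single i₀ 1)) ?_ ?_
  · intro v
    obtain ⟨t, ht⟩ := hrange (Pm.mulVec v)
    refine ⟨t, ?_⟩
    have e1 : Pi'.mulVec (Pm.mulVec v) = v := by
      rw [Matrix.mulVec_mulVec, h1, Matrix.one_mulVec]
    have e2 : (Pi' * (x : Matrix (Fin n) (Fin n) F) * Pm).mulVec v =
        Pi'.mulVec ((x : Matrix (Fin n) (Fin n) F).mulVec (Pm.mulVec v)) := by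
      rw [Matrix.mulVec_mulVec, Matrix.mulVec_mulVec]
    rw [hg, e2, ← Matrix.mulVec_smul, ← ht, Matrix.mulVec_sub, Matrix.mulVec_smul, e1]
  · obtain ⟨v, hv⟩ := hne
    refine ⟨Pi'.mulVec v, ?_⟩
    intro h
    apply hv
    rw [hg, Matrix.mulVec_mulVec, mul_assoc, h2, mul_one, ← Matrix.mulVec_mulVec] at h
    have := congrArg Pm.mulVec h
    rw [Matrix.mulVec_mulVec, h2, Matrix.one_mulVec, Matrix.mulVec_smul, Matrix.mulVec_mulVec, h2,
      Matrix.one_mulVec] at this
    exact this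

end bad

end Cfsg.Agent.Helper14.ExtFieldInvol
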