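import Mathlib
import Cfsg.Agent.Lib.Helper14.GLIDefs
import Cfsg.Agent.Lib.Helper23.GLINONPOW
import Cfsg.Agent.Lib.Helper29.GLIGFREE
import Cfsg.Agent.Lib.Helper29.GLIGORB
import Cfsg.Agent.Lib.Helper4.GLIGIDC
import Cfsg.Agent.Lib.Helper41.GLIORBCOUNT
import Cfsg.Agent.Lib.Helper42.GLIGBLK
import Cfsg.Agent.Lib.Helper47.GLIPOW
import Cfsg.Agent.Lib.Helper63.GLIGCDVD
import Cfsg.Agent.Lib.Helper63.GLIGFIX
import Cfsg.Agent.Lib.Helper86.GLILINES
import Cfsg.Agent.Lib.Helper99.GLIGLE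
import Cfsg.Agent.Lib.Helper99.GLIGSPLIT
import Cfsg.Agent.Lib.Helper21.SPIPERMA
import Cfsg.Agent.Lib.Helper21.SPIPERMB
import Cfsg.Agent.Lib.Helper85.SPICNT

set_option autoImplicit false

/-!
GLI assembly: both directions of S5958 from the GLI pieces.
-/

namespace Cfsg.Agent.Helper14.GLIMain

open Module Cfsg.Agent.Helper14.GLI

section arith

variable (q r : ℕ) [Fact r.Prime]

theorem g_order_pos (hrq : ¬ r ∣ q) : 0 < orderOf (q : ZMod r) := by
  have hne : (q : ZMod r) ≠ 0 := by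
    intro h
    exact hrq ((ZMod.natCast_eq_zero_iff _ _).mp h)
  have hfin : IsOfFinOrder (q : ZMod r) := by
    rw [isOfFinOrder_iff_pow_eq_one]
    exact ⟨r - 1, by have := (Fact.out : r.Prime).two_le; omega, ZMod.pow_card_sub_one_eq_one hne⟩
  exact hfin.orderOf_pos

theorem g_order_le (hrq : ¬ r ∣ q) : orderOf (q : ZMod r) ≤ r - 1 := by
  have hne : (q : ZMod r) ≠ 0 := by
    intro h
    exact hrq ((ZMod.natCast_eq_zero_iff _ _).mp h)
  have hr3 : 0 < r - 1 := by have := (Fact.out : r.Prime).two_le; omega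
  exact Nat.le_of_dvd hr3 (orderOf_dvd_of_pow_eq_one (ZMod.pow_card_sub_one_eq_one hne))

end arith

section main

variable {F : Type*} [Field F] [Fintype F] {p : ℕ} [Fact p.Prime] [CharP F p] {n : ℕ}

omit [Fintype F] in
theorem g_hr0_of (r : ℕ) [Fact r.Prime] (hrp : r ≠ p) : (r : F) ≠ 0 := by
  intro h
  have hdvd : p ∣ r := (CharP.cast_eq_zero_iff F p r).mp h
  have := (Nat.prime_dvd_prime_iff_eq (Fact.out : p.Prime) (Fact.out : r.Prime)).mp hdvd
  exact hrp this.symm

theorem g_hrq_of (r : ℕ) [Fact r.Prime] (hrp : r ≠ p) : ¬ r ∣ Fintype.card F := by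
  intro h
  obtain ⟨k, -, hk⟩ := FiniteField.card F p
  rw [hk] at h
  have h1 : r ∣ p := (Fact.out : r.Prime).dvd_of_dvd_pow h
  exact hrp ((Nat.prime_dvd_prime_iff_eq (Fact.out : r.Prime) (Fact.out : p.Prime)).mp h1)

omit [Fintype F] [Fact p.Prime] [CharP F p] in
theorem g_toLin_pow (M : Matrix (Fin n) (Fin n) F) (k : ℕ) :
    Matrix.toLin' (M ^ k) = (Matrix.toLin' M) ^ k := by
  have := map_pow (Matrix.toLinAlgEquiv' (R := F) (n := Fin n)) M k
  exact this

omit [Fintype F] [Fact p.Prime] [CharP F p] in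
/-- packaging a family as a point of `Ω` -/
theorem g_finish (a t : ℕ) (ha : 1 ≤ a) (ht : 2 ≤ t)
    (X : (Fin n → F) →ₗ[F] (Fin n → F))
    (D : Fin t → Submodule F (Fin n → F)) (hfam : IsIndepFam ⊤ D)
    (hfin : ∀ j, finrank F (D j) = a) (σ : Equiv.Perm (Fin t))
    (hσ : ∀ j, (D j).map X = D (σ j)) :
    ∃ D : Fin t → Submodule F (Fin n → F), Cfsg.Geo.IsMDecomposition a D ∧
      ∃ σ : Equiv.Perm (Fin t), ∀ j, (D j).map X = D (σ j) :=
  ⟨D, ⟨ht, ha, hfin, hfam.indep, hfam.sup⟩, σ, hσ⟩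

theorem gl_left (hn : 2 ≤ n) (a t : ℕ) (hat : n = a * t) (ha : 1 ≤ a) (ht : 2 ≤ t)
    (r : ℕ) [Fact r.Prime] (hrp : r ≠ p)
    (hR : (a = 1 ∧ 1 < orderOf ((Fintype.card F : ℕ) : ZMod r) ∧
        orderOf ((Fintype.card F : ℕ) : ZMod r) = r - 1 ∧
        n ≤ (n % orderOf ((Fintype.card F : ℕ) : ZMod r)) * r) ∨
      (orderOf ((Fintype.card F : ℕ) : ZMod r) ≤ a ∧
        n % orderOf ((Fintype.card F : ℕ) : ZMod r)
          = t * (a % orderOf ((Fintype.card F : ℕ) : ZMod r))))
    (x : Matrix.SpecialLinearGroup (Fin n) F) (z : F)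
    (hz : ((x ^ r : Matrix.SpecialLinearGroup (Fin n) F) : Matrix (Fin n) (Fin n) F)
      = z • (1 : Matrix (Fin n) (Fin n) F)) :
    ∃ D : Fin t → Submodule F (Fin n → F), Cfsg.Geo.IsMDecomposition a D ∧
      ∃ σ : Equiv.Perm (Fin t), ∀ j,
        (D j).map (Matrix.toLin' (x : Matrix (Fin n) (Fin n) F)) = D (σ j) := by
  have hr0 := g_hr0_of (F := F) r hrp
  have hrq := g_hrq_of (F := F) r hrp
  have hr1 : 1 ≤ r := (Fact.out : r.Prime).one_le
  set X := Matrix.toLin' (x : Matrix (Fin n) (Fin n) F) with hXdef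
  have hXr : X ^ r = z • 1 := by
    rw [hXdef, ← g_toLin_pow, ← Matrix.SpecialLinearGroup.coe_pow, hz, map_smul, Matrix.toLin'_one]
    rfl
  have hz0 : z ≠ 0 := by
    rintro rfl
    have hdet := (x ^ r).2
    rw [hz, zero_smul] at hdet
    have : Nonempty (Fin n) := ⟨⟨0, by omega⟩⟩
    rw [Matrix.det_zero] at hdet
    exact zero_ne_one hdet
  have hXinj : Function.Injective X := by
    rw [injective_iff_map_eq_zero]
    intro v hv
    have h1 : (X ^ r) v = 0 := by
      obtain ⟨k, hk⟩ : ∃ k, r = k + 1 := ⟨r - 1, by omega⟩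
      rw [hk, pow_succ, Module.End.mul_apply, hv, map_zero]
    rw [hXr, LinearMap.smul_apply, Module.End.one_apply] at h1
    exact (smul_eq_zero.mp h1).resolve_left hz0
  have hfr : finrank F (Fin n → F) = n := Module.finrank_fin_fun F
  by_cases hpow : ∃ w : F, w ^ r = z
  · obtain ⟨w, hw⟩ := hpow
    have hw0 : w ≠ 0 := by
      rintro rfl
      rw [zero_pow (by omega)] at hw
      exact hz0 hw.symm
    have hYr : (w⁻¹ • X) ^ r = 1 := by
      rw [smul_pow, hXr, smul_smul, inv_pow, hw, inv_mul_cancel₀ hz0, one_smul]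
    have hmapY : ∀ S : Submodule F (Fin n → F), S.map (w⁻¹ • X) = S.map X := fun S =>
      Submodule.map_smul X S w⁻¹ (inv_ne_zero hw0)
    rcases hR with ⟨ha1, hc1, hcr, hnk⟩ | ⟨hca, hk⟩
    · subst ha1
      have htn : n = t := by rw [hat, one_mul]
      subst htn
      obtain ⟨D, hfam, hfin, σ, hσ⟩ := Cfsg.Agent.Helper86.GLI.lines_decomp (w⁻¹ • X) r hr0 hrq hYr hc1 hcr n hfr hnk
      exact g_finish 1 n ha ht X D hfam hfin σ (fun j => by rw [← hmapY, hσ j])
    · have hat' : finrank F (Fin n → F) = a * t := by rw [hfr, hat]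
      have hk' : finrank F (Fin n → F) % orderOf ((Fintype.card F : ℕ) : ZMod r)
          = t * (a % orderOf ((Fintype.card F : ℕ) : ZMod r)) := by rw [hfr, hk]
      obtain ⟨D, hfam, hfin, hinv⟩ := Cfsg.Agent.Helper99.GLI.gl_decomp_of_arith (w⁻¹ • X) r hr0 hrq hYr a t hat' hca hk'
      have hmap : ∀ j, (D j).map X = D j := by
        intro j
        have hle : (D j).map X ≤ D j := by
          rw [← hmapY]
          exact hinv j
        refine Submodule.eq_of_le_of_finrank_eq hle ?_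
        exact (LinearEquiv.finrank_eq (Submodule.equivMapOfInjective X hXinj (D j))).symm
      exact g_finish a t ha ht X D hfam hfin 1 (fun j => by rw [hmap j]; rfl)
  · push Not at hpow
    have hat' : finrank F (Fin n → F) = a * t := by rw [hfr, hat]
    obtain ⟨D, hfam, hfin, σ, hσ⟩ := Cfsg.Agent.Helper23.GLI.nonpow_decomp X r z hpow hXr a t (by omega) hat'
    exact g_finish a t ha ht X D hfam hfin σ hσ


omit [Fintype F] [Fact p.Prime] [CharP F p] in
/-- decompositions exist -/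
theorem g_nonempty (a t : ℕ) (hat : n = a * t) (ha : 1 ≤ a) (ht : 2 ≤ t) :
    Nonempty {D : Fin t → Submodule F (Fin n → F) // Cfsg.Geo.IsMDecomposition a D} := by
  have hsum : ∑ _j : Fin t, a = finrank F (⊤ : Submodule F (Fin n → F)) := by
    rw [finrank_top, Module.finrank_fin_fun, Finset.sum_const, Finset.card_univ, Fintype.card_fin,
      smul_eq_mul, hat, mul_comm]
  obtain ⟨E, hE1, hE2⟩ := Cfsg.Agent.Helper99.GLI.gl_split (⊤ : Submodule F (Fin n → F)) (fun _ : Fin t => a) hsum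
  exact ⟨⟨E, ⟨ht, ha, hE2, hE1.indep, hE1.sup⟩⟩⟩

/-- from `hΩ`: `r` divides the order of `GL_n(F)` -/
theorem g_dvd_card_gl (a t : ℕ) (hat : n = a * t) (ha : 1 ≤ a) (ht : 2 ≤ t) (r : ℕ)
    (hΩ : r ∣ Nat.card {D : Fin t → Submodule F (Fin n → F) // Cfsg.Geo.IsMDecomposition a D} /
      Nat.factorial t) :
    r ∣ Nat.card (GL (Fin n) F) := by
  have h1 := Cfsg.Agent.Helper29.GLI.gl_factorial_dvd_card (F := F) n a t
  have h2 := Cfsg.Agent.Helper29.GLI.gl_card_dvd_card (F := F) n a t (g_nonempty a t hat ha ht)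
  have h3 : Nat.card {D : Fin t → Submodule F (Fin n → F) // Cfsg.Geo.IsMDecomposition a D} =
      Nat.factorial t *
        (Nat.card {D : Fin t → Submodule F (Fin n → F) // Cfsg.Geo.IsMDecomposition a D} /
          Nat.factorial t) := (Nat.mul_div_cancel' h1).symm
  exact dvd_trans (dvd_trans (Dvd.dvd.mul_left hΩ _) (dvd_of_eq h3.symm)) h2

/-- `c ≤ n` as soon as `GL_n(F)` has an element of order `r` -/
theorem g_c_le (r : ℕ) [Fact r.Prime] (hrp : r ≠ p)
    (y : GL (Fin n) F) (hy : orderOf y = r) :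
    orderOf ((Fintype.card F : ℕ) : ZMod r) ≤ n := by
  set X := Matrix.toLin' (y : Matrix (Fin n) (Fin n) F) with hXdef
  have hyr : y ^ r = 1 := by rw [← hy]; exact pow_orderOf_eq_one y
  have hXr : X ^ r = 1 := by
    rw [hXdef, ← g_toLin_pow, ← Units.val_pow_eq_pow_val, hyr]
    exact Matrix.toLin'_one
  have hX1 : X ≠ 1 := by
    intro h
    have h1 : (y : Matrix (Fin n) (Fin n) F) = 1 := by
      apply Matrix.toLin'.injective
      rw [← hXdef, h]
      exact Matrix.toLin'_one.symm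
    have h2 : y = 1 := Units.ext h1
    rw [h2, orderOf_one] at hy
    exact (Fact.out : r.Prime).ne_one hy.symm
  obtain ⟨-, -, hRx, hRfpf⟩ := Cfsg.Agent.Helper63.GLI.gl_fix_decomp X r (g_hr0_of r hrp) hXr ⊤ le_top
  have hdvd := Cfsg.Agent.Helper85.SPI.order_dvd_finrank X r (g_hrq_of r hrp) hXr _ hRx hRfpf
  have hpos : 0 < finrank F ((⊤ : Submodule F (Fin n → F)).map (X - 1)) := by
    rw [Module.finrank_pos_iff_exists_ne_zero]
    by_contra hcon
    push Not at hcon
    apply hX1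
    apply LinearMap.ext
    intro v
    have hv : (X - 1) v ∈ (⊤ : Submodule F (Fin n → F)).map (X - 1) :=
      Submodule.mem_map_of_mem Submodule.mem_top
    have h0 := hcon ⟨_, hv⟩
    have h1 : (X - 1) v = 0 := congrArg Subtype.val h0
    rw [LinearMap.sub_apply, Module.End.one_apply, sub_eq_zero] at h1
    rw [h1, Module.End.one_apply]
  have hle : finrank F ((⊤ : Submodule F (Fin n → F)).map (X - 1)) ≤ n := by
    have := Submodule.finrank_le ((⊤ : Submodule F (Fin n → F)).map (X - 1))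
    rwa [Module.finrank_fin_fun] at this
  exact le_trans (Nat.le_of_dvd hpos hdvd) hle

/-- the dichotomy for an `m`-block element under the stabilisation hypothesis -/
theorem g_key (hn : 2 ≤ n) (a t : ℕ) (ha : 1 ≤ a)
    (r : ℕ) [Fact r.Prime] (hrp : r ≠ p)
    (hc1 : 1 < orderOf ((Fintype.card F : ℕ) : ZMod r))
    (h : ∀ x : Matrix.SpecialLinearGroup (Fin n) F,
      (∃ z : F, ((x ^ r : Matrix.SpecialLinearGroup (Fin n) F) : Matrix (Fin n) (Fin n) F) =
        z • (1 : Matrix (Fin n) (Fin n) F)) →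
      (∀ z : F, (x : Matrix (Fin n) (Fin n) F) ≠ z • (1 : Matrix (Fin n) (Fin n) F)) →
      ∃ D : Fin t → Submodule F (Fin n → F), Cfsg.Geo.IsMDecomposition a D ∧
        ∃ σ : Equiv.Perm (Fin t), ∀ j,
          (D j).map (Matrix.toLin' (x : Matrix (Fin n) (Fin n) F)) = D (σ j))
    (m : ℕ) (hm1 : 1 ≤ m) (hm : m * orderOf ((Fintype.card F : ℕ) : ZMod r) ≤ n) :
    (∃ ρ : Fin t → ℕ, (∀ j, orderOf ((Fintype.card F : ℕ) : ZMod r) ∣ ρ j ∧ ρ j ≤ a) ∧
        ∑ j, ρ j = m * orderOf ((Fintype.card F : ℕ) : ZMod r)) ∨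
      (a + m * orderOf ((Fintype.card F : ℕ) : ZMod r) ≤ n ∧
        (r - 1) * a ≤ m * orderOf ((Fintype.card F : ℕ) : ZMod r) ∧
        (a < orderOf ((Fintype.card F : ℕ) : ZMod r) → ∃ s f : ℕ, t = s * r + f ∧
          a * (s + f) + m * orderOf ((Fintype.card F : ℕ) : ZMod r) ≤ n)) := by
  have hr0 := g_hr0_of (F := F) r hrp
  have hrq := g_hrq_of (F := F) r hrp
  have hcpos := g_order_pos (Fintype.card F) r hrq
  obtain ⟨-, hroot1⟩ := Cfsg.Agent.Helper47.GLI.rth_roots (F := F) r hrq hc1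
  obtain ⟨A, hAr, hker⟩ := Cfsg.Agent.Helper42.GLI.exists_sl_block (F := F) (p := p) n r hrp hc1 m hm
  set X := Matrix.toLin' (A : Matrix (Fin n) (Fin n) F) with hXdef
  have hfr : finrank F (Fin n → F) = n := Module.finrank_fin_fun F
  have hXr : X ^ r = 1 := by
    rw [hXdef, ← g_toLin_pow, ← Matrix.SpecialLinearGroup.coe_pow, hAr]
    exact Matrix.toLin'_one
  have h1 : ∃ z : F, ((A ^ r : Matrix.SpecialLinearGroup (Fin n) F) : Matrix (Fin n) (Fin n) F) =
      z • (1 : Matrix (Fin n) (Fin n) F) := by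
    refine ⟨1, ?_⟩
    rw [hAr, one_smul]
    rfl
  have h2 : ∀ z : F, (A : Matrix (Fin n) (Fin n) F) ≠ z • (1 : Matrix (Fin n) (Fin n) F) := by
    intro z hz
    have hXz : X = z • 1 := by
      rw [hXdef, hz, map_smul, Matrix.toLin'_one]
      rfl
    have hzr : z ^ r = 1 := by
      classical
      have hu : (Pi.single (⟨0, by omega⟩ : Fin n) (1 : F) : Fin n → F) ≠ 0 := by
        intro h
        have := congrFun h (⟨0, by omega⟩ : Fin n)
        simp at this
      have h3 : (X ^ r) (Pi.single (⟨0, by omega⟩ : Fin n) (1 : F)) =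
          Pi.single (⟨0, by omega⟩ : Fin n) (1 : F) := by rw [hXr, Module.End.one_apply]
      rw [hXz, smul_pow, one_pow, LinearMap.smul_apply, Module.End.one_apply] at h3
      have h4 : (z ^ r - 1) • (Pi.single (⟨0, by omega⟩ : Fin n) (1 : F) : Fin n → F) = 0 := by
        rw [sub_smul, h3, one_smul, sub_self]
      have h5 := (smul_eq_zero.mp h4).resolve_right hu
      linear_combination h5
    have hz1 : z = 1 := hroot1 z hzr
    have hX1 : X - 1 = 0 := by rw [hXz, hz1, one_smul, sub_self]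
    rw [hX1, LinearMap.ker_zero, finrank_top, hfr] at hker
    have : 0 < m * orderOf ((Fintype.card F : ℕ) : ZMod r) := Nat.mul_pos (by omega) hcpos
    omega
  obtain ⟨D, hD, σ, hσ⟩ := h A h1 h2
  have hfam : IsIndepFam ⊤ D := ⟨hD.indep, hD.iSup_eq_top⟩
  have hfin := hD.finrank_eq
  by_cases hσ1 : σ = 1
  · left
    have hinv : ∀ j, (D j).map X ≤ D j := by
      intro j
      rw [hσ j, hσ1]
      exact le_of_eq rfl
    obtain ⟨ρ, hρ1, hρ2⟩ := Cfsg.Agent.Helper4.GLI.gl_id_case X r hr0 hrq hXr a D hfam hfin hinv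
    refine ⟨ρ, hρ1, ?_⟩
    rw [hfr] at hρ2
    omega
  · right
    have hA := Cfsg.Agent.Helper21.SPI.perm_fixed_ge X r hXr a (by omega) D hfin hD.indep σ hσ hσ1
    have hB := Cfsg.Agent.Helper21.SPI.perm_fixed_le X r hXr a (by omega) D hfin hD.indep σ hσ hσ1
    rw [hfr] at hB
    refine ⟨by omega, by omega, ?_⟩
    intro hac
    have htriv : ∀ j, σ j = j → ∀ v ∈ D j, X v = v := by
      intro j hj v hv
      have hinvj : (D j).map X ≤ D j := by rw [hσ j, hj]
      have hdvd := Cfsg.Agent.Helper63.GLI.gl_order_dvd_moved X r hr0 hrq hXr (D j) hinvj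
      have hle : finrank F ((D j).map (X - 1)) ≤ a := by
        rw [← hfin j]
        exact Submodule.finrank_map_le (X - 1) (D j)
      have h0 : finrank F ((D j).map (X - 1)) = 0 :=
        Nat.eq_zero_of_dvd_of_lt hdvd (lt_of_le_of_lt hle hac)
      have hbot : (D j).map (X - 1) = ⊥ := Submodule.finrank_eq_zero.mp h0
      have hmem : (X - 1) v ∈ (D j).map (X - 1) := Submodule.mem_map_of_mem hv
      rw [hbot, Submodule.mem_bot, LinearMap.sub_apply, Module.End.one_apply, sub_eq_zero] at hmem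
      exact hmem
    obtain ⟨s, hs, hle⟩ := Cfsg.Agent.Helper41.GLI.orbit_count X r hr0 hXr a (by omega) D hfin hD.indep σ hσ htriv
    refine ⟨s, (Finset.univ.filter (fun j => σ j = j)).card, ?_, by omega⟩
    have hsplit := Finset.card_filter_add_card_filter_not (s := (Finset.univ : Finset (Fin t)))
      (fun j => σ j = j)
    rw [Finset.card_univ, Fintype.card_fin] at hsplit
    have hs' : (Finset.univ.filter (fun j => ¬ σ j = j)).card = s * r := hs
    rw [hs'] at hsplit
    omega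

theorem gl_right (hn : 2 ≤ n) (a t : ℕ) (hat : n = a * t) (ha : 1 ≤ a) (ht : 2 ≤ t)
    (r : ℕ) [Fact r.Prime] (hr2 : r ≠ 2) (hrp : r ≠ p)
    (hΩ : r ∣ Nat.card {D : Fin t → Submodule F (Fin n → F) // Cfsg.Geo.IsMDecomposition a D} /
      Nat.factorial t)
    (h : ∀ x : Matrix.SpecialLinearGroup (Fin n) F,
      (∃ z : F, ((x ^ r : Matrix.SpecialLinearGroup (Fin n) F) : Matrix (Fin n) (Fin n) F) =
        z • (1 : Matrix (Fin n) (Fin n) F)) →
      (∀ z : F, (x : Matrix (Fin n) (Fin n) F) ≠ z • (1 : Matrix (Fin n) (Fin n) F)) →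
      ∃ D : Fin t → Submodule F (Fin n → F), Cfsg.Geo.IsMDecomposition a D ∧
        ∃ σ : Equiv.Perm (Fin t), ∀ j,
          (D j).map (Matrix.toLin' (x : Matrix (Fin n) (Fin n) F)) = D (σ j)) :
    (a = 1 ∧ 1 < orderOf ((Fintype.card F : ℕ) : ZMod r) ∧
        orderOf ((Fintype.card F : ℕ) : ZMod r) = r - 1 ∧
        n ≤ (n % orderOf ((Fintype.card F : ℕ) : ZMod r)) * r) ∨
      (orderOf ((Fintype.card F : ℕ) : ZMod r) ≤ a ∧
        n % orderOf ((Fintype.card F : ℕ) : ZMod r)
          = t * (a % orderOf ((Fintype.card F : ℕ) : ZMod r))) := by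
  have hrq := g_hrq_of (F := F) r hrp
  have hcpos := g_order_pos (Fintype.card F) r hrq
  have hcle := g_order_le (Fintype.card F) r hrq
  have hr3 : 3 ≤ r := by
    have h2 := (Fact.out : r.Prime).two_le
    omega
  set c := orderOf ((Fintype.card F : ℕ) : ZMod r) with hcdef
  by_cases hc1 : c = 1
  · right
    rw [hc1]
    exact ⟨ha, by rw [Nat.mod_one, Nat.mod_one, mul_zero]⟩
  have hc1' : 1 < c := by omega
  -- `c ≤ n`
  have hdvd := g_dvd_card_gl (F := F) a t hat ha ht r hΩ
  obtain ⟨y, hy⟩ := exists_prime_orderOf_dvd_card' r hdvd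
  have hcn : c ≤ n := g_c_le r hrp y hy
  set m := n / c with hmdef
  have hm1 : 1 ≤ m := Nat.div_pos hcn hcpos
  have hdm : c * m + n % c = n := Nat.div_add_mod n c
  have hda : c * (a / c) + a % c = a := Nat.div_add_mod a c
  have hkc : n % c < c := Nat.mod_lt _ hcpos
  have h3 : c * m = m * c := mul_comm _ _
  have hmc : m * c ≤ n := by omega
  by_cases hca : c ≤ a
  · right
    refine ⟨hca, ?_⟩
    rcases g_key hn a t ha r hrp hc1' h m hm1 hmc with ⟨ρ, hρ1, hρ2⟩ | ⟨hA, -, -⟩
    · have hρle : ∀ j, ρ j ≤ (a / c) * c := by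
        intro j
        obtain ⟨⟨s, hs⟩, h2⟩ := hρ1 j
        rw [hs, mul_comm]
        apply Nat.mul_le_mul_right
        rw [Nat.le_div_iff_mul_le hcpos, mul_comm]
        rw [hs] at h2
        exact h2
      have hsum : ∑ j : Fin t, ρ j ≤ t * ((a / c) * c) := by
        calc ∑ j : Fin t, ρ j ≤ ∑ _j : Fin t, (a / c) * c := Finset.sum_le_sum (fun j _ => hρle j)
          _ = t * ((a / c) * c) := by
            rw [Finset.sum_const, Finset.card_univ, Fintype.card_fin, smul_eq_mul]
      have hρ2' : ∑ j : Fin t, ρ j = m * c := hρ2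
      rw [hρ2'] at hsum
      have hmle : m ≤ t * (a / c) := by
        have : m * c ≤ (t * (a / c)) * c := by rw [mul_assoc]; exact hsum
        exact Nat.le_of_mul_le_mul_right this hcpos
      have hexp : n = (t * (a / c)) * c + t * (a % c) := by
        rw [hat]
        nth_rewrite 1 [← hda]
        ring
      rcases Nat.lt_or_ge m (t * (a / c)) with hlt | hge
      · exfalso
        have h1 : (m + 1) * c ≤ (t * (a / c)) * c := Nat.mul_le_mul_right _ hlt
        have h2 : (m + 1) * c = m * c + c := by ring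
        omega
      · have heq : m = t * (a / c) := le_antisymm hmle hge
        rw [← heq] at hexp
        omega
    · exfalso
      have hA' : a + m * c ≤ n := hA
      omega
  · left
    push Not at hca
    -- the one-block element
    rcases g_key hn a t ha r hrp hc1' h 1 le_rfl (by rw [one_mul]; exact hcn) with
      ⟨ρ, hρ1, hρ2⟩ | ⟨-, hB, -⟩
    · exfalso
      have hzero : ∀ j, ρ j = 0 := by
        intro j
        obtain ⟨h1, h2⟩ := hρ1 j
        exact Nat.eq_zero_of_dvd_of_lt h1 (lt_of_le_of_lt h2 hca)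
      rw [Finset.sum_eq_zero (fun j _ => hzero j), one_mul] at hρ2
      omega
    · have hB' : (r - 1) * a ≤ c := by
        have hB2 : (r - 1) * a ≤ 1 * c := hB
        rw [one_mul] at hB2
        exact hB2
      clear hB
      have ha1 : a = 1 := by
        by_contra hne
        have ha2 : 2 ≤ a := by omega
        have : (r - 1) * 2 ≤ (r - 1) * a := Nat.mul_le_mul_left _ ha2
        omega
      have hcr : c = r - 1 := by
        rw [ha1, mul_one] at hB'
        omega
      clear hB'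
      refine ⟨ha1, hc1', hcr, ?_⟩
      have htn : n = t := by rw [hat, ha1, one_mul]
      have hr1 : r = c + 1 := by omega
      rcases g_key hn a t ha r hrp hc1' h m hm1 hmc with ⟨ρ, hρ1, hρ2⟩ | ⟨-, -, hC⟩
      · exfalso
        have hzero : ∀ j, ρ j = 0 := by
          intro j
          obtain ⟨h1, h2⟩ := hρ1 j
          exact Nat.eq_zero_of_dvd_of_lt h1 (lt_of_le_of_lt h2 hca)
        have hρ2' : ∑ j : Fin t, ρ j = m * c := hρ2
        rw [Finset.sum_eq_zero (fun j _ => hzero j)] at hρ2'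
        have : 0 < m * c := Nat.mul_pos hm1 hcpos
        omega
      · obtain ⟨s, f, hsf, hle⟩ := hC hca
        have hle' : (s + f) + m * c ≤ n := by
          have hle2 : a * (s + f) + m * c ≤ n := hle
          rw [ha1, one_mul] at hle2
          exact hle2
        clear hle hC
        -- `m c ≤ s (r - 1) = s c`, so `m ≤ s ≤ n % c`
        have hsr : s * r = s * c + s := by rw [hr1]; ring
        have hms : m * c ≤ s * c := by omega
        have hms' : m ≤ s := Nat.le_of_mul_le_mul_right hms hcpos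
        have hsk : s ≤ n % c := by omega
        have hmk : m ≤ n % c := le_trans hms' hsk
        have hkr : (n % c) * r = (n % c) * c + n % c := by rw [hr1]; ring
        have hmul : m * c ≤ (n % c) * c := Nat.mul_le_mul_right _ hmk
        omega

end main

end Cfsg.Agent.Helper14.GLIMain
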