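import Mathlib
import Cfsg.Prelude.Def_Classical
import Cfsg.Agent.Lib.Helper13.Herm
import Cfsg.Agent.Lib.Helper14.HermCount

set_option autoImplicit false
set_option linter.unusedSectionVars false

namespace Cfsg.Agent.Helper14

open Module Cfsg.Agent.Helper13

section Lines

variable {F : Type*} [Field F] [Fintype F] [DecidableEq F] {q : ℕ}

theorem herm_ti_span_pair (hF : Fintype.card F = q ^ 2) {n : ℕ} {v w : Fin n → F}
    (hvv : Cfsg.hermForm n F q v v = 0) (hww : Cfsg.hermForm n F q w w = 0)
    (hwv : Cfsg.hermForm n F q w v = 0) :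
    ∀ x ∈ Submodule.span F {v, w}, ∀ y ∈ Submodule.span F {v, w}, Cfsg.hermForm n F q x y = 0 := by
  have h2 := two_le_q hF
  have hvw : Cfsg.hermForm n F q v w = 0 := by
    rw [← hermForm_conj hF w v, hwv, zero_pow (by omega)]
  intro x hx y hy
  obtain ⟨a, b, rfl⟩ := Submodule.mem_span_pair.mp hx
  obtain ⟨c, d, rfl⟩ := Submodule.mem_span_pair.mp hy
  simp only [hermForm_add_left, hermForm_add_right hF, hermForm_smul_left, hermForm_smul_right,
    hvv, hww, hwv, hvw]
  ring

theorem herm_span_singleton (hF : Fintype.card F = q ^ 2) {n : ℕ} {v w : Fin n → F}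
    (hvv : Cfsg.hermForm n F q v v = 0) (hw : w ∈ Submodule.span F {v}) :
    Cfsg.hermForm n F q w w = 0 ∧ Cfsg.hermForm n F q w v = 0 := by
  obtain ⟨a, rfl⟩ := Submodule.mem_span_singleton.mp hw
  simp only [hermForm_smul_left, hermForm_smul_right, hvv, mul_zero, and_self]

theorem card_span_singleton (hF : Fintype.card F = q ^ 2) {n : ℕ} {v : Fin n → F} (hv : v ≠ 0) :
    Nat.card (Submodule.span F {v}) = q ^ 2 := by
  rw [card_submodule, finrank_span_singleton hv, pow_one, hF]

theorem herm_card_through (hF : Fintype.card F = q ^ 2) {n : ℕ} (v : Fin (n + 1) → F) (hv : v ≠ 0)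
    (hvv : Cfsg.hermForm (n + 1) F q v v = 0) (c : ℕ) (hc : c + q ^ 2 = q ^ 4) :
    Nat.card {W : Submodule F (Fin (n + 1) → F) // finrank F W = 2 ∧ v ∈ W ∧
      ∀ u ∈ W, ∀ w ∈ W, Cfsg.hermForm (n + 1) F q u w = 0} * c +
    (Finset.univ.filter (fun w : Fin (n + 1) → F => Cfsg.hermForm (n + 1) F q w v ≠ 0 ∧
      Cfsg.hermForm (n + 1) F q w w = 0)).card + q ^ 2 = isoCount F q (n + 1) := by
  classical
  have : Fintype (Submodule F (Fin (n + 1) → F)) := Fintype.ofFinite _
  have hq2 := two_le_q hF
  rw [Nat.card_eq_fintype_card, Fintype.card_subtype]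
  set T := Finset.univ.filter (fun W : Submodule F (Fin (n + 1) → F) => finrank F W = 2 ∧ v ∈ W ∧
      ∀ u ∈ W, ∀ w ∈ W, Cfsg.hermForm (n + 1) F q u w = 0) with hT
  set A := Finset.univ.filter (fun w : Fin (n + 1) → F => Cfsg.hermForm (n + 1) F q w v ≠ 0 ∧
      Cfsg.hermForm (n + 1) F q w w = 0) with hA
  set B := Finset.univ.filter (fun w : Fin (n + 1) → F => Cfsg.hermForm (n + 1) F q w w = 0 ∧
      Cfsg.hermForm (n + 1) F q w v = 0) with hB
  set S := Finset.univ.filter (fun w : Fin (n + 1) → F => (Cfsg.hermForm (n + 1) F q w w = 0 ∧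
      Cfsg.hermForm (n + 1) F q w v = 0) ∧ w ∉ Submodule.span F {v}) with hS
  have hcv := card_span_singleton hF hv
  -- partition of the isotropic vectors
  have hAB : A.card + B.card = isoCount F q (n + 1) := by
    unfold isoCount
    have := Finset.card_filter_add_card_filter_not
      (s := Finset.univ.filter (fun w : Fin (n + 1) → F => Cfsg.hermForm (n + 1) F q w w = 0))
      (fun w => Cfsg.hermForm (n + 1) F q w v = 0)
    rw [Finset.filter_filter, Finset.filter_filter] at this
    rw [← this, add_comm]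
    congr 2
    ext w
    simp only [hA, Finset.mem_filter, Finset.mem_univ, true_and]
    tauto
  have hBS : S.card + q ^ 2 = B.card := by
    have := Finset.card_filter_add_card_filter_not (s := B)
      (fun w => w ∉ Submodule.span F {v})
    have h1 : B.filter (fun w => w ∉ Submodule.span F {v}) = S := by
      ext w
      simp only [hB, hS, Finset.mem_filter, Finset.mem_univ, true_and]
    have h2 : B.filter (fun w => ¬ w ∉ Submodule.span F {v}) =
        Finset.univ.filter (fun w => w ∈ Submodule.span F {v}) := by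
      ext w
      simp only [hB, Finset.mem_filter, Finset.mem_univ, true_and, not_not]
      constructor
      · intro hw; exact hw.2
      · intro hw; exact ⟨herm_span_singleton hF hvv hw, hw⟩
    rw [h1, h2, card_filter_mem, hcv] at this
    exact this
  -- the fibre count
  have hmaps : Set.MapsTo (fun w => Submodule.span F {v, w}) (S : Set (Fin (n + 1) → F))
      (T : Set (Submodule F (Fin (n + 1) → F))) := by
    intro w hw
    rw [Finset.mem_coe, hS, Finset.mem_filter] at hw
    rw [Finset.mem_coe, hT, Finset.mem_filter]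
    refine ⟨Finset.mem_univ _, finrank_span_pair hv hw.2.2, Submodule.subset_span (by simp), ?_⟩
    exact herm_ti_span_pair hF hvv hw.2.1.1 hw.2.1.2
  have hfib : ∀ W ∈ T, (S.filter (fun w => Submodule.span F {v, w} = W)).card + q ^ 2 = q ^ 4 := by
    intro W hW
    simp only [hT, Finset.mem_filter, Finset.mem_univ, true_and] at hW
    obtain ⟨hW2, hvW, hTI⟩ := hW
    have hvW' : Submodule.span F {v} ≤ W := by
      rw [Submodule.span_singleton_le_iff_mem]; exact hvW
    have := card_filter_sdiff _ _ hvW'
    rw [hcv, card_submodule, hW2, hF, ← pow_mul] at this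
    rw [← this]
    congr 2
    ext w
    simp only [hS, Finset.mem_filter, Finset.mem_univ, true_and]
    constructor
    · rintro ⟨⟨-, h2⟩, h3⟩
      refine ⟨?_, h2⟩
      rw [← h3]
      exact Submodule.subset_span (by simp)
    · rintro ⟨h1, h2⟩
      refine ⟨⟨⟨hTI w h1 w h1, hTI w h1 v hvW⟩, h2⟩, ?_⟩
      have hle : Submodule.span F {v, w} ≤ W := by
        rw [Submodule.span_le]
        intro x hx
        rcases hx with rfl | rfl
        · exact hvW
        · exact h1
      exact Submodule.eq_of_le_of_finrank_eq hle (by rw [finrank_span_pair hv h2, hW2])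
  have hsum := Finset.card_eq_sum_card_fiberwise hmaps
  have hfib' : ∀ W ∈ T, (S.filter (fun w => Submodule.span F {v, w} = W)).card = c := by
    intro W hW
    have := hfib W hW
    omega
  rw [Finset.sum_congr rfl hfib', Finset.sum_const, smul_eq_mul] at hsum
  rw [← hAB, ← hBS, hsum]
  ring

theorem herm_card_total (hF : Fintype.card F = q ^ 2) {n : ℕ} (τ : ℕ)
    (hτ : ∀ v : Fin (n + 1) → F, v ≠ 0 → Cfsg.hermForm (n + 1) F q v v = 0 →
      Nat.card {W : Submodule F (Fin (n + 1) → F) // finrank F W = 2 ∧ v ∈ W ∧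
        ∀ u ∈ W, ∀ w ∈ W, Cfsg.hermForm (n + 1) F q u w = 0} = τ)
    (d : ℕ) (hd : d + 1 = q ^ 4) (m : ℕ) (hm : m + 1 = isoCount F q (n + 1)) :
    Nat.card {W : Submodule F (Fin (n + 1) → F) // finrank F W = 2 ∧
      ∀ u ∈ W, ∀ w ∈ W, Cfsg.hermForm (n + 1) F q u w = 0} * d = m * τ := by
  classical
  have : Fintype (Submodule F (Fin (n + 1) → F)) := Fintype.ofFinite _
  have hq2 := two_le_q hF
  rw [Nat.card_eq_fintype_card, Fintype.card_subtype]
  set T := Finset.univ.filter (fun W : Submodule F (Fin (n + 1) → F) => finrank F W = 2 ∧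
      ∀ u ∈ W, ∀ w ∈ W, Cfsg.hermForm (n + 1) F q u w = 0) with hT
  set s := Finset.univ.filter (fun v : Fin (n + 1) → F =>
    Cfsg.hermForm (n + 1) F q v v = 0 ∧ v ≠ 0) with hs
  have hdc := Finset.sum_card_bipartiteAbove_eq_sum_card_bipartiteBelow (s := s) (t := T)
    (r := fun (v : Fin (n + 1) → F) (W : Submodule F (Fin (n + 1) → F)) => v ∈ W)
  have hL : ∀ v ∈ s, (T.bipartiteAbove
      (fun (v : Fin (n + 1) → F) (W : Submodule F (Fin (n + 1) → F)) => v ∈ W) v).card = τ := by
    intro v hv
    simp only [hs, Finset.mem_filter, Finset.mem_univ, true_and] at hv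
    have h := hτ v hv.2 hv.1
    rw [Nat.card_eq_fintype_card, Fintype.card_subtype] at h
    rw [← h]
    congr 1
    ext W
    simp only [Finset.bipartiteAbove, hT, Finset.mem_filter, Finset.mem_univ, true_and]
    tauto
  have hR : ∀ W ∈ T, (s.bipartiteBelow
      (fun (v : Fin (n + 1) → F) (W : Submodule F (Fin (n + 1) → F)) => v ∈ W) W).card = d := by
    intro W hW
    simp only [hT, Finset.mem_filter, Finset.mem_univ, true_and] at hW
    have h := card_filter_sdiff (⊥ : Submodule F (Fin (n + 1) → F)) W bot_le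
    rw [card_submodule, card_submodule, hW.1, finrank_bot, pow_zero, hF, ← pow_mul] at h
    have h' : (s.bipartiteBelow
      (fun (v : Fin (n + 1) → F) (W : Submodule F (Fin (n + 1) → F)) => v ∈ W) W).card + 1
        = q ^ 4 := by
      rw [show q ^ 4 = q ^ (2 * 2) by norm_num, ← h]
      congr 2
      ext v
      simp only [Finset.bipartiteBelow, hs, Finset.mem_filter, Finset.mem_univ, true_and,
        Submodule.mem_bot]
      constructor
      · rintro ⟨⟨-, h1⟩, h2⟩; exact ⟨h2, h1⟩
      · rintro ⟨h1, h2⟩; exact ⟨⟨hW.2 v h1 v h1, h2⟩, h1⟩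
    omega
  have hscard : s.card = m := by
    have := Finset.card_filter_add_card_filter_not
      (s := Finset.univ.filter (fun w : Fin (n + 1) → F => Cfsg.hermForm (n + 1) F q w w = 0))
      (fun w => w ≠ 0)
    rw [Finset.filter_filter, Finset.filter_filter] at this
    have h0 : (Finset.univ.filter (fun w : Fin (n + 1) → F =>
        Cfsg.hermForm (n + 1) F q w w = 0 ∧ ¬ w ≠ 0)).card = 1 := by
      rw [Finset.card_eq_one]
      refine ⟨0, ?_⟩
      ext w
      simp only [Finset.mem_filter, Finset.mem_univ, true_and, not_not, Finset.mem_singleton]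
      constructor
      · intro h; exact h.2
      · rintro rfl
        refine ⟨?_, rfl⟩
        unfold Cfsg.hermForm
        simp
    rw [h0, ← hs] at this
    unfold isoCount at hm
    omega
  rw [Finset.sum_congr rfl hL, Finset.sum_congr rfl hR, Finset.sum_const, Finset.sum_const,
    smul_eq_mul, smul_eq_mul, hscard] at hdc
  exact hdc.symm

end Lines

end Cfsg.Agent.Helper14
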