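import Mathlib
import Cfsg.Agent.Lib.Helper42.Jordan6

set_option autoImplicit false

/-!
Jordan types of nilpotent endomorphisms as multisets (via the rank sequence), the type of the
restriction to an invariant direct summand, and the char-`p` identity
`(X - 1)^(p-1) = ∑_{i<p} X^i`.
-/

namespace Cfsg.Agent.Helper14.JType

open Module Cfsg.Agent.Helper42.Jordan

universe u v

/-- the rank sequence of a Jordan type -/
def rsum (μ : Multiset ℕ) (k : ℕ) : ℕ := (μ.map (fun e => e - k)).sum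

theorem rsum_add (μ ν : Multiset ℕ) (k : ℕ) : rsum (μ + ν) k = rsum μ k + rsum ν k := by
  simp only [rsum, Multiset.map_add, Multiset.sum_add]

theorem rsum_zero (μ : Multiset ℕ) : rsum μ 0 = μ.sum := by
  simp only [rsum, Nat.sub_zero, Multiset.map_id']

theorem rsum_eq_zero_of_le (μ : Multiset ℕ) (k : ℕ) (h : ∀ e ∈ μ, e ≤ k) : rsum μ k = 0 := by
  rw [rsum, Multiset.sum_eq_zero_iff]
  intro x hx
  rw [Multiset.mem_map] at hx
  obtain ⟨e, he, rfl⟩ := hx
  exact Nat.sub_eq_zero_of_le (h e he)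

theorem rsum_pred_eq_count (μ : Multiset ℕ) (p : ℕ) (hp : 0 < p) (h : ∀ e ∈ μ, e ≤ p) :
    rsum μ (p - 1) = μ.count p := by
  induction μ using Multiset.induction_on with
  | empty => simp [rsum]
  | cons a μ ih =>
    have ih' := ih (fun e he => h e (Multiset.mem_cons_of_mem he))
    have ha := h a (Multiset.mem_cons_self a μ)
    rw [rsum] at ih' ⊢
    rw [Multiset.map_cons, Multiset.sum_cons, ih', Multiset.count_cons]
    by_cases hap : p = a
    · rw [if_pos hap]; omega
    · rw [if_neg hap]; omega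

theorem rsum_one_eq_zero_iff (μ : Multiset ℕ) : rsum μ 1 = 0 ↔ ∀ e ∈ μ, e ≤ 1 := by
  rw [rsum, Multiset.sum_eq_zero_iff]
  constructor
  · intro h e he
    have := h (e - 1) (Multiset.mem_map.mpr ⟨e, he, rfl⟩)
    omega
  · intro h x hx
    rw [Multiset.mem_map] at hx
    obtain ⟨e, he, rfl⟩ := hx
    have := h e he
    omega

theorem eq_of_rsum_eq (μ ν : Multiset ℕ) (h0 : ∀ e ∈ μ, 0 < e) (h0' : ∀ e ∈ ν, 0 < e)
    (h : ∀ k, rsum μ k = rsum ν k) : μ = ν :=
  multiset_eq_of_sums μ ν h0 h0' h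

variable {K : Type u} [Field K] {V : Type v} [AddCommGroup V] [Module K V]
  [FiniteDimensional K V]

theorem exists_jtype (T : Module.End K V) (hT : IsNilpotent T) :
    ∃ μ : Multiset ℕ, (∀ e ∈ μ, 0 < e) ∧ μ.sum = finrank K V ∧ ∀ k, rk T k = rsum μ k := by
  obtain ⟨L, hL0, hLs, hLr⟩ := exists_list_rk (K := K) (finrank K V) V T rfl hT
  refine ⟨(L : Multiset ℕ), fun e he => hL0 e (by simpa using he), by simpa using hLs, ?_⟩
  intro k
  rw [hLr k, rsum]
  simp

theorem isNilpotent_restrict (T : Module.End K V) (hT : IsNilpotent T) (W : Submodule K V)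
    (hW : ∀ x ∈ W, T x ∈ W) : IsNilpotent (T.restrict hW) := by
  obtain ⟨k, hk⟩ := hT
  refine ⟨k, ?_⟩
  rw [Module.End.pow_restrict k hW]
  ext x
  simp [hk]

theorem rk_of_isCompl (T : Module.End K V) (W W' : Submodule K V) (hc : IsCompl W W')
    (hW : ∀ x ∈ W, T x ∈ W) (hW' : ∀ x ∈ W', T x ∈ W') (k : ℕ) :
    rk T k = rk (T.restrict hW) k + rk (T.restrict hW') k := by
  rw [← rk_prodMap]
  symm
  apply rk_conj _ _ (Submodule.prodEquivOfIsCompl W W' hc)
  rintro ⟨x, y⟩
  simp only [LinearMap.prodMap_apply, Submodule.coe_prodEquivOfIsCompl', LinearMap.coe_restrict_apply,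
    map_add]

theorem exists_sub_jtype (T : Module.End K V) (hT : IsNilpotent T) (W W' : Submodule K V)
    (hc : IsCompl W W') (hW : ∀ x ∈ W, T x ∈ W) (hW' : ∀ x ∈ W', T x ∈ W')
    (μ : Multiset ℕ) (hμ0 : ∀ e ∈ μ, 0 < e) (hμ : ∀ k, rk T k = rsum μ k) :
    ∃ ν : Multiset ℕ, ν ≤ μ ∧ (∀ e ∈ ν, 0 < e) ∧ ν.sum = finrank K W ∧
      ∀ k, rk (T.restrict hW) k = rsum ν k := by
  obtain ⟨ν, hν0, hνs, hνr⟩ := exists_jtype (T.restrict hW) (isNilpotent_restrict T hT W hW)
  obtain ⟨ν', hν0', hνs', hνr'⟩ := exists_jtype (T.restrict hW') (isNilpotent_restrict T hT W' hW')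
  have hμeq : μ = ν + ν' := by
    apply eq_of_rsum_eq _ _ hμ0
    · intro e he
      rcases Multiset.mem_add.mp he with h | h
      · exact hν0 e h
      · exact hν0' e h
    · intro k
      rw [← hμ, rsum_add, ← hνr, ← hνr', rk_of_isCompl T W W' hc hW hW']
  refine ⟨ν, ?_, hν0, hνs, hνr⟩
  rw [hμeq]
  exact Multiset.le_add_right ν ν'

/-- `finrank` of a subspace on which `T^k` is injective is at most `rk T k` -/
theorem finrank_le_rk (T : Module.End K V) (k : ℕ) (W : Submodule K V)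
    (hinj : ∀ v ∈ W, (T ^ k) v = 0 → v = 0) : finrank K W ≤ rk T k := by
  have h1 : Function.Injective ((T ^ k).domRestrict W) := by
    rw [← LinearMap.ker_eq_bot, LinearMap.ker_eq_bot']
    intro v hv
    apply Subtype.ext
    exact hinj v.1 v.2 hv
  rw [← LinearMap.finrank_range_of_inj h1, rk]
  apply Submodule.finrank_mono
  rintro _ ⟨v, rfl⟩
  exact ⟨v.1, rfl⟩

open Polynomial in
theorem poly_sub_one_pow_pred (F : Type*) [Field F] (p : ℕ) [Fact p.Prime] [CharP F p] :
    ((X : F[X]) - 1) ^ (p - 1) = ∑ i ∈ Finset.range p, (X : F[X]) ^ i := by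
  have hp : p.Prime := Fact.out
  have h1 : ((X : F[X]) - 1) ^ (p - 1) * (X - 1) = (∑ i ∈ Finset.range p, (X : F[X]) ^ i) * (X - 1) := by
    rw [← pow_succ, Nat.sub_add_cancel hp.one_le, sub_pow_char, one_pow, geom_sum_mul]
  have hne : (X : F[X]) - 1 ≠ 0 := by
    have := X_sub_C_ne_zero (1 : F)
    simpa using this
  exact mul_right_cancel₀ hne h1

theorem alg_sub_one_pow_pred {F : Type*} [Field F] (p : ℕ) [Fact p.Prime] [CharP F p]
    {A : Type*} [Ring A] [Algebra F A] (a : A) :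
    (a - 1) ^ (p - 1) = ∑ i ∈ Finset.range p, a ^ i := by
  have := congrArg (Polynomial.aeval a) (poly_sub_one_pow_pred F p)
  simpa using this

end Cfsg.Agent.Helper14.JType
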