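import Mathlib
import Cfsg.Prelude.Def_JordanBlocks
import Cfsg.Agent.Lib.Helper42.Jordan4

set_option autoImplicit false

/-!
Rank sequences: Pi-version of `rk_prodMap`, the rank sequence of `Cfsg.jordanTypeMatrix`,
nilpotent operators with one-dimensional kernel, and the multiplicity formula.
-/

namespace Cfsg.Agent.Helper14.JordanRk

open Module Cfsg.Agent.Helper42.Jordan

universe u v

variable {K : Type u} [Field K]

section pi

variable {ι : Type*} [Fintype ι] [DecidableEq ι] {V : ι → Type v} [∀ k, AddCommGroup (V k)]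
  [∀ k, Module K (V k)]

/-- componentwise endomorphism of a Pi type -/
def piEnd (T : ∀ k, Module.End K (V k)) : Module.End K (∀ k, V k) :=
  LinearMap.pi (fun k => (T k) ∘ₗ LinearMap.proj k)

omit [Fintype ι] [DecidableEq ι] in
@[simp] lemma piEnd_apply (T : ∀ k, Module.End K (V k)) (f : ∀ k, V k) (k : ι) :
    piEnd T f k = T k (f k) := rfl

omit [Fintype ι] [DecidableEq ι] in
lemma piEnd_pow (T : ∀ k, Module.End K (V k)) (i : ℕ) :
    (piEnd T) ^ i = piEnd (fun k => T k ^ i) := by
  induction i with
  | zero =>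
    apply LinearMap.ext; intro f; funext k; simp
  | succ i ih =>
    apply LinearMap.ext; intro f; funext k
    rw [pow_succ, Module.End.mul_apply, ih, piEnd_apply, piEnd_apply, piEnd_apply, pow_succ,
      Module.End.mul_apply]

/-- the range of a componentwise map is the product of the ranges -/
noncomputable def rangePiEquiv (S : ∀ k, Module.End K (V k)) :
    LinearMap.range (piEnd S) ≃ₗ[K] (∀ k, LinearMap.range (S k)) where
  toFun g := fun k => ⟨g.1 k, by
    obtain ⟨f, hf⟩ := g.2
    exact ⟨f k, by rw [← hf]; rfl⟩⟩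
  map_add' _ _ := rfl
  map_smul' _ _ := rfl
  invFun h := ⟨fun k => (h k).1, by
    refine ⟨fun k => (h k).2.choose, ?_⟩
    funext k
    exact (h k).2.choose_spec⟩
  left_inv _ := rfl
  right_inv _ := rfl

lemma rk_piEnd [∀ k, FiniteDimensional K (V k)] (T : ∀ k, Module.End K (V k)) (i : ℕ) :
    rk (piEnd T) i = ∑ k, rk (T k) i := by
  rw [rk, piEnd_pow, (rangePiEquiv _).finrank_eq, Module.finrank_pi_fintype]
  rfl

end pi

section jordan

/-- `toLin'` of the nilpotent part of a Jordan block is the shift. -/
lemma toLin'_jordanBlock_sub_one (m : ℕ) :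
    Matrix.toLin' (Cfsg.jordanBlock m K - 1) = shift K m := by
  apply LinearMap.ext; intro c; funext j
  rw [Matrix.toLin'_apply, Matrix.mulVec, dotProduct, shift_apply]
  by_cases h : 0 < j.val
  · rw [dif_pos h]
    rw [Finset.sum_eq_single (⟨j.val - 1, by omega⟩ : Fin m)]
    · simp only [Cfsg.jordanBlock, Matrix.sub_apply, Matrix.of_apply, Matrix.one_apply]
      rw [if_neg (by show ¬ (j.val = j.val - 1); omega),
        if_pos (by show j.val = j.val - 1 + 1; omega), if_neg (by
        intro hh; have := congrArg Fin.val hh; simp at this; omega)]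
      simp
    · intro b _ hb
      simp only [Cfsg.jordanBlock, Matrix.sub_apply, Matrix.of_apply, Matrix.one_apply]
      by_cases h1 : (j : ℕ) = b
      · rw [if_pos h1, if_pos (Fin.ext h1)]; simp
      · rw [if_neg h1, if_neg (fun hh => h1 (congrArg Fin.val hh)), if_neg (by
          intro hh; apply hb; apply Fin.ext; simp; omega)]
        simp
    · intro hh; exact absurd (Finset.mem_univ _) hh
  · rw [dif_neg h]
    apply Finset.sum_eq_zero
    intro b _
    simp only [Cfsg.jordanBlock, Matrix.sub_apply, Matrix.of_apply, Matrix.one_apply]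
    by_cases h1 : (j : ℕ) = b
    · rw [if_pos h1, if_pos (Fin.ext h1)]; simp
    · rw [if_neg h1, if_neg (fun hh => h1 (congrArg Fin.val hh)), if_neg (by omega)]
      simp

variable {t : ℕ} (d : Fin t → ℕ)

/-- currying equivalence for functions on the sigma index type -/
def curryEquiv : (((k : Fin t) × Fin (d k)) → K) ≃ₗ[K] (∀ k : Fin t, Fin (d k) → K) where
  toFun v := fun k a => v ⟨k, a⟩
  map_add' _ _ := rfl
  map_smul' _ _ := rfl
  invFun g := fun p => g p.1 p.2
  left_inv _ := by funext ⟨k, a⟩; rfl
  right_inv _ := rfl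

lemma blockDiagonal'_mulVec (M : ∀ k : Fin t, Matrix (Fin (d k)) (Fin (d k)) K)
    (v : ((k : Fin t) × Fin (d k)) → K) (k : Fin t) (a : Fin (d k)) :
    (Matrix.blockDiagonal' M).mulVec v (⟨k, a⟩ : (k : Fin t) × Fin (d k)) =
      (M k).mulVec (fun b => v ⟨k, b⟩) a := by
  rw [Matrix.mulVec, dotProduct, Matrix.mulVec, dotProduct, ← Finset.univ_sigma_univ,
    Finset.sum_sigma]
  rw [Finset.sum_eq_single k]
  · apply Finset.sum_congr rfl
    intro b _
    rw [Matrix.blockDiagonal'_apply_eq]
  · intro l _ hl
    apply Finset.sum_eq_zero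
    intro b _
    rw [Matrix.blockDiagonal'_apply_ne _ _ _ (Ne.symm hl), zero_mul]
  · intro hh; exact absurd (Finset.mem_univ _) hh

lemma jordanType_sub_one :
    Cfsg.jordanTypeMatrix d K - 1 = Matrix.blockDiagonal' (fun k => Cfsg.jordanBlock (d k) K - 1) := by
  rw [Cfsg.jordanTypeMatrix]
  have : (fun k => Cfsg.jordanBlock (d k) K - 1) = (fun k => Cfsg.jordanBlock (d k) K) - 1 := rfl
  rw [this, Matrix.blockDiagonal'_sub, Matrix.blockDiagonal'_one]

lemma curry_toLin' (v : ((k : Fin t) × Fin (d k)) → K) :
    curryEquiv d (Matrix.toLin' (Cfsg.jordanTypeMatrix d K - 1) v) =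
      piEnd (fun k => shift K (d k)) (curryEquiv d v) := by
  funext k a
  rw [piEnd_apply, ← toLin'_jordanBlock_sub_one, Matrix.toLin'_apply, jordanType_sub_one]
  show (Matrix.blockDiagonal' _).mulVec v (⟨k, a⟩ : (k : Fin t) × Fin (d k)) = _
  rw [blockDiagonal'_mulVec]
  rfl

/-- the rank sequence of the nilpotent part of `jordanTypeMatrix d` -/
theorem rk_jordanType (i : ℕ) :
    rk (Matrix.toLin' (Cfsg.jordanTypeMatrix d K - 1)) i = ∑ k, (d k - i) := by
  rw [rk_conj _ _ (curryEquiv d) (curry_toLin' d) i, rk_piEnd]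
  apply Finset.sum_congr rfl
  intro k _
  rw [rk_shift]

theorem isNilpotent_jordanType : IsNilpotent (Matrix.toLin' (Cfsg.jordanTypeMatrix d K - 1)) := by
  refine ⟨Finset.univ.sup d, ?_⟩
  rw [← rk_eq_zero_iff, rk_jordanType]
  apply Finset.sum_eq_zero
  intro k _
  have : d k ≤ Finset.univ.sup d := Finset.le_sup (Finset.mem_univ k)
  omega

end jordan

section kerone

variable {V : Type v} [AddCommGroup V] [Module K V] [FiniteDimensional K V]

lemma list_sum_sub_one (L : List ℕ) (h : ∀ e ∈ L, 0 < e) :
    (L.map (fun e => e - 1)).sum + L.length = L.sum := by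
  induction L with
  | nil => simp
  | cons a L ih =>
    have ha : 0 < a := h a (by simp)
    have := ih (fun e he => h e (by simp [he]))
    simp only [List.map_cons, List.sum_cons, List.length_cons]
    omega

/-- A nilpotent operator with kernel of dimension at most one is a single Jordan block. -/
theorem rk_of_ker_le_one (T : Module.End K V) (hT : IsNilpotent T)
    (hker : finrank K (LinearMap.ker T) ≤ 1) (k : ℕ) : rk T k = finrank K V - k := by
  obtain ⟨L, hpos, hsum, hrk⟩ := exists_list_rk (finrank K V) V T rfl hT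
  have h1 : rk T 1 + finrank K (LinearMap.ker T) = finrank K V := by
    rw [rk, pow_one]; exact LinearMap.finrank_range_add_finrank_ker T
  have h2 := list_sum_sub_one L hpos
  rw [← hrk 1, hsum] at h2
  have hlen : L.length ≤ 1 := by omega
  rw [hrk k]
  match L, hlen, hsum with
  | [], _, hs => simp at hs; simp [← hs]
  | [a], _, hs => simp at hs; simp [← hs]
  | _ :: _ :: _, hl, _ => simp at hl

end kerone

section mult

/-- multiplicity of `j` among the block sizes from the rank sequence -/
theorem card_filter_add {t : ℕ} (d : Fin t → ℕ) (j : ℕ) (hj : 1 ≤ j) :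
    (Finset.univ.filter (fun k : Fin t => d k = j)).card + 2 * ∑ k, (d k - j) =
      ∑ k, (d k - (j - 1)) + ∑ k, (d k - (j + 1)) := by
  rw [Finset.card_filter, Finset.mul_sum, ← Finset.sum_add_distrib, ← Finset.sum_add_distrib]
  apply Finset.sum_congr rfl
  intro k _
  split_ifs with h <;> omega

end mult

end Cfsg.Agent.Helper14.JordanRk
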