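import Mathlib
import Cfsg.Prelude.Def_Solvable
import Cfsg.Prelude.Def_KGroupFacts

/-!
# Abstract group theory for the local balance statements

* `pPrimeCore_ne_bot_iff`, `HasPPrime`, transport under isomorphisms.
* `core_trivial`: a `p'`-subgroup normalized by a simple subgroup `L` of order divisible by `p`
  whose centralizer (inside `C(φ)`) lies in `⟨φ⟩` is trivial.
* `card_inn_inf_centralizer`: `|Inn K ⊓ C(φ)| = |Fix φ|` for centerless `K`.
* Artin's lemma for finite fields.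
-/

set_option autoImplicit false
set_option linter.unusedSectionVars false
set_option linter.unusedVariables false

namespace Cfsg.Agent.Helper14.LocalBal

open Subgroup

/-- Artin: an automorphism of a finite field fixing the fixed field of `σ` pointwise is a power
of `σ` -/
theorem mem_zpowers_of_fixes {F : Type*} [Field F] [Finite F] (σ τ : F ≃+* F)
    (h : ∀ a : F, σ a = a → τ a = a) : τ ∈ Subgroup.zpowers σ := by
  classical
  have hfin : Finite (F ≃+* F) := Finite.of_injective (fun e : F ≃+* F => (e : F → F))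
    (fun a b h => RingEquiv.ext (congrFun h))
  have hbij := FixedPoints.toAlgHom_bijective (Subgroup.zpowers σ) F
  let f : F →ₐ[FixedPoints.subfield (Subgroup.zpowers σ) F] F :=
    { (τ : F →+* F) with
      commutes' := by
        intro a
        show τ (a : F) = (a : F)
        apply h
        exact a.2 ⟨σ, Subgroup.mem_zpowers σ⟩ }
  obtain ⟨g, hg⟩ := hbij.2 f
  have : (g : F ≃+* F) = τ := by
    apply RingEquiv.ext
    intro a
    have := congrArg (fun k : F →ₐ[FixedPoints.subfield (Subgroup.zpowers σ) F] F => k a) hg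
    exact this
  rw [← this]
  exact g.2

/-! ### the `p'`-core -/

/-- the `p'`-core is nontrivial iff there is a nontrivial normal `p'`-subgroup -/
theorem pPrimeCore_ne_bot_iff (p : ℕ) (G : Type*) [Group G] :
    Cfsg.pPrimeCore p G ≠ ⊥ ↔
      ∃ N : Subgroup G, N.Normal ∧ (Nat.card N).Coprime p ∧ N ≠ ⊥ := by
  constructor
  · intro h
    by_contra hcon
    apply h
    unfold Cfsg.pPrimeCore
    rw [eq_bot_iff]
    apply sSup_le
    rintro N ⟨hN1, hN2⟩
    by_contra hN
    apply hcon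
    refine ⟨N, hN1, hN2, ?_⟩
    intro h0
    apply hN
    rw [h0]
  · rintro ⟨N, hN1, hN2, hN3⟩ h
    apply hN3
    rw [eq_bot_iff, ← h]
    exact le_sSup ⟨hN1, hN2⟩

/-- `B` has a nontrivial subgroup of order prime to `p` normalized by `B` -/
def HasPPrime {X : Type*} [Group X] (p : ℕ) (B : Subgroup X) : Prop :=
  ∃ N : Subgroup X, N ≤ B ∧ (∀ b ∈ B, ∀ n ∈ N, b * n * b⁻¹ ∈ N) ∧ (Nat.card N).Coprime p ∧ N ≠ ⊥

theorem pPrimeCore_subgroup_ne_bot_iff {X : Type*} [Group X] (p : ℕ) (B : Subgroup X) :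
    Cfsg.pPrimeCore p ↥B ≠ ⊥ ↔ HasPPrime p B := by
  rw [pPrimeCore_ne_bot_iff]
  constructor
  · rintro ⟨N, hN1, hN2, hN3⟩
    refine ⟨N.map B.subtype, ?_, ?_, ?_, ?_⟩
    · rintro _ ⟨n, -, rfl⟩
      exact n.2
    · rintro b hb _ ⟨n, hn, rfl⟩
      exact ⟨⟨b, hb⟩ * n * ⟨b, hb⟩⁻¹, hN1.conj_mem n hn ⟨b, hb⟩, rfl⟩
    · rw [Nat.card_congr (N.equivMapOfInjective B.subtype B.subtype_injective).symm.toEquiv]
      exact hN2
    · intro h
      apply hN3
      rw [eq_bot_iff]
      intro n hn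
      have h1 : (n : X) ∈ N.map B.subtype := ⟨n, hn, rfl⟩
      rw [h, mem_bot] at h1
      rw [mem_bot]
      exact Subtype.ext h1
  · rintro ⟨N, hNB, hnorm, hcop, hne⟩
    refine ⟨N.subgroupOf B, ?_, ?_, ?_⟩
    · constructor
      intro n hn b
      rw [mem_subgroupOf] at hn ⊢
      exact hnorm b b.2 n hn
    · rw [Nat.card_congr (subgroupOfEquivOfLe hNB).toEquiv]
      exact hcop
    · intro h
      apply hne
      rw [eq_bot_iff]
      intro n hn
      have h1 : (⟨n, hNB hn⟩ : B) ∈ N.subgroupOf B := hn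
      rw [h, mem_bot] at h1
      rw [mem_bot]
      exact congrArg Subtype.val h1

theorem HasPPrime.map {X Y : Type*} [Group X] [Group Y] (f : X ≃* Y) {p : ℕ} {B : Subgroup X}
    (h : HasPPrime p B) : HasPPrime p (B.map f.toMonoidHom) := by
  obtain ⟨N, hNB, hnorm, hcop, hne⟩ := h
  refine ⟨N.map f.toMonoidHom, Subgroup.map_mono hNB, ?_, ?_, ?_⟩
  · rintro _ ⟨b, hb, rfl⟩ _ ⟨n, hn, rfl⟩
    refine ⟨b * n * b⁻¹, hnorm b hb n hn, ?_⟩
    rw [map_mul, map_mul, map_inv]
  · rw [Nat.card_congr (N.equivMapOfInjective f.toMonoidHom f.injective).symm.toEquiv]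
    exact hcop
  · intro h
    apply hne
    exact (Subgroup.map_eq_bot_iff_of_injective N f.injective).1 h

/-- conjugating `A ⊓ C(φ)` -/
theorem map_conj_inf_centralizer {X : Type*} [Group X] (A : Subgroup X) (a φ : X) :
    (A ⊓ centralizer {φ}).map (MulAut.conj a).toMonoidHom =
      A.map (MulAut.conj a).toMonoidHom ⊓ centralizer {a * φ * a⁻¹} := by
  ext y
  constructor
  · rintro ⟨z, hz, rfl⟩
    obtain ⟨hzA, hzC⟩ := mem_inf.1 hz
    refine mem_inf.2 ⟨⟨z, hzA, rfl⟩, ?_⟩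
    rw [mem_centralizer_iff] at hzC ⊢
    intro h hh
    rw [Set.mem_singleton_iff.1 hh]
    have h1 := hzC φ rfl
    show a * φ * a⁻¹ * (a * z * a⁻¹) = a * z * a⁻¹ * (a * φ * a⁻¹)
    have e1 : a * φ * a⁻¹ * (a * z * a⁻¹) = a * (φ * z) * a⁻¹ := by group
    have e2 : a * z * a⁻¹ * (a * φ * a⁻¹) = a * (z * φ) * a⁻¹ := by group
    rw [e1, e2, h1]
  · intro hy
    obtain ⟨⟨z, hzA, rfl⟩, hyC⟩ := mem_inf.1 hy
    refine ⟨z, mem_inf.2 ⟨hzA, ?_⟩, rfl⟩
    rw [mem_centralizer_iff] at hyC ⊢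
    intro h hh
    rw [Set.mem_singleton_iff.1 hh]
    have h1 : a * φ * a⁻¹ * (a * z * a⁻¹) = a * z * a⁻¹ * (a * φ * a⁻¹) := hyC _ rfl
    have e1 : a * φ * a⁻¹ * (a * z * a⁻¹) = a * (φ * z) * a⁻¹ := by group
    have e2 : a * z * a⁻¹ * (a * φ * a⁻¹) = a * (z * φ) * a⁻¹ := by group
    rw [e1, e2] at h1
    exact mul_left_cancel (mul_right_cancel h1)

theorem hasPPrime_conj_iff {X : Type*} [Group X] (p : ℕ) (A : Subgroup X) (a φ : X) :
    HasPPrime p (A.map (MulAut.conj a).toMonoidHom ⊓ centralizer {a * φ * a⁻¹}) ↔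
      HasPPrime p (A ⊓ centralizer {φ}) := by
  rw [← map_conj_inf_centralizer]
  constructor
  · intro h
    have h1 := h.map (MulAut.conj a).symm
    have h2 : ((A ⊓ centralizer {φ}).map (MulAut.conj a).toMonoidHom).map
        (MulAut.conj a).symm.toMonoidHom = A ⊓ centralizer {φ} := by
      ext y
      constructor
      · rintro ⟨_, ⟨z, hz, rfl⟩, rfl⟩
        have : (MulAut.conj a).symm.toMonoidHom ((MulAut.conj a).toMonoidHom z) = z :=
          (MulAut.conj a).symm_apply_apply z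
        rw [this]
        exact hz
      · intro hy
        exact ⟨_, ⟨y, hy, rfl⟩, (MulAut.conj a).symm_apply_apply y⟩
    rwa [h2] at h1
  · intro h
    exact h.map (MulAut.conj a)

/-! ### the core lemma -/

theorem core_trivial {X : Type*} [Group X] {p : ℕ} (hp : p.Prime) (φ : X)
    (hφ : orderOf φ = p) (L N : Subgroup X) [IsSimpleGroup ↥L]
    (hpL : p ∣ Nat.card L)
    (hcentL : ∀ n : X, n ∈ centralizer {φ} → (∀ l ∈ L, n * l = l * n) → n ∈ zpowers φ)
    (hNC : N ≤ centralizer {φ})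
    (hNL : ∀ n ∈ N, ∀ l ∈ L, n * l * n⁻¹ ∈ L)
    (hLN : ∀ l ∈ L, ∀ n ∈ N, l * n * l⁻¹ ∈ N)
    (hcop : (Nat.card N).Coprime p) : N = ⊥ := by
  have hnormal : ((N ⊓ L).subgroupOf L).Normal := by
    constructor
    intro m hm l
    rw [mem_subgroupOf] at hm ⊢
    obtain ⟨hmN, hmL⟩ := mem_inf.1 hm
    refine mem_inf.2 ⟨hLN l l.2 m hmN, ?_⟩
    exact L.mul_mem (L.mul_mem l.2 hmL) (L.inv_mem l.2)
  rcases hnormal.eq_bot_or_eq_top with h | h
  · -- `N` centralizes `L`
    rw [subgroupOf_eq_bot] at h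
    have hcomm : ∀ n ∈ N, ∀ l ∈ L, n * l = l * n := by
      intro n hn l hl
      have h1 : n * l * n⁻¹ * l⁻¹ ∈ N ⊓ L := by
        refine mem_inf.2 ⟨?_, ?_⟩
        · have h2 := hLN l hl n⁻¹ (N.inv_mem hn)
          have h3 := N.mul_mem hn h2
          have e : n * (l * n⁻¹ * l⁻¹) = n * l * n⁻¹ * l⁻¹ := by group
          rwa [e] at h3
        · exact L.mul_mem (hNL n hn l hl) (L.inv_mem hl)
      have h2 : n * l * n⁻¹ * l⁻¹ ∈ L := (mem_inf.1 h1).2
      have h3 := (Subgroup.disjoint_def.1 h) h1 h2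
      calc n * l = (n * l * n⁻¹ * l⁻¹) * (l * n) := by group
        _ = l * n := by rw [h3, one_mul]
    have hle : N ≤ zpowers φ := fun n hn => hcentL n (hNC hn) (hcomm n hn)
    have h1 := Subgroup.card_dvd_of_le hle
    rw [Nat.card_zpowers, hφ] at h1
    have h2 : Nat.card N ∣ Nat.gcd (Nat.card N) p := Nat.dvd_gcd dvd_rfl h1
    rw [hcop.gcd_eq_one] at h2
    exact Subgroup.eq_bot_of_card_eq N (Nat.dvd_one.1 h2)
  · exfalso
    rw [subgroupOf_eq_top] at h
    have h1 : L ≤ N := le_trans h inf_le_left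
    have h2 := dvd_trans hpL (Subgroup.card_dvd_of_le h1)
    have h3 : p ∣ Nat.gcd (Nat.card N) p := Nat.dvd_gcd h2 dvd_rfl
    rw [hcop.gcd_eq_one] at h3
    exact hp.one_lt.ne' (Nat.dvd_one.1 h3)

/-! ### inner automorphisms commuting with `φ` -/

theorem conj_injective_of_center {K : Type*} [Group K] (hZ : Subgroup.center K = ⊥) :
    Function.Injective (MulAut.conj : K →* MulAut K) := by
  rw [injective_iff_map_eq_one]
  intro k hk
  have : k ∈ Subgroup.center K := by
    rw [Subgroup.mem_center_iff]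
    intro g
    have h1 := congrArg (fun f : MulAut K => f g) hk
    simp only [MulAut.conj_apply, MulAut.one_apply] at h1
    calc g * k = (k * g * k⁻¹) * k := by rw [h1]
      _ = k * g := by group
  rw [hZ, mem_bot] at this
  exact this

theorem conj_mem_centralizer_iff {K : Type*} [Group K] (hZ : Subgroup.center K = ⊥)
    (φ : MulAut K) (k : K) : MulAut.conj k ∈ centralizer {φ} ↔ φ k = k := by
  rw [mem_centralizer_iff]
  have h0 : φ * MulAut.conj k = MulAut.conj (φ k) * φ := by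
    apply MulEquiv.ext
    intro y
    simp only [MulAut.mul_apply, MulAut.conj_apply, map_mul, map_inv]
  constructor
  · intro h
    have h1 := h φ rfl
    rw [h0] at h1
    exact conj_injective_of_center hZ (mul_right_cancel h1)
  · intro h g hg
    rw [Set.mem_singleton_iff.1 hg, h0, h]

theorem card_inn_inf_centralizer {K : Type*} [Group K] (hZ : Subgroup.center K = ⊥)
    (φ : MulAut K) :
    Nat.card ↥(Cfsg.Inn K ⊓ centralizer {φ}) =
      Nat.card ↥(MonoidHom.eqLocus φ.toMonoidHom (MonoidHom.id K)) := by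
  symm
  apply Nat.card_congr
  refine Equiv.ofBijective
    (fun k : ↥(MonoidHom.eqLocus φ.toMonoidHom (MonoidHom.id K)) =>
      (⟨MulAut.conj k.1, mem_inf.2 ⟨⟨k.1, rfl⟩,
        (conj_mem_centralizer_iff hZ φ k.1).2 k.2⟩⟩ : ↥(Cfsg.Inn K ⊓ centralizer {φ}))) ⟨?_, ?_⟩
  · intro k k' h
    apply Subtype.ext
    exact conj_injective_of_center hZ (congrArg Subtype.val h)
  · rintro ⟨β, hβ⟩
    obtain ⟨⟨k, rfl⟩, hC⟩ := mem_inf.1 hβ
    exact ⟨⟨k, (conj_mem_centralizer_iff hZ φ k).1 hC⟩, rfl⟩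

/-- the number of fixed points is a conjugation invariant -/
theorem card_eqLocus_conj {K : Type*} [Group K] (a φ : MulAut K) :
    Nat.card ↥(MonoidHom.eqLocus (a * φ * a⁻¹).toMonoidHom (MonoidHom.id K)) =
      Nat.card ↥(MonoidHom.eqLocus φ.toMonoidHom (MonoidHom.id K)) := by
  symm
  apply Nat.card_congr
  refine Equiv.ofBijective
    (fun k : ↥(MonoidHom.eqLocus φ.toMonoidHom (MonoidHom.id K)) =>
      (⟨a k.1, by
        show (a * φ * a⁻¹) (a k.1) = a k.1
        have h1 : φ k.1 = k.1 := k.2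
        simp only [MulAut.mul_apply, MulAut.inv_apply, MulEquiv.symm_apply_apply, h1]⟩ :
        ↥(MonoidHom.eqLocus (a * φ * a⁻¹).toMonoidHom (MonoidHom.id K)))) ⟨?_, ?_⟩
  · intro k k' h
    apply Subtype.ext
    exact a.injective (congrArg Subtype.val h)
  · rintro ⟨y, hy⟩
    refine ⟨⟨a⁻¹ y, ?_⟩, ?_⟩
    · show φ (a⁻¹ y) = a⁻¹ y
      have h1 : (a * φ * a⁻¹) y = y := hy
      simp only [MulAut.mul_apply] at h1
      have h2 := congrArg (fun z => a⁻¹ z) h1
      simp only [MulAut.inv_apply, MulEquiv.symm_apply_apply] at h2 ⊢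
      exact h2
    · apply Subtype.ext
      show a (a⁻¹ y) = y
      simp only [MulAut.inv_apply, MulEquiv.apply_symm_apply]

end Cfsg.Agent.Helper14.LocalBal
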