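import Mathlib
import Cfsg.Agent.Lib.Helper14.LocalBalCore

/-!
# Index two and commutator subgroups inside automorphism groups

For a perfect centerless group `K₀` and `Inn K₀ ≤ P₀ ≤ Aut K₀` of relative index two, the
commutator subgroup of `P₀` is `Inn K₀`; transport of this along an isomorphism `G ≃* P₀`.
-/

set_option autoImplicit false
set_option linter.unusedSectionVars false
set_option linter.unusedVariables false

namespace Cfsg.Agent.Helper14.LocalBal

open Subgroup

/-- commutators land in a subgroup of relative index two -/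
theorem commutator_le_of_relIndex_two {X : Type*} [Group X] (H P : Subgroup X)
    (h : H.relIndex P = 2) : ⁅P, P⁆ ≤ H := by
  rw [Subgroup.commutator_le]
  intro a ha b hb
  have hidx : (H.subgroupOf P).index = 2 := h
  have key : ∀ x y : ↥P, x * y * x⁻¹ * y⁻¹ ∈ H.subgroupOf P := by
    intro x y
    rw [mul_mem_iff_of_index_two hidx, mul_mem_iff_of_index_two hidx,
      mul_mem_iff_of_index_two hidx, inv_mem_iff, inv_mem_iff]
    tauto
  have h1 := key ⟨a, ha⟩ ⟨b, hb⟩
  rw [mem_subgroupOf] at h1
  exact h1

theorem commutator_quotient_eq_top {G : Type*} [Group G] (N : Subgroup G) [N.Normal]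
    (h : commutator G = ⊤) : commutator (G ⧸ N) = ⊤ := by
  rw [commutator_def, ← Subgroup.map_top_of_surjective (QuotientGroup.mk' N)
    (QuotientGroup.mk'_surjective N), ← Subgroup.map_commutator, ← commutator_def, h]

theorem center_eq_bot_of_simple_perfect {G : Type*} [Group G] [IsSimpleGroup G]
    (h : commutator G = ⊤) : Subgroup.center G = ⊥ := by
  rcases (inferInstance : (Subgroup.center G).Normal).eq_bot_or_eq_top with h1 | h1
  · exact h1
  · exfalso
    have h2 : commutator G = ⊥ := (commutator_eq_bot_iff_center_eq_top G).2 h1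
    rw [h] at h2
    exact top_ne_bot h2

/-- the commutator subgroup of `P₀` is `Inn K₀` -/
theorem commutator_eq_inn_subgroupOf {K₀ : Type*} [Group K₀] (hperf : commutator K₀ = ⊤)
    (P₀ : Subgroup (MulAut K₀)) (hle : Cfsg.Inn K₀ ≤ P₀)
    (hidx : (Cfsg.Inn K₀).relIndex P₀ = 2) :
    commutator ↥P₀ = (Cfsg.Inn K₀).subgroupOf P₀ := by
  apply le_antisymm
  · rw [commutator_def, Subgroup.commutator_le]
    intro a _ b _
    rw [mem_subgroupOf]
    apply commutator_le_of_relIndex_two (Cfsg.Inn K₀) P₀ hidx
    exact Subgroup.commutator_mem_commutator a.2 b.2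
  · intro y hy
    rw [mem_subgroupOf] at hy
    obtain ⟨k, hk⟩ := hy
    let c : K₀ →* ↥P₀ := (MulAut.conj : K₀ →* MulAut K₀).codRestrict P₀ (fun k => hle ⟨k, rfl⟩)
    have h1 : (commutator K₀).map c ≤ commutator ↥P₀ := by
      rw [commutator_def, Subgroup.map_commutator, commutator_def]
      exact Subgroup.commutator_mono le_top le_top
    have h2 : c k ∈ (commutator K₀).map c := by
      rw [hperf]
      exact ⟨k, mem_top k, rfl⟩
    have h3 : c k = y := Subtype.ext hk
    rw [← h3]
    exact h1 h2

/-- transport along an isomorphism `G ≃* P₀` -/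
theorem exists_equiv_commutator {K₀ : Type*} [Group K₀] (hperf : commutator K₀ = ⊤)
    (hZ : Subgroup.center K₀ = ⊥)
    (P₀ : Subgroup (MulAut K₀)) (hle : Cfsg.Inn K₀ ≤ P₀)
    (hidx : (Cfsg.Inn K₀).relIndex P₀ = 2) {G : Type*} [Group G] (e : G ≃* ↥P₀) :
    Nonempty (↥(commutator G) ≃* K₀) ∧ (commutator G).index = 2 ∧
      (∀ y : G, (∀ l ∈ commutator G, y * l = l * y) → y = 1) := by
  have hG1 := commutator_eq_inn_subgroupOf hperf P₀ hle hidx
  have hmap : (commutator G).map e.toMonoidHom = commutator ↥P₀ := by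
    rw [commutator_def, Subgroup.map_commutator,
      Subgroup.map_top_of_surjective e.toMonoidHom e.surjective, commutator_def]
  refine ⟨?_, ?_, ?_⟩
  · have e1 := (commutator G).equivMapOfInjective e.toMonoidHom e.injective
    have e2 := MulEquiv.subgroupCongr (hmap.trans hG1)
    have e3 := subgroupOfEquivOfLe hle
    have e4 := MonoidHom.ofInjective (conj_injective_of_center hZ)
    exact ⟨((e1.trans e2).trans e3).trans e4.symm⟩
  · have h1 := index_map_of_bijective (f := e.toMonoidHom) e.bijective (commutator G)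
    rw [← h1, hmap, hG1]
    exact hidx
  · intro y hy
    apply e.injective
    rw [map_one]
    apply Subtype.ext
    apply MulEquiv.ext
    intro k
    show ((e y : ↥P₀) : MulAut K₀) k = k
    rw [← conj_mem_centralizer_iff hZ, mem_centralizer_iff]
    intro h hh
    rw [Set.mem_singleton_iff.1 hh]
    -- `conj k` comes from the commutator subgroup of `G`
    have h1 : (⟨MulAut.conj k, hle ⟨k, rfl⟩⟩ : ↥P₀) ∈ (commutator G).map e.toMonoidHom := by
      rw [hmap, hG1, mem_subgroupOf]
      exact ⟨k, rfl⟩
    obtain ⟨l, hl, hlk⟩ := h1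
    have h2 := congrArg e (hy l hl)
    rw [map_mul, map_mul] at h2
    have h3 : e l = ⟨MulAut.conj k, hle ⟨k, rfl⟩⟩ := hlk
    rw [h3] at h2
    exact congrArg Subtype.val h2

end Cfsg.Agent.Helper14.LocalBal
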