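import Mathlib
import Cfsg.Agent.Lib.Helper40.AutPOmFieldMain
import Cfsg.Agent.Lib.Helper14.LocalBalIdx

/-!
# Rigidity over the fixed field

If `Phi g * fieldAutPOm σ` fixes the classes of the Eichler elements `E(u, c w)` for all `c` in a
set `S ∋ 1`, then `σ` fixes `S` pointwise.
-/

set_option autoImplicit false
set_option linter.unusedSectionVars false
set_option linter.unusedSimpArgs false
set_option linter.unusedVariables false

namespace Cfsg.Agent.Helper14.LocalBal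

open Matrix QuadraticMap Cfsg.Agent.Helper5.OrthAut Cfsg.Agent.Helper13 Cfsg.Agent.S0794
  Cfsg.Agent.Helper40.AutPOm

variable {F : Type*} [Field F] {ι : Type} [Fintype ι] [DecidableEq ι]
  (Q : QuadraticForm F (ι → F))

/-- the Eichler element `E(u, c w)` of `Ω(Q)` -/
def eichOm (hEK : ∀ (u w : ι → F) (hu : Q u = 0) (huw : polar (⇑Q) u w = 0),
      eichO Q u w hu huw ∈ Cfsg.Omega F ⇑Q)
    (u w : ι → F) (hu : Q u = 0) (huw : polar (⇑Q) u w = 0) (c : F) : ↥(Cfsg.Omega F ⇑Q) :=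
  ⟨eichO Q u (c • w) hu (by rw [polar_smul_right, huw, smul_zero]), hEK _ _ _ _⟩

variable (hEK : ∀ (u w : ι → F) (hu : Q u = 0) (huw : polar (⇑Q) u w = 0),
      eichO Q u w hu huw ∈ Cfsg.Omega F ⇑Q)

theorem eichOm_mat (u w : ι → F) (hu : Q u = 0) (hw : Q w = 0) (huw : polar (⇑Q) u w = 0)
    (c : F) : omat (⇑Q) (eichOm Q hEK u w hu huw c) = 1 + c • eN Q u w :=
  eichM_smul_eq Q u w hw c

theorem eichOm_add (u w : ι → F) (hu : Q u = 0) (huw : polar (⇑Q) u w = 0) (c d : F) :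
    eichOm Q hEK u w hu huw c * eichOm Q hEK u w hu huw d = eichOm Q hEK u w hu huw (c + d) := by
  apply Subtype.ext
  show eichO Q u (c • w) hu _ * eichO Q u (d • w) hu _ = eichO Q u ((c + d) • w) hu _
  rw [eichO_mul]
  exact eichO_congr Q _ _ _ _ rfl (by rw [add_smul])

theorem sigOm_eichOm (u w : ι → F) (hu : Q u = 0) (hw : Q w = 0) (huw : polar (⇑Q) u w = 0)
    (σ : ↥(QAut (⇑Q))) (hσu : (fun i => σ.1 (u i)) = u) (hσw : (fun i => σ.1 (w i)) = w)
    (c : F) (hc : σ.1 c = c) :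
    sigOm (⇑Q) σ (eichOm Q hEK u w hu huw c) = eichOm Q hEK u w hu huw c := by
  apply Subtype.ext
  apply Subtype.ext
  apply Units.ext
  show omat (⇑Q) (sigOm (⇑Q) σ (eichOm Q hEK u w hu huw c)) = omat (⇑Q) (eichOm Q hEK u w hu huw c)
  rw [sigOm_mat, eichOm_mat Q hEK u w hu hw huw, one_add_smul_map, eN_map Q σ.2 u w hw hσu hσw, hc]

/-- **Rigidity over a subset.** -/
theorem rigidity_fixed
    (hcent : ∀ Z : Matrix ι ι F, (∀ s : ↥(Cfsg.Omega F ⇑Q), Z * omat (⇑Q) s = omat (⇑Q) s * Z) →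
      ∃ c : F, Z = c • (1 : Matrix ι ι F))
    (u w t : ι → F) (hu : Q u = 0) (hw : Q w = 0) (huw : polar (⇑Q) u w = 0)
    (hut : polar (⇑Q) u t = 1) (hwt : polar (⇑Q) w t = 0) (hw0 : w ≠ 0)
    (σ : ↥(QAut (⇑Q))) (hσu : (fun i => σ.1 (u i)) = u) (hσw : (fun i => σ.1 (w i)) = w)
    (S : Set F) (h1S : (1 : F) ∈ S)
    (g : ↥(NO (⇑Q)))
    (h : ∀ c ∈ S, (Phi (⇑Q) g * fieldAutPOm (⇑Q) σ)
        (QuotientGroup.mk (eichOm Q hEK u w hu huw c) : Cfsg.POmega F ⇑Q) =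
      QuotientGroup.mk (eichOm Q hEK u w hu huw c)) :
    ∀ c ∈ S, σ.1 c = c := by
  set N := eN Q u w with hN
  have hNx : ∀ x, N *ᵥ x = polar (⇑Q) u x • w - polar (⇑Q) w x • u := eN_mulVec Q u w hw
  have hu0 : u ≠ 0 := by
    rintro rfl
    rw [polar_zero_left] at hut
    exact zero_ne_one hut
  have huu : polar (⇑Q) u u = 0 := by
    have := QuadraticMap.polar_self Q u
    rw [this, hu, smul_zero]
  have hwu : polar (⇑Q) w u = 0 := by rw [polar_comm]; exact huw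
  have hww : polar (⇑Q) w w = 0 := by
    have := QuadraticMap.polar_self Q w
    rw [this, hw, smul_zero]
  have hNu : N *ᵥ u = 0 := by rw [hNx, huu, hwu, zero_smul, zero_smul, sub_zero]
  have hNN : ∀ x, N *ᵥ (N *ᵥ x) = 0 := by
    intro x
    rw [hNx (N *ᵥ x), hNx x, polar_sub_right, polar_sub_right, polar_smul_right, polar_smul_right,
      polar_smul_right, polar_smul_right, huw, huu, hww, hwu]
    simp
  have hNt : N *ᵥ t = w := by rw [hNx, hut, hwt, one_smul, zero_smul, sub_zero]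
  have hN0 : N ≠ 0 := by
    intro h0
    rw [h0, Matrix.zero_mulVec] at hNt
    exact hw0 hNt.symm
  have hNσ : N.map σ.1 = N := eN_map Q σ.2 u w hw hσu hσw
  set G : Matrix ι ι F := ((g : GL ι F) : Matrix ι ι F) with hG
  set G' : Matrix ι ι F := (((g : GL ι F)⁻¹ : GL ι F) : Matrix ι ι F) with hG'
  have hGG' : G * G' = 1 := by rw [hG, hG', ← Units.val_mul, mul_inv_cancel, Units.val_one]
  have hG'G : G' * G = 1 := by rw [hG, hG', ← Units.val_mul, inv_mul_cancel, Units.val_one]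
  -- the key relation
  have key : ∀ c ∈ S, ∃ l : F, G * (1 + σ.1 c • N) * G' = l • (1 + c • N) := by
    intro c hc
    set s : ↥(Cfsg.Omega F ⇑Q) := eichOm Q hEK u w hu huw c with hs_def
    have hs : omat (⇑Q) s = 1 + c • N := eichM_smul_eq Q u w hw c
    have h1 := h c hc
    rw [MulAut.mul_apply, fieldAutPOm_mk, Phi_mk] at h1
    have h2 : s⁻¹ * conjOm (⇑Q) g (sigOm (⇑Q) σ s) ∈ Subgroup.center ↥(Cfsg.Omega F ⇑Q) :=
      QuotientGroup.eq.1 h1.symm
    set z := s⁻¹ * conjOm (⇑Q) g (sigOm (⇑Q) σ s) with hz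
    obtain ⟨l, hl⟩ := hcent (omat (⇑Q) z) (by
      intro s'
      rw [← omat_mul, ← omat_mul, Subgroup.mem_center_iff.1 h2 s'])
    have h3 : conjOm (⇑Q) g (sigOm (⇑Q) σ s) = s * z := by rw [hz]; group
    have h4 := congrArg (omat (⇑Q)) h3
    rw [omat_mul, hl, hs] at h4
    have h5 : omat (⇑Q) (conjOm (⇑Q) g (sigOm (⇑Q) σ s)) = G * (1 + σ.1 c • N) * G' := by
      have h6 : omat (⇑Q) (sigOm (⇑Q) σ s) = 1 + σ.1 c • N := by
        rw [sigOm_mat, hs, one_add_smul_map, hNσ]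
      rw [← h6]
      show (((conjOm (⇑Q) g (sigOm (⇑Q) σ s) : ↥(Cfsg.Omega F ⇑Q)) :
        ↥(Cfsg.isometryGroup F ⇑Q)) : GL ι F).1 = _
      rw [conjOm_apply, Units.val_mul, Units.val_mul]
      rfl
    rw [h5, Matrix.mul_smul, Matrix.mul_one] at h4
    exact ⟨l, h4⟩
  -- the scalar is one
  have hl1 : ∀ c ∈ S, G * (1 + σ.1 c • N) * G' = 1 + c • N := by
    intro c hc
    obtain ⟨l, hl⟩ := key c hc
    have hy0 : G *ᵥ u ≠ 0 := by
      intro h0
      have : G' *ᵥ (G *ᵥ u) = G' *ᵥ 0 := by rw [h0]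
      rw [Matrix.mulVec_mulVec, hG'G, Matrix.one_mulVec, Matrix.mulVec_zero] at this
      exact hu0 this
    have e1 : (G * (1 + σ.1 c • N) * G') *ᵥ (G *ᵥ u) = (l • (1 + c • N)) *ᵥ (G *ᵥ u) := by
      rw [hl]
    have e2 : (G * (1 + σ.1 c • N) * G') *ᵥ (G *ᵥ u) = G *ᵥ u := by
      rw [Matrix.mulVec_mulVec, Matrix.mul_assoc, Matrix.mul_assoc, hG'G, Matrix.mul_one,
        ← Matrix.mulVec_mulVec, Matrix.add_mulVec, Matrix.one_mulVec, Matrix.smul_mulVec, hNu,
        smul_zero, add_zero]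
    rw [e2, Matrix.smul_mulVec, Matrix.add_mulVec, Matrix.one_mulVec, Matrix.smul_mulVec] at e1
    -- e1 : G u = l • (G u + c • N (G u))
    have e3 : N *ᵥ (G *ᵥ u) = N *ᵥ (l • (G *ᵥ u + c • N *ᵥ (G *ᵥ u))) := congrArg (fun x => N *ᵥ x) e1
    rw [Matrix.mulVec_smul, Matrix.mulVec_add, Matrix.mulVec_smul, hNN, smul_zero, add_zero] at e3
    -- e3 : N (G u) = l • N (G u)
    have hl' : l = 1 := by
      by_contra hne
      have h6 : (1 - l) • (N *ᵥ (G *ᵥ u)) = 0 := by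
        rw [sub_smul, one_smul, ← e3, sub_self]
      have h7 : N *ᵥ (G *ᵥ u) = 0 :=
        (smul_eq_zero.mp h6).resolve_left (sub_ne_zero.mpr (Ne.symm hne))
      rw [h7, smul_zero, add_zero] at e1
      have h8 : (1 - l) • (G *ᵥ u) = 0 := by
        rw [sub_smul, one_smul, ← e1, sub_self]
      exact hy0 ((smul_eq_zero.mp h8).resolve_left (sub_ne_zero.mpr (Ne.symm hne)))
    rw [hl', one_smul] at hl
    exact hl
  -- conclusion
  have hA : ∀ c ∈ S, σ.1 c • (G * N * G') = c • N := by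
    intro c hc
    have := hl1 c hc
    rw [Matrix.mul_add, Matrix.add_mul, Matrix.mul_one, hGG', Matrix.mul_smul,
      Matrix.smul_mul] at this
    exact add_left_cancel this
  have hA1 : G * N * G' = N := by
    have := hA 1 h1S
    rwa [map_one, one_smul, one_smul] at this
  intro c hc
  have h9 := hA c hc
  rw [hA1] at h9
  have h10 : (σ.1 c - c) • N = 0 := by rw [sub_smul, h9, sub_self]
  exact sub_eq_zero.mp ((smul_eq_zero.mp h10).resolve_right hN0)

/-! ### consequences -/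

theorem conj_conj_aut {K : Type*} [Group K] (a : MulAut K) (k : K) :
    a * MulAut.conj k * a⁻¹ = MulAut.conj (a k) := by
  apply MulEquiv.ext
  intro y
  simp only [MulAut.mul_apply, MulAut.conj_apply, map_mul, map_inv, MulAut.inv_apply,
    MulEquiv.apply_symm_apply]

theorem mul_conj_eq {K : Type*} [Group K] (a : MulAut K) (k : K) :
    a * MulAut.conj k = MulAut.conj (a k) * a := by
  rw [← conj_conj_aut]
  group

theorem fixes_of_commute {K : Type*} [Group K] (hZ : Subgroup.center K = ⊥) (n : MulAut K) (k : K)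
    (h : n * MulAut.conj k = MulAut.conj k * n) : n k = k := by
  rw [mul_conj_eq] at h
  exact conj_injective_of_center hZ (mul_right_cancel h)

section Std

variable (hQA : ∀ σ : F ≃+* F, σ ∈ QAut (⇑Q))

/-- the inner automorphism of an Eichler element with fixed parameter commutes with `φ_τ` -/
theorem conj_eichOm_mem (hZ : Subgroup.center (Cfsg.POmega F ⇑Q) = ⊥)
    (u w : ι → F) (hu : Q u = 0) (hw : Q w = 0) (huw : polar (⇑Q) u w = 0)
    (hσu : ∀ σ : F ≃+* F, (fun i => σ (u i)) = u) (hσw : ∀ σ : F ≃+* F, (fun i => σ (w i)) = w)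
    (τ : F ≃+* F) (c : F) (hc : τ c = c) :
    MulAut.conj (QuotientGroup.mk (eichOm Q hEK u w hu huw c) : Cfsg.POmega F ⇑Q) ∈
      Cfsg.Inn (Cfsg.POmega F ⇑Q) ⊓ Subgroup.centralizer {fieldAutStd (⇑Q) hQA τ} := by
  refine Subgroup.mem_inf.2 ⟨⟨_, rfl⟩, (conj_mem_centralizer_iff hZ _ _).2 ?_⟩
  rw [fieldAutStd_mk,
    sigOm_eichOm Q hEK u w hu hw huw (toQAut (⇑Q) hQA τ) (hσu τ) (hσw τ) c hc]

theorem conj_eichOm_sq (h2 : (2 : F) ≠ 0) (u w : ι → F) (hu : Q u = 0)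
    (huw : polar (⇑Q) u w = 0) (c : F) :
    (MulAut.conj (QuotientGroup.mk (eichOm Q hEK u w hu huw (c / 2)) : Cfsg.POmega F ⇑Q)) ^ 2 =
      MulAut.conj (QuotientGroup.mk (eichOm Q hEK u w hu huw c) : Cfsg.POmega F ⇑Q) := by
  rw [pow_two, ← map_mul, ← QuotientGroup.mk_mul, eichOm_add]
  have : c / 2 + c / 2 = c := by
    field_simp
    ring
  rw [this]

/-- if `PhiGO g * φ_{τ'}` fixes the classes of all Eichler elements with parameter fixed by `τ`,
then `τ'` is a power of `τ` -/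
theorem field_part_mem_zpowers [Finite F] (D : RigData Q) (τ τ' : F ≃+* F) (g : ↥(GO Q))
    (hfix : ∀ (u w : ι → F) (hu : Q u = 0) (hw : Q w = 0) (huw : polar (⇑Q) u w = 0) (c : F),
      τ c = c → (∀ σ : F ≃+* F, (fun i => σ (u i)) = u) →
      (∀ σ : F ≃+* F, (fun i => σ (w i)) = w) →
      (PhiGO (⇑Q) g * fieldAutStd (⇑Q) hQA τ')
        (QuotientGroup.mk (eichOm Q D.hEK u w hu huw c) : Cfsg.POmega F ⇑Q) =
        QuotientGroup.mk (eichOm Q D.hEK u w hu huw c)) :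
    τ' ∈ Subgroup.zpowers τ := by
  obtain ⟨u, w, t, hu, hw, huw, hut, hwt, hw0, hσu, hσw⟩ := D.ex
  apply mem_zpowers_of_fixes τ τ'
  exact rigidity_fixed Q D.hEK D.hcent u w t hu hw huw hut hwt hw0 (toQAut (⇑Q) hQA τ')
    (hσu τ') (hσw τ') {c : F | τ c = c} (map_one τ) ⟨g.1, sim_le_NO (⇑Q) g.2⟩
    (fun c hc => hfix u w hu hw huw c hc hσu hσw)

end Std

end Cfsg.Agent.Helper14.LocalBal
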