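import Mathlib
import Cfsg.Agent.Lib.Helper14.LocalBalRig

/-!
# Local balance for field automorphisms of `PΩ(Q)`, odd dimension, odd characteristic

`main_std`: for the standard field automorphism `φ_τ` of prime order `p` and `Inn ≤ A`:
`C_A(φ_τ)` has a nontrivial normal `p'`-subgroup iff `p ∤ |Fix φ_τ|`.
-/

set_option autoImplicit false
set_option linter.unusedSectionVars false
set_option linter.unusedSimpArgs false
set_option linter.unusedVariables false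
set_option linter.style.haveILetI false

namespace Cfsg.Agent.Helper14.LocalBal

open Matrix QuadraticMap Cfsg.Agent.Helper5.OrthAut Cfsg.Agent.Helper13 Cfsg.Agent.S0794
  Cfsg.Agent.Helper40.AutPOm Cfsg.Agent.Helper40.AutPSp Subgroup

section Main

variable {F₀ : Type*} [Field F₀] {F : Type*} [Field F] {ι : Type} [Fintype ι] [DecidableEq ι]
  {emb : F₀ →+* F} {Q₀ : QuadraticForm F₀ (ι → F₀)} {Q : QuadraticForm F (ι → F)}
  (hB : IsBC emb ⇑Q₀ ⇑Q) (h2 : (2 : F) ≠ 0)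
  (hQA : ∀ σ : F ≃+* F, σ ∈ QAut (⇑Q))
  (hperf : commutator ↥(Cfsg.Omega F ⇑Q) = ⊤)
  (hcent : ∀ Z : Matrix ι ι F, (∀ s : ↥(Cfsg.Omega F ⇑Q), Z * omat (⇑Q) s = omat (⇑Q) s * Z) →
      ∃ c : F, Z = c • (1 : Matrix ι ι F))

include hB h2 hperf hcent in
theorem main_std [Fintype F] [Fintype F₀] (D : RigData Q) (hS : StructO (⇑Q) hQA)
    (hnd : (polarBilin Q).Nondegenerate) (hnd₀ : (polarBilin Q₀).Nondegenerate)
    (hperf₀ : commutator ↥(Cfsg.Omega F₀ ⇑Q₀) = ⊤)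
    (hcent₀ : ∀ Z : Matrix ι ι F₀,
      (∀ s : ↥(Cfsg.Omega F₀ ⇑Q₀), Z * omat (⇑Q₀) s = omat (⇑Q₀) s * Z) →
      ∃ c : F₀, Z = c • (1 : Matrix ι ι F₀))
    (k : ℕ) (hcard : Fintype.card ι = 2 * k + 1)
    (hidx : (Cfsg.Omega F ⇑Q).index = 4) (hidx₀ : (Cfsg.Omega F₀ ⇑Q₀).index = 4)
    (v : ι → F) (hv : Q v ≠ 0) (v₀ : ι → F₀) (hv₀ : Q₀ v₀ ≠ 0)
    [hK : IsSimpleGroup (Cfsg.POmega F ⇑Q)] [hK₀ : IsSimpleGroup (Cfsg.POmega F₀ ⇑Q₀)]
    (heven : 2 ∣ Nat.card (Cfsg.POmega F₀ ⇑Q₀))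
    {p : ℕ} (hp : p.Prime) (τ : F ≃+* F) (hτ : orderOf τ = p)
    (hι1 : ∀ x, τ (emb x) = emb x) (hι2 : ∀ a, τ a = a → ∃ x, emb x = a)
    (A : Subgroup (MulAut (Cfsg.POmega F ⇑Q))) (hinn : Cfsg.Inn (Cfsg.POmega F ⇑Q) ≤ A) :
    HasPPrime p (A ⊓ Subgroup.centralizer {fieldAutStd (⇑Q) hQA τ}) ↔
      Nat.Coprime p (Nat.card ↥(MonoidHom.eqLocus (fieldAutStd (⇑Q) hQA τ).toMonoidHom
        (MonoidHom.id (Cfsg.POmega F ⇑Q)))) := by
  classical
  have hperfK : commutator (Cfsg.POmega F ⇑Q) = ⊤ := commutator_quotient_eq_top _ hperf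
  have hperfK₀ : commutator (Cfsg.POmega F₀ ⇑Q₀) = ⊤ := commutator_quotient_eq_top _ hperf₀
  have hZ : Subgroup.center (Cfsg.POmega F ⇑Q) = ⊥ := center_eq_bot_of_simple_perfect hperfK
  have hZ₀ : Subgroup.center (Cfsg.POmega F₀ ⇑Q₀) = ⊥ := center_eq_bot_of_simple_perfect hperfK₀
  have hne : Nonempty ι := by
    by_contra hcon
    rw [not_nonempty_iff] at hcon
    have : Fintype.card ι = 0 := Fintype.card_eq_zero
    omega
  have h2₀ : (2 : F₀) ≠ 0 := two_ne_zero_of_emb emb h2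
  have hInnP : Cfsg.Inn (Cfsg.POmega F ⇑Q) ≤ (PhiGO (⇑Q)).range := by
    rw [← pgoAut_eq_range]
    exact le_trans (inn_le_psoAut Q) (psoAut_le_pgoAut Q)
  have hInnP₀ : Cfsg.Inn (Cfsg.POmega F₀ ⇑Q₀) ≤ (PhiGO (⇑Q₀)).range := by
    rw [← pgoAut_eq_range]
    exact le_trans (inn_le_psoAut Q₀) (psoAut_le_pgoAut Q₀)
  have hidxP : (Cfsg.Inn (Cfsg.POmega F ⇑Q)).relIndex (PhiGO (⇑Q)).range = 2 := by
    rw [← pgoAut_eq_range]
    exact relIndex_inn_pgo_odd Q hperf hcent hnd k hcard h2 v hv hidx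
  have hidxP₀ : (Cfsg.Inn (Cfsg.POmega F₀ ⇑Q₀)).relIndex (PhiGO (⇑Q₀)).range = 2 := by
    rw [← pgoAut_eq_range]
    exact relIndex_inn_pgo_odd Q₀ hperf₀ hcent₀ hnd₀ k hcard h2₀ v₀ hv₀ hidx₀
  obtain ⟨e⟩ := cent_equiv_pgo hB h2 hQA hperf hcent hnd hperf₀ hcent₀ τ hp.pos hτ hι1 hι2
  have hPnormal : ((PhiGO (⇑Q)).range).Normal := range_normal (⇑Q) hQA hS
  have hφord : orderOf (fieldAutStd (⇑Q) hQA τ) = p := by rw [orderOf_fieldAutStd hQA D τ, hτ]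
  -- make `φ` opaque
  obtain ⟨φ, hφ⟩ : ∃ φ : MulAut (Cfsg.POmega F ⇑Q), φ = fieldAutStd (⇑Q) hQA τ := ⟨_, rfl⟩
  rw [← hφ] at e hφord ⊢
  obtain ⟨R, hR⟩ : ∃ R : Subgroup (MulAut (Cfsg.POmega F ⇑Q)),
    R = (PhiGO (⇑Q)).range ⊓ Subgroup.centralizer {φ} := ⟨_, rfl⟩
  rw [← hR] at e
  obtain ⟨⟨ψ⟩, hDidx, hDcent⟩ := exists_equiv_commutator hperfK₀ hZ₀ (PhiGO (⇑Q₀)).range hInnP₀
    hidxP₀ e
  obtain ⟨L, hL⟩ : ∃ L : Subgroup (MulAut (Cfsg.POmega F ⇑Q)),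
    L = (commutator ↥R).map R.subtype := ⟨_, rfl⟩
  have eD : ↥(commutator ↥R) ≃* ↥L :=
    ((commutator ↥R).equivMapOfInjective R.subtype R.subtype_injective).trans
      (MulEquiv.subgroupCongr hL.symm)
  have eL : ↥L ≃* Cfsg.POmega F₀ ⇑Q₀ := eD.symm.trans ψ
  haveI : IsSimpleGroup ↥L := eL.isSimpleGroup
  have hcardL : Nat.card L = Nat.card (Cfsg.POmega F₀ ⇑Q₀) := Nat.card_congr eL.toEquiv
  have hLR : L ≤ R := by
    rw [hL]
    rintro _ ⟨y, -, rfl⟩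
    exact y.2
  have hRC : R ≤ Subgroup.centralizer {φ} := by rw [hR]; exact inf_le_right
  have hLcomm : L = ⁅R, R⁆ := by rw [hL]; exact Subgroup.map_subtype_commutator R
  have hLInn : L ≤ Cfsg.Inn (Cfsg.POmega F ⇑Q) := by
    rw [hLcomm]
    refine le_trans (Subgroup.commutator_mono ?_ ?_) (commutator_le_of_relIndex_two _ _ hidxP)
    · rw [hR]; exact inf_le_left
    · rw [hR]; exact inf_le_left
  have hCL : ∀ c ∈ Subgroup.centralizer {φ}, ∀ l ∈ L, c * l * c⁻¹ ∈ L := by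
    intro c hc l hl
    have hRc : R.map (MulAut.conj c).toMonoidHom ≤ R := by
      rw [hR]
      rintro _ ⟨y, hy, rfl⟩
      obtain ⟨hyP, hyC⟩ := mem_inf.1 hy
      refine mem_inf.2 ⟨hPnormal.conj_mem y hyP c, ?_⟩
      show c * y * c⁻¹ ∈ Subgroup.centralizer {φ}
      exact mul_mem (mul_mem hc hyC) (inv_mem hc)
    have h1 : L.map (MulAut.conj c).toMonoidHom ≤ L := by
      rw [hLcomm, Subgroup.map_commutator]
      exact Subgroup.commutator_mono hRc hRc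
    exact h1 ⟨l, hl, rfl⟩
  have hcardR : Nat.card R = Nat.card L * 2 := by
    rw [← Subgroup.card_mul_index (commutator ↥R), hDidx, Nat.card_congr eD.toEquiv]
  obtain ⟨I₀, hI₀⟩ : ∃ I₀ : Subgroup (MulAut (Cfsg.POmega F ⇑Q)),
    I₀ = Cfsg.Inn (Cfsg.POmega F ⇑Q) ⊓ Subgroup.centralizer {φ} := ⟨_, rfl⟩
  have hI₀R : I₀ ≤ R := by rw [hI₀, hR]; exact inf_le_inf_right _ hInnP
  have hcardI₀ : Nat.card I₀ = Nat.card ↥(MonoidHom.eqLocus φ.toMonoidHom
      (MonoidHom.id (Cfsg.POmega F ⇑Q))) := by rw [hI₀]; exact card_inn_inf_centralizer hZ φ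
  have hLI₀ : L ≤ I₀ := by rw [hI₀]; exact le_inf hLInn (le_trans hLR hRC)
  have hsq : ∀ b ∈ I₀, b ^ 2 ∈ L := by
    intro b hb
    have hbR : b ∈ R := hI₀R hb
    have h1 : (⟨b, hbR⟩ : ↥R) ^ 2 ∈ commutator ↥R := Subgroup.sq_mem_of_index_two hDidx _
    rw [hL]
    exact ⟨_, h1, rfl⟩
  -- rigidity
  have hcentL : ∀ n, n ∈ Subgroup.centralizer {φ} → (∀ l ∈ L, n * l = l * n) →
      n ∈ Subgroup.zpowers φ := by
    intro n hnC hnL
    obtain ⟨g, τ', rfl⟩ := hS n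
    have hmem : τ' ∈ Subgroup.zpowers τ := by
      apply field_part_mem_zpowers Q hQA D τ τ' g
      intro u w hu hw huw c hc hσu hσw
      apply fixes_of_commute hZ
      apply hnL
      have hc' : τ (c / 2) = c / 2 := by rw [map_div₀, hc, map_ofNat]
      have hbI := conj_eichOm_mem Q D.hEK hQA hZ u w hu hw huw hσu hσw τ (c / 2) hc'
      rw [← hφ, ← hI₀] at hbI
      have h1 := hsq _ hbI
      rwa [conj_eichOm_sq Q D.hEK h2] at h1
    obtain ⟨j, hj⟩ := Subgroup.mem_zpowers_iff.1 hmem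
    have hφj : fieldAutStd (⇑Q) hQA τ' = φ ^ j := by rw [← hj, map_zpow, hφ]
    have hφC : φ ∈ Subgroup.centralizer {φ} := by
      rw [mem_centralizer_iff]
      intro h hh
      rw [Set.mem_singleton_iff.1 hh]
    have hφjC : φ ^ j ∈ Subgroup.centralizer {φ} := zpow_mem hφC j
    rw [hφj] at hnC hnL ⊢
    obtain ⟨y, hy⟩ : ∃ y : MulAut (Cfsg.POmega F ⇑Q), y = PhiGO (⇑Q) g := ⟨_, rfl⟩
    rw [← hy] at hnC hnL ⊢
    have hyC : y ∈ Subgroup.centralizer {φ} := by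
      have h1 : y = (y * φ ^ j) * (φ ^ j)⁻¹ := by group
      rw [h1]
      exact mul_mem hnC (inv_mem hφjC)
    have hyR : y ∈ R := by
      rw [hR]
      exact mem_inf.2 ⟨⟨g, hy.symm⟩, hyC⟩
    have hyL : ∀ l ∈ L, y * l = l * y := by
      intro l hl
      have h1 := hnL l hl
      have hlC : l ∈ Subgroup.centralizer {φ} := hRC (hLR hl)
      have h2' : φ * l = l * φ := (mem_centralizer_iff.1 hlC) φ rfl
      have h3 : φ ^ j * l = l * φ ^ j := (Commute.zpow_left (show Commute φ l from h2') j).eq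
      have h4 : y * l * φ ^ j = l * y * φ ^ j := by
        rw [mul_assoc, ← h3, ← mul_assoc, h1, mul_assoc]
      exact mul_right_cancel h4
    have hy1 : (⟨y, hyR⟩ : ↥R) = 1 := hDcent ⟨y, hyR⟩ (by
      rintro ⟨l, hlR⟩ hlD
      apply Subtype.ext
      apply hyL l
      rw [hL]
      exact ⟨⟨l, hlR⟩, hlD, rfl⟩)
    have hy1' : y = 1 := congrArg Subtype.val hy1
    rw [hy1', one_mul]
    exact zpow_mem (Subgroup.mem_zpowers φ) j
  constructor
  · -- a nontrivial `p'`-subgroup forces `p ∤ |Fix φ|`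
    rintro ⟨N, hNB, hnorm, hcop, hne'⟩
    by_contra hncop
    have hpdvd : p ∣ Nat.card ↥(MonoidHom.eqLocus φ.toMonoidHom
        (MonoidHom.id (Cfsg.POmega F ⇑Q))) := by
      by_contra h
      exact hncop ((Nat.Prime.coprime_iff_not_dvd hp).2 h)
    rw [← hcardI₀] at hpdvd
    have h1 : p ∣ Nat.card L * 2 := by
      rw [← hcardR]
      exact dvd_trans hpdvd (Subgroup.card_dvd_of_le hI₀R)
    have hpL : p ∣ Nat.card L := by
      rcases (Nat.Prime.dvd_mul hp).1 h1 with h | h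
      · exact h
      · have h3 : p = 2 := (Nat.prime_dvd_prime_iff_eq hp Nat.prime_two).1 h
        rw [h3, hcardL]
        exact heven
    apply hne'
    have hNC : N ≤ Subgroup.centralizer {φ} := le_trans hNB inf_le_right
    exact core_trivial hp φ hφord L N hpL hcentL hNC
      (fun n hn l hl => hCL n (hNC hn) l hl)
      (fun l hl n hn => hnorm l (mem_inf.2 ⟨hinn (hLInn hl), hRC (hLR hl)⟩) n hn) hcop
  · -- `Inn ⊓ C(φ)` is a nontrivial normal subgroup of order `|Fix φ|`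
    intro hcop
    refine ⟨I₀, ?_, ?_, ?_, ?_⟩
    · rw [hI₀]; exact inf_le_inf_right _ hinn
    · intro b hb n hn
      rw [hI₀] at hn ⊢
      obtain ⟨hnI, hnC⟩ := mem_inf.1 hn
      exact mem_inf.2 ⟨inn_conj_mem_gen b n hnI,
        mul_mem (mul_mem (mem_inf.1 hb).2 hnC) (inv_mem (mem_inf.1 hb).2)⟩
    · rw [hcardI₀]
      exact hcop.symm
    · intro h0
      have hLbot : L = ⊥ := by
        rw [eq_bot_iff, ← h0]
        exact hLI₀
      have hnt : Nontrivial ↥L := IsSimpleGroup.toNontrivial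
      exact (Subgroup.nontrivial_iff_ne_bot L).1 hnt hLbot

end Main

end Cfsg.Agent.Helper14.LocalBal
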