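import Mathlib
import Cfsg.Agent.Lib.Helper14.LocalBalMain

/-!
# Local balance for `Ω_{2m+1}(q)`: reduction to standard field automorphisms
-/

set_option autoImplicit false
set_option linter.unusedSectionVars false
set_option linter.unusedSimpArgs false
set_option linter.unusedVariables false
set_option linter.style.haveILetI false

namespace Cfsg.Agent.Helper14.LocalBal

open Matrix QuadraticMap Cfsg.Agent.Helper5.OrthAut Cfsg.Agent.Helper13 Cfsg.Agent.S0794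
  Cfsg.Agent.Helper40.AutPOm Cfsg.Agent.Helper40.AutPSp Subgroup

section Reduce

variable {F : Type*} [Field F] {ι : Type} [Fintype ι] [DecidableEq ι]
  (Q : QuadraticForm F (ι → F)) (hQA : ∀ σ : F ≃+* F, σ ∈ QAut (⇑Q))
  (hperf : commutator ↥(Cfsg.Omega F ⇑Q) = ⊤)
  (hcent : ∀ Z : Matrix ι ι F, (∀ s : ↥(Cfsg.Omega F ⇑Q), Z * omat (⇑Q) s = omat (⇑Q) s * Z) →
      ∃ c : F, Z = c • (1 : Matrix ι ι F))

include hperf hcent in
/-- an automorphism of prime order outside `PGO` is `PGO`-conjugate to a standard field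
automorphism of the same order -/
theorem exists_conj_std [Finite F] (D : RigData Q) (h2 : (2 : F) ≠ 0)
    (hodd : Odd (Fintype.card ι)) (hnd : (polarBilin Q).Nondegenerate)
    (hS : StructO (⇑Q) hQA) {p : ℕ} (hp : p.Prime)
    (x : MulAut (Cfsg.POmega F ⇑Q)) (hord : orderOf x = p)
    (hnot : x ∉ (PhiGO (⇑Q)).range) :
    ∃ (h : ↥(GO Q)) (τ : F ≃+* F), orderOf τ = p ∧
      x = PhiGO (⇑Q) h * fieldAutStd (⇑Q) hQA τ * (PhiGO (⇑Q) h)⁻¹ := by
  obtain ⟨g, τ, rfl⟩ := hS x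
  have hτ1 : τ ≠ 1 := by
    rintro rfl
    apply hnot
    rw [map_one, mul_one]
    exact ⟨g, rfl⟩
  have hpow : (PhiGO (⇑Q) g * fieldAutStd (⇑Q) hQA τ) ^ p = 1 := by
    rw [← hord]
    exact pow_orderOf_eq_one _
  have h1 := hpow
  rw [pow_PhiGO_mul_field] at h1
  have h3 : PhiGO (⇑Q) (nrmGO Q hQA τ g p) * fieldAutStd (⇑Q) hQA (τ ^ p) =
      PhiGO (⇑Q) 1 * fieldAutStd (⇑Q) hQA 1 := by
    rw [h1, map_one, map_one, one_mul]
  obtain ⟨hτp, -⟩ := mul_eq_mul hQA D h3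
  haveI : Fact p.Prime := ⟨hp⟩
  have hτord : orderOf τ = p := orderOf_eq_prime hτp hτ1
  obtain ⟨h, hh⟩ := field_coset_conj_O Q hQA hperf hcent h2 hodd hnd τ hp.pos hτord g hpow
  exact ⟨h, τ, hτord, hh⟩

include hperf hcent in
/-- the local balance statement from the statement for standard field automorphisms -/
theorem local_balance_of_std [Finite F] (D : RigData Q) (h2 : (2 : F) ≠ 0)
    (hodd : Odd (Fintype.card ι)) (hnd : (polarBilin Q).Nondegenerate)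
    (hS : StructO (⇑Q) hQA) {p : ℕ} (hp : p.Prime)
    (hmain : ∀ τ : F ≃+* F, orderOf τ = p → ∀ A : Subgroup (MulAut (Cfsg.POmega F ⇑Q)),
      Cfsg.Inn (Cfsg.POmega F ⇑Q) ≤ A →
      (HasPPrime p (A ⊓ Subgroup.centralizer {fieldAutStd (⇑Q) hQA τ}) ↔
        Nat.Coprime p (Nat.card ↥(MonoidHom.eqLocus (fieldAutStd (⇑Q) hQA τ).toMonoidHom
          (MonoidHom.id (Cfsg.POmega F ⇑Q))))))
    (A : Subgroup (MulAut (Cfsg.POmega F ⇑Q)))
    (hinn : ∀ k : Cfsg.POmega F ⇑Q, MulAut.conj k ∈ A)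
    (x : MulAut (Cfsg.POmega F ⇑Q)) (hord : orderOf x = p)
    (hnot : ¬ Cfsg.IsSimilarityInducedAutPOmega (⇑Q) x) :
    Cfsg.pPrimeCore p ↥(A ⊓ Subgroup.centralizer {x}) ≠ ⊥ ↔
      (Cfsg.IsFieldAutClassPOmega (⇑Q) x ∧
        Nat.Coprime p (Nat.card ↥(MonoidHom.eqLocus x.toMonoidHom
          (MonoidHom.id (Cfsg.POmega F ⇑Q))))) := by
  have hnot' : x ∉ (PhiGO (⇑Q)).range := by
    rintro ⟨g, hg⟩
    apply hnot
    rw [similarityInduced_iff]
    exact ⟨g, hg.symm⟩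
  obtain ⟨h, τ, hτ, hx⟩ := exists_conj_std Q hQA hperf hcent D h2 hodd hnd hS hp x hord hnot'
  obtain ⟨a, ha⟩ : ∃ a : MulAut (Cfsg.POmega F ⇑Q), a = PhiGO (⇑Q) h := ⟨_, rfl⟩
  obtain ⟨φ, hφ⟩ : ∃ φ : MulAut (Cfsg.POmega F ⇑Q), φ = fieldAutStd (⇑Q) hQA τ := ⟨_, rfl⟩
  rw [← ha, ← hφ] at hx
  have hτ1 : τ ≠ 1 := by
    rintro rfl
    rw [orderOf_one] at hτ
    exact hp.one_lt.ne hτ
  have hfield : Cfsg.IsFieldAutClassPOmega (⇑Q) x := by
    refine ⟨a⁻¹, φ, τ, hτ1, ?_, ?_⟩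
    · rw [hφ]
      exact (isFieldAutOf_iff_std (⇑Q) hQA τ _).2 rfl
    · rw [hx]
      group
  have hcardfix : Nat.card ↥(MonoidHom.eqLocus x.toMonoidHom (MonoidHom.id (Cfsg.POmega F ⇑Q))) =
      Nat.card ↥(MonoidHom.eqLocus φ.toMonoidHom (MonoidHom.id (Cfsg.POmega F ⇑Q))) := by
    rw [hx]
    exact card_eqLocus_conj a φ
  rw [pPrimeCore_subgroup_ne_bot_iff, hcardfix]
  -- transport `A`
  obtain ⟨A', hA'⟩ : ∃ A' : Subgroup (MulAut (Cfsg.POmega F ⇑Q)),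
    A' = A.comap (MulAut.conj a).toMonoidHom := ⟨_, rfl⟩
  have hA'map : A'.map (MulAut.conj a).toMonoidHom = A := by
    rw [hA']
    exact Subgroup.map_comap_eq_self_of_surjective (MulAut.conj a).surjective A
  have hinn' : Cfsg.Inn (Cfsg.POmega F ⇑Q) ≤ A' := by
    rintro _ ⟨k, rfl⟩
    rw [hA']
    show a * MulAut.conj k * a⁻¹ ∈ A
    rw [conj_conj_aut]
    exact hinn _
  have key := hasPPrime_conj_iff p A' a φ
  rw [hA'map, ← hx] at key
  have hm := hmain τ hτ A' hinn'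
  rw [← hφ] at hm
  rw [key, hm]
  exact ⟨fun h => ⟨hfield, h⟩, fun h => h.2⟩

end Reduce

end Cfsg.Agent.Helper14.LocalBal
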