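import Mathlib
import Cfsg.Agent.Lib.Helper14.LocalBalIdx

/-!
# Abstract group theory for the local balance statement for `PSp`

* `core_trivial_of_Op`: `core_trivial` with "`L` simple of order divisible by `p`" replaced by
  "`L` has no nontrivial normal `p'`-subgroup".
* `exists_equiv_inn`: transport of `Inn K₀ ≤ P₀ ≤ Aut K₀` along `G ≃* P₀`.
* `relIndex_two_pow`: if squares of `P₀` land in the normal subgroup `H`, the index is a power of 2.
* `le_or_le_of_subset_union`: a subgroup inside the union of two subgroups is inside one of them.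
-/

set_option autoImplicit false
set_option linter.unusedSectionVars false
set_option linter.unusedVariables false

namespace Cfsg.Agent.Helper14.LocalBal

open Subgroup

theorem core_trivial_of_Op {X : Type*} [Group X] {p : ℕ} (hp : p.Prime) (φ : X)
    (hφ : orderOf φ = p) (L N : Subgroup X)
    (hOp : ∀ M : Subgroup X, M ≤ L → (∀ l ∈ L, ∀ n ∈ M, l * n * l⁻¹ ∈ M) →
      (Nat.card M).Coprime p → M = ⊥)
    (hcentL : ∀ n : X, n ∈ centralizer {φ} → (∀ l ∈ L, n * l = l * n) → n ∈ zpowers φ)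
    (hNC : N ≤ centralizer {φ})
    (hNL : ∀ n ∈ N, ∀ l ∈ L, n * l * n⁻¹ ∈ L)
    (hLN : ∀ l ∈ L, ∀ n ∈ N, l * n * l⁻¹ ∈ N)
    (hcop : (Nat.card N).Coprime p) : N = ⊥ := by
  have hM : N ⊓ L = ⊥ := by
    apply hOp (N ⊓ L) inf_le_right
    · intro l hl n hn
      obtain ⟨hnN, hnL⟩ := mem_inf.1 hn
      exact mem_inf.2 ⟨hLN l hl n hnN, L.mul_mem (L.mul_mem hl hnL) (L.inv_mem hl)⟩
    · exact Nat.Coprime.coprime_dvd_left (Subgroup.card_dvd_of_le inf_le_left) hcop
  have hcomm : ∀ n ∈ N, ∀ l ∈ L, n * l = l * n := by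
    intro n hn l hl
    have h1 : n * l * n⁻¹ * l⁻¹ ∈ N ⊓ L := by
      refine mem_inf.2 ⟨?_, ?_⟩
      · have h2 := hLN l hl n⁻¹ (N.inv_mem hn)
        have h3 := N.mul_mem hn h2
        have e : n * (l * n⁻¹ * l⁻¹) = n * l * n⁻¹ * l⁻¹ := by group
        rwa [e] at h3
      · exact L.mul_mem (hNL n hn l hl) (L.inv_mem hl)
    rw [hM, mem_bot] at h1
    calc n * l = (n * l * n⁻¹ * l⁻¹) * (l * n) := by group
      _ = l * n := by rw [h1, one_mul]
  have hle : N ≤ zpowers φ := fun n hn => hcentL n (hNC hn) (hcomm n hn)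
  have h1 := Subgroup.card_dvd_of_le hle
  rw [Nat.card_zpowers, hφ] at h1
  have h2 : Nat.card N ∣ Nat.gcd (Nat.card N) p := Nat.dvd_gcd dvd_rfl h1
  rw [hcop.gcd_eq_one] at h2
  exact Subgroup.eq_bot_of_card_eq N (Nat.dvd_one.1 h2)

/-- a simple group of order divisible by `p` has no nontrivial normal `p'`-subgroup (relative
version inside an ambient group) -/
theorem hOp_of_simple {X : Type*} [Group X] {p : ℕ} (hp : p.Prime) (L : Subgroup X)
    [IsSimpleGroup ↥L] (hpL : p ∣ Nat.card L) :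
    ∀ M : Subgroup X, M ≤ L → (∀ l ∈ L, ∀ n ∈ M, l * n * l⁻¹ ∈ M) →
      (Nat.card M).Coprime p → M = ⊥ := by
  intro M hML hnorm hcop
  have hnormal : (M.subgroupOf L).Normal := by
    constructor
    intro m hm l
    rw [mem_subgroupOf] at hm ⊢
    exact hnorm l l.2 m hm
  rcases hnormal.eq_bot_or_eq_top with h | h
  · rw [subgroupOf_eq_bot] at h
    rw [eq_bot_iff]
    intro x hx
    exact (Subgroup.disjoint_def.1 h) hx (hML hx)
  · exfalso
    rw [subgroupOf_eq_top] at h
    have h2 := dvd_trans hpL (Subgroup.card_dvd_of_le h)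
    have h3 : p ∣ Nat.gcd (Nat.card M) p := Nat.dvd_gcd h2 dvd_rfl
    rw [hcop.gcd_eq_one] at h3
    exact hp.one_lt.ne' (Nat.dvd_one.1 h3)

/-- transport of `Inn K₀ ≤ P₀` along an isomorphism `G ≃* P₀` -/
theorem exists_equiv_inn {K₀ : Type*} [Group K₀] (hZ : Subgroup.center K₀ = ⊥)
    (P₀ : Subgroup (MulAut K₀)) (hle : Cfsg.Inn K₀ ≤ P₀) {G : Type*} [Group G] (e : G ≃* ↥P₀) :
    ∃ LG : Subgroup G, Nonempty (↥LG ≃* K₀) ∧
      (∀ y : G, (∀ l ∈ LG, y * l = l * y) → y = 1) ∧
      LG.index = (Cfsg.Inn K₀).relIndex P₀ ∧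
      (commutator K₀ = ⊤ → ⁅P₀, P₀⁆ ≤ Cfsg.Inn K₀ → LG = commutator G) ∧
      ((∀ x ∈ P₀, x ∈ Cfsg.Inn K₀) → LG = ⊤) := by
  obtain ⟨LG, hLG⟩ : ∃ LG : Subgroup G, LG = ((Cfsg.Inn K₀).subgroupOf P₀).comap e.toMonoidHom :=
    ⟨_, rfl⟩
  have hmap : LG.map e.toMonoidHom = (Cfsg.Inn K₀).subgroupOf P₀ := by
    rw [hLG]
    exact Subgroup.map_comap_eq_self_of_surjective e.surjective _
  refine ⟨LG, ?_, ?_, ?_, ?_, ?_⟩
  · have e1 := LG.equivMapOfInjective e.toMonoidHom e.injective
    have e2 := MulEquiv.subgroupCongr hmap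
    have e3 := subgroupOfEquivOfLe hle
    have e4 := MonoidHom.ofInjective (conj_injective_of_center hZ)
    exact ⟨((e1.trans e2).trans e3).trans e4.symm⟩
  · intro y hy
    apply e.injective
    rw [map_one]
    apply Subtype.ext
    apply MulEquiv.ext
    intro k
    show ((e y : ↥P₀) : MulAut K₀) k = k
    rw [← conj_mem_centralizer_iff hZ, mem_centralizer_iff]
    intro h hh
    rw [Set.mem_singleton_iff.1 hh]
    have h1 : (⟨MulAut.conj k, hle ⟨k, rfl⟩⟩ : ↥P₀) ∈ LG.map e.toMonoidHom := by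
      rw [hmap, mem_subgroupOf]
      exact ⟨k, rfl⟩
    obtain ⟨l, hl, hlk⟩ := h1
    have h2 := congrArg e (hy l hl)
    rw [map_mul, map_mul] at h2
    have h3 : e l = ⟨MulAut.conj k, hle ⟨k, rfl⟩⟩ := hlk
    rw [h3] at h2
    exact congrArg Subtype.val h2
  · have h1 := index_map_of_bijective (f := e.toMonoidHom) e.bijective LG
    rw [← h1, hmap]
    rfl
  · intro hperf hab
    have hG1 : commutator ↥P₀ = (Cfsg.Inn K₀).subgroupOf P₀ := by
      apply le_antisymm
      · rw [commutator_def, Subgroup.commutator_le]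
        intro a _ b _
        rw [mem_subgroupOf]
        apply hab
        exact Subgroup.commutator_mem_commutator a.2 b.2
      · intro y hy
        rw [mem_subgroupOf] at hy
        obtain ⟨k, hk⟩ := hy
        let c : K₀ →* ↥P₀ := (MulAut.conj : K₀ →* MulAut K₀).codRestrict P₀
          (fun k => hle ⟨k, rfl⟩)
        have h1 : (commutator K₀).map c ≤ commutator ↥P₀ := by
          rw [commutator_def, Subgroup.map_commutator, commutator_def]
          exact Subgroup.commutator_mono le_top le_top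
        have h2 : c k ∈ (commutator K₀).map c := by
          rw [hperf]
          exact ⟨k, mem_top k, rfl⟩
        have h3 : c k = y := Subtype.ext hk
        rw [← h3]
        exact h1 h2
    have hmapc : (commutator G).map e.toMonoidHom = commutator ↥P₀ := by
      rw [commutator_def, Subgroup.map_commutator,
        Subgroup.map_top_of_surjective e.toMonoidHom e.surjective, commutator_def]
    apply Subgroup.map_injective (f := e.toMonoidHom) e.injective
    rw [hmap, hmapc, hG1]
  · intro hP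
    rw [hLG, eq_top_iff]
    intro g _
    rw [mem_comap, mem_subgroupOf]
    exact hP _ (e g).2

/-- if all squares of `P` lie in the normal subgroup `H`, the relative index is a power of two -/
theorem relIndex_two_pow {X : Type*} [Group X] [Finite X] (H P : Subgroup X) [H.Normal]
    (hsq : ∀ x ∈ P, x * x ∈ H) : ∃ k : ℕ, H.relIndex P = 2 ^ k := by
  haveI : Fact (Nat.Prime 2) := ⟨Nat.prime_two⟩
  have hpg : IsPGroup 2 (↥P ⧸ H.subgroupOf P) := by
    intro g
    obtain ⟨x, rfl⟩ := QuotientGroup.mk_surjective g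
    refine ⟨1, ?_⟩
    rw [pow_one, pow_two, ← QuotientGroup.mk_mul, QuotientGroup.eq_one_iff, mem_subgroupOf]
    exact hsq x.1 x.2
  obtain ⟨k, hk⟩ := (IsPGroup.iff_card).1 hpg
  refine ⟨k, ?_⟩
  rw [← hk]
  rfl

/-- a subgroup contained in the union of two subgroups is contained in one of them -/
theorem le_or_le_of_subset_union {X : Type*} [Group X] (H A B : Subgroup X)
    (h : ∀ x ∈ H, x ∈ A ∨ x ∈ B) : H ≤ A ∨ H ≤ B := by
  by_contra hcon
  push Not at hcon
  obtain ⟨hA, hB⟩ := hcon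
  obtain ⟨a, haH, haA⟩ := SetLike.not_le_iff_exists.1 hA
  obtain ⟨b, hbH, hbB⟩ := SetLike.not_le_iff_exists.1 hB
  have haB : a ∈ B := (h a haH).resolve_left haA
  have hbA : b ∈ A := (h b hbH).resolve_right hbB
  rcases h (a * b) (H.mul_mem haH hbH) with h1 | h1
  · apply haA
    have : a = (a * b) * b⁻¹ := by group
    rw [this]
    exact A.mul_mem h1 (A.inv_mem hbA)
  · apply hbB
    have : b = a⁻¹ * (a * b) := by group
    rw [this]
    exact B.mul_mem (B.inv_mem haB) h1

end Cfsg.Agent.Helper14.LocalBal
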