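import Mathlib
import Cfsg.Agent.Lib.Helper5.SpAut6
import Cfsg.Agent.Lib.Helper40.AutPSpFieldMain
import Cfsg.Agent.Lib.Helper14.LocalBalRig
import Cfsg.Agent.Lib.Helper14.LocalBalSpAbs

/-!
# Local balance for standard field automorphisms of `PSp_{2m}(F)`: the abstract main theorem

`main_Sp_abstract`: for the standard field automorphism `φ_σ` of prime order `p`, given a subgroup
`L ≤ Inn ⊓ C(φ_σ)` with suitable properties, `C_A(φ_σ)` has a nontrivial normal `p'`-subgroup iff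
`p ∤ |Fix φ_σ|`.
-/

set_option autoImplicit false
set_option linter.unusedSectionVars false
set_option linter.unusedSimpArgs false
set_option linter.unusedVariables false
set_option linter.style.haveILetI false

namespace Cfsg.Agent.Helper14.LocalBal

open Matrix Cfsg Cfsg.Agent.Helper13 Cfsg.Agent.Helper84.SpRoot Cfsg.Agent.Helper40.AutPSp
  Cfsg.Agent.Helper5.SpAut Subgroup

variable {F : Type*} [Field F] {m : ℕ}

/-- the map `c ↦ [sympT e c]` into `PSp` is injective -/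
theorem mk_sympT_inj (hm : 0 < m) {e : Fin m ⊕ Fin m → F} (he : e ≠ 0) {x y : F}
    (h : (QuotientGroup.mk (sympT e x) : PSp m F) = QuotientGroup.mk (sympT e y)) : x = y := by
  obtain ⟨ε, hε, hact⟩ := mk_eq_iff_exists_eps hm h
  have h1 := hact e
  rw [sympT_act, sympT_act, sympForm_self, mul_zero, mul_zero, zero_smul, add_zero] at h1
  have hε1 : ε = 1 := by
    have h2 : (1 - ε) • e = 0 := by rw [sub_smul, one_smul, ← h1, sub_self]
    rcases smul_eq_zero.1 h2 with h3 | h3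
    · exact (sub_eq_zero.1 h3).symm
    · exact absurd h3 he
  obtain ⟨t, ht⟩ := exists_partner (m := m) he
  have ht' : Cfsg.sympForm m F t e = -1 := by rw [sympForm_swap, ht]
  have h4 := hact t
  rw [hε1, one_smul, sympT_act, sympT_act, ht'] at h4
  have h5 : (y * -1 - x * -1) • e = 0 := by
    rw [sub_smul]
    have := add_left_cancel h4
    rw [this, sub_self]
  rcases smul_eq_zero.1 h5 with h6 | h6
  · linear_combination h6
  · exact absurd h6 he

theorem comp_e1 (hm : 1 ≤ m) (σ : F ≃+* F) : σ ∘ (e1 (F := F) hm) = e1 hm := by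
  ext i
  unfold e1
  by_cases hi : i = Sum.inl ⟨0, hm⟩
  · rw [hi]; simp
  · simp [Pi.single_eq_of_ne hi]

theorem e1_ne_zero (hm : 1 ≤ m) : (e1 (F := F) hm) ≠ 0 := by
  intro h
  have := congrFun h (Sum.inl ⟨0, hm⟩)
  simp [e1] at this

/-- the class of a transvection with fixed direction and fixed parameter is fixed by `φ_σ` -/
theorem fieldAutPSp_mk_sympT (σ : F ≃+* F) {e : Fin m ⊕ Fin m → F} (he : σ ∘ e = e) {c : F}
    (hc : σ c = c) :
    fieldAutPSp σ (QuotientGroup.mk (sympT e c) : PSp m F) = QuotientGroup.mk (sympT e c) := by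
  rw [fieldAutPSp_mk, sigmaSp_sympT, he, hc]

/-- the action of a standard automorphism on the class of a transvection -/
theorem PhiSp_field_mk_sympT (g : ↥(Cfsg.GSp m F)) (τ : F ≃+* F) {lam : Fˣ}
    (hlam : ∀ u v : Fin m ⊕ Fin m → F,
      Cfsg.sympForm m F ((g.1 : Matrix (Fin m ⊕ Fin m) (Fin m ⊕ Fin m) F) *ᵥ u)
        ((g.1 : Matrix (Fin m ⊕ Fin m) (Fin m ⊕ Fin m) F) *ᵥ v)
        = (lam : F) * Cfsg.sympForm m F u v) (e : Fin m ⊕ Fin m → F) (c : F) :
    (PhiSp g * fieldAutPSp τ : MulAut (PSp m F)) (QuotientGroup.mk (sympT e c) : PSp m F) =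
      QuotientGroup.mk (sympT ((g.1 : Matrix (Fin m ⊕ Fin m) (Fin m ⊕ Fin m) F) *ᵥ (τ ∘ e))
        (τ c * (lam : F)⁻¹)) := by
  rw [MulAut.mul_apply, fieldAutPSp_mk, PhiSp_mk, sigmaSp_sympT, conjSp_sympT g hlam]

/-- if `PhiSp g * φ_{τ'}` fixes the classes of the transvections `sympT e c` (with `e` fixed by
all field automorphisms) for all `c` fixed by `σ`, then `τ'` is a power of `σ` -/
theorem field_part_mem_zpowers_Sp [Finite F] (hm : 0 < m) (σ τ' : F ≃+* F)
    (g : ↥(Cfsg.GSp m F)) {e : Fin m ⊕ Fin m → F} (he0 : e ≠ 0) (he : τ' ∘ e = e)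
    (hfix : ∀ c : F, σ c = c →
      (PhiSp g * fieldAutPSp τ' : MulAut (PSp m F)) (QuotientGroup.mk (sympT e c) : PSp m F) =
        QuotientGroup.mk (sympT e c)) :
    τ' ∈ Subgroup.zpowers σ := by
  obtain ⟨lam, hlam⟩ := (mem_GSp_iff g.1).mp g.2
  have hl : (lam : F) ≠ 0 := lam.ne_zero
  set ge := (g.1 : Matrix (Fin m ⊕ Fin m) (Fin m ⊕ Fin m) F) *ᵥ e with hge
  have key : ∀ c : F, σ c = c →
      (QuotientGroup.mk (sympT ge (τ' c * (lam : F)⁻¹)) : PSp m F) =
        QuotientGroup.mk (sympT e c) := by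
    intro c hc
    have h1 := hfix c hc
    rw [PhiSp_field_mk_sympT g τ' hlam, he] at h1
    exact h1
  -- `e` is proportional to `g e`
  have h1 := key 1 (map_one σ)
  have hmem : (QuotientGroup.mk (sympT e 1) : PSp m F) ∈ Tb ge := by
    rw [← h1]
    exact Subgroup.mem_map_of_mem _ (sympT_mem_T _ _)
  obtain ⟨a, ha⟩ := mem_span_of_mk_mem_Tb hm he0 hmem
  have ha0 : a ≠ 0 := by
    rintro rfl
    rw [zero_smul] at ha
    exact he0 ha
  have hge' : ge = a⁻¹ • e := by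
    rw [ha, smul_smul, inv_mul_cancel₀ ha0, one_smul]
  have key2 : ∀ c : F, σ c = c → τ' c * (lam : F)⁻¹ * a⁻¹ ^ 2 = c := by
    intro c hc
    have h2 := key c hc
    rw [hge', sympT_smul] at h2
    exact mk_sympT_inj hm he0 h2
  have k1 := key2 1 (map_one σ)
  rw [map_one, one_mul] at k1
  apply mem_zpowers_of_fixes σ τ'
  intro c hc
  have k2 := key2 c hc
  rw [mul_assoc, k1, mul_one] at k2
  exact k2

section Main

variable [Finite F]

/-- the abstract main theorem -/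
theorem main_Sp_abstract (hm : 1 ≤ m) (hZ : Subgroup.center (PSp m F) = ⊥)
    {p : ℕ} (hp : p.Prime) (σ : F ≃+* F) (hσ : orderOf σ = p)
    (L : Subgroup (MulAut (PSp m F)))
    (hL1 : L ≤ Cfsg.Inn (PSp m F) ⊓ Subgroup.centralizer {fieldAutPSp σ})
    (hL2 : ∀ c ∈ Subgroup.centralizer {fieldAutPSp (m := m) σ}, ∀ l ∈ L, c * l * c⁻¹ ∈ L)
    (hL3 : p ∣ Nat.card ↥(Cfsg.Inn (PSp m F) ⊓ Subgroup.centralizer {fieldAutPSp σ}) →
      ∀ M : Subgroup (MulAut (PSp m F)), M ≤ L → (∀ l ∈ L, ∀ n ∈ M, l * n * l⁻¹ ∈ M) →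
        (Nat.card M).Coprime p → M = ⊥)
    (hL4 : ∀ c : F, σ c = c →
      MulAut.conj (QuotientGroup.mk (sympT (e1 hm) c) : PSp m F) ∈ L)
    (hL5 : ∀ y ∈ (PhiSp (F := F) (m := m)).range ⊓ Subgroup.centralizer {fieldAutPSp σ},
      (∀ l ∈ L, y * l = l * y) → y = 1)
    (hgam : ∀ n ∈ Subgroup.centralizer {fieldAutPSp (m := m) σ}, (∀ l ∈ L, n * l = l * n) →
      n ∈ gammaSub m F)
    (A : Subgroup (MulAut (PSp m F))) (hinn : Cfsg.Inn (PSp m F) ≤ A) :
    HasPPrime p (A ⊓ Subgroup.centralizer {fieldAutPSp σ}) ↔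
      Nat.Coprime p (Nat.card ↥(MonoidHom.eqLocus (fieldAutPSp (m := m) σ).toMonoidHom
        (MonoidHom.id (PSp m F)))) := by
  classical
  have hφord : orderOf (fieldAutPSp (m := m) σ) = p := by rw [orderOf_fieldAutPSp hm, hσ]
  obtain ⟨φ, hφ⟩ : ∃ φ : MulAut (PSp m F), φ = fieldAutPSp σ := ⟨_, rfl⟩
  rw [← hφ] at hφord hL1 hL2 hL3 hL5 hgam ⊢
  obtain ⟨I₀, hI₀⟩ : ∃ I₀ : Subgroup (MulAut (PSp m F)),
    I₀ = Cfsg.Inn (PSp m F) ⊓ Subgroup.centralizer {φ} := ⟨_, rfl⟩
  rw [← hI₀] at hL1 hL3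
  have hcardI₀ : Nat.card I₀ = Nat.card ↥(MonoidHom.eqLocus φ.toMonoidHom
      (MonoidHom.id (PSp m F))) := by rw [hI₀]; exact card_inn_inf_centralizer hZ φ
  have hLC : L ≤ Subgroup.centralizer {φ} := by
    refine le_trans hL1 ?_
    rw [hI₀]
    exact inf_le_right
  have hLInn : L ≤ Cfsg.Inn (PSp m F) := by
    refine le_trans hL1 ?_
    rw [hI₀]
    exact inf_le_left
  have hφC : φ ∈ Subgroup.centralizer {φ} := by
    rw [mem_centralizer_iff]
    intro h hh
    rw [Set.mem_singleton_iff.1 hh]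
  -- rigidity
  have hcentL : ∀ n, n ∈ Subgroup.centralizer {φ} → (∀ l ∈ L, n * l = l * n) →
      n ∈ Subgroup.zpowers φ := by
    intro n hnC hnL
    obtain ⟨g, τ', rfl⟩ := (mem_gammaSub n).1 (hgam n hnC hnL)
    have hmem : τ' ∈ Subgroup.zpowers σ := by
      apply field_part_mem_zpowers_Sp (by omega) σ τ' g (e1_ne_zero hm) (comp_e1 hm τ')
      intro c hc
      apply fixes_of_commute hZ
      exact hnL _ (hL4 c hc)
    obtain ⟨j, hj⟩ := Subgroup.mem_zpowers_iff.1 hmem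
    have hφj : fieldAutPSp (m := m) τ' = φ ^ j := by
      rw [← hj, hφ]
      exact (map_zpow (fieldAutHomSp (F := F) (m := m)) σ j)
    have hφjC : φ ^ j ∈ Subgroup.centralizer {φ} := zpow_mem hφC j
    rw [hφj] at hnC hnL ⊢
    obtain ⟨y, hy⟩ : ∃ y : MulAut (PSp m F), y = PhiSp g := ⟨_, rfl⟩
    rw [← hy] at hnC hnL ⊢
    have hyC : y ∈ Subgroup.centralizer {φ} := by
      have h1 : y = (y * φ ^ j) * (φ ^ j)⁻¹ := by group
      rw [h1]
      exact mul_mem hnC (inv_mem hφjC)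
    have hyL : ∀ l ∈ L, y * l = l * y := by
      intro l hl
      have h1 := hnL l hl
      have hlC : l ∈ Subgroup.centralizer {φ} := hLC hl
      have h2' : φ * l = l * φ := (mem_centralizer_iff.1 hlC) φ rfl
      have h3 : φ ^ j * l = l * φ ^ j := (Commute.zpow_left (show Commute φ l from h2') j).eq
      have h4 : y * l * φ ^ j = l * y * φ ^ j := by
        rw [mul_assoc, ← h3, ← mul_assoc, h1, mul_assoc]
      exact mul_right_cancel h4
    have hy1 : y = 1 := hL5 y (mem_inf.2 ⟨⟨g, hy.symm⟩, hyC⟩) hyL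
    rw [hy1, one_mul]
    exact zpow_mem (Subgroup.mem_zpowers φ) j
  constructor
  · rintro ⟨N, hNB, hnorm, hcop, hne'⟩
    by_contra hncop
    have hpdvd : p ∣ Nat.card ↥(MonoidHom.eqLocus φ.toMonoidHom
        (MonoidHom.id (PSp m F))) := by
      by_contra h
      exact hncop ((Nat.Prime.coprime_iff_not_dvd hp).2 h)
    rw [← hcardI₀] at hpdvd
    apply hne'
    have hNC : N ≤ Subgroup.centralizer {φ} := le_trans hNB inf_le_right
    exact core_trivial_of_Op hp φ hφord L N (hL3 hpdvd) hcentL hNC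
      (fun n hn l hl => hL2 n (hNC hn) l hl)
      (fun l hl n hn => hnorm l (mem_inf.2 ⟨hinn (hLInn hl), hLC hl⟩) n hn) hcop
  · intro hcop
    refine ⟨I₀, ?_, ?_, ?_, ?_⟩
    · rw [hI₀]; exact inf_le_inf_right _ hinn
    · intro b hb n hn
      rw [hI₀] at hn ⊢
      obtain ⟨hnI, hnC⟩ := mem_inf.1 hn
      exact mem_inf.2 ⟨inn_conj_mem_gen b n hnI,
        mul_mem (mul_mem (mem_inf.1 hb).2 hnC) (inv_mem (mem_inf.1 hb).2)⟩
    · rw [hcardI₀]
      exact hcop.symm
    · intro h0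
      have h1 : MulAut.conj (QuotientGroup.mk (sympT (e1 hm) 1) : PSp m F) ∈ I₀ :=
        hL1 (hL4 1 (map_one σ))
      rw [h0, mem_bot] at h1
      have h2 : (QuotientGroup.mk (sympT (e1 hm) (1 : F)) : PSp m F) = 1 := by
        apply conj_injective_of_center hZ
        rw [h1, map_one]
      have h3 : (QuotientGroup.mk (sympT (e1 hm) (1 : F)) : PSp m F) =
          QuotientGroup.mk (sympT (e1 hm) (0 : F)) := by
        rw [h2, sympT_zero]
        rfl
      exact one_ne_zero (mk_sympT_inj (by omega) (e1_ne_zero hm) h3)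

end Main

end Cfsg.Agent.Helper14.LocalBal
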