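import Mathlib
import Cfsg.Agent.Lib.Helper14.LocalBalSpMain

/-!
# Local balance for standard field automorphisms of `PSp_{2m}(F)`: the perfect case

`Sp_{2m}(F₀)` perfect and `PSp_{2m}(F₀)` simple, `Aut(PSp_{2m}(F)) = PΓSp`.
-/

set_option autoImplicit false
set_option linter.unusedSectionVars false
set_option linter.unusedSimpArgs false
set_option linter.unusedVariables false
set_option linter.style.haveILetI false

namespace Cfsg.Agent.Helper14.LocalBal

open Matrix Cfsg Cfsg.Agent.Helper13 Cfsg.Agent.Helper84.SpRoot Cfsg.Agent.Helper40.AutPSp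
  Cfsg.Agent.Helper5.SpAut Subgroup
open scoped commutatorElement

section General

variable {F : Type*} [Field F] {m : ℕ}

/-- commutators of inner-diagonal automorphisms are inner -/
theorem commutator_range_le_inn (hm : 1 ≤ m) :
    ⁅(PhiSp (F := F) (m := m)).range, (PhiSp (F := F) (m := m)).range⁆ ≤
      Cfsg.Inn (PSp m F) := by
  rw [Subgroup.commutator_le]
  rintro _ ⟨g, rfl⟩ _ ⟨h, rfl⟩
  rw [← map_commutatorElement]
  have h1 : multSp hm ⁅g, h⁆ = 1 := by
    rw [map_commutatorElement, commutatorElement_eq_one_iff_commute]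
    exact mul_comm _ _
  obtain ⟨s, hs⟩ := exists_toGSp_of_mult_one hm _ h1
  rw [← hs, PhiSp_toGSp]
  exact ⟨_, rfl⟩

/-- squares of inner-diagonal automorphisms are inner -/
theorem sq_range_mem_inn (hm : 1 ≤ m) (x : MulAut (PSp m F))
    (hx : x ∈ (PhiSp (F := F) (m := m)).range) : x * x ∈ Cfsg.Inn (PSp m F) := by
  obtain ⟨g, rfl⟩ := hx
  have h1 : multSp hm (g * g * (scGSp (multSp hm g))⁻¹) = 1 := by
    rw [map_mul, map_mul, map_inv, multSp_scGSp, mul_inv_cancel]
  obtain ⟨s, hs⟩ := exists_toGSp_of_mult_one hm _ h1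
  have h2 : g * g = toGSp s * scGSp (multSp hm g) := by
    rw [hs]
    group
  rw [← map_mul, h2, map_mul, PhiSp_scGSp hm, mul_one, PhiSp_toGSp]
  exact ⟨_, rfl⟩

theorem sympTransvection_map {F₀ : Type*} [Field F₀] (ι : F₀ →+* F) (w : Fin m ⊕ Fin m → F₀)
    (c : F₀) :
    (Cfsg.sympTransvection m w c).map ι = Cfsg.sympTransvection m (ι ∘ w) (ι c) := by
  ext i j
  unfold Cfsg.sympTransvection
  rw [Matrix.map_apply, Matrix.add_apply, Matrix.add_apply, Matrix.smul_apply, Matrix.smul_apply,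
    Matrix.vecMulVec_apply, Matrix.vecMulVec_apply, map_add, smul_eq_mul, smul_eq_mul, map_mul,
    map_mul]
  congr 1
  · by_cases hij : i = j
    · rw [hij, Matrix.one_apply_eq, Matrix.one_apply_eq, map_one]
    · rw [Matrix.one_apply_ne hij, Matrix.one_apply_ne hij, map_zero]
  · congr 2
    rw [RingHom.map_mulVec, Matrix.map_J]

end General

section Perfect

variable {F₀ : Type*} [Field F₀] {F : Type*} [Field F] {m : ℕ} (ι : F₀ →+* F)

/-- the embedded transvection -/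
theorem ThetaSp_toGSp_sympT (hm : 1 ≤ m) (c₀ : F₀) :
    ThetaSp (m := m) ι (toGSp (sympT (e1 hm) c₀)) =
      MulAut.conj (QuotientGroup.mk (sympT (e1 hm) (ι c₀)) : PSp m F) := by
  rw [ThetaSp_apply, ← PhiSp_toGSp]
  congr 1
  apply Subtype.ext
  apply Units.ext
  rw [embSp_coe, toGSp_coe, toGSp_coe]
  show (Cfsg.sympTransvection m (e1 hm) c₀).map ι = Cfsg.sympTransvection m (e1 hm) (ι c₀)
  rw [sympTransvection_map]
  congr 1
  ext i
  unfold e1
  by_cases hi : i = Sum.inl ⟨0, hm⟩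
  · rw [hi]; simp
  · simp [Pi.single_eq_of_ne hi]

variable [Finite F] [Finite F₀]

theorem main_std_Sp_perfect (hm : 1 ≤ m) (hS : StructSp m F)
    (hperf : commutator ↥(Matrix.symplecticGroup (Fin m) F) = ⊤)
    (hperf₀ : commutator ↥(Matrix.symplecticGroup (Fin m) F₀) = ⊤)
    [hK : IsSimpleGroup (PSp m F)] [hK₀ : IsSimpleGroup (PSp m F₀)]
    (heven : 2 ∣ Nat.card (PSp m F₀))
    {p : ℕ} (hp : p.Prime) (σ : F ≃+* F) (hσ : orderOf σ = p)
    (hι1 : ∀ x, σ (ι x) = ι x) (hι2 : ∀ a, σ a = a → ∃ x, ι x = a)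
    (A : Subgroup (MulAut (PSp m F))) (hinn : Cfsg.Inn (PSp m F) ≤ A) :
    HasPPrime p (A ⊓ Subgroup.centralizer {fieldAutPSp σ}) ↔
      Nat.Coprime p (Nat.card ↥(MonoidHom.eqLocus (fieldAutPSp (m := m) σ).toMonoidHom
        (MonoidHom.id (PSp m F)))) := by
  classical
  have hperfK : commutator (PSp m F) = ⊤ := commutator_quotient_eq_top _ hperf
  have hperfK₀ : commutator (PSp m F₀) = ⊤ := commutator_quotient_eq_top _ hperf₀
  have hZ : Subgroup.center (PSp m F) = ⊥ := center_eq_bot_of_simple_perfect hperfK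
  have hZ₀ : Subgroup.center (PSp m F₀) = ⊥ := center_eq_bot_of_simple_perfect hperfK₀
  obtain ⟨e⟩ := cent_equiv_pgsp (m := m) ι hm σ hp.pos hσ hι1 hι2
  have hrange := range_ThetaSp (m := m) ι hm σ hp.pos hσ hι1 hι2
  have hPnormal : ((PhiSp (F := F) (m := m)).range).Normal := range_normal hS
  have hker : (PhiSp (F := F₀) (m := m)).ker =
      (Cfsg.Geo.scalars (Fin m ⊕ Fin m) F₀).subgroupOf (Cfsg.GSp m F₀) := by
    ext g
    rw [MonoidHom.mem_ker, PhiSp_eq_one_iff hm, Subgroup.mem_subgroupOf]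
  have e₁ : Cfsg.PGSp m F₀ ≃* ↥(PhiSp (F := F₀) (m := m)).range :=
    (QuotientGroup.quotientMulEquivOfEq hker.symm).trans
      (QuotientGroup.quotientKerEquivRange (PhiSp (F := F₀) (m := m)))
  -- make things opaque
  obtain ⟨φ, hφ⟩ : ∃ φ : MulAut (PSp m F), φ = fieldAutPSp σ := ⟨_, rfl⟩
  obtain ⟨R, hR⟩ : ∃ R : Subgroup (MulAut (PSp m F)),
    R = (PhiSp (F := F) (m := m)).range ⊓ Subgroup.centralizer {φ} := ⟨_, rfl⟩
  rw [← hφ] at e hrange
  rw [← hR] at e hrange
  obtain ⟨LG, ⟨ψ⟩, hcentLG, hidx, hcomm, -⟩ :=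
    exists_equiv_inn hZ₀ (PhiSp (F := F₀) (m := m)).range inn_le_range_Sp (e.trans e₁)
  have hLGcomm : LG = commutator ↥R := hcomm hperfK₀ (commutator_range_le_inn hm)
  obtain ⟨k, hk⟩ := relIndex_two_pow (Cfsg.Inn (PSp m F₀)) (PhiSp (F := F₀) (m := m)).range
    (sq_range_mem_inn hm)
  rw [hk] at hidx
  obtain ⟨L, hL⟩ : ∃ L : Subgroup (MulAut (PSp m F)), L = LG.map R.subtype := ⟨_, rfl⟩
  have eD : ↥LG ≃* ↥L :=
    (LG.equivMapOfInjective R.subtype R.subtype_injective).trans (MulEquiv.subgroupCongr hL.symm)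
  have eL : ↥L ≃* PSp m F₀ := eD.symm.trans ψ
  haveI : IsSimpleGroup ↥L := eL.isSimpleGroup
  have hcardL : Nat.card L = Nat.card (PSp m F₀) := Nat.card_congr eL.toEquiv
  have hLR : L ≤ R := by
    rw [hL]
    rintro _ ⟨y, -, rfl⟩
    exact y.2
  have hRC : R ≤ Subgroup.centralizer {φ} := by rw [hR]; exact inf_le_right
  have hLcomm : L = ⁅R, R⁆ := by rw [hL, hLGcomm]; exact Subgroup.map_subtype_commutator R
  have hLInn : L ≤ Cfsg.Inn (PSp m F) := by
    rw [hLcomm]
    refine le_trans (Subgroup.commutator_mono ?_ ?_) (commutator_range_le_inn hm)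
    · rw [hR]; exact inf_le_left
    · rw [hR]; exact inf_le_left
  have hcardR : Nat.card R = Nat.card L * 2 ^ k := by
    rw [← Subgroup.card_mul_index LG, hidx, Nat.card_congr eD.toEquiv]
  have hInnP : Cfsg.Inn (PSp m F) ≤ (PhiSp (F := F) (m := m)).range := inn_le_range_Sp
  have hmain := main_Sp_abstract hm hZ hp σ hσ L ?_ ?_ ?_ ?_ ?_ ?_ A hinn
  · exact hmain
  · -- hL1
    rw [← hφ]
    exact le_inf hLInn (le_trans hLR hRC)
  · -- hL2
    rw [← hφ]
    intro c hc l hl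
    have hRc : R.map (MulAut.conj c).toMonoidHom ≤ R := by
      rw [hR]
      rintro _ ⟨y, hy, rfl⟩
      obtain ⟨hyP, hyC⟩ := mem_inf.1 hy
      refine mem_inf.2 ⟨hPnormal.conj_mem y hyP c, ?_⟩
      show c * y * c⁻¹ ∈ Subgroup.centralizer {φ}
      exact mul_mem (mul_mem hc hyC) (inv_mem hc)
    have h1 : L.map (MulAut.conj c).toMonoidHom ≤ L := by
      rw [hLcomm, Subgroup.map_commutator]
      exact Subgroup.commutator_mono hRc hRc
    exact h1 ⟨l, hl, rfl⟩
  · -- hL3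
    rw [← hφ]
    intro hpdvd
    apply hOp_of_simple hp L
    have hI₀R : Cfsg.Inn (PSp m F) ⊓ Subgroup.centralizer {φ} ≤ R := by
      rw [hR]; exact inf_le_inf_right _ hInnP
    have h1 : p ∣ Nat.card L * 2 ^ k := by
      rw [← hcardR]
      exact dvd_trans hpdvd (Subgroup.card_dvd_of_le hI₀R)
    rcases (Nat.Prime.dvd_mul hp).1 h1 with h | h
    · exact h
    · have h3 : p = 2 := (Nat.prime_dvd_prime_iff_eq hp Nat.prime_two).1 (hp.dvd_of_dvd_pow h)
      rw [h3, hcardL]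
      exact heven
  · -- hL4
    intro c hc
    obtain ⟨c₀, rfl⟩ := hι2 c hc
    rw [← ThetaSp_toGSp_sympT ι hm c₀, hL, hLGcomm]
    -- the homomorphism `Sp(F₀) → R`
    let Ψ : ↥(Matrix.symplecticGroup (Fin m) F₀) →* ↥R :=
      ((ThetaSp (m := m) ι).comp toGSp).codRestrict R (fun s => by
        rw [← hrange]
        exact ⟨_, rfl⟩)
    have h1 : (commutator ↥(Matrix.symplecticGroup (Fin m) F₀)).map Ψ ≤ commutator ↥R := by
      rw [commutator_def, Subgroup.map_commutator, commutator_def]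
      exact Subgroup.commutator_mono le_top le_top
    have h2 : Ψ (sympT (e1 hm) c₀) ∈ commutator ↥R := by
      apply h1
      rw [hperf₀]
      exact ⟨_, mem_top _, rfl⟩
    exact ⟨_, h2, rfl⟩
  · -- hL5
    rw [← hφ, ← hR]
    intro y hy hyL
    have h1 : (⟨y, hy⟩ : ↥R) = 1 := hcentLG ⟨y, hy⟩ (by
      rintro ⟨l, hlR⟩ hlD
      apply Subtype.ext
      apply hyL l
      rw [hL]
      exact ⟨⟨l, hlR⟩, hlD, rfl⟩)
    exact congrArg Subtype.val h1
  · -- hgam
    intro n _ _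
    exact (mem_gammaSub n).2 (hS n)

end Perfect

end Cfsg.Agent.Helper14.LocalBal
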