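import Mathlib
import Cfsg.Agent.S0270
import Cfsg.Agent.S0765
import Cfsg.Agent.Lib.Helper14.LocalBalSpPerf

/-!
# Local balance for standard field automorphisms of `PSp_{2m}(F)`: characteristic two

In characteristic two `Inndiag = Inn` and `Inn ⊓ C(φ_σ) ≅ Sp_{2m}(F₀)`; normal subgroups of
`Sp_{2m}(F₀)` are central or contain the commutator subgroup (Iwasawa), whose index is a power of 2.
-/

set_option autoImplicit false
set_option linter.unusedSectionVars false
set_option linter.unusedSimpArgs false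
set_option linter.unusedVariables false
set_option linter.style.haveILetI false

namespace Cfsg.Agent.Helper14.LocalBal

open Matrix Cfsg Cfsg.Agent.Helper13 Cfsg.Agent.Helper84.SpRoot Cfsg.Agent.Helper40.AutPSp
  Cfsg.Agent.Helper5.SpAut Subgroup
open scoped LinearAlgebra.Projectivization

section Iwasawa

variable {F : Type*} [Field F] {m : ℕ}

/-- Iwasawa: a normal subgroup of `Sp_{2m}(F)` is central or contains the commutator subgroup -/
theorem sp_normal_dichotomy [Finite F] (hm : 1 ≤ m)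
    (N : Subgroup ↥(Matrix.symplecticGroup (Fin m) F)) [N.Normal] :
    N ≤ Subgroup.center ↥(Matrix.symplecticGroup (Fin m) F) ∨
      commutator ↥(Matrix.symplecticGroup (Fin m) F) ≤ N := by
  have hprim := Cfsg.Agent.S0270.sp_preprimitive (F := F) (m := m) hm
  by_cases hfix : MulAction.fixedPoints N (ℙ F (Fin m ⊕ Fin m → F)) = Set.univ
  · exact Or.inl (Cfsg.Agent.S0270.le_center_of_fixes N hfix)
  · exact Or.inr ((Cfsg.Agent.S0270.iwasawa (F := F) (m := m)).commutator_le N hfix)

/-- in characteristic two the abelianization of `Sp_{2m}(F)` is a `2`-group -/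
theorem index_commutator_sp_two_pow [Finite F] [CharP F 2] :
    ∃ k : ℕ, (commutator ↥(Matrix.symplecticGroup (Fin m) F)).index = 2 ^ k := by
  haveI : Fact (Nat.Prime 2) := ⟨Nat.prime_two⟩
  let f : ↥(Matrix.symplecticGroup (Fin m) F) →*
      Abelianization ↥(Matrix.symplecticGroup (Fin m) F) :=
    (powMonoidHom 2).comp Abelianization.of
  have hker : f.ker = ⊤ := by
    rw [eq_top_iff, ← Cfsg.Agent.S0765.result (F := F) m, Subgroup.closure_le]
    rintro A ⟨w, c, hA⟩
    have hAw : A = sympT w c := Subtype.ext hA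
    show f A = 1
    show (Abelianization.of A) ^ 2 = 1
    rw [← map_pow, hAw, pow_two, sympT_mul, CharTwo.add_self_eq_zero, sympT_zero, map_one]
  have hpg : IsPGroup 2 (Abelianization ↥(Matrix.symplecticGroup (Fin m) F)) := by
    intro q
    obtain ⟨x, rfl⟩ := QuotientGroup.mk_surjective q
    refine ⟨1, ?_⟩
    rw [pow_one]
    have : x ∈ f.ker := by rw [hker]; exact mem_top x
    exact this
  obtain ⟨k, hk⟩ := (IsPGroup.iff_card).1 hpg
  exact ⟨k, hk⟩

end Iwasawa

section Two

variable {F₀ : Type*} [Field F₀] {F : Type*} [Field F] {m : ℕ} (ι : F₀ →+* F)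
variable [Finite F] [Finite F₀] [CharP F 2]

theorem main_std_Sp_two (hm : 1 ≤ m) (hZ : Subgroup.center (PSp m F) = ⊥)
    {p : ℕ} (hp : p.Prime) (hp2 : p ≠ 2) (σ : F ≃+* F) (hσ : orderOf σ = p)
    (hι1 : ∀ x, σ (ι x) = ι x) (hι2 : ∀ a, σ a = a → ∃ x, ι x = a)
    (hgam : ∀ n : MulAut (PSp m F),
      n (QuotientGroup.mk (sympT (e1 hm) (1 : F)) : PSp m F) =
        QuotientGroup.mk (sympT (e1 hm) (1 : F)) → n ∈ gammaSub m F)
    (A : Subgroup (MulAut (PSp m F))) (hinn : Cfsg.Inn (PSp m F) ≤ A) :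
    HasPPrime p (A ⊓ Subgroup.centralizer {fieldAutPSp σ}) ↔
      Nat.Coprime p (Nat.card ↥(MonoidHom.eqLocus (fieldAutPSp (m := m) σ).toMonoidHom
        (MonoidHom.id (PSp m F)))) := by
  classical
  haveI : CharP F₀ 2 := RingHom.charP ι ι.injective 2
  have hm0 : 0 < m := by omega
  have hrange := range_ThetaSp (m := m) ι hm σ hp.pos hσ hι1 hι2
  have hInn : (PhiSp (F := F) (m := m)).range = Cfsg.Inn (PSp m F) :=
    range_PhiSp_eq_inn_of_char_two hm
  -- the homomorphism `Sp(F₀) → Aut(K)`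
  obtain ⟨Ψ, hΨ⟩ : ∃ Ψ : ↥(Matrix.symplecticGroup (Fin m) F₀) →* MulAut (PSp m F),
    Ψ = (ThetaSp (m := m) ι).comp toGSp := ⟨_, rfl⟩
  obtain ⟨φ, hφ⟩ : ∃ φ : MulAut (PSp m F), φ = fieldAutPSp σ := ⟨_, rfl⟩
  obtain ⟨R, hR⟩ : ∃ R : Subgroup (MulAut (PSp m F)),
    R = Cfsg.Inn (PSp m F) ⊓ Subgroup.centralizer {φ} := ⟨_, rfl⟩
  rw [← hφ, hInn, ← hR] at hrange
  have hΨrange : Ψ.range = R := by
    rw [← hrange]
    apply le_antisymm
    · rintro _ ⟨s, rfl⟩
      rw [hΨ]
      exact ⟨toGSp s, rfl⟩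
    · rintro _ ⟨g₀, rfl⟩
      have hchar : ringChar F₀ = 2 := ringChar.eq F₀ 2
      obtain ⟨d, hd⟩ := FiniteField.isSquare_of_char_two hchar ((multSp hm g₀ : F₀ˣ) : F₀)
      have hd0 : d ≠ 0 := by
        rintro rfl
        rw [mul_zero] at hd
        exact (multSp hm g₀).ne_zero hd
      let w : F₀ˣ := Units.mk0 d hd0
      have hmult : multSp hm (g₀ * (scGSp w)⁻¹) = 1 := by
        rw [map_mul, map_inv, multSp_scGSp]
        have : multSp hm g₀ = w * w := Units.ext hd
        rw [this, mul_inv_cancel]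
      obtain ⟨s, hs⟩ := exists_toGSp_of_mult_one hm _ hmult
      have h3 : g₀ = toGSp s * scGSp w := by
        rw [hs]
        group
      have h4 : ThetaSp (m := m) ι (scGSp w) = 1 := by
        have : scGSp w ∈ (ThetaSp (m := m) ι).ker := by
          rw [ker_ThetaSp ι hm, Subgroup.mem_subgroupOf]
          exact scGSp_mem_scalars w
        exact this
      refine ⟨s, ?_⟩
      rw [hΨ, h3, map_mul, h4, mul_one]
      rfl
  have hΨinj : Function.Injective Ψ := by
    rw [injective_iff_map_eq_one]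
    intro s hs
    have h1 : toGSp s ∈ (ThetaSp (m := m) ι).ker := by
      rw [MonoidHom.mem_ker]
      rw [hΨ] at hs
      exact hs
    rw [ker_ThetaSp ι hm, Subgroup.mem_subgroupOf, Cfsg.Geo.mem_scalars_iff] at h1
    obtain ⟨c, hc⟩ := h1
    have hcen : s ∈ Subgroup.center ↥(Matrix.symplecticGroup (Fin m) F₀) := by
      rw [Subgroup.mem_center_iff]
      intro g
      exact scalar_comm (c := (c : F₀)) hc g
    exact center_eq_bot_of_char_two hm0 hcen
  have hcardR : Nat.card R = Nat.card ↥(Matrix.symplecticGroup (Fin m) F₀) := by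
    rw [← hΨrange]
    exact (Nat.card_congr (MonoidHom.ofInjective hΨinj).toEquiv).symm
  have hRC : R ≤ Subgroup.centralizer {φ} := by rw [hR]; exact inf_le_right
  have hmain := main_Sp_abstract hm hZ hp σ hσ R ?_ ?_ ?_ ?_ ?_ ?_ A hinn
  · exact hmain
  · -- hL1
    rw [← hφ, ← hR]
  · -- hL2
    rw [← hφ]
    intro c hc l hl
    rw [hR] at hl ⊢
    obtain ⟨hlI, hlC⟩ := mem_inf.1 hl
    exact mem_inf.2 ⟨inn_conj_mem_gen c l hlI, mul_mem (mul_mem hc hlC) (inv_mem hc)⟩
  · -- hL3
    rw [← hφ, ← hR]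
    intro hpdvd M hMR hnorm hcop
    obtain ⟨N', hN'⟩ : ∃ N' : Subgroup ↥(Matrix.symplecticGroup (Fin m) F₀), N' = M.comap Ψ :=
      ⟨_, rfl⟩
    have hN'map : N'.map Ψ = M := by
      rw [hN']
      apply Subgroup.map_comap_eq_self
      rw [hΨrange]
      exact hMR
    haveI : N'.Normal := by
      constructor
      intro n hn g
      rw [hN', mem_comap] at hn ⊢
      rw [map_mul, map_mul, map_inv]
      apply hnorm _ _ _ hn
      rw [← hΨrange]
      exact ⟨g, rfl⟩
    have hcardN' : Nat.card N' = Nat.card M := by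
      rw [← hN'map]
      exact Nat.card_congr (N'.equivMapOfInjective Ψ hΨinj).toEquiv
    rcases sp_normal_dichotomy hm N' with h | h
    · have hbot : N' = ⊥ := by
        rw [eq_bot_iff]
        intro x hx
        rw [mem_bot]
        exact center_eq_bot_of_char_two hm0 (h hx)
      rw [← hN'map, hbot, Subgroup.map_bot]
    · exfalso
      obtain ⟨k, hk⟩ := index_commutator_sp_two_pow (F := F₀) (m := m)
      have h1 : p ∣ Nat.card (commutator ↥(Matrix.symplecticGroup (Fin m) F₀)) * 2 ^ k := by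
        rw [← hk, Subgroup.card_mul_index, ← hcardR]
        exact hpdvd
      have h2 : p ∣ Nat.card (commutator ↥(Matrix.symplecticGroup (Fin m) F₀)) := by
        rcases (Nat.Prime.dvd_mul hp).1 h1 with h' | h'
        · exact h'
        · exact absurd ((Nat.prime_dvd_prime_iff_eq hp Nat.prime_two).1 (hp.dvd_of_dvd_pow h'))
            hp2
      have h3 : p ∣ Nat.card M := by
        rw [← hcardN']
        exact dvd_trans h2 (Subgroup.card_dvd_of_le h)
      have h4 : p ∣ Nat.gcd (Nat.card M) p := Nat.dvd_gcd h3 dvd_rfl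
      rw [hcop.gcd_eq_one] at h4
      exact hp.one_lt.ne' (Nat.dvd_one.1 h4)
  · -- hL4
    intro c hc
    rw [hR]
    refine mem_inf.2 ⟨⟨_, rfl⟩, ?_⟩
    rw [hφ, conj_mem_centralizer_iff hZ]
    exact fieldAutPSp_mk_sympT σ (comp_e1 hm σ) hc
  · -- hL5
    rw [← hφ, hInn, ← hR]
    intro y hy hyL
    rw [← hΨrange] at hy
    obtain ⟨s, rfl⟩ := hy
    have hcen : s ∈ Subgroup.center ↥(Matrix.symplecticGroup (Fin m) F₀) := by
      rw [Subgroup.mem_center_iff]
      intro g
      apply hΨinj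
      rw [map_mul, map_mul]
      have hg : Ψ g ∈ R := by rw [← hΨrange]; exact ⟨g, rfl⟩
      exact (hyL _ hg).symm
    rw [center_eq_bot_of_char_two hm0 hcen, map_one]
  · -- hgam
    intro n _ hnL
    apply hgam
    apply fixes_of_commute hZ
    apply hnL
    rw [hR]
    refine mem_inf.2 ⟨⟨_, rfl⟩, ?_⟩
    rw [hφ, conj_mem_centralizer_iff hZ]
    exact fieldAutPSp_mk_sympT σ (comp_e1 hm σ) (map_one σ)

end Two

end Cfsg.Agent.Helper14.LocalBal
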