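import Mathlib
import Cfsg.Agent.S0269
import Cfsg.Agent.Lib.Helper14.LocalBalSpTwo

/-!
# Local balance for `PSp_{2m}(F)`: reduction to standard field automorphisms and assembly

`local_balance_Sp`: the statement, assuming that the automorphism `x` (and every automorphism
fixing a transvection) lies in `PΓSp`, and `Aut = PΓSp` in odd characteristic.
-/

set_option autoImplicit false
set_option linter.unusedSectionVars false
set_option linter.unusedSimpArgs false
set_option linter.unusedVariables false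
set_option linter.style.haveILetI false

namespace Cfsg.Agent.Helper14.LocalBal

open Matrix Cfsg Cfsg.Agent.Helper13 Cfsg.Agent.Helper84.SpRoot Cfsg.Agent.Helper40.AutPSp
  Cfsg.Agent.Helper40.FixK Cfsg.Agent.Helper5.SpAut Subgroup

variable {F : Type*} [Field F] {m : ℕ}

/-- the field part of a trivial standard automorphism is trivial -/
theorem field_eq_one_of_mul_eq_one [Finite F] (hm : 1 ≤ m) (g : ↥(Cfsg.GSp m F)) (α : F ≃+* F)
    (h : (PhiSp g * fieldAutPSp α : MulAut (PSp m F)) = 1) : α = 1 := by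
  have h1 : α ∈ Subgroup.zpowers (1 : F ≃+* F) := by
    apply field_part_mem_zpowers_Sp (by omega) (1 : F ≃+* F) α g (e1_ne_zero hm) (comp_e1 hm α)
    intro c _
    rw [h]
    rfl
  rw [Subgroup.zpowers_one_eq_bot, Subgroup.mem_bot] at h1
  exact h1

/-- an automorphism in `PΓSp` of prime order outside `Inndiag` is `Inndiag`-conjugate to a standard
field automorphism of the same order -/
theorem exists_conj_std_Sp [Finite F] (hm : 1 ≤ m) {p : ℕ} (hp : p.Prime)
    (x : MulAut (PSp m F)) (hord : orderOf x = p) (hx : x ∈ gammaSub m F)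
    (hnot : ¬ Cfsg.IsInnerDiagonalAutPSp x) :
    ∃ (h : ↥(Cfsg.GSp m F)) (τ : F ≃+* F), orderOf τ = p ∧
      x = PhiSp h * fieldAutPSp τ * (PhiSp h)⁻¹ := by
  obtain ⟨g, τ, rfl⟩ := (mem_gammaSub x).1 hx
  have hτ1 : τ ≠ 1 := by
    rintro rfl
    apply hnot
    rw [innerDiagonal_iff]
    exact ⟨g, by rw [fieldAutPSp_one, mul_one]⟩
  have hpow : (PhiSp g * fieldAutPSp τ : MulAut (PSp m F)) ^ p = 1 := by
    rw [← hord]
    exact pow_orderOf_eq_one _
  have h1 := hpow
  rw [pow_PhiSp_mul_field] at h1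
  have hτp : τ ^ p = 1 := field_eq_one_of_mul_eq_one hm _ _ h1
  haveI : Fact p.Prime := ⟨hp⟩
  have hτord : orderOf τ = p := orderOf_eq_prime hτp hτ1
  obtain ⟨h, hh⟩ := field_coset_conj_Sp hm τ hp.pos hτord g hpow
  exact ⟨h, τ, hτord, hh⟩

/-- the local balance statement from the statement for standard field automorphisms -/
theorem local_balance_Sp_of_std [Finite F] (hm : 1 ≤ m) {p : ℕ} (hp : p.Prime)
    (hmain : ∀ τ : F ≃+* F, orderOf τ = p → ∀ A : Subgroup (MulAut (PSp m F)),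
      Cfsg.Inn (PSp m F) ≤ A →
      (HasPPrime p (A ⊓ Subgroup.centralizer {fieldAutPSp τ}) ↔
        Nat.Coprime p (Nat.card ↥(MonoidHom.eqLocus (fieldAutPSp (m := m) τ).toMonoidHom
          (MonoidHom.id (PSp m F))))))
    (A : Subgroup (MulAut (PSp m F)))
    (hinn : ∀ k : PSp m F, MulAut.conj k ∈ A)
    (x : MulAut (PSp m F)) (hord : orderOf x = p) (hx : x ∈ gammaSub m F)
    (hnot : ¬ Cfsg.IsInnerDiagonalAutPSp x) :
    Cfsg.pPrimeCore p ↥(A ⊓ Subgroup.centralizer {x}) ≠ ⊥ ↔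
      (Cfsg.IsFieldAutClassPSp x ∧
        Nat.Coprime p (Nat.card ↥(MonoidHom.eqLocus x.toMonoidHom
          (MonoidHom.id (PSp m F))))) := by
  obtain ⟨h, τ, hτ, hxe⟩ := exists_conj_std_Sp hm hp x hord hx hnot
  obtain ⟨a, ha⟩ : ∃ a : MulAut (PSp m F), a = PhiSp h := ⟨_, rfl⟩
  obtain ⟨φ, hφ⟩ : ∃ φ : MulAut (PSp m F), φ = fieldAutPSp τ := ⟨_, rfl⟩
  rw [← ha, ← hφ] at hxe
  have hτ1 : τ ≠ RingEquiv.refl F := by
    intro h0
    have : τ = 1 := h0
    rw [this, orderOf_one] at hτ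
    exact hp.one_lt.ne hτ
  have hfield : Cfsg.IsFieldAutClassPSp x := by
    refine ⟨a⁻¹, τ, hτ1, ?_⟩
    have h1 : a⁻¹ * x * a⁻¹⁻¹ = φ := by
      rw [hxe]
      group
    rw [h1, hφ]
    exact isStd_fieldAutPSp τ
  have hcardfix : Nat.card ↥(MonoidHom.eqLocus x.toMonoidHom (MonoidHom.id (PSp m F))) =
      Nat.card ↥(MonoidHom.eqLocus φ.toMonoidHom (MonoidHom.id (PSp m F))) := by
    rw [hxe]
    exact card_eqLocus_conj a φ
  rw [pPrimeCore_subgroup_ne_bot_iff, hcardfix]
  obtain ⟨A', hA'⟩ : ∃ A' : Subgroup (MulAut (PSp m F)),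
    A' = A.comap (MulAut.conj a).toMonoidHom := ⟨_, rfl⟩
  have hA'map : A'.map (MulAut.conj a).toMonoidHom = A := by
    rw [hA']
    exact Subgroup.map_comap_eq_self_of_surjective (MulAut.conj a).surjective A
  have hinn' : Cfsg.Inn (PSp m F) ≤ A' := by
    rintro _ ⟨k, rfl⟩
    rw [hA']
    show a * MulAut.conj k * a⁻¹ ∈ A
    rw [conj_conj_aut]
    exact hinn _
  have key := hasPPrime_conj_iff p A' a φ
  rw [hA'map, ← hxe] at key
  have hm' := hmain τ hτ A' hinn'
  rw [← hφ] at hm'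
  rw [key, hm']
  exact ⟨fun h => ⟨hfield, h⟩, fun h => h.2⟩

/-- `|PSp_{2m}(F)|` is even in odd characteristic -/
theorem even_card_PSp (hm : 1 ≤ m) (h2 : (2 : F) ≠ 0) [Finite F] : 2 ∣ Nat.card (PSp m F) := by
  classical
  haveI : Nonempty (Fin m) := ⟨⟨0, hm⟩⟩
  let Js : ↥(Matrix.symplecticGroup (Fin m) F) := ⟨Matrix.J (Fin m) F, SymplecticGroup.J_mem (Fin m) F⟩
  have hJJ : Js * Js ∈ Subgroup.center ↥(Matrix.symplecticGroup (Fin m) F) := by
    rw [Subgroup.mem_center_iff]
    intro g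
    apply scalar_comm (c := (-1 : F))
    show Matrix.J (Fin m) F * Matrix.J (Fin m) F = (-1 : F) • 1
    rw [Matrix.J_squared, neg_smul, one_smul]
  have hJ1 : (QuotientGroup.mk Js : PSp m F) ≠ 1 := by
    intro h
    rw [QuotientGroup.eq_one_iff] at h
    have hent : ∀ A : Matrix (Fin m ⊕ Fin m) (Fin m ⊕ Fin m) F,
        Js.val = A → A (Sum.inl ⟨0, hm⟩) (Sum.inr ⟨0, hm⟩) = -1 := by
      intro A hA
      rw [← hA]
      show Matrix.J (Fin m) F (Sum.inl ⟨0, hm⟩) (Sum.inr ⟨0, hm⟩) = -1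
      simp [Matrix.J]
    rcases Cfsg.Agent.Helper5.center_sp_subset Js h with h' | h'
    · have := hent 1 (by rw [h']; rfl)
      rw [Matrix.one_apply_ne (by simp)] at this
      exact one_ne_zero (neg_eq_zero.1 this.symm)
    · have h'' : Js.val = -1 := by rw [h']; rfl
      have := hent (-1) h''
      rw [Matrix.neg_apply, Matrix.one_apply_ne (by simp), neg_zero] at this
      exact one_ne_zero (neg_eq_zero.1 this.symm)
  have hord : orderOf (QuotientGroup.mk Js : PSp m F) = 2 := by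
    apply orderOf_eq_prime
    · rw [pow_two, ← QuotientGroup.mk_mul, QuotientGroup.eq_one_iff]
      exact hJJ
    · exact hJ1
  rw [← hord]
  exact orderOf_dvd_natCard _

/-- the statement for standard field automorphisms, in all cases -/
theorem main_std_Sp [Fintype F] {r : ℕ} [Fact r.Prime] [CharP F r] (hm : 2 ≤ m)
    (hs : m = 2 → 3 ≤ Fintype.card F) [hK : IsSimpleGroup (PSp m F)]
    (hS : r ≠ 2 → StructSp m F)
    (hgam : ∀ n : MulAut (PSp m F),
      n (QuotientGroup.mk (sympT (e1 (show 1 ≤ m by omega)) (1 : F)) : PSp m F) =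
        QuotientGroup.mk (sympT (e1 (show 1 ≤ m by omega)) (1 : F)) → n ∈ gammaSub m F)
    {p : ℕ} (hp : p.Prime) (hpr : p ≠ r) (τ : F ≃+* F) (hτ : orderOf τ = p)
    (A : Subgroup (MulAut (PSp m F))) (hinn : Cfsg.Inn (PSp m F) ≤ A) :
    HasPPrime p (A ⊓ Subgroup.centralizer {fieldAutPSp τ}) ↔
      Nat.Coprime p (Nat.card ↥(MonoidHom.eqLocus (fieldAutPSp (m := m) τ).toMonoidHom
        (MonoidHom.id (PSp m F)))) := by
  classical
  have hm1 : 1 ≤ m := by omega
  have hperf : commutator ↥(Matrix.symplecticGroup (Fin m) F) = ⊤ := by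
    apply Cfsg.Agent.S0269.main m
    by_cases h3 : 3 ≤ m
    · exact Or.inl h3
    · have hm2 : m = 2 := by omega
      exact Or.inr (Or.inl ⟨hm2, hs hm2⟩)
  have hperfK : commutator (PSp m F) = ⊤ := commutator_quotient_eq_top _ hperf
  have hZ : Subgroup.center (PSp m F) = ⊥ := center_eq_bot_of_simple_perfect hperfK
  have : Fintype (fixK τ) := Fintype.ofFinite _
  have hι1 : ∀ y : fixK τ, τ ((fixK τ).subtype y) = (fixK τ).subtype y := fun y => y.2
  have hι2 : ∀ a, τ a = a → ∃ y : fixK τ, (fixK τ).subtype y = a := fun a ha => ⟨⟨a, ha⟩, rfl⟩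
  by_cases hr2 : r = 2
  · subst hr2
    exact main_std_Sp_two (fixK τ).subtype hm1 hZ hp hpr τ hτ hι1 hι2 hgam A hinn
  · have h2 : (2 : F) ≠ 0 := by
      intro h
      have h' : ((2 : ℕ) : F) = 0 := by exact_mod_cast h
      rw [CharP.cast_eq_zero_iff F r] at h'
      exact hr2 ((Nat.prime_dvd_prime_iff_eq Fact.out Nat.prime_two).1 h')
    have h2₀ : (2 : fixK τ) ≠ 0 := by
      intro h
      apply h2
      have := congrArg (fixK τ).subtype h
      rwa [map_ofNat, map_zero] at this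
    have hcard₀ : 3 ≤ Fintype.card (fixK τ) := by
      have h01 : (0 : fixK τ) ≠ 1 := zero_ne_one
      have h12 : (1 : fixK τ) ≠ 2 := by
        intro h
        apply h01
        have : (2 : fixK τ) - 1 = 1 := by norm_num
        rw [← h] at this
        rw [← this, sub_self]
      have h02 : (0 : fixK τ) ≠ 2 := fun h => h2₀ h.symm
      have : ({0, 1, 2} : Finset (fixK τ)).card = 3 := by
        rw [Finset.card_insert_of_notMem, Finset.card_insert_of_notMem, Finset.card_singleton]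
        · simpa using h12
        · simp only [Finset.mem_insert, Finset.mem_singleton, not_or]
          exact ⟨h01, h02⟩
      rw [← this]
      exact Finset.card_le_univ _
    have hperf₀ : commutator ↥(Matrix.symplecticGroup (Fin m) (fixK τ)) = ⊤ := by
      apply Cfsg.Agent.S0269.main m
      by_cases h3 : 3 ≤ m
      · exact Or.inl h3
      · have hm2 : m = 2 := by omega
        exact Or.inr (Or.inl ⟨hm2, hcard₀⟩)
    haveI hK₀ : IsSimpleGroup (PSp m (fixK τ)) := Cfsg.Agent.S0270.main m hm (fun _ => hcard₀)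
    exact main_std_Sp_perfect (fixK τ).subtype hm1 (hS hr2) hperf hperf₀
      (even_card_PSp hm1 h2₀) hp τ hτ hι1 hι2 A hinn

end Cfsg.Agent.Helper14.LocalBal
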