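import Mathlib
import Cfsg.Agent.Lib.Helper14.LocalBalOdd

/-!
# Local balance for `Ω_{2m+1}(q)`, `q` odd, `m ≥ 3`: the standard form
-/

set_option autoImplicit false
set_option linter.unusedSectionVars false
set_option linter.unusedSimpArgs false
set_option linter.unusedVariables false
set_option linter.style.haveILetI false

namespace Cfsg.Agent.Helper14.LocalBal

open Matrix QuadraticMap Cfsg.Agent.Helper5.OrthAut Cfsg.Agent.Helper13 Cfsg.Agent.S0794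
  Cfsg.Agent.Helper40.AutPOm Cfsg.Agent.Helper40.AutPSp Cfsg.Agent.Helper40.FixK
  Cfsg.Agent.Helper43 Subgroup

/-- `|Ω_{2m+1}(q)|` is even -/
theorem even_card_POmega_odd {F : Type*} [Field F] [Fintype F] (h2 : (2 : F) ≠ 0) {m : ℕ}
    (hm : 3 ≤ m) : 2 ∣ Nat.card (Cfsg.POmega F ⇑(stdOdd F m)) := by
  rw [coe_stdOdd]
  have hoddc : Fintype.card F % 2 = 1 := Cfsg.Agent.Lead.POmegaCard.odd_card_of_two_ne_zero h2
  have hodd : Odd (Fintype.card F) := Nat.odd_iff.2 hoddc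
  have h := Cfsg.Agent.Lead.POmegaCard.card_POmega_odd (F := F) rfl hodd m hm
  obtain ⟨t, ht⟩ := hodd
  have h4 : 4 ∣ Fintype.card F ^ (2 * (0 + 1)) - 1 := by
    refine ⟨t * (t + 1), ?_⟩
    apply Nat.sub_eq_of_eq_add
    rw [ht]
    ring
  have h5 : 4 ∣ ∏ i ∈ Finset.range m, (Fintype.card F ^ (2 * (i + 1)) - 1) :=
    dvd_trans h4 (Finset.dvd_prod_of_mem _ (Finset.mem_range.2 (by omega)))
  have h6 : 4 ∣ 2 * Nat.card (Cfsg.POmega F (Cfsg.quadFormOdd m F)) := by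
    rw [h]
    exact Dvd.dvd.mul_left h5 _
  omega

/-- local balance for the odd-dimensional orthogonal groups -/
theorem local_balance_stdOdd {F : Type*} [Field F] [Fintype F] (hodd : Odd (Fintype.card F))
    {m : ℕ} (hm : 3 ≤ m) (Qf : (Unit ⊕ (Fin m ⊕ Fin m) → F) → F) (hQ : ⇑(stdOdd F m) = Qf)
    (hQA : ∀ σ : F ≃+* F, σ ∈ QAut Qf) (hgam : Cfsg.gammaPOmega F Qf = ⊤)
    (hK : IsSimpleGroup (Cfsg.POmega F Qf)) (A : Subgroup (MulAut (Cfsg.POmega F Qf)))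
    (hinn : ∀ k : Cfsg.POmega F Qf, MulAut.conj k ∈ A) {p : ℕ} (hp : p.Prime)
    (x : MulAut (Cfsg.POmega F Qf)) (hord : orderOf x = p)
    (hnot : ¬ Cfsg.IsSimilarityInducedAutPOmega Qf x) :
    Cfsg.pPrimeCore p ↥(A ⊓ Subgroup.centralizer {x}) ≠ ⊥ ↔
      (Cfsg.IsFieldAutClassPOmega Qf x ∧
        Nat.Coprime p (Nat.card ↥(MonoidHom.eqLocus x.toMonoidHom
          (MonoidHom.id (Cfsg.POmega F Qf))))) := by
  classical
  subst hQ
  have h2 := Cfsg.Agent.Helper5.OrthAut.two_ne_zero_of_odd_card hodd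
  have hcard : Fintype.card (Unit ⊕ (Fin m ⊕ Fin m)) = 2 * m + 1 := by
    simp; ring
  have hfam := stdOdd_isHypFamily F m
  have hnd := stdOdd_nondegenerate F m h2
  have hperf := hperf_of_hyp (stdOdd F m) hnd _ _ hfam hm (by rw [hcard]; omega)
  have hcent := hcent_of_hyp (stdOdd F m) hfam hm (Cfsg.Agent.Lead.POmegaCard.hspan_odd m)
  have hidx := Cfsg.Agent.Lead.POmegaCard.index_omega_odd h2 (stdOdd F m) hnd
    (by rw [hcard]; omega)
  have D := rigData_odd h2 hm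
  have hS := (gamma_eq_top_iff (⇑(stdOdd F m)) hQA).1 hgam
  obtain ⟨v, hv⟩ := hrep_of_hyp (stdOdd F m) hfam (by omega) 1
  have hv' : (stdOdd F m) v ≠ 0 := by rw [hv]; exact one_ne_zero
  refine local_balance_of_std (stdOdd F m) hQA hperf hcent D h2 ⟨m, hcard⟩ hnd hS hp ?_ A hinn x
    hord hnot
  intro τ hτ A' hinn'
  -- the fixed field
  have : Fintype (fixK τ) := Fintype.ofFinite _
  have hι1 : ∀ y : fixK τ, τ ((fixK τ).subtype y) = (fixK τ).subtype y := fun y => y.2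
  have hι2 : ∀ a, τ a = a → ∃ y : fixK τ, (fixK τ).subtype y = a := fun a ha => ⟨⟨a, ha⟩, rfl⟩
  have h2₀ : (2 : fixK τ) ≠ 0 := two_ne_zero_of_emb (fixK τ).subtype h2
  have hfam₀ := stdOdd_isHypFamily (fixK τ) m
  have hnd₀ := stdOdd_nondegenerate (fixK τ) m h2₀
  have hperf₀ := hperf_of_hyp (stdOdd (fixK τ) m) hnd₀ _ _ hfam₀ hm (by rw [hcard]; omega)
  have hcent₀ := hcent_of_hyp (stdOdd (fixK τ) m) hfam₀ hm
    (Cfsg.Agent.Lead.POmegaCard.hspan_odd m)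
  have hidx₀ := Cfsg.Agent.Lead.POmegaCard.index_omega_odd h2₀ (stdOdd (fixK τ) m) hnd₀
    (by rw [hcard]; omega)
  obtain ⟨v₀, hv₀⟩ := hrep_of_hyp (stdOdd (fixK τ) m) hfam₀ (by omega) 1
  have hv₀' : (stdOdd (fixK τ) m) v₀ ≠ 0 := by rw [hv₀]; exact one_ne_zero
  haveI hK₀ : IsSimpleGroup (Cfsg.POmega (fixK τ) ⇑(stdOdd (fixK τ) m)) :=
    pomega_simple (stdOdd (fixK τ) m) hnd₀ _ _ hfam₀ hm (by rw [hcard]; omega)
  haveI := hK
  exact main_std (Q₀ := stdOdd (fixK τ) m) (Q := stdOdd F m) (isBC_stdOdd m (fixK τ).subtype) h2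
    hQA hperf hcent D hS hnd hnd₀ hperf₀ hcent₀ m hcard hidx hidx₀ v hv' v₀ hv₀'
    (even_card_POmega_odd h2₀ hm) hp τ hτ hι1 hι2 A' hinn'

end Cfsg.Agent.Helper14.LocalBal
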