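import Mathlib
import Cfsg.Agent.Lib.Helper14.AntiComm
import Cfsg.Agent.Lib.Helper14.QuadNF

set_option autoImplicit false
set_option linter.unusedSectionVars false

/-!
# Determinants of operators with scalar square

* `det_of_isCompl`: an operator acting as the scalar `a` on `U` and `b` on a complement `U'`.
* `det_of_invol`: `det s = (-1) ^ dim (eig s (-1))` for an involution `s`.
* `det_of_sq_nonsquare`: `det x = (-lam) ^ k` when `x ∘ x = lam` with `lam` a nonsquare and
  `dim = 2 k`.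
-/

namespace Cfsg.Agent.Helper14.MinusGraphDet

open Module Cfsg.Agent.Helper14.AntiComm Cfsg.Agent.Helper14.QuadNF

section det

variable {K : Type*} [Field K] {W : Type*} [AddCommGroup W] [Module K W] [FiniteDimensional K W]

theorem det_of_isCompl (U U' : Submodule K W) (h : IsCompl U U') (f : Module.End K W) (a b : K)
    (hU : ∀ u ∈ U, f u = a • u) (hU' : ∀ u ∈ U', f u = b • u) :
    LinearMap.det f = a ^ finrank K U * b ^ finrank K U' := by
  have hconj : f = ((Submodule.prodEquivOfIsCompl U U' h : (U × U') ≃ₗ[K] W) : (U × U') →ₗ[K] W) ∘ₗ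
      ((a • (LinearMap.id : U →ₗ[K] U)).prodMap (b • (LinearMap.id : U' →ₗ[K] U'))) ∘ₗ
      (((Submodule.prodEquivOfIsCompl U U' h).symm : W ≃ₗ[K] (U × U')) : W →ₗ[K] (U × U')) := by
    apply LinearMap.ext
    intro w
    obtain ⟨p, rfl⟩ := (Submodule.prodEquivOfIsCompl U U' h).surjective w
    rw [LinearMap.comp_apply, LinearMap.comp_apply, LinearEquiv.coe_coe, LinearEquiv.coe_coe,
      LinearEquiv.symm_apply_apply, Submodule.coe_prodEquivOfIsCompl',
      Submodule.coe_prodEquivOfIsCompl', map_add, hU _ p.1.2, hU' _ p.2.2]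
    simp
  rw [hconj, LinearMap.det_conj, LinearMap.det_prodMap, LinearMap.det_smul, LinearMap.det_smul,
    LinearMap.det_id, LinearMap.det_id, mul_one, mul_one]

theorem det_of_invol (h2 : (2 : K) ≠ 0) (s : Module.End K W) (hs : ∀ v, s (s v) = v) :
    LinearMap.det s = (-1) ^ finrank K (eig s (-1)) := by
  have hc := isCompl_eig h2 s 1 one_ne_zero (by intro v; rw [hs, mul_one, one_smul])
  have := det_of_isCompl (eig s 1) (eig s (-1)) hc s 1 (-1)
    (fun u hu => (mem_eig s 1 u).1 hu) (fun u hu => (mem_eig s (-1) u).1 hu)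
  rw [this, one_pow, one_mul]

end det

section nonsq

variable {F : Type*} [Field F]

theorem det_swap (h2 : (2 : F) ≠ 0) (ι : Type) [Fintype ι] :
    LinearMap.det ((LinearEquiv.prodComm F (ι → F) (ι → F) :
      ((ι → F) × (ι → F)) ≃ₗ[F] ((ι → F) × (ι → F))) :
        ((ι → F) × (ι → F)) →ₗ[F] ((ι → F) × (ι → F))) = (-1) ^ Fintype.card ι := by
  set sw : Module.End F ((ι → F) × (ι → F)) :=
    ((LinearEquiv.prodComm F (ι → F) (ι → F) :
      ((ι → F) × (ι → F)) ≃ₗ[F] ((ι → F) × (ι → F))) :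
        ((ι → F) × (ι → F)) →ₗ[F] ((ι → F) × (ι → F))) with hsw
  have hsw2 : ∀ v, sw (sw v) = v := by
    intro v
    rfl
  set y : Module.End F ((ι → F) × (ι → F)) :=
    (LinearMap.id : (ι → F) →ₗ[F] (ι → F)).prodMap (-(LinearMap.id : (ι → F) →ₗ[F] (ι → F)))
    with hy
  have hanti : ∀ v, sw (y v) = -(y (sw v)) := by
    intro v
    apply Prod.ext
    · show -(v.2) = -(v.2)
      rfl
    · show v.1 = - -(v.1)
      rw [neg_neg]
  have hyinj : Function.Injective y := by
    intro v w hvw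
    have h1 : (y v).1 = (y w).1 := congrArg Prod.fst hvw
    have h3 : (y v).2 = (y w).2 := congrArg Prod.snd hvw
    have h1 : v.1 = w.1 := h1
    have h3 : -(v.2) = -(w.2) := h3
    exact Prod.ext h1 (neg_injective h3)
  have hfr := finrank_eq_two_mul h2 sw y (-1) (by simp)
    (by intro v; rw [hsw2]; simp) hanti hyinj
  rw [Module.finrank_prod, Module.finrank_fintype_fun_eq_card] at hfr
  rw [det_of_invol h2 sw hsw2]
  congr 1
  omega

theorem det_cyc (h2 : (2 : F) ≠ 0) (lam : F) (ι : Type) [Fintype ι] :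
    LinearMap.det (cyc 0 lam ι) = (-lam) ^ Fintype.card ι := by
  have hdecomp : cyc 0 lam ι =
      ((lam • (LinearMap.id : (ι → F) →ₗ[F] (ι → F))).prodMap
        (LinearMap.id : (ι → F) →ₗ[F] (ι → F))) ∘ₗ
      ((LinearEquiv.prodComm F (ι → F) (ι → F) :
        ((ι → F) × (ι → F)) ≃ₗ[F] ((ι → F) × (ι → F))) :
          ((ι → F) × (ι → F)) →ₗ[F] ((ι → F) × (ι → F))) := by
    apply LinearMap.ext
    intro v
    rw [cyc_apply, LinearMap.comp_apply]
    apply Prod.ext
    · rfl
    · show v.1 + (0 : F) • v.2 = v.1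
      rw [zero_smul, add_zero]
  rw [hdecomp, LinearMap.det_comp, det_swap h2, LinearMap.det_prodMap, LinearMap.det_smul,
    LinearMap.det_id, mul_one, mul_one, Module.finrank_fintype_fun_eq_card, ← mul_pow]
  congr 1
  ring

theorem det_of_sq_nonsquare {V : Type*} [AddCommGroup V] [Module F V] [FiniteDimensional F V]
    (h2 : (2 : F) ≠ 0) (lam : F) (hlam : ¬ IsSquare lam) (x : V →ₗ[F] V)
    (hx : ∀ v, x (x v) = lam • v) (k : ℕ) (hk : finrank F V = 2 * k) :
    LinearMap.det x = (-lam) ^ k := by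
  obtain ⟨ι, _, e, hfr, he⟩ := exists_nf_rootless (0 : F) lam
    (by
      intro c hc
      apply hlam
      exact ⟨c, by rw [hc]; ring⟩) x
    (by intro v; rw [hx, zero_smul, zero_add])
  have hconj : x = ((e.symm : ((ι → F) × (ι → F)) ≃ₗ[F] V) : ((ι → F) × (ι → F)) →ₗ[F] V) ∘ₗ
      (cyc 0 lam ι) ∘ₗ ((e.symm.symm : V ≃ₗ[F] ((ι → F) × (ι → F))) :
        V →ₗ[F] ((ι → F) × (ι → F))) := by
    apply LinearMap.ext
    intro v
    rw [LinearMap.comp_apply, LinearMap.comp_apply, LinearEquiv.coe_coe, LinearEquiv.coe_coe,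
      LinearEquiv.symm_symm, ← he, LinearEquiv.symm_apply_apply]
  rw [hconj, LinearMap.det_conj, det_cyc h2]
  congr 1
  omega

end nonsq

end Cfsg.Agent.Helper14.MinusGraphDet
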