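import Mathlib
import Cfsg.Agent.Lib.Helper43.OGam3
import Cfsg.Agent.Lib.Helper43.OrthMinus
import Cfsg.Agent.Lib.Helper43.GramDet
import Cfsg.Agent.Lib.Helper14.OrthAutCount

set_option autoImplicit false
set_option linter.unusedSectionVars false

/-!
# Semisimilarities of the minus-type form whose square is a scalar are linear

If `L` is a `σ`-semilinear semisimilarity of a nondegenerate quadratic form in even dimension over a
finite field of odd characteristic with `L ∘ L` a scalar and `σ ∘ σ = 1`, `σ ≠ 1`, then the Gram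
determinant is a square.  For the minus-type form this is impossible, so involutions of
`PΓO⁻` lie in `PGO⁻`.
-/

namespace Cfsg.Agent.Helper14.MinusSigma

open Matrix QuadraticMap Cfsg.Agent.Helper43 Cfsg.Agent.Helper5.OrthAut
open Cfsg.Agent.Helper43.OGam Cfsg.Agent.Helper16.OSemiAut

section field

variable {F : Type*} [Field F]

/-- the fixed subfield of a field automorphism -/
def fixSub (σ : F ≃+* F) : Subfield F where
  carrier := {x | σ x = x}
  mul_mem' := by
    intro x y hx hy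
    show σ (x * y) = x * y
    rw [map_mul, hx, hy]
  one_mem' := map_one σ
  add_mem' := by
    intro x y hx hy
    show σ (x + y) = x + y
    rw [map_add, hx, hy]
  zero_mem' := map_zero σ
  neg_mem' := by
    intro x hx
    show σ (-x) = -x
    rw [map_neg, hx]
  inv_mem' := by
    intro x hx
    show σ x⁻¹ = x⁻¹
    rw [map_inv₀, hx]

theorem mem_fixSub (σ : F ≃+* F) (x : F) : x ∈ fixSub σ ↔ σ x = x := Iff.rfl

theorem isSquare_mul_of_not' {K : Type*} [Field K] [Fintype K] {x y : K} (hx : ¬ IsSquare x)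
    (hy : ¬ IsSquare y) : IsSquare (x * y) := by
  classical
  have hx0 : x ≠ 0 := by
    rintro rfl
    exact hx ⟨0, by simp⟩
  have hy0 : y ≠ 0 := by
    rintro rfl
    exact hy ⟨0, by simp⟩
  rw [← quadraticChar_one_iff_isSquare (mul_ne_zero hx0 hy0), map_mul,
    quadraticChar_neg_one_iff_not_isSquare.mpr hx, quadraticChar_neg_one_iff_not_isSquare.mpr hy]
  norm_num

variable [Finite F]

/-- elements fixed by an involutory field automorphism are squares -/
theorem isSquare_of_fixed (h2 : (2 : F) ≠ 0) (σ : F ≃+* F) (hσ2 : ∀ c, σ (σ c) = c) (z : F)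
    (hz : σ z ≠ z) (E : F) (hE : σ E = E) : IsSquare E := by
  classical
  have : Fintype ↥(fixSub σ) := Fintype.ofFinite _
  set θ : F := z - σ z with hθ
  have hθσ : σ θ = -θ := by rw [hθ, map_sub, hσ2]; ring
  have hθ0 : θ ≠ 0 := by
    rw [hθ]
    intro h
    exact hz (sub_eq_zero.1 h).symm
  have hθθ : θ * θ ∈ fixSub σ := by
    rw [mem_fixSub, map_mul, hθσ]; ring
  have hn0 : ¬ IsSquare (⟨θ * θ, hθθ⟩ : ↥(fixSub σ)) := by
    rintro ⟨c, hc⟩
    have hc' : θ * θ = (c : F) * (c : F) := by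
      have := congrArg Subtype.val hc
      simpa using this
    have hcσ : σ (c : F) = (c : F) := c.2
    have : (θ - c) * (θ + c) = 0 := by linear_combination hc'
    rcases mul_eq_zero.1 this with h | h
    · have hθc : θ = c := sub_eq_zero.1 h
      have : σ θ = θ := by rw [hθc]; exact hcσ
      rw [hθσ] at this
      apply hθ0
      have h3 : (2 : F) * θ = 0 := by linear_combination -this
      exact (mul_eq_zero.1 h3).resolve_left h2
    · have hθc : θ = -c := by linear_combination h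
      have : σ θ = θ := by rw [hθc, map_neg, hcσ]
      rw [hθσ] at this
      apply hθ0
      have h3 : (2 : F) * θ = 0 := by linear_combination -this
      exact (mul_eq_zero.1 h3).resolve_left h2
  by_cases hsq : IsSquare (⟨E, hE⟩ : ↥(fixSub σ))
  · obtain ⟨c, hc⟩ := hsq
    refine ⟨(c : F), ?_⟩
    have := congrArg Subtype.val hc
    simpa using this
  · obtain ⟨c, hc⟩ := isSquare_mul_of_not' hsq hn0
    have hc' : E * (θ * θ) = (c : F) * (c : F) := by
      have := congrArg Subtype.val hc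
      simpa using this
    refine ⟨(c : F) / θ, ?_⟩
    field_simp
    linear_combination hc'

/-- Hilbert 90 for an involutory automorphism of a finite field of odd characteristic -/
theorem exists_h90 (σ : F ≃+* F) (hσ2 : ∀ c, σ (σ c) = c) (z : F)
    (hz : σ z ≠ z) (d : F) (hd : d * σ d = 1) : ∃ t : F, t ≠ 0 ∧ d * t = σ t := by
  by_cases hd1 : d = -1
  · refine ⟨z - σ z, ?_, ?_⟩
    · intro h
      exact hz (sub_eq_zero.1 h).symm
    · rw [hd1, map_sub, hσ2]; ring
  · refine ⟨1 + σ d, ?_, ?_⟩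
    · intro h
      apply hd1
      have h1 : σ d = -1 := by linear_combination h
      have h3 := congrArg σ h1
      rw [hσ2, map_neg, map_one] at h3
      exact h3
    · rw [map_add, map_one, hσ2]
      linear_combination hd

theorem isSquare_of_twisted (h2 : (2 : F) ≠ 0) (σ : F ≃+* F) (hσ2 : ∀ c, σ (σ c) = c) (z : F)
    (hz : σ z ≠ z) (d D : F) (hd : d * σ d = 1) (hD : d ^ 2 * D = σ D) : IsSquare D := by
  obtain ⟨t, ht0, ht⟩ := exists_h90 σ hσ2 z hz d hd
  have hd0 : d ≠ 0 := by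
    rintro rfl
    rw [zero_mul] at hd
    exact zero_ne_one hd
  have hE : σ (D / t ^ 2) = D / t ^ 2 := by
    rw [map_div₀, map_pow, ← ht, ← hD]
    field_simp
  obtain ⟨c, hc⟩ := isSquare_of_fixed h2 σ hσ2 z hz _ hE
  refine ⟨c * t, ?_⟩
  field_simp at hc
  linear_combination hc

end field

section gramsemi

variable {F : Type*} [Field F] {ι : Type} [Fintype ι] [DecidableEq ι]
  (Q : QuadraticForm F (ι → F))

theorem colMat_mulVec_single (L : (ι → F) → (ι → F)) (j : ι) :
    colMat L *ᵥ (Pi.single j 1) = L (Pi.single j 1) := by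
  funext i
  rw [Matrix.mulVec_single_one]
  rfl

theorem polar_semi (σ : F ≃+* F) (L : (ι → F) ≃+ (ι → F)) (μ : F)
    (hμ : ∀ x, Q (L x) = μ * σ (Q x)) (u v : ι → F) :
    polar (⇑Q) (L u) (L v) = μ * σ (polar (⇑Q) u v) := by
  unfold polar
  rw [← map_add, hμ, hμ, hμ, map_sub, map_sub]
  ring

theorem gram_apply (i j : ι) : gram Q i j = polar (⇑Q) (Pi.single i 1) (Pi.single j 1) := by
  rw [Cfsg.Agent.Helper5.OrthAut.gram, LinearMap.BilinForm.toMatrix'_apply,
    polarBilin_apply_apply]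

theorem gram_semi (σ : F ≃+* F) (L : (ι → F) ≃+ (ι → F)) (μ : F)
    (hμ : ∀ x, Q (L x) = μ * σ (Q x)) :
    (colMat (⇑L))ᵀ * gram Q * colMat (⇑L) = μ • (gram Q).map σ := by
  ext i j
  have key : (Pi.single i 1 : ι → F) ⬝ᵥ (((colMat (⇑L))ᵀ * gram Q * colMat (⇑L)) *ᵥ
      (Pi.single j 1)) = polar (⇑Q) (colMat (⇑L) *ᵥ (Pi.single i 1))
        (colMat (⇑L) *ᵥ (Pi.single j 1)) := by
    rw [polar_eq_gram, ← Matrix.mulVec_mulVec, ← Matrix.mulVec_mulVec, Matrix.dotProduct_mulVec,
      Matrix.vecMul_transpose]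
  rw [colMat_mulVec_single, colMat_mulVec_single, polar_semi Q σ L μ hμ] at key
  rw [Matrix.smul_apply, Matrix.map_apply, gram_apply, smul_eq_mul, ← key]
  simp

theorem det_semi (σ : F ≃+* F) (L : (ι → F) ≃+ (ι → F)) (μ : F)
    (hμ : ∀ x, Q (L x) = μ * σ (Q x)) :
    (colMat (⇑L)).det ^ 2 * (gram Q).det = μ ^ Fintype.card ι * σ (gram Q).det := by
  have h := congrArg Matrix.det (gram_semi Q σ L μ hμ)
  rw [Matrix.det_mul, Matrix.det_mul, Matrix.det_transpose, Matrix.det_smul] at h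
  have hmap : ((gram Q).map σ).det = σ (gram Q).det := by
    have := (σ : F →+* F).map_det (gram Q)
    rw [RingHom.mapMatrix_apply] at this
    exact this.symm
  rw [hmap] at h
  linear_combination h

theorem colMat_sq (σ : F ≃+* F) (hσ2 : ∀ c, σ (σ c) = c) (L : (ι → F) ≃+ (ι → F))
    (hL : ∀ (c : F) (x : ι → F), L (c • x) = σ c • L x) (a₀ : F)
    (hLL : ∀ x, L (L x) = a₀ • x) :
    colMat (⇑L) * (colMat (⇑L)).map σ = a₀ • (1 : Matrix ι ι F) := by
  apply Matrix.mulVec_injective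
  funext x
  rw [Matrix.smul_mulVec, Matrix.one_mulVec, ← hLL x, ← colMat_mulVec σ L hL (L x),
    ← colMat_mulVec σ L hL x, ← Matrix.mulVec_mulVec]
  congr 1
  rw [← map_mulVec_sigma]
  congr 1
  funext i
  simp [hσ2]

theorem det_sq_semi (σ : F ≃+* F) (hσ2 : ∀ c, σ (σ c) = c) (L : (ι → F) ≃+ (ι → F))
    (hL : ∀ (c : F) (x : ι → F), L (c • x) = σ c • L x) (a₀ : F)
    (hLL : ∀ x, L (L x) = a₀ • x) :
    (colMat (⇑L)).det * σ (colMat (⇑L)).det = a₀ ^ Fintype.card ι := by
  have h := congrArg Matrix.det (colMat_sq σ hσ2 L hL a₀ hLL)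
  rw [Matrix.det_mul, Matrix.det_smul, Matrix.det_one, mul_one] at h
  have hmap : ((colMat (⇑L)).map σ).det = σ (colMat (⇑L)).det := by
    have := (σ : F →+* F).map_det (colMat (⇑L))
    rw [RingHom.mapMatrix_apply] at this
    exact this.symm
  rw [hmap] at h
  exact h

variable [Finite F]

/-- the Gram determinant is a square if there is a properly semilinear semisimilarity whose square
is a scalar -/
theorem isSquare_gram_det (h2 : (2 : F) ≠ 0) (k : ℕ)
    (hcard : Fintype.card ι = 2 * k) (hQ0 : ∃ v : ι → F, Q v ≠ 0)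
    (σ : F ≃+* F) (hσ2 : ∀ c, σ (σ c) = c) (z : F) (hz : σ z ≠ z)
    (L : (ι → F) ≃+ (ι → F)) (hL : ∀ (c : F) (x : ι → F), L (c • x) = σ c • L x)
    (μ : F) (hμ0 : μ ≠ 0) (hμ : ∀ x, Q (L x) = μ * σ (Q x)) (a₀ : F)
    (hLL : ∀ x, L (L x) = a₀ • x) : IsSquare (gram Q).det := by
  obtain ⟨v, hv⟩ := hQ0
  have hμμ : μ * σ μ = a₀ ^ 2 := by
    have h1 : Q (L (L v)) = μ * σ (μ * σ (Q v)) := by rw [hμ, hμ]
    rw [hLL, QuadraticMap.map_smul, smul_eq_mul, map_mul, hσ2] at h1
    apply mul_right_cancel₀ hv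
    linear_combination -h1
  have h1 := det_semi Q σ L μ hμ
  have h3 := det_sq_semi σ hσ2 L hL a₀ hLL
  rw [hcard] at h1 h3
  have hμk : μ ^ k ≠ 0 := pow_ne_zero _ hμ0
  have hσμk : σ (μ ^ k) ≠ 0 := by
    rw [Ne, map_eq_zero]; exact hμk
  apply isSquare_of_twisted h2 σ hσ2 z hz ((colMat (⇑L)).det / μ ^ k) (gram Q).det
  · rw [map_div₀]
    field_simp
    rw [h3, map_pow, ← mul_pow, hμμ, ← pow_mul]
  · field_simp
    rw [h1]
    ring

end gramsemi

section minus

variable {F : Type*} [Field F]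

theorem gram_stdMinus (m : ℕ) (a b : F) :
    gram (stdMinus F m a b) =
      Matrix.fromBlocks (Matrix.fromBlocks (0 : Matrix (Fin m) (Fin m) F) 1 1 0) 0 0
        !![2, a; a, 2 * b] := by
  ext i j
  rw [gram_apply, polar_stdMinus]
  rcases i with (i | i) | i <;> rcases j with (j | j) | j
  all_goals simp [Pi.single_apply, Matrix.one_apply]
  · simp only [eq_comm]
  · fin_cases i <;> fin_cases j <;> simp

theorem gram_stdMinus_det (m : ℕ) (a b : F) :
    (gram (stdMinus F m a b)).det = (-1) ^ m * (4 * b - a ^ 2) := by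
  rw [gram_stdMinus, Matrix.det_fromBlocks_zero₂₁, det_swap_blocks, Matrix.det_fin_two_of]
  ring

variable [Fintype F]

/-- generic version: a semisimilarity whose square induces the identity is linear provided the Gram
determinant is not a square whenever `-1` is -/
theorem mem_Lin_of_sq_aux {ι : Type} [Fintype ι] [DecidableEq ι] (Q : QuadraticForm F (ι → F))
    (h2 : (2 : F) ≠ 0) (hnd : (polarBilin Q).Nondegenerate) {k' : ℕ}
    (e f : Fin k' → (ι → F)) (hfam : IsHypFamily Q e f) (hk : 3 ≤ k') (k : ℕ)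
    (hcard : Fintype.card ι = 2 * k) (h5 : 5 ≤ Fintype.card ι) (hQ0 : ∃ v : ι → F, Q v ≠ 0)
    (hdisc : IsSquare (-1 : F) → ¬ IsSquare (gram Q).det)
    (L : GamO ⇑Q) (hLL : Theta ⇑Q (L * L) = 1) : L ∈ Lin ⇑Q := by
  classical
  have hσ : ∀ (c : F) (x : ι → F),
      (L : Equiv.Perm _) (c • x) = sig ⇑Q L c • (L : Equiv.Perm _) x := sig_spec ⇑Q L
  have hσLL : ∀ (c : F) (x : ι → F),
      ((L * L : GamO ⇑Q) : Equiv.Perm _) (c • x) =
        ((sig ⇑Q L).trans (sig ⇑Q L)) c • ((L * L : GamO ⇑Q) : Equiv.Perm _) x := by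
    intro c x
    rw [Subgroup.coe_mul, Equiv.Perm.mul_apply, Equiv.Perm.mul_apply, hσ, hσ]
    rfl
  obtain ⟨⟨a₀, ha₀, hall⟩, hσσ⟩ := rigid Q hnd e f hfam hk h5
    (L * L) hLL ((sig ⇑Q L).trans (sig ⇑Q L)) hσLL
  have hσ2 : ∀ c, sig ⇑Q L (sig ⇑Q L c) = c := hσσ
  have hLLx : ∀ x, toAdd ⇑Q L (toAdd ⇑Q L x) = a₀ • x := by
    intro x
    have := hall x
    rw [Subgroup.coe_mul, Equiv.Perm.mul_apply] at this
    exact this
  rw [mem_Lin]
  by_contra hcon
  have hz : ∃ z, sig ⇑Q L z ≠ z := by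
    by_contra hno
    push Not at hno
    apply hcon
    intro c x
    have := hσ c x
    rw [hno] at this
    exact this
  obtain ⟨z, hz⟩ := hz
  have hsq := isSquare_gram_det Q h2 k hcard hQ0 (sig ⇑Q L) hσ2 z hz (toAdd ⇑Q L)
    (sig_spec ⇑Q L) (mu ⇑Q L : F) (Units.ne_zero _) (mu_spec ⇑Q L) a₀ hLLx
  have hneg : IsSquare (-1 : F) :=
    isSquare_of_fixed h2 (sig ⇑Q L) hσ2 z hz (-1) (by rw [map_neg, map_one])
  exact hdisc hneg hsq

/-- a semisimilarity of the minus-type form whose square induces the identity is linear -/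
theorem mem_Lin_of_sq (hodd : Odd (Fintype.card F)) {m : ℕ} (hm : 3 ≤ m) (a b : F)
    (hab : ∀ z₁ z₂ : F, z₁ ^ 2 + a * z₁ * z₂ + b * z₂ ^ 2 = 0 → z₁ = 0 ∧ z₂ = 0)
    (L : GamO ⇑(stdMinus F m a b)) (hLL : Theta ⇑(stdMinus F m a b) (L * L) = 1) :
    L ∈ Lin ⇑(stdMinus F m a b) := by
  classical
  have h2 := two_ne_zero_of_odd_card hodd
  have hab' : AnisoPair a b := hab
  have hfam := stdMinus_isHypFamily F m a b
  have hnd := stdMinus_nondegenerate (F := F) m hab'
  have hcard : Fintype.card ((Fin m ⊕ Fin m) ⊕ Fin 2) = 2 * (m + 1) := by simp; ring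
  have hQ0 := hQ0_of_hyp (stdMinus F m a b) hfam (by omega)
  refine mem_Lin_of_sq_aux (stdMinus F m a b) h2 hnd _ _ hfam (by omega) (m + 1) hcard
    (by rw [hcard]; omega) hQ0 ?_ L hLL
  intro hneg hsq
  rw [gram_stdMinus_det] at hsq
  apply hab'.disc_ne_zero h2
  have h3 : a ^ 2 - 4 * b = (-1) ^ (m + 1) * ((-1) ^ m * (4 * b - a ^ 2)) := by
    rw [← mul_assoc, ← pow_add]
    have : (-1 : F) ^ (m + 1 + m) = -1 := by
      rw [show m + 1 + m = 2 * m + 1 by ring, pow_succ, pow_mul]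
      simp
    rw [this]; ring
  rw [h3]
  exact (hneg.pow (m + 1)).mul hsq

end minus

end Cfsg.Agent.Helper14.MinusSigma
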