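import Mathlib
import Cfsg.Agent.Lib.Helper43.POmSplitMain
import Cfsg.Agent.Lib.Helper5.OrthLag12
import Cfsg.Agent.Lib.Helper14.MinusSigma
import Cfsg.Agent.Lib.Helper14.MinusGraphDet

set_option autoImplicit false
set_option linter.unusedSectionVars false

/-!
# Class splitting of involutory graph automorphisms of `PΩ⁻_{2m+2}(q)`, `q` odd
-/

namespace Cfsg.Agent.Helper14.MinusGraphSplit

open Module Matrix QuadraticMap Cfsg.Agent.Helper43 Cfsg.Agent.Helper5.OrthAut
open Cfsg.Agent.Helper14.AntiComm Cfsg.Agent.Helper14.MinusGraphDet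

section core

variable {F : Type*} [Field F] {ι : Type} [Fintype ι] [DecidableEq ι]
  (Q : QuadraticForm F (ι → F))

theorem polar_of_sim (M : Matrix ι ι F) (c : F) (hM : ∀ v, Q (M *ᵥ v) = c * Q v)
    (u v : ι → F) : polar (⇑Q) (M *ᵥ u) (M *ᵥ v) = c * polar (⇑Q) u v := by
  unfold polar
  rw [← Matrix.mulVec_add, hM, hM, hM]
  ring

theorem gram_of_sim (M : Matrix ι ι F) (c : F) (hM : ∀ v, Q (M *ᵥ v) = c * Q v) :
    Mᵀ * gram Q * M = c • gram Q := by
  have key : ∀ u v : ι → F, u ⬝ᵥ ((Mᵀ * gram Q * M) *ᵥ v) =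
      u ⬝ᵥ ((c • gram Q) *ᵥ v) := by
    intro u v
    have h1 := polar_of_sim Q M c hM u v
    rw [polar_eq_gram, polar_eq_gram] at h1
    rw [Matrix.smul_mulVec, dotProduct_smul, smul_eq_mul, ← h1,
      ← Matrix.mulVec_mulVec, ← Matrix.mulVec_mulVec, Matrix.dotProduct_mulVec,
      Matrix.vecMul_transpose]
  ext i j
  have := key (Pi.single i 1) (Pi.single j 1)
  simpa using this

/-- a similarity commuting with an isometric involution of determinant `-1` has square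
multiplier -/
theorem isSquare_of_commuting_invol (h2 : (2 : F) ≠ 0) (hQ : (polarBilin Q).Nondegenerate)
    (S H : Matrix ι ι F) (ν : F) (hν : ν ≠ 0) (hSS : S * S = 1)
    (hSQ : ∀ v, Q (S *ᵥ v) = Q v) (hdetS : S.det = -1)
    (hHQ : ∀ v, Q (H *ᵥ v) = ν * Q v) (hHS : H * S = S * H) : IsSquare ν := by
  set J := gram Q with hJ
  have hJ0 : J.det ≠ 0 := gram_det_ne_zero Q hQ
  have hSJ1 : Sᵀ * J * S = J := by
    have := gram_of_sim Q S 1 (by intro v; rw [hSQ, one_mul])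
    rw [one_smul] at this
    exact this
  have hSJ : Sᵀ * J = J * S := by
    calc Sᵀ * J = Sᵀ * J * (S * S) := by rw [hSS, Matrix.mul_one]
      _ = (Sᵀ * J * S) * S := by rw [Matrix.mul_assoc, Matrix.mul_assoc, Matrix.mul_assoc]
      _ = J * S := by rw [hSJ1]
  have hHJ : Hᵀ * J * H = ν • J := gram_of_sim Q H ν hHQ
  set Pm : Matrix ι ι F := (2⁻¹ : F) • (1 - S) with hPm
  set Pp : Matrix ι ι F := (2⁻¹ : F) • (1 + S) with hPp
  have h4 : (2⁻¹ : F) * 2⁻¹ * 2 = 2⁻¹ := by field_simp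
  have hPmm : Pm * Pm = Pm := by
    rw [hPm, Matrix.smul_mul, Matrix.mul_smul, smul_smul]
    have : (1 - S) * (1 - S) = (2 : F) • (1 - S) := by
      rw [sub_mul, mul_sub, mul_sub, Matrix.one_mul, Matrix.one_mul, Matrix.mul_one, hSS,
        two_smul]
      abel
    rw [this, smul_smul, h4]
  have hPpp : Pp * Pp = Pp := by
    rw [hPp, Matrix.smul_mul, Matrix.mul_smul, smul_smul]
    have : (1 + S) * (1 + S) = (2 : F) • (1 + S) := by
      rw [add_mul, mul_add, mul_add, Matrix.one_mul, Matrix.one_mul, Matrix.mul_one, hSS,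
        two_smul]
      abel
    rw [this, smul_smul, h4]
  have hPmp : Pm * Pp = 0 := by
    rw [hPm, hPp, Matrix.smul_mul, Matrix.mul_smul, smul_smul]
    have : (1 - S) * (1 + S) = 0 := by
      rw [sub_mul, mul_add, mul_add, Matrix.one_mul, Matrix.one_mul, Matrix.mul_one, hSS]
      abel
    rw [this, smul_zero]
  have hPpm : Pp * Pm = 0 := by
    rw [hPm, hPp, Matrix.smul_mul, Matrix.mul_smul, smul_smul]
    have : (1 + S) * (1 - S) = 0 := by
      rw [add_mul, mul_sub, mul_sub, Matrix.one_mul, Matrix.one_mul, Matrix.mul_one, hSS]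
      abel
    rw [this, smul_zero]
  have hPmJ : Pmᵀ * J = J * Pm := by
    rw [hPm, Matrix.transpose_smul, Matrix.transpose_sub, Matrix.transpose_one, Matrix.smul_mul,
      Matrix.mul_smul, sub_mul, mul_sub, Matrix.one_mul, Matrix.mul_one, hSJ]
  have hPpJ : Ppᵀ * J = J * Pp := by
    rw [hPp, Matrix.transpose_smul, Matrix.transpose_add, Matrix.transpose_one, Matrix.smul_mul,
      Matrix.mul_smul, add_mul, mul_add, Matrix.one_mul, Matrix.mul_one, hSJ]
  have hHPm : H * Pm = Pm * H := by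
    rw [hPm, Matrix.smul_mul, Matrix.mul_smul, sub_mul, mul_sub, Matrix.one_mul, Matrix.mul_one,
      hHS]
  have hHPp : H * Pp = Pp * H := by
    rw [hPp, Matrix.smul_mul, Matrix.mul_smul, add_mul, mul_add, Matrix.one_mul, Matrix.mul_one,
      hHS]
  set H' : Matrix ι ι F := H * Pm + Pp with hH'
  set D : Matrix ι ι F := ν • Pm + Pp with hD
  have hmain : H'ᵀ * J * H' = J * D := by
    have hT : H'ᵀ = Hᵀ * Pmᵀ + Ppᵀ := by
      rw [hH', Matrix.transpose_add, hHPm, Matrix.transpose_mul]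
    have e1 : Hᵀ * Pmᵀ * J * (H * Pm) = ν • (J * Pm) := by
      calc Hᵀ * Pmᵀ * J * (H * Pm) = Hᵀ * (Pmᵀ * J) * (H * Pm) := by
            rw [Matrix.mul_assoc Hᵀ]
        _ = Hᵀ * (J * Pm) * (Pm * H) := by rw [hPmJ, hHPm]
        _ = Hᵀ * J * (Pm * Pm) * H := by
            simp only [Matrix.mul_assoc]
        _ = Hᵀ * J * (H * Pm) := by rw [hPmm, hHPm]; simp only [Matrix.mul_assoc]
        _ = (Hᵀ * J * H) * Pm := by simp only [Matrix.mul_assoc]
        _ = ν • (J * Pm) := by rw [hHJ, Matrix.smul_mul]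
    have e2 : Hᵀ * Pmᵀ * J * Pp = 0 := by
      calc Hᵀ * Pmᵀ * J * Pp = Hᵀ * (Pmᵀ * J) * Pp := by rw [Matrix.mul_assoc Hᵀ]
        _ = Hᵀ * J * (Pm * Pp) := by rw [hPmJ]; simp only [Matrix.mul_assoc]
        _ = 0 := by rw [hPmp, Matrix.mul_zero]
    have e3 : Ppᵀ * J * (H * Pm) = 0 := by
      calc Ppᵀ * J * (H * Pm) = J * Pp * (Pm * H) := by rw [hPpJ, hHPm]
        _ = J * (Pp * Pm) * H := by simp only [Matrix.mul_assoc]
        _ = 0 := by rw [hPpm, Matrix.mul_zero, Matrix.zero_mul]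
    have e4 : Ppᵀ * J * Pp = J * Pp := by
      rw [hPpJ, Matrix.mul_assoc, hPpp]
    have hL : H'ᵀ * J * H' = ν • (J * Pm) + J * Pp := by
      rw [hT, hH', add_mul, add_mul, mul_add, mul_add, e1, e2, e3, e4, add_zero, zero_add]
    have hR : J * D = ν • (J * Pm) + J * Pp := by
      rw [hD, mul_add, Matrix.mul_smul]
    rw [hL, hR]
  have hdet : H'.det ^ 2 = D.det := by
    have := congrArg Matrix.det hmain
    rw [Matrix.det_mul, Matrix.det_mul, Matrix.det_mul, Matrix.det_transpose] at this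
    apply mul_left_cancel₀ hJ0
    linear_combination this
  -- the eigenspaces of `S`
  set s : Module.End F (ι → F) := Matrix.toLin' S with hs
  have hss : ∀ v, s (s v) = v := by
    intro v
    rw [hs, Matrix.toLin'_apply, Matrix.toLin'_apply, Matrix.mulVec_mulVec, hSS,
      Matrix.one_mulVec]
  have hne : (-1 : F) ≠ 1 := by
    intro h
    apply h2
    linear_combination -h
  have hodd : Odd (finrank F (eig s (-1))) := by
    have h1 := det_of_invol h2 s hss
    rw [hs, LinearMap.det_toLin', hdetS] at h1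
    by_contra hcon
    rw [Nat.not_odd_iff_even] at hcon
    rw [hcon.neg_one_pow] at h1
    exact hne h1
  have hc := isCompl_eig h2 s 1 one_ne_zero (by intro v; rw [hss, mul_one, one_smul])
  have hDdet : D.det = ν ^ finrank F (eig s (-1)) := by
    have h1 := det_of_isCompl (eig s 1) (eig s (-1)) hc (Matrix.toLin' D) 1 ν
      (by
        intro u hu
        have hu' : S *ᵥ u = u := by
          have := (mem_eig s 1 u).1 hu
          rw [hs, Matrix.toLin'_apply, one_smul] at this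
          exact this
        rw [Matrix.toLin'_apply, hD, Matrix.add_mulVec, Matrix.smul_mulVec, hPm, hPp,
          Matrix.smul_mulVec, Matrix.smul_mulVec, Matrix.sub_mulVec, Matrix.add_mulVec,
          Matrix.one_mulVec, hu', sub_self, smul_zero, smul_zero, zero_add, one_smul,
          ← two_smul F u, smul_smul, inv_mul_cancel₀ h2, one_smul])
      (by
        intro u hu
        have hu' : S *ᵥ u = -u := by
          have := (mem_eig s (-1) u).1 hu
          rw [hs, Matrix.toLin'_apply, neg_smul, one_smul] at this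
          exact this
        rw [Matrix.toLin'_apply, hD, Matrix.add_mulVec, Matrix.smul_mulVec, hPm, hPp,
          Matrix.smul_mulVec, Matrix.smul_mulVec, Matrix.sub_mulVec, Matrix.add_mulVec,
          Matrix.one_mulVec, hu', sub_neg_eq_add, add_neg_cancel, smul_zero, add_zero,
          ← two_smul F u, smul_smul (2⁻¹ : F) 2 u, inv_mul_cancel₀ h2, one_smul])
    rw [LinearMap.det_toLin', one_pow, one_mul] at h1
    exact h1
  obtain ⟨j, hj⟩ := hodd
  rw [hDdet, hj] at hdet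
  have hνj : ν ^ j ≠ 0 := pow_ne_zero _ hν
  have hfin : ν * (ν ^ j) ^ 2 = H'.det ^ 2 := by rw [hdet]; ring
  refine ⟨H'.det / ν ^ j, ?_⟩
  field_simp
  linear_combination hfin

end core

section lemmaC

variable {F : Type*} [Field F] [Fintype F] [DecidableEq F] {ι : Type} [Fintype ι] [DecidableEq ι]
  (Q : QuadraticForm F (ι → F))
  (hQ : (polarBilin Q).Nondegenerate) (h2 : (2 : F) ≠ 0)
  (hQ0 : ∃ v : ι → F, Q v ≠ 0) (k : ℕ) (hcard : Fintype.card ι = 2 * k)

include hQ h2 hcard in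
/-- In dimension `2k` with `k` even: a similarity commuting modulo scalars with a similarity `g` of
nontrivial discriminant character and scalar square has square multiplier. -/
theorem isSquare_mult_of_comm (hk : Even k) (g : GL ι F) (hg : g ∈ GO Q)
    (hd : dHom Q hQ0 k ⟨g, hg⟩ ≠ 1) (lam : Fˣ) (hsq : g * g = sclHom lam)
    (h : GL ι F) (hh : h ∈ GO Q) (c : Fˣ) (hcomm : h * g = sclHom c * (g * h)) :
    IsSquare ((mult Q ⟨h, hh⟩ : Fˣ) : F) := by
  set μ := mult Q ⟨g, hg⟩ with hμ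
  set A : Matrix ι ι F := (g : Matrix ι ι F) with hA
  have hμ0 : (μ : F) ≠ 0 := Units.ne_zero _
  have hl0 : (lam : F) ≠ 0 := Units.ne_zero _
  have hAQ : ∀ v, Q (A *ᵥ v) = (μ : F) * Q v := mult_spec Q ⟨g, hg⟩
  have hAAm : A * A = (lam : F) • (1 : Matrix ι ι F) := by
    rw [hA, ← Units.val_mul, hsq, sclHom_coe]
  have hAA : ∀ v, A *ᵥ (A *ᵥ v) = (lam : F) • v := by
    intro v
    rw [Matrix.mulVec_mulVec, hAAm, Matrix.smul_mulVec, Matrix.one_mulVec]
  obtain ⟨v0, hv0⟩ := hQ0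
  have hlm : (lam : F) ^ 2 = (μ : F) ^ 2 := by
    have h1 : Q (A *ᵥ (A *ᵥ v0)) = (μ : F) * ((μ : F) * Q v0) := by rw [hAQ, hAQ]
    rw [hAA, QuadraticMap.map_smul, smul_eq_mul] at h1
    apply mul_right_cancel₀ hv0
    linear_combination h1
  have hne : (-1 : F) ≠ 1 := by
    intro h
    apply h2
    linear_combination -h
  have hdneg : dHom Q ⟨v0, hv0⟩ k ⟨g, hg⟩ = -1 :=
    (dHom_sq Q ⟨v0, hv0⟩ hQ k hcard ⟨g, hg⟩).resolve_left hd
  have hdetA : A.det * (((μ : F)) ^ k)⁻¹ = -1 := by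
    have := congrArg (fun u : Fˣ => (u : F)) hdneg
    simp only [dHom_coe, Units.val_neg, Units.val_one] at this
    exact this
  obtain ⟨j, hj⟩ := hk
  have hlamk : (lam : F) ^ k = (μ : F) ^ k := by
    rw [hj, ← two_mul, pow_mul, pow_mul, hlm]
  have hfr : finrank F (ι → F) = 2 * k := by
    rw [Module.finrank_fintype_fun_eq_card, hcard]
  have hkeven : Even k := ⟨j, hj⟩
  -- `lam` is a square
  have hlamsq : IsSquare (lam : F) := by
    by_contra hns
    have hdet := det_of_sq_nonsquare h2 (lam : F) hns (Matrix.toLin' A)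
      (by intro v; rw [Matrix.toLin'_apply, Matrix.toLin'_apply, hAA]) k hfr
    rw [LinearMap.det_toLin', hkeven.neg_pow, hlamk] at hdet
    rw [hdet, mul_inv_cancel₀ (pow_ne_zero _ hμ0)] at hdetA
    exact hne hdetA.symm
  obtain ⟨κ, hκ⟩ := hlamsq
  have hκ0 : κ ≠ 0 := by
    rintro rfl
    apply hl0
    rw [hκ, mul_zero]
  set S : Matrix ι ι F := κ⁻¹ • A with hS
  have hκκ : κ⁻¹ * κ⁻¹ * (lam : F) = 1 := by
    rw [hκ]; field_simp
  have hSS : S * S = 1 := by
    rw [hS, Matrix.smul_mul, Matrix.mul_smul, smul_smul, hAAm, smul_smul, hκκ, one_smul]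
  have hdetS : S.det = -1 := by
    rw [hS, Matrix.det_smul, hcard, ← hdetA]
    have : (κ⁻¹) ^ (2 * k) = (((μ : F)) ^ k)⁻¹ := by
      rw [← hlamk, hκ, inv_pow, pow_mul, _root_.sq]
    rw [this, mul_comm]
  set s : Module.End F (ι → F) := Matrix.toLin' S with hs
  have hss : ∀ v, s (s v) = v := by
    intro v
    rw [hs, Matrix.toLin'_apply, Matrix.toLin'_apply, Matrix.mulVec_mulVec, hSS,
      Matrix.one_mulVec]
  have hcompl := isCompl_eig h2 s 1 one_ne_zero (by intro v; rw [hss, mul_one, one_smul])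
  have hsum := Submodule.finrank_add_eq_of_isCompl hcompl
  rw [hfr] at hsum
  have hdets : (-1 : F) ^ finrank F (eig s (-1)) = -1 := by
    have h1 := det_of_invol h2 s hss
    rw [hs, LinearMap.det_toLin', hdetS] at h1
    exact h1.symm
  have hnoteven : ¬ Even (finrank F (eig s (-1))) := by
    intro he
    rw [he.neg_one_pow] at hdets
    exact hne hdets.symm
  have hSQgen : ∀ v, Q (S *ᵥ v) = (κ⁻¹ * κ⁻¹ * (μ : F)) * Q v := by
    intro v
    rw [hS, Matrix.smul_mulVec, QuadraticMap.map_smul, hAQ, smul_eq_mul]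
    ring
  rcases sq_eq_sq_iff_eq_or_eq_neg.1 hlm with hlam | hlam
  · -- `S` is an isometry
    have hSQ : ∀ v, Q (S *ᵥ v) = Q v := by
      intro v
      rw [hSQgen, ← hlam, hκκ, one_mul]
    set H : Matrix ι ι F := (h : Matrix ι ι F) with hH
    set ν := mult Q ⟨h, hh⟩ with hν
    have hν0 : (ν : F) ≠ 0 := Units.ne_zero _
    have hHQ : ∀ v, Q (H *ᵥ v) = (ν : F) * Q v := mult_spec Q ⟨h, hh⟩
    have hHA : H * A = (c : F) • (A * H) := by
      have := congrArg (fun x : GL ι F => (x : Matrix ι ι F)) hcomm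
      simp only [Units.val_mul, sclHom_coe] at this
      rw [hH, hA, this, Matrix.smul_mul, Matrix.one_mul]
    have hHS : H * S = (c : F) • (S * H) := by
      rw [hS, Matrix.mul_smul, hHA, Matrix.smul_mul, smul_comm]
    have hcc : (c : F) * (c : F) = 1 := by
      have h1 : H * S * S = ((c : F) * (c : F)) • H := by
        rw [hHS, Matrix.smul_mul, Matrix.mul_assoc, hHS, Matrix.mul_smul, smul_smul,
          ← Matrix.mul_assoc, hSS, Matrix.one_mul]
      rw [Matrix.mul_assoc, hSS, Matrix.mul_one] at h1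
      have h3 : H *ᵥ v0 = ((c : F) * (c : F)) • (H *ᵥ v0) := by
        conv_lhs => rw [h1]
        rw [Matrix.smul_mulVec]
      have hHv : H *ᵥ v0 ≠ 0 := by
        intro h0
        have := hHQ v0
        rw [h0, QuadraticMap.map_zero] at this
        exact mul_ne_zero hν0 hv0 this.symm
      have h4 : (1 - (c : F) * (c : F)) • (H *ᵥ v0) = 0 := by
        rw [sub_smul, one_smul, ← h3, sub_self]
      have := (smul_eq_zero.1 h4).resolve_right hHv
      linear_combination -this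
    rcases mul_self_eq_one_iff.1 hcc with hc1 | hc1
    · rw [hc1, one_smul] at hHS
      exact isSquare_of_commuting_invol Q h2 hQ S H (ν : F) hν0 hSS hSQ hdetS hHQ hHS
    · exfalso
      rw [hc1, neg_smul, one_smul] at hHS
      have hanti : ∀ v, s (Matrix.toLin' H v) = -(Matrix.toLin' H (s v)) := by
        intro v
        rw [hs, Matrix.toLin'_apply, Matrix.toLin'_apply, Matrix.toLin'_apply,
          Matrix.toLin'_apply, Matrix.mulVec_mulVec, Matrix.mulVec_mulVec, hHS,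
          Matrix.neg_mulVec, neg_neg]
      have hyinj : Function.Injective (Matrix.toLin' H) := by
        intro v w hvw
        rw [Matrix.toLin'_apply, Matrix.toLin'_apply] at hvw
        have := congrArg (fun x => ((h⁻¹ : GL ι F) : Matrix ι ι F) *ᵥ x) hvw
        simp only [hH, Matrix.mulVec_mulVec, ← Units.val_mul, inv_mul_cancel, Units.val_one,
          Matrix.one_mulVec] at this
        exact this
      have hfr2 := finrank_eq_two_mul h2 s (Matrix.toLin' H) 1 one_ne_zero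
        (by intro v; rw [hss, mul_one, one_smul]) hanti hyinj
      rw [hfr] at hfr2
      apply hnoteven
      have : finrank F (eig s (-1)) = k := by omega
      rw [this]
      exact hkeven
  · -- `S` has multiplier `-1`: impossible
    exfalso
    have hSQ : ∀ v, Q (S *ᵥ v) = -Q v := by
      intro v
      have hμl : (μ : F) = -(lam : F) := by rw [hlam, neg_neg]
      rw [hSQgen, hμl, mul_neg, hκκ, neg_one_mul]
    have hts1 : Cfsg.Geo.IsTotallySingularQuad (⇑Q) (eig s 1) := by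
      intro v hv
      have hv' : S *ᵥ v = v := by
        have := (mem_eig s 1 v).1 hv
        rw [hs, Matrix.toLin'_apply, one_smul] at this
        exact this
      have := hSQ v
      rw [hv'] at this
      have h3 : (2 : F) * Q v = 0 := by linear_combination this
      exact (mul_eq_zero.1 h3).resolve_left h2
    have hts2 : Cfsg.Geo.IsTotallySingularQuad (⇑Q) (eig s (-1)) := by
      intro v hv
      have hv' : S *ᵥ v = -v := by
        have := (mem_eig s (-1) v).1 hv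
        rw [hs, Matrix.toLin'_apply, neg_smul, one_smul] at this
        exact this
      have := hSQ v
      rw [hv', QuadraticMap.map_neg] at this
      have h3 : (2 : F) * Q v = 0 := by linear_combination this
      exact (mul_eq_zero.1 h3).resolve_left h2
    have hle1 := Cfsg.Agent.Helper5.OrthLag.two_mul_finrank_le hQ hts1
    have hle2 := Cfsg.Agent.Helper5.OrthLag.two_mul_finrank_le hQ hts2
    rw [hfr] at hle1 hle2
    apply hnoteven
    have : finrank F (eig s (-1)) = k := by omega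
    rw [this]
    exact hkeven

end lemmaC

section count

variable {X : Type*} [Group X] (G T : Subgroup X) (hTG : T ≤ G) [hN : (T.subgroupOf G).Normal]
  (γ : X)

include hTG in
theorem count_of_centralizer_le (hc : ∀ c ∈ G, c * γ = γ * c → c ∈ T) :
    Cfsg.splitClassCount G T γ = (T.subgroupOf G).index := by
  rw [POmSplit.count_eq_index G T hTG γ]
  have hbot : ((Subgroup.centralizer {γ}).comap G.subtype).map
      (QuotientGroup.mk' (T.subgroupOf G)) = ⊥ := by
    rw [eq_bot_iff]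
    rintro _ ⟨x, hx, rfl⟩
    rw [Subgroup.mem_bot, QuotientGroup.mk'_apply, QuotientGroup.eq_one_iff,
      Subgroup.mem_subgroupOf]
    apply hc _ x.2
    have hx' : (x : X) ∈ Subgroup.centralizer {γ} := hx
    rw [Subgroup.mem_centralizer_iff] at hx'
    exact (hx' γ rfl).symm
  rw [hbot, Subgroup.index_bot, ← Subgroup.index_eq_card]

end count

section main

variable {F : Type*} [Field F] [Fintype F]

set_option maxHeartbeats 1600000 in
theorem main_aux (hodd : Odd (Fintype.card F)) {m : ℕ} (hm : 3 ≤ m) (a b : F)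
    (hab : ∀ z₁ z₂ : F, z₁ ^ 2 + a * z₁ * z₂ + b * z₂ ^ 2 = 0 → z₁ = 0 ∧ z₂ = 0)
    (hQ0' : ∃ v : (Fin m ⊕ Fin m) ⊕ Fin 2 → F, stdMinus F m a b v ≠ 0)
    (γ : MulAut (Cfsg.POmega F ⇑(stdMinus F m a b)))
    (hγΓ : γ ∈ Cfsg.gammaPOmega F ⇑(stdMinus F m a b))
    (hγG : γ ∉ inD (stdMinus F m a b) hQ0' (m + 1)) (hγ2 : orderOf γ = 2) :
    (Cfsg.splitClassCount (inD (stdMinus F m a b) hQ0' (m + 1))
        (Cfsg.Inn (Cfsg.POmega F ⇑(stdMinus F m a b))) γ = 1 ∨
      Cfsg.splitClassCount (inD (stdMinus F m a b) hQ0' (m + 1))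
        (Cfsg.Inn (Cfsg.POmega F ⇑(stdMinus F m a b))) γ = 2) ∧
    (¬ (Even m ∧ Fintype.card F % 4 = 1) →
      Cfsg.splitClassCount (inD (stdMinus F m a b) hQ0' (m + 1))
        (Cfsg.Inn (Cfsg.POmega F ⇑(stdMinus F m a b))) γ = 2) := by
  classical
  have h2 := two_ne_zero_of_odd_card hodd
  have hab' : AnisoPair a b := hab
  have hfam := stdMinus_isHypFamily F m a b
  have hnd := stdMinus_nondegenerate (F := F) m hab'
  have hcard : Fintype.card ((Fin m ⊕ Fin m) ⊕ Fin 2) = 2 * (m + 1) := by simp; ring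
  have hperf := hperf_of_hyp (stdMinus F m a b) hnd _ _ hfam (by omega) (by rw [hcard]; omega)
  have hcent := hcent_of_hyp (stdMinus F m a b) hfam (by omega)
    (Cfsg.Agent.Lead.POmegaCard.hspan_minus m a b)
  have hidx := Cfsg.Agent.Lead.POmegaCard.index_omega_odd h2 (stdMinus F m a b) hnd
    (by rw [hcard]; omega)
  have hq : Fintype.card F % 2 = 1 := Nat.odd_iff.1 hodd
  have hneg0 := Cfsg.Agent.S0791.result (F := F) rfl hodd (m + 1) (by omega) a b hab
  rw [Nat.add_sub_cancel] at hneg0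
  have hiff : (Odd (m + 1) ∧ Fintype.card F % 4 = 3) ↔ (Even m ∧ Fintype.card F % 4 = 3) := by
    rw [Nat.odd_add_one, Nat.not_odd_iff_even]
  rw [← coe_stdMinus] at hneg0
  obtain ⟨ν, hν⟩ := exists_nonsquare_unit h2
  obtain ⟨w, hw⟩ := hab'.exists_nrm_eq (ν : F)
  obtain ⟨v, hv⟩ := hQ0'
  have hQ0' : ∃ v : (Fin m ⊕ Fin m) ⊕ Fin 2 → F, stdMinus F m a b v ≠ 0 := ⟨v, hv⟩
  have hmu : mult (stdMinus F m a b)
      ⟨deltaMinus m a b ν w hw, deltaMinus_mem m a b ν w hw⟩ = ν :=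
    mult_unique _ ⟨v, hv⟩ _ _ (fun v => by
      show stdMinus F m a b (deltaMinusMat m a b ν w *ᵥ v) = _
      exact deltaMinusMat_sim m a b ν w hw v)
  have hsurj := psiHom_surjective (stdMinus F m a b) ⟨v, hv⟩ hnd (m + 1) hcard h2
    ⟨deltaMinus m a b ν w hw, deltaMinus_mem m a b ν w hw⟩ (by rw [hmu]; exact hν)
    (by
      apply Units.ext
      rw [dHom_coe, hmu, Units.val_one]
      show (deltaMinusMat m a b ν w).det * _ = 1
      rw [deltaMinusMat_det, hw, ← pow_succ]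
      exact mul_inv_cancel₀ (pow_ne_zero _ (Units.ne_zero _))) v hv
  have hTG : Cfsg.Inn (Cfsg.POmega F ⇑(stdMinus F m a b)) ≤ inD (stdMinus F m a b) hQ0' (m + 1) :=
    inn_le_inD (stdMinus F m a b) hQ0' (m + 1)
  have hindex := index_inn_inD (stdMinus F m a b) hperf hcent hnd h2 hQ0' (m + 1) hcard hidx
    hsurj v hv
  -- `γ` is induced by a linear similarity
  have hγsq : γ * γ = 1 := by
    have := pow_orderOf_eq_one γ
    rwa [hγ2, pow_two] at this
  obtain ⟨L, hL⟩ : ∃ L, OGam.Theta ⇑(stdMinus F m a b) L = γ := by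
    have : γ ∈ (OGam.Theta ⇑(stdMinus F m a b)).range := by
      rw [OGam.range_Theta]; exact hγΓ
    exact this
  have hLin : L ∈ OGam.Lin ⇑(stdMinus F m a b) := by
    apply Cfsg.Agent.Helper14.MinusSigma.mem_Lin_of_sq hodd hm a b hab L
    rw [map_mul, hL, hγsq]
  have hγP : γ ∈ Cfsg.pgoAut F ⇑(stdMinus F m a b) := by
    rw [← Cfsg.Agent.Helper14.OrthAutCount.map_Lin_eq_pgoAut]
    exact ⟨L, hLin, hL⟩
  have hγP' := hγP
  rw [pgoAut_eq] at hγP'
  obtain ⟨G₀, hG₀mem, hγeq'⟩ := hγP'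
  have hγeq : γ = Phi (⇑(stdMinus F m a b)) G₀ := hγeq'.symm
  set g₀ : GL ((Fin m ⊕ Fin m) ⊕ Fin 2) F := (G₀ : GL ((Fin m ⊕ Fin m) ⊕ Fin 2) F) with hg₀def
  have hg₀' : g₀ ∈ GO (stdMinus F m a b) := hG₀mem
  have hG₀ : G₀ = ⟨g₀, sim_le_NO _ hg₀'⟩ := Subtype.ext rfl
  have hd : dHom (stdMinus F m a b) hQ0' (m + 1) ⟨g₀, hg₀'⟩ ≠ 1 := by
    intro h
    apply hγG
    refine ⟨G₀, ?_, hγeq'⟩
    exact (mem_GO1 _ hQ0' (m + 1) _).2 ⟨hg₀', h⟩
  have hdneg : dHom (stdMinus F m a b) hQ0' (m + 1) ⟨g₀, hg₀'⟩ = -1 :=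
    (dHom_sq (stdMinus F m a b) hQ0' hnd (m + 1) hcard ⟨g₀, hg₀'⟩).resolve_left hd
  obtain ⟨lam, hlam⟩ : ∃ lam : Fˣ, g₀ * g₀ = sclHom lam := by
    have hker : G₀ * G₀ ∈ (Phi (⇑(stdMinus F m a b))).ker := by
      rw [MonoidHom.mem_ker, map_mul, ← hγeq, hγsq]
    rw [ker_Phi (⇑(stdMinus F m a b)) hperf hcent, Subgroup.mem_subgroupOf] at hker
    exact exists_sclHom_of_mem hker
  by_cases hex : Even m ∧ Fintype.card F % 4 = 3
  · -- `-1 ∈ Ω`, index four, dihedral quotient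
    have hneg := hneg0.2 ((pow_mod_four_eq_three_iff _ _ hq).2 (hiff.2 hex))
    have h4 := hindex.1 hneg
    obtain ⟨u, w', hu, hw', hns, hcommuw⟩ := POmSplit.exists_commuting_pair (stdMinus F m a b) hnd
      h2 hQ0' (m + 1) hcard (by rw [hcard]; omega) g₀ hg₀' hd lam hlam
    have hn2 : 2 ≤ Fintype.card ((Fin m ⊕ Fin m) ⊕ Fin 2) := by rw [hcard]; omega
    have hSO := rGL_mul_mem_SOG (stdMinus F m a b) hu hw'
    have hGO1 := SOG_le_GO1 (stdMinus F m a b) hQ0' (m + 1) hSO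
    have hmemNO : rGL (stdMinus F m a b) hu * rGL (stdMinus F m a b) hw' ∈
        NO (⇑(stdMinus F m a b)) :=
      sim_le_NO _ (GO1_le_GO (stdMinus F m a b) hQ0' (m + 1) hGO1)
    have hc : ∃ c ∈ inD (stdMinus F m a b) hQ0' (m + 1),
        c ∉ Cfsg.Inn (Cfsg.POmega F ⇑(stdMinus F m a b)) ∧ c * γ = γ * c := by
      refine ⟨Phi (⇑(stdMinus F m a b))
        ⟨rGL (stdMinus F m a b) hu * rGL (stdMinus F m a b) hw', hmemNO⟩,
        ⟨_, hGO1, rfl⟩,
        refl_pair_not_inn (stdMinus F m a b) hperf hcent hnd h2 hn2 hneg hu hw' hns hmemNO, ?_⟩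
      rw [hγeq, ← map_mul, ← map_mul]
      congr 1
      apply Subtype.ext
      show rGL (stdMinus F m a b) hu * rGL (stdMinus F m a b) hw' * g₀ =
        g₀ * (rGL (stdMinus F m a b) hu * rGL (stdMinus F m a b) hw')
      have := congrArg (fun x => x * g₀) hcommuw
      simp only [inv_mul_cancel_right] at this
      exact this.symm
    obtain ⟨φ, hφs, hφk⟩ := pgo_mod_inn_dihedral (stdMinus F m a b) hperf hcent hnd h2 (m + 1)
      hcard hidx hneg ⟨v, hv⟩ hsurj (deltaMinus m a b ν w hw) (deltaMinus_mem m a b ν w hw)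
      (by rw [hmu]; exact hν) v hv
    have hGP : inD (stdMinus F m a b) hQ0' (m + 1) ≤ Cfsg.pgoAut F ⇑(stdMinus F m a b) := by
      rw [pgoAut_eq, inD]
      apply Subgroup.map_mono
      intro x hx
      exact GO1_le_GO (stdMinus F m a b) hQ0' (m + 1) hx
    have hcommP : ∀ a' ∈ Cfsg.pgoAut F ⇑(stdMinus F m a b),
        ∀ b' ∈ Cfsg.pgoAut F ⇑(stdMinus F m a b),
        a' * b' * a'⁻¹ * b'⁻¹ ∈ inD (stdMinus F m a b) hQ0' (m + 1) := by
      intro a' ha b' hb
      rw [pgoAut_eq] at ha hb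
      obtain ⟨a'', ha', rfl⟩ := ha
      obtain ⟨b'', hb', rfl⟩ := hb
      have ha1 : (a'' : GL ((Fin m ⊕ Fin m) ⊕ Fin 2) F) ∈ GO (stdMinus F m a b) := ha'
      have hb1 : (b'' : GL ((Fin m ⊕ Fin m) ⊕ Fin 2) F) ∈ GO (stdMinus F m a b) := hb'
      set A : ↥(GO (stdMinus F m a b)) := ⟨_, ha1⟩ with hAdef
      set B : ↥(GO (stdMinus F m a b)) := ⟨_, hb1⟩ with hBdef
      refine ⟨a'' * b'' * a''⁻¹ * b''⁻¹, ?_, by simp⟩
      exact ⟨A * B * A⁻¹ * B⁻¹, POmSplit.dHom_comm (stdMinus F m a b) hQ0' (m + 1) A B, rfl⟩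
    have hcovP : ∀ x ∈ Cfsg.pgoAut F ⇑(stdMinus F m a b),
        x ∈ inD (stdMinus F m a b) hQ0' (m + 1) ∨
          x * γ⁻¹ ∈ inD (stdMinus F m a b) hQ0' (m + 1) := by
      intro x hx
      rw [pgoAut_eq] at hx
      obtain ⟨a'', ha', rfl⟩ := hx
      have ha1 : (a'' : GL ((Fin m ⊕ Fin m) ⊕ Fin 2) F) ∈ GO (stdMinus F m a b) := ha'
      set A : ↥(GO (stdMinus F m a b)) := ⟨_, ha1⟩ with hAdef
      rcases dHom_sq (stdMinus F m a b) hQ0' hnd (m + 1) hcard A with h | h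
      · left
        exact ⟨a'', (mem_GO1 _ hQ0' (m + 1) _).2 ⟨ha1, h⟩, rfl⟩
      · right
        refine ⟨a'' * G₀⁻¹, ?_, by rw [map_mul, map_inv, ← hγeq]⟩
        have hd1 : dHom (stdMinus F m a b) hQ0' (m + 1)
            (A * (⟨g₀, hg₀'⟩ : ↥(GO (stdMinus F m a b)))⁻¹) = 1 := by
          rw [map_mul, map_inv, h, hdneg, mul_inv_cancel]
        exact ⟨A * (⟨g₀, hg₀'⟩ : ↥(GO (stdMinus F m a b)))⁻¹, hd1, rfl⟩
    have hg := POmSplit.exists_not_mem_centralizer_mul (Cfsg.pgoAut F ⇑(stdMinus F m a b))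
      (inD (stdMinus F m a b) hQ0' (m + 1)) (Cfsg.Inn (Cfsg.POmega F ⇑(stdMinus F m a b))) hTG hGP
      φ hφs hφk γ hγP hγG hcommP hcovP
    have hcount := POmSplit.count_of_index_four _ _ hTG γ h4 hc hg
    exact ⟨Or.inr hcount, fun _ => hcount⟩
  · -- `-1 ∉ Ω`, index two
    have hneg : ¬ ∃ g : ↥(Cfsg.isometryGroup F ⇑(stdMinus F m a b)),
        g ∈ Cfsg.Omega F ⇑(stdMinus F m a b) ∧
        ((g : GL ((Fin m ⊕ Fin m) ⊕ Fin 2) F) :
          Matrix ((Fin m ⊕ Fin m) ⊕ Fin 2) ((Fin m ⊕ Fin m) ⊕ Fin 2) F) = -1 := by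
      intro hcon
      have := hneg0.1 hcon
      rw [pow_mod_four_eq_three_iff _ _ hq, hiff] at this
      exact hex this
    have hi2 := hindex.2 hneg
    refine ⟨POmSplit.count_of_index_two _ _ hTG γ hi2, ?_⟩
    intro hnot
    have hmodd : Even (m + 1) := by
      rw [Nat.even_add_one]
      intro hme
      have hq4 : Fintype.card F % 4 = 1 ∨ Fintype.card F % 4 = 3 := by omega
      rcases hq4 with h1 | h3
      · exact hnot ⟨hme, h1⟩
      · exact hex ⟨hme, h3⟩
    rw [count_of_centralizer_le _ _ hTG γ, hi2]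
    -- centralizing elements of `inD` are inner
    rintro c ⟨Hc, hHc, rfl⟩ hcomm
    have hHc1 : (Hc : GL ((Fin m ⊕ Fin m) ⊕ Fin 2) F) ∈ GO1 (stdMinus F m a b) hQ0' (m + 1) := hHc
    obtain ⟨hHGO, hHd⟩ := (mem_GO1 _ hQ0' (m + 1) _).1 hHc1
    -- commutation modulo scalars
    have hker : Hc * G₀ * (G₀ * Hc)⁻¹ ∈ (Phi (⇑(stdMinus F m a b))).ker := by
      rw [MonoidHom.mem_ker, map_mul, map_inv, map_mul, map_mul, ← hγeq, hcomm, mul_inv_cancel]
    rw [ker_Phi (⇑(stdMinus F m a b)) hperf hcent, Subgroup.mem_subgroupOf] at hker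
    obtain ⟨c', hc'⟩ := exists_sclHom_of_mem hker
    have hcomm' : (Hc : GL ((Fin m ⊕ Fin m) ⊕ Fin 2) F) * g₀ =
        sclHom c' * (g₀ * (Hc : GL ((Fin m ⊕ Fin m) ⊕ Fin 2) F)) := by
      rw [← hc']
      show _ = ((Hc : GL ((Fin m ⊕ Fin m) ⊕ Fin 2) F) * g₀ *
        (g₀ * (Hc : GL ((Fin m ⊕ Fin m) ⊕ Fin 2) F))⁻¹) * (g₀ * (Hc : GL _ F))
      group
    have hsqm := isSquare_mult_of_comm (stdMinus F m a b) hnd h2 hQ0' (m + 1) hcard hmodd g₀ hg₀'
      hd lam hlam (Hc : GL ((Fin m ⊕ Fin m) ⊕ Fin 2) F) hHGO c' hcomm'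
    have hpsi : psiHom (stdMinus F m a b) hQ0' hnd (m + 1) hcard h2
        ⟨(Hc : GL ((Fin m ⊕ Fin m) ⊕ Fin 2) F), hHGO⟩ = 1 :=
      (psiHom_eq_one_iff (stdMinus F m a b) hQ0' hnd (m + 1) hcard h2 _).2 ⟨hsqm, hHd⟩
    rw [psiHom_eq_one_iff'] at hpsi
    obtain ⟨c₁, h₁, hh₁, hHeq⟩ := hpsi
    have hrel := (relIndex_inn_pso (stdMinus F m a b) hperf hcent hnd h2 (m + 1) hcard v hv
      hidx).2 hneg
    have hle : Cfsg.psoAut F ⇑(stdMinus F m a b) ≤
        Cfsg.Inn (Cfsg.POmega F ⇑(stdMinus F m a b)) := Subgroup.relIndex_eq_one.1 hrel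
    apply hle
    rw [psoAut_eq]
    have hh₁NO : h₁ ∈ NO (⇑(stdMinus F m a b)) :=
      Subgroup.le_normalizer (Subgroup.mem_inf.1 hh₁).1
    have hsclNO : sclHom c₁ ∈ NO (⇑(stdMinus F m a b)) :=
      sim_le_NO _ (sclHom_mem_GO (stdMinus F m a b) c₁)
    refine ⟨⟨h₁, hh₁NO⟩, hh₁, ?_⟩
    have hHc' : Hc = ⟨sclHom c₁, hsclNO⟩ * ⟨h₁, hh₁NO⟩ := Subtype.ext hHeq
    have hPhiScl : Phi (⇑(stdMinus F m a b)) ⟨sclHom c₁, hsclNO⟩ = 1 := by
      rw [← MonoidHom.mem_ker, ker_Phi (⇑(stdMinus F m a b)) hperf hcent, Subgroup.mem_subgroupOf]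
      exact sclHom_mem c₁
    rw [hHc', map_mul, hPhiScl, one_mul]

end main

end Cfsg.Agent.Helper14.MinusGraphSplit
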