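import Mathlib
import Cfsg.Prelude.Def_LieTypeDatum
import Cfsg.Agent.Lib.Helper43.AnisoPlane

set_option autoImplicit false

/-!
Every field automorphism is realised by a semisimilarity of the minus-type form
`Σ xᵢ yᵢ + z₁² + a z₁ z₂ + b z₂²` (finite fields).
-/

namespace Cfsg.Agent.Helper14.MinusSemi

open Matrix Cfsg.Agent.Helper43

variable {F : Type*} [Field F] [Fintype F]

theorem anisoPair_map {a b : F} (hab : AnisoPair a b) (σ : F ≃+* F) : AnisoPair (σ a) (σ b) := by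
  intro z₁ z₂ h
  have h1 := congrArg σ.symm h
  simp only [map_add, map_mul, map_pow, map_zero, RingEquiv.symm_apply_apply] at h1
  obtain ⟨h2, h3⟩ := hab _ _ h1
  constructor
  · have := congrArg σ h2
    simpa using this
  · have := congrArg σ h3
    simpa using this

/-- the block matrix `1 ⊕ [[1, w₁], [0, w₂]]` -/
def blockMat (m : ℕ) (w : F × F) :
    Matrix ((Fin m ⊕ Fin m) ⊕ Fin 2) ((Fin m ⊕ Fin m) ⊕ Fin 2) F :=
  Matrix.fromBlocks 1 0 0 !![1, w.1; 0, w.2]

theorem blockMat_det (m : ℕ) (w : F × F) : (blockMat m w).det = w.2 := by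
  unfold blockMat
  rw [Matrix.det_fromBlocks_zero₂₁, Matrix.det_one, one_mul, Matrix.det_fin_two_of]
  ring

theorem blockMat_mulVec_inl (m : ℕ) (w : F × F) (u : (Fin m ⊕ Fin m) ⊕ Fin 2 → F)
    (x : Fin m ⊕ Fin m) : (blockMat m w *ᵥ u) (Sum.inl x) = u (Sum.inl x) := by
  unfold blockMat
  rw [Matrix.fromBlocks_mulVec]
  simp

theorem blockMat_mulVec_inr0 (m : ℕ) (w : F × F) (u : (Fin m ⊕ Fin m) ⊕ Fin 2 → F) :
    (blockMat m w *ᵥ u) (Sum.inr 0) = u (Sum.inr 0) + w.1 * u (Sum.inr 1) := by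
  unfold blockMat
  rw [Matrix.fromBlocks_mulVec]
  simp [Matrix.mulVec, dotProduct, Fin.sum_univ_two]

theorem blockMat_mulVec_inr1 (m : ℕ) (w : F × F) (u : (Fin m ⊕ Fin m) ⊕ Fin 2 → F) :
    (blockMat m w *ᵥ u) (Sum.inr 1) = w.2 * u (Sum.inr 1) := by
  unfold blockMat
  rw [Matrix.fromBlocks_mulVec]
  simp [Matrix.mulVec, dotProduct, Fin.sum_univ_two]

/-- every field automorphism is the companion of a semisimilarity of the minus-type form -/
theorem exists_semisim_minus (m : ℕ) (a b : F) (hab : AnisoPair a b) (σ : F ≃+* F) :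
    ∃ g : GL ((Fin m ⊕ Fin m) ⊕ Fin 2) F,
      Cfsg.IsSemisimilarityPair (Cfsg.quadFormMinus m F a b) g σ := by
  classical
  have hab' := anisoPair_map hab σ
  have hcard := AnisoPair.card_second hab hab'
  have hne : Nonempty {p : F × F // nrmPolar a b (1, 0) p = σ a ∧ nrm a b p = σ b} := by
    by_contra h
    rw [not_nonempty_iff] at h
    rw [Nat.card_of_isEmpty] at hcard
    omega
  obtain ⟨w, hw1, hw2⟩ := hne
  rw [nrmPolar_one] at hw1
  unfold nrm at hw2
  have hw0 : w.2 ≠ 0 := by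
    intro h0
    rw [h0] at hw1 hw2
    apply hab'.disc_ne_zero'
    rw [← hw1, ← hw2]
    ring
  have hdet : (blockMat m w).det ≠ 0 := by
    rw [blockMat_det]
    exact hw0
  refine ⟨Matrix.GeneralLinearGroup.mkOfDetNeZero (blockMat m w) hdet, 1, ?_⟩
  intro v
  have hcoe : ((Matrix.GeneralLinearGroup.mkOfDetNeZero (blockMat m w) hdet :
      GL ((Fin m ⊕ Fin m) ⊕ Fin 2) F) : Matrix _ _ F) = blockMat m w := rfl
  rw [hcoe, Units.val_one, one_mul]
  unfold Cfsg.quadFormMinus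
  simp only [blockMat_mulVec_inl, blockMat_mulVec_inr0, blockMat_mulVec_inr1, map_add, map_mul,
    map_pow, map_sum]
  set z₁ := σ (v (Sum.inr 0)) with hz₁
  set z₂ := σ (v (Sum.inr 1)) with hz₂
  linear_combination (z₁ * z₂) * hw1 + z₂ ^ 2 * hw2

end Cfsg.Agent.Helper14.MinusSemi
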