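import Mathlib

set_option autoImplicit false

/-!
# Peeling anticommuting pairs off a group that is commutative modulo a central element
-/

namespace Cfsg.Agent.Helper14.PeelPairs

variable {G : Type*} [Group G]

/-- any two elements of `E` commute up to `z` -/
def ZComm (z : G) (E : Subgroup G) : Prop :=
  ∀ x ∈ E, ∀ y ∈ E, x * y = y * x ∨ x * y = z * (y * x)

theorem ZComm.mono {z : G} {E E' : Subgroup G} (h : ZComm z E) (hle : E' ≤ E) : ZComm z E' :=
  fun x hx y hy => h x (hle hx) y (hle hy)

theorem mem_centralizer_singleton (g h : G) :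
    h ∈ Subgroup.centralizer ({g} : Set G) ↔ g * h = h * g := by
  rw [Subgroup.mem_centralizer_iff]
  constructor
  · intro H; exact H g rfl
  · intro H x hx
    rw [Set.mem_singleton_iff] at hx
    rw [hx]; exact H

theorem card_le_two_mul [Finite G] (z : G) (H : Subgroup G) (g : G)
    (hH : ∀ h ∈ H, h * g = g * h ∨ h * g = z * (g * h)) :
    Nat.card H ≤ 2 * Nat.card (H ⊓ Subgroup.centralizer ({g} : Set G) : Subgroup G) := by
  classical
  by_cases hall : ∀ h ∈ H, h * g = g * h
  · have : H ⊓ Subgroup.centralizer ({g} : Set G) = H := by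
      apply inf_eq_left.mpr
      intro h hh
      rw [mem_centralizer_singleton]
      exact (hall h hh).symm
    rw [this]; omega
  · push Not at hall
    obtain ⟨h₀, hh₀, hne⟩ := hall
    have h₀z : h₀ * g = z * (g * h₀) := (hH h₀ hh₀).resolve_left hne
    have e1 : z * g = h₀ * g * h₀⁻¹ := by rw [h₀z]; group
    have key : ∀ h ∈ H, h * g ≠ g * h → g * (h₀⁻¹ * h) = (h₀⁻¹ * h) * g := by
      intro h hh hc
      have hz' : h * g = z * (g * h) := (hH h hh).resolve_left hc
      symm
      calc h₀⁻¹ * h * g = h₀⁻¹ * (h * g) := by group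
        _ = h₀⁻¹ * (z * (g * h)) := by rw [hz']
        _ = h₀⁻¹ * ((z * g) * h) := by group
        _ = h₀⁻¹ * ((h₀ * g * h₀⁻¹) * h) := by rw [e1]
        _ = g * (h₀⁻¹ * h) := by group
    let C : Subgroup G := H ⊓ Subgroup.centralizer ({g} : Set G)
    let φ : H → (↥C ⊕ ↥C) := fun h =>
      if hc : h.1 * g = g * h.1 then
        Sum.inl ⟨h.1, ⟨h.2, (mem_centralizer_singleton g h.1).mpr hc.symm⟩⟩
      else
        Sum.inr ⟨h₀⁻¹ * h.1, ⟨H.mul_mem (H.inv_mem hh₀) h.2,
          (mem_centralizer_singleton g _).mpr (key h.1 h.2 hc)⟩⟩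
    have hφ : Function.Injective φ := by
      intro a b hab
      simp only [φ] at hab
      by_cases ha : a.1 * g = g * a.1 <;> by_cases hb : b.1 * g = g * b.1
      · rw [dif_pos ha, dif_pos hb] at hab
        have := Sum.inl_injective hab
        apply Subtype.ext
        exact congrArg (fun c : ↥C => (c : G)) this
      · rw [dif_pos ha, dif_neg hb] at hab
        exact absurd hab (by simp)
      · rw [dif_neg ha, dif_pos hb] at hab
        exact absurd hab (by simp)
      · rw [dif_neg ha, dif_neg hb] at hab
        have := Sum.inr_injective hab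
        apply Subtype.ext
        have h2 := congrArg (fun c : ↥C => (c : G)) this
        exact mul_left_cancel h2
    have h1 := Nat.card_le_card_of_injective φ hφ
    rw [Nat.card_sum] at h1
    show Nat.card H ≤ 2 * Nat.card C
    omega

/-- the conclusion of the peeling process -/
structure System (z : G) (E : Subgroup G) (k : ℕ) (x y : Fin k → G) (A : Subgroup G) : Prop where
  xmem : ∀ j, x j ∈ E
  ymem : ∀ j, y j ∈ E
  anti : ∀ j, x j * y j = z * (y j * x j)
  cxx : ∀ j l, j ≠ l → x j * x l = x l * x j
  cxy : ∀ j l, j ≠ l → x j * y l = y l * x j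
  cyy : ∀ j l, j ≠ l → y j * y l = y l * y j
  le : A ≤ E
  comm : IsMulCommutative A
  card : Nat.card E ≤ 2 ^ k * Nat.card A

theorem exists_system [Finite G] (z : G) : ∀ (n : ℕ) (E : Subgroup G), Nat.card E ≤ n → ZComm z E →
    ∃ (k : ℕ) (x y : Fin k → G) (A : Subgroup G), System z E k x y A := by
  intro n
  induction n with
  | zero =>
    intro E hE _
    have : 0 < Nat.card E := Nat.card_pos
    omega
  | succ n ih =>
    intro E hE hZ
    by_cases hab : ∀ x ∈ E, ∀ y ∈ E, x * y = y * x
    · refine ⟨0, Fin.elim0, Fin.elim0, E, ⟨fun j => j.elim0, fun j => j.elim0, fun j => j.elim0,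
        fun j => j.elim0, fun j => j.elim0, fun j => j.elim0, le_refl _, ?_, by simp⟩⟩
      exact .of_setLike_mul_comm fun a ha b hb => hab a ha b hb
    · push Not at hab
      obtain ⟨x₀, hx₀, y₀, hy₀, hne⟩ := hab
      have hanti : x₀ * y₀ = z * (y₀ * x₀) := (hZ x₀ hx₀ y₀ hy₀).resolve_left hne
      set E1 : Subgroup G := E ⊓ Subgroup.centralizer ({x₀} : Set G) with hE1
      set E' : Subgroup G := E1 ⊓ Subgroup.centralizer ({y₀} : Set G) with hE'
      have hE'E : E' ≤ E := le_trans inf_le_left inf_le_left
      have hx₀E' : x₀ ∉ E' := by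
        intro h
        have h2 : x₀ ∈ Subgroup.centralizer ({y₀} : Set G) := h.2
        rw [mem_centralizer_singleton] at h2
        exact hne h2.symm
      have hlt : Nat.card E' < Nat.card E := by
        by_contra hcon
        push Not at hcon
        have := Subgroup.eq_of_le_of_card_ge hE'E hcon
        exact hx₀E' (this ▸ hx₀)
      have c1 := card_le_two_mul z E x₀ (fun h hh => hZ h hh x₀ hx₀)
      have c2 := card_le_two_mul z E1 y₀ (fun h hh => hZ h hh.1 y₀ hy₀)
      obtain ⟨k, x, y, A, hS⟩ := ih E' (by omega) (hZ.mono hE'E)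
      have hcx : ∀ g ∈ E', x₀ * g = g * x₀ := by
        intro g hg
        have h1 : g ∈ E1 := hg.1
        have h2 : g ∈ Subgroup.centralizer ({x₀} : Set G) := h1.2
        exact (mem_centralizer_singleton x₀ g).mp h2
      have hcy : ∀ g ∈ E', y₀ * g = g * y₀ := by
        intro g hg
        have h2 : g ∈ Subgroup.centralizer ({y₀} : Set G) := hg.2
        exact (mem_centralizer_singleton y₀ g).mp h2
      set A' : Subgroup G := Subgroup.closure ((A : Set G) ∪ {x₀}) with hA'
      have hAA' : A ≤ A' := fun a ha => Subgroup.subset_closure (Or.inl ha)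
      have hx₀A' : x₀ ∈ A' := Subgroup.subset_closure (Or.inr rfl)
      have hx₀A : x₀ ∉ A := fun h => hx₀E' (hS.le h)
      have hcommA : ∀ a ∈ A, ∀ b ∈ A, a * b = b * a := by
        intro a ha b hb
        have := hS.comm
        have h1 := (IsMulCommutative.is_comm (M := ↥A)).comm ⟨a, ha⟩ ⟨b, hb⟩
        exact congrArg Subtype.val h1
      have hA'comm : IsMulCommutative A' := by
        apply Subgroup.isMulCommutative_closure
        rintro a (ha | ha) b (hb | hb)
        · exact hcommA a ha b hb
        · rw [Set.mem_singleton_iff] at hb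
          rw [hb]; exact (hcx a (hS.le ha)).symm
        · rw [Set.mem_singleton_iff] at ha
          rw [ha]; exact hcx b (hS.le hb)
        · rw [Set.mem_singleton_iff] at ha hb
          rw [ha, hb]
      have hA'E : A' ≤ E := by
        rw [hA', Subgroup.closure_le]
        rintro a (ha | ha)
        · exact hE'E (hS.le ha)
        · rw [Set.mem_singleton_iff] at ha
          rw [ha]; exact hx₀
      have hcardA : 2 * Nat.card A ≤ Nat.card A' := by
        obtain ⟨c, hc⟩ := Subgroup.card_dvd_of_le hAA'
        have hpos : 0 < Nat.card A' := Nat.card_pos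
        have hposA : 0 < Nat.card A := Nat.card_pos
        have hc1 : c ≠ 1 := by
          intro h1
          rw [h1, mul_one] at hc
          have := Subgroup.eq_of_le_of_card_ge hAA' (le_of_eq hc)
          exact hx₀A (this ▸ hx₀A')
        have hc0 : c ≠ 0 := by
          intro h0
          rw [h0, mul_zero] at hc
          omega
        have : 2 ≤ c := by omega
        rw [hc]
        calc 2 * Nat.card A = Nat.card A * 2 := by ring
          _ ≤ Nat.card A * c := Nat.mul_le_mul_left _ this
      refine ⟨k + 1, Fin.cons x₀ x, Fin.cons y₀ y, A', ⟨?_, ?_, ?_, ?_, ?_, ?_, hA'E, hA'comm, ?_⟩⟩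
      · intro j
        refine Fin.cases ?_ (fun j => ?_) j
        · simpa using hx₀
        · simpa using hE'E (hS.xmem j)
      · intro j
        refine Fin.cases ?_ (fun j => ?_) j
        · simpa using hy₀
        · simpa using hE'E (hS.ymem j)
      · intro j
        refine Fin.cases ?_ (fun j => ?_) j
        · simpa using hanti
        · simpa using hS.anti j
      · intro j l
        refine Fin.cases ?_ (fun j => ?_) j <;> refine Fin.cases ?_ (fun l => ?_) l
        · intro h; exact absurd rfl h
        · intro _; simpa using hcx _ (hS.xmem l)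
        · intro _; simpa using (hcx _ (hS.xmem j)).symm
        · intro h
          have : j ≠ l := fun h' => h (by rw [h'])
          simpa using hS.cxx j l this
      · intro j l
        refine Fin.cases ?_ (fun j => ?_) j <;> refine Fin.cases ?_ (fun l => ?_) l
        · intro h; exact absurd rfl h
        · intro _; simpa using hcx _ (hS.ymem l)
        · intro _; simpa using (hcy _ (hS.xmem j)).symm
        · intro h
          have : j ≠ l := fun h' => h (by rw [h'])
          simpa using hS.cxy j l this
      · intro j l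
        refine Fin.cases ?_ (fun j => ?_) j <;> refine Fin.cases ?_ (fun l => ?_) l
        · intro h; exact absurd rfl h
        · intro _; simpa using hcy _ (hS.ymem l)
        · intro _; simpa using (hcy _ (hS.ymem j)).symm
        · intro h
          have : j ≠ l := fun h' => h (by rw [h'])
          simpa using hS.cyy j l this
      · have h3 := hS.card
        calc Nat.card E ≤ 2 * Nat.card E1 := c1
          _ ≤ 2 * (2 * Nat.card E') := Nat.mul_le_mul_left 2 c2
          _ ≤ 2 * (2 * (2 ^ k * Nat.card A)) := by
            apply Nat.mul_le_mul_left; apply Nat.mul_le_mul_left; exact h3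
          _ = 2 ^ (k + 1) * (2 * Nat.card A) := by ring
          _ ≤ 2 ^ (k + 1) * Nat.card A' := Nat.mul_le_mul_left _ hcardA

/-- covering by two cosets -/
theorem card_le_two_mul_of_cover [Finite G] (H C : Subgroup G) (h₀ : G)
    (hcov : ∀ h ∈ H, h ∈ C ∨ h₀⁻¹ * h ∈ C) : Nat.card H ≤ 2 * Nat.card C := by
  classical
  let φ : H → (↥C ⊕ ↥C) := fun h =>
    if hc : h.1 ∈ C then Sum.inl ⟨h.1, hc⟩
    else Sum.inr ⟨h₀⁻¹ * h.1, (hcov h.1 h.2).resolve_left hc⟩
  have hφ : Function.Injective φ := by
    intro a b hab
    simp only [φ] at hab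
    by_cases ha : a.1 ∈ C <;> by_cases hb : b.1 ∈ C
    · rw [dif_pos ha, dif_pos hb] at hab
      have := Sum.inl_injective hab
      apply Subtype.ext
      exact congrArg (fun c : ↥C => (c : G)) this
    · rw [dif_pos ha, dif_neg hb] at hab
      exact absurd hab (by simp)
    · rw [dif_neg ha, dif_pos hb] at hab
      exact absurd hab (by simp)
    · rw [dif_neg ha, dif_neg hb] at hab
      have := Sum.inr_injective hab
      apply Subtype.ext
      have h2 := congrArg (fun c : ↥C => (c : G)) this
      exact mul_left_cancel h2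
  have h1 := Nat.card_le_card_of_injective φ hφ
  rw [Nat.card_sum] at h1
  omega

end Cfsg.Agent.Helper14.PeelPairs
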