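import Mathlib
import Cfsg.Agent.Lib.Helper14.PeelPairs
import Cfsg.Agent.Lib.Helper14.AntiComm
import Cfsg.Agent.Lib.Helper5.SpCenter
import Cfsg.Agent.S2234

set_option autoImplicit false

/-!
# The 2-rank of `PSp_{2m}(q)`, `q` odd, is at most `2m - 1` for `m ≥ 3`
-/

namespace Cfsg.Agent.Helper14.PSpRank

open Matrix Cfsg.Agent.Helper5 Cfsg.Agent.Helper14.PeelPairs Cfsg.Agent.Helper14.AntiComm

variable {F : Type*} [Field F] [Fintype F]

theorem two_ne_zero_of_odd' (hodd : Odd (Fintype.card F)) : (2 : F) ≠ 0 := by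
  intro h
  have h1 : ringChar F = 2 := CharP.ringChar_of_prime_eq_zero Nat.prime_two (by exact_mod_cast h)
  have h2 := FiniteField.even_card_of_char_two h1
  rcases hodd with ⟨k, hk⟩
  omega

theorem two_mul_lt_two_pow (m : ℕ) (hm : 3 ≤ m) : 2 * m < 2 ^ m := by
  induction m, hm using Nat.le_induction with
  | base => norm_num
  | succ n hn ih => rw [pow_succ]; omega

theorem coe_spNegOne (m : ℕ) :
    ((spNegOne (Fin m) F : symplecticGroup (Fin m) F) : Matrix (Fin m ⊕ Fin m) (Fin m ⊕ Fin m) F)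
      = -1 := rfl

/-- A subgroup of `Sp_{2m}(q)` in which squares and commutators lie in `{± 1}` has order at most
`2 ^ (2m)`, for `m ≥ 3`. -/
theorem card_le_of_class (hF : Odd (Fintype.card F)) (m : ℕ) (hm : 3 ≤ m)
    (E : Subgroup (symplecticGroup (Fin m) F))
    (hsq : ∀ x ∈ E, x * x = 1 ∨ x * x = spNegOne (Fin m) F)
    (hcomm : ZComm (spNegOne (Fin m) F) E) :
    Nat.card E ≤ 2 ^ (2 * m) := by
  classical
  have h2 : (2 : F) ≠ 0 := two_ne_zero_of_odd' hF
  set z := spNegOne (Fin m) F with hz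
  obtain ⟨k, x, y, A, hS⟩ := exists_system z (Nat.card E) E le_rfl hcomm
  -- the dimension bound
  have hcoe : ∀ a b : symplecticGroup (Fin m) F,
      ((a * b : symplecticGroup (Fin m) F) : Matrix (Fin m ⊕ Fin m) (Fin m ⊕ Fin m) F) =
        (a : Matrix (Fin m ⊕ Fin m) (Fin m ⊕ Fin m) F) * b := fun a b => rfl
  have hsqM : ∀ a ∈ E, (a : Matrix (Fin m ⊕ Fin m) (Fin m ⊕ Fin m) F) * a = 1 ∨
      (a : Matrix (Fin m ⊕ Fin m) (Fin m ⊕ Fin m) F) * a = -1 := by
    intro a ha
    rcases hsq a ha with h | h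
    · left
      have := congrArg Subtype.val h
      exact this
    · right
      have := congrArg Subtype.val h
      exact this
  have hdvd : 2 ^ k ∣ Fintype.card (Fin m ⊕ Fin m) := by
    apply two_pow_dvd_card h2
      (fun j => ((x j : symplecticGroup (Fin m) F) : Matrix (Fin m ⊕ Fin m) (Fin m ⊕ Fin m) F))
      (fun j => ((y j : symplecticGroup (Fin m) F) : Matrix (Fin m ⊕ Fin m) (Fin m ⊕ Fin m) F))
    · intro j; exact hsqM _ (hS.xmem j)
    · intro j; exact hsqM _ (hS.ymem j)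
    · intro j
      have := congrArg Subtype.val (hS.anti j)
      rw [hcoe, hcoe, hcoe, hz, coe_spNegOne, neg_one_mul] at this
      exact this
    · intro j l hjl
      have := congrArg Subtype.val (hS.cxx j l hjl)
      exact this
    · intro j l hjl
      have := congrArg Subtype.val (hS.cxy j l hjl)
      exact this
    · intro j l hjl
      have := congrArg Subtype.val (hS.cyy j l hjl)
      exact this
  have hcard : Fintype.card (Fin m ⊕ Fin m) = 2 * m := by simp; ring
  rw [hcard] at hdvd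
  have hk : k + 1 ≤ m := by
    have h1 : 2 ^ k ≤ 2 * m := Nat.le_of_dvd (by omega) hdvd
    have h3 := two_mul_lt_two_pow m hm
    have h4 : 2 ^ k < 2 ^ m := lt_of_le_of_lt h1 h3
    have := (Nat.pow_lt_pow_iff_right (by norm_num : 1 < 2)).mp h4
    omega
  -- the abelian part
  have hcommA : ∀ a ∈ A, ∀ b ∈ A, a * b = b * a := by
    intro a ha b hb
    have := hS.comm
    have h1 := (IsMulCommutative.is_comm (M := ↥A)).comm ⟨a, ha⟩ ⟨b, hb⟩
    exact congrArg Subtype.val h1
  let A₂ : Subgroup (symplecticGroup (Fin m) F) :=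
    { carrier := {a | a ∈ A ∧ a * a = 1}
      mul_mem' := by
        rintro a b ⟨ha, ha2⟩ ⟨hb, hb2⟩
        refine ⟨A.mul_mem ha hb, ?_⟩
        calc a * b * (a * b) = a * (b * a) * b := by group
          _ = a * (a * b) * b := by rw [hcommA b hb a ha]
          _ = (a * a) * (b * b) := by group
          _ = 1 := by rw [ha2, hb2, mul_one]
      one_mem' := ⟨A.one_mem, mul_one 1⟩
      inv_mem' := by
        rintro a ⟨ha, ha2⟩
        refine ⟨A.inv_mem ha, ?_⟩
        have : a⁻¹ = a := inv_eq_of_mul_eq_one_right ha2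
        rw [this, ha2] }
  have hA₂comm : IsMulCommutative A₂ :=
    .of_setLike_mul_comm fun a ha b hb => hcommA a ha.1 b hb.1
  have hA₂exp : ∀ a ∈ A₂, a ^ 2 = 1 := fun a ha => by rw [pow_two]; exact ha.2
  have hA₂card : Nat.card A₂ ≤ 2 ^ m :=
    (Cfsg.Agent.S2234.result hF m (by omega)).2 A₂ hA₂comm hA₂exp
  have hzz : z * z = 1 := by
    apply Subtype.ext
    rw [hcoe, hz, coe_spNegOne]
    simp
  have hAcard : Nat.card A ≤ 2 * Nat.card A₂ := by
    by_cases hall : ∀ a ∈ A, a * a = 1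
    · apply card_le_two_mul_of_cover A A₂ 1
      intro a ha
      left
      exact ⟨ha, hall a ha⟩
    · push Not at hall
      obtain ⟨a₀, ha₀, hne⟩ := hall
      have ha₀z : a₀ * a₀ = z := (hsq a₀ (hS.le ha₀)).resolve_left hne
      apply card_le_two_mul_of_cover A A₂ a₀
      intro a ha
      by_cases h1 : a * a = 1
      · left; exact ⟨ha, h1⟩
      · right
        have haz : a * a = z := (hsq a (hS.le ha)).resolve_left h1
        refine ⟨A.mul_mem (A.inv_mem ha₀) ha, ?_⟩
        have hc : a * a₀⁻¹ = a₀⁻¹ * a := hcommA a ha a₀⁻¹ (A.inv_mem ha₀)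
        calc a₀⁻¹ * a * (a₀⁻¹ * a) = a₀⁻¹ * (a * a₀⁻¹) * a := by group
          _ = a₀⁻¹ * (a₀⁻¹ * a) * a := by rw [hc]
          _ = (a₀ * a₀)⁻¹ * (a * a) := by group
          _ = 1 := by rw [ha₀z, haz, inv_mul_cancel]
  -- conclusion
  have h5 := hS.card
  calc Nat.card E ≤ 2 ^ k * Nat.card A := h5
    _ ≤ 2 ^ k * (2 * 2 ^ m) := by
      apply Nat.mul_le_mul_left
      exact le_trans hAcard (Nat.mul_le_mul_left 2 hA₂card)
    _ = 2 ^ (k + 1 + m) := by ring
    _ ≤ 2 ^ (2 * m) := Nat.pow_le_pow_right (by norm_num) (by omega)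

end Cfsg.Agent.Helper14.PSpRank
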