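import Mathlib
import Cfsg.Prelude.Def_GeometricClasses
import Cfsg.Agent.Lib.Helper14.SimForm
import Cfsg.Agent.Lib.Lead.SpCard
import Cfsg.Agent.Lib.Helper5.SLCard

/-!
# The index of the symplectic-type subgroup of `SL_n(q)`

The subgroup of `SL_n(q)` of similarities of a symplectic form contains a copy of `Sp_n(q)`, so its
index divides `|SL_n(q)| / |Sp_n(q)| = q ^ N * ∏_{i = 1}^{n/2 - 1} (q ^ (2 i + 1) - 1)`.
-/

set_option autoImplicit false

namespace Cfsg.Agent.Helper14.SpIndex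

open Module Matrix Cfsg.Agent.Helper14.SimForm

variable {F : Type*} [Field F]

/-- the standard alternating form given by the matrix `J` -/
noncomputable def stdJ (m : ℕ) : LinearMap.BilinForm F (Fin m ⊕ Fin m → F) :=
  Matrix.toBilin' (Matrix.J (Fin m) F)

theorem stdJ_apply (m : ℕ) (u v : Fin m ⊕ Fin m → F) :
    stdJ m u v = u ⬝ᵥ (Matrix.J (Fin m) F) *ᵥ v := Matrix.toBilin'_apply' _ u v

theorem J_mulVec (m : ℕ) (v : Fin m ⊕ Fin m → F) :
    (Matrix.J (Fin m) F) *ᵥ v = Sum.elim (-(v ∘ Sum.inr)) (v ∘ Sum.inl) := by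
  unfold Matrix.J
  rw [Matrix.fromBlocks_mulVec]
  simp only [Matrix.zero_mulVec, zero_add, Matrix.neg_mulVec, Matrix.one_mulVec, add_zero]

theorem stdJ_self (m : ℕ) (u : Fin m ⊕ Fin m → F) : stdJ m u u = 0 := by
  rw [stdJ_apply, J_mulVec]
  unfold dotProduct
  rw [Fintype.sum_sum_type]
  simp only [Sum.elim_inl, Sum.elim_inr, Pi.neg_apply, Function.comp_apply]
  rw [← Finset.sum_add_distrib]
  apply Finset.sum_eq_zero
  intro i _
  ring

theorem stdJ_nondeg (m : ℕ) (u : Fin m ⊕ Fin m → F) (hu : ∀ v, stdJ m u v = 0) : u = 0 := by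
  classical
  funext k
  have h := hu (-((Matrix.J (Fin m) F) *ᵥ Pi.single k 1))
  rw [stdJ_apply, Matrix.mulVec_neg, Matrix.mulVec_mulVec, Matrix.J_squared, Matrix.neg_mulVec,
    neg_neg, Matrix.one_mulVec, dotProduct_single_one] at h
  exact h

theorem stdJ_symp (m : ℕ) (S : Matrix (Fin m ⊕ Fin m) (Fin m ⊕ Fin m) F)
    (hS : S ∈ Matrix.symplecticGroup (Fin m) F) (a b : Fin m ⊕ Fin m → F) :
    stdJ m (S *ᵥ a) (S *ᵥ b) = stdJ m a b := by
  rw [stdJ_apply, stdJ_apply, ← Matrix.vecMul_transpose S a, ← Matrix.dotProduct_mulVec,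
    Matrix.mulVec_mulVec, Matrix.mulVec_mulVec, SymplecticGroup.mem_iff'.mp hS]

open Cfsg.Geo in
/-- the symplectic group embeds in the group of determinant-one similarities -/
theorem exists_embedding {n m : ℕ} (hn : n = 2 * m) (f : (Fin n → F) → (Fin n → F) → F)
    (hf : IsSymplecticForm f) :
    ∃ φ : ↥(Matrix.symplecticGroup (Fin m) F) →*
        ↥((similarityGroup f).comap
          (Matrix.SpecialLinearGroup.toGL : Matrix.SpecialLinearGroup (Fin n) F →* GL (Fin n) F)),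
      Function.Injective φ := by
  classical
  let B : LinearMap.BilinForm F (Fin n → F) :=
    LinearMap.mk₂ F f hf.bilinear.add_left (fun c x v => by rw [hf.bilinear.smul_left, smul_eq_mul])
      hf.bilinear.add_right (fun c v x => by rw [hf.bilinear.smul_right, smul_eq_mul])
  have hB : ∀ u v, B u v = f u v := fun _ _ => rfl
  have hfin : finrank F (Fin n → F) = 2 * m := by rw [Module.finrank_pi, Fintype.card_fin, hn]
  have hfin' : finrank F (Fin m ⊕ Fin m → F) = 2 * m := by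
    rw [Module.finrank_pi, Fintype.card_sum, Fintype.card_fin]
    ring
  obtain ⟨A, hA⟩ := exists_equiv_of_alt B (fun x => hf.alternating x)
    (by
      intro x hx
      by_contra hne
      obtain ⟨-, y, hy⟩ := hf.nondegenerate x hne
      exact hy (hx y)) (stdJ m) (stdJ_self m) (stdJ_nondeg m) m hfin hfin'
  -- the matrix attached to a symplectic matrix
  let X : ↥(Matrix.symplecticGroup (Fin m) F) → ((Fin n → F) →ₗ[F] (Fin n → F)) :=
    fun S => A.symm.conj (Matrix.toLin' (S : Matrix (Fin m ⊕ Fin m) (Fin m ⊕ Fin m) F))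
  have hXapp : ∀ S v, X S v = A.symm ((S : Matrix (Fin m ⊕ Fin m) (Fin m ⊕ Fin m) F) *ᵥ (A v)) := by
    intro S v
    show A.symm.conj _ v = _
    rw [LinearEquiv.conj_apply_apply, LinearEquiv.symm_symm, Matrix.toLin'_apply]
  have hXdet : ∀ S, (LinearMap.toMatrix' (X S)).det = 1 := by
    intro S
    rw [LinearMap.det_toMatrix']
    show LinearMap.det (A.symm.conj _) = 1
    rw [LinearEquiv.conj_apply, LinearMap.comp_assoc, LinearMap.det_conj, LinearMap.det_toLin']
    exact SymplecticGroup.det_eq_one S.2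
  have hXmul : ∀ S₁ S₂, X (S₁ * S₂) = X S₁ ∘ₗ X S₂ := by
    intro S₁ S₂
    show A.symm.conj _ = A.symm.conj _ ∘ₗ A.symm.conj _
    rw [← LinearEquiv.conj_comp]
    congr 1
    rw [← Matrix.toLin'_mul]
    rfl
  let ψ : ↥(Matrix.symplecticGroup (Fin m) F) →* Matrix.SpecialLinearGroup (Fin n) F :=
    MonoidHom.mk' (fun S => ⟨LinearMap.toMatrix' (X S), hXdet S⟩) (by
      intro S₁ S₂
      apply Subtype.ext
      show LinearMap.toMatrix' (X (S₁ * S₂)) = LinearMap.toMatrix' (X S₁) * LinearMap.toMatrix' (X S₂)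
      rw [hXmul, LinearMap.toMatrix'_comp])
  have hψval : ∀ S, ((ψ S : Matrix.SpecialLinearGroup (Fin n) F) : Matrix (Fin n) (Fin n) F) =
      LinearMap.toMatrix' (X S) := fun S => rfl
  have hψmem : ∀ S, ψ S ∈ (similarityGroup f).comap
      (Matrix.SpecialLinearGroup.toGL : Matrix.SpecialLinearGroup (Fin n) F →* GL (Fin n) F) := by
    intro S
    rw [Subgroup.mem_comap]
    refine ⟨1, ?_⟩
    intro u v
    show f (((ψ S : Matrix.SpecialLinearGroup (Fin n) F) : Matrix (Fin n) (Fin n) F) *ᵥ u)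
      (((ψ S : Matrix.SpecialLinearGroup (Fin n) F) : Matrix (Fin n) (Fin n) F) *ᵥ v) = _
    rw [hψval, ← Matrix.toLin'_apply, ← Matrix.toLin'_apply, Matrix.toLin'_toMatrix', hXapp, hXapp,
      ← hB, ← hA, LinearEquiv.apply_symm_apply, LinearEquiv.apply_symm_apply, stdJ_symp m _ S.2,
      hA, hB, Units.val_one, one_mul]
  refine ⟨ψ.codRestrict _ hψmem, ?_⟩
  intro S₁ S₂ h
  have h1 : ψ S₁ = ψ S₂ := congrArg Subtype.val h
  have h2 : LinearMap.toMatrix' (X S₁) = LinearMap.toMatrix' (X S₂) := by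
    rw [← hψval, ← hψval, h1]
  have h3 : X S₁ = X S₂ := LinearMap.toMatrix'.injective h2
  have h4 : Matrix.toLin' (S₁ : Matrix (Fin m ⊕ Fin m) (Fin m ⊕ Fin m) F) =
      Matrix.toLin' (S₂ : Matrix (Fin m ⊕ Fin m) (Fin m ⊕ Fin m) F) := A.symm.conj.injective h3
  exact Subtype.ext (Matrix.toLin'.injective h4)

/-! ### numerics -/

theorem prod_split (q : ℕ) (m : ℕ) :
    ∏ j ∈ Finset.range (2 * m), (q ^ (j + 1) - 1) =
      (∏ i ∈ Finset.range m, (q ^ (2 * i + 1) - 1)) *
        ∏ i ∈ Finset.range m, (q ^ (2 * (i + 1)) - 1) := by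
  induction m with
  | zero => simp
  | succ m ih =>
    have : 2 * (m + 1) = 2 * m + 1 + 1 := by ring
    rw [this, Finset.prod_range_succ, Finset.prod_range_succ, ih, Finset.prod_range_succ,
      Finset.prod_range_succ]
    have e1 : 2 * m + 1 + 1 = 2 * (m + 1) := by ring
    rw [e1]
    ring

theorem card_GL_formula (q : ℕ) (hq : 1 ≤ q) (n : ℕ) :
    ∏ i : Fin n, (q ^ n - q ^ (i : ℕ)) =
      q ^ (∑ i ∈ Finset.range n, i) * ∏ j ∈ Finset.range n, (q ^ (j + 1) - 1) := by
  rw [Fin.prod_univ_eq_prod_range (fun i => q ^ n - q ^ i) n,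
    ← Finset.prod_range_reflect (fun j => q ^ (j + 1) - 1) n, ← Finset.prod_pow_eq_pow_sum,
    ← Finset.prod_mul_distrib]
  apply Finset.prod_congr rfl
  intro i hi
  rw [Finset.mem_range] at hi
  have h1 : n - 1 - i + 1 = n - i := by omega
  rw [h1, Nat.mul_sub, mul_one, ← pow_add]
  congr 2
  omega

open Cfsg.Geo in
/-- the prime divisors of the index of the symplectic-type subgroup -/
theorem dvd_cases [Fintype F] {n m : ℕ} (hn : n = 2 * m) (hm : 1 ≤ m)
    (f : (Fin n → F) → (Fin n → F) → F) (hf : IsSymplecticForm f)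
    (r : ℕ) (hr : r.Prime)
    (hΩ : r ∣ ((similarityGroup f).comap
      (Matrix.SpecialLinearGroup.toGL : Matrix.SpecialLinearGroup (Fin n) F →* GL (Fin n) F)).index) :
    r ∣ Fintype.card F ∨ ∃ i, i < m - 1 ∧ r ∣ Fintype.card F ^ (2 * i + 3) - 1 := by
  classical
  set H := (similarityGroup f).comap
      (Matrix.SpecialLinearGroup.toGL : Matrix.SpecialLinearGroup (Fin n) F →* GL (Fin n) F) with hH
  set q := Fintype.card F with hq
  have hq2 : 2 ≤ q := Fintype.one_lt_card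
  obtain ⟨φ, hφ⟩ := exists_embedding hn f hf
  obtain ⟨t, ht⟩ := Subgroup.card_dvd_of_injective φ hφ
  have hSp : Nat.card ↥(Matrix.symplecticGroup (Fin m) F) =
      q ^ (m ^ 2) * ∏ i ∈ Finset.range m, (q ^ (2 * (i + 1)) - 1) := by
    rw [Cfsg.Agent.Lead.card_symplecticGroup m, Nat.card_eq_fintype_card]
  have hSL := Cfsg.Agent.Helper5.card_SL_mul (F := F) (q := q) rfl n (by omega)
  have hidx := Subgroup.card_mul_index H
  rw [card_GL_formula q (by omega) n, hn, prod_split, ← hn] at hSL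
  set E := ∏ i ∈ Finset.range m, (q ^ (2 * (i + 1)) - 1) with hE
  set s := ∑ i ∈ Finset.range n, i with hs
  obtain ⟨m', rfl⟩ : ∃ m', m = m' + 1 := ⟨m - 1, by omega⟩
  rw [Finset.prod_range_succ' (fun i => q ^ (2 * i + 1) - 1) m'] at hSL
  simp only [mul_zero, zero_add, pow_one] at hSL
  set O' := ∏ i ∈ Finset.range m', (q ^ (2 * (i + 1) + 1) - 1) with hO'
  have hEpos : 0 < E := by
    apply Finset.prod_pos
    intro i _
    have : 2 ≤ q ^ (2 * (i + 1)) := by
      calc 2 ≤ q := hq2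
        _ = q ^ 1 := (pow_one q).symm
        _ ≤ q ^ (2 * (i + 1)) := Nat.pow_le_pow_right (by omega) (by omega)
    omega
  have hq1pos : 0 < q - 1 := by omega
  -- `X * q^(m²) * t = q^s * O'`
  have hkey : H.index * (q ^ ((m' + 1) ^ 2) * t) = q ^ s * O' := by
    have h1 : Nat.card ↥H = q ^ ((m' + 1) ^ 2) * E * t := by rw [ht, hSp]
    have h2 : (H.index * (q ^ ((m' + 1) ^ 2) * t)) * (E * (q - 1)) = (q ^ s * O') * (E * (q - 1)) := by
      calc (H.index * (q ^ ((m' + 1) ^ 2) * t)) * (E * (q - 1))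
          = (Nat.card ↥H * H.index) * (q - 1) := by rw [h1]; ring
        _ = Nat.card (Matrix.SpecialLinearGroup (Fin n) F) * (q - 1) := by rw [hidx]
        _ = q ^ s * (O' * (q - 1) * E) := hSL
        _ = (q ^ s * O') * (E * (q - 1)) := by ring
    exact Nat.eq_of_mul_eq_mul_right (Nat.mul_pos hEpos hq1pos) h2
  have hdvd : r ∣ q ^ s * O' := by
    rw [← hkey]
    exact Dvd.dvd.mul_right hΩ _
  rcases (Nat.Prime.dvd_mul hr).mp hdvd with h | h
  · left
    exact hr.dvd_of_dvd_pow h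
  · right
    rw [hO', Prime.dvd_finsetProd_iff (Nat.Prime.prime hr)] at h
    obtain ⟨i, hi, hri⟩ := h
    rw [Finset.mem_range] at hi
    refine ⟨i, by omega, ?_⟩
    have : 2 * (i + 1) + 1 = 2 * i + 3 := by ring
    rw [this] at hri
    exact hri

end Cfsg.Agent.Helper14.SpIndex
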