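import Mathlib
import Cfsg.Agent.S0776
import Cfsg.Agent.S2585
import Cfsg.Agent.Lib.Helper40.SylowSpHoms
import Cfsg.Agent.Lib.Lead.SpCard
import Cfsg.Agent.Lib.Helper14.SpIndex

set_option autoImplicit false

/-!
Pairs of complementary totally isotropic subspaces of the standard symplectic space:
`Sp_{2d}` is transitive on them and the stabilizer of the standard pair contains `GL_d`.
-/

namespace Cfsg.Agent.Helper14.PolarPairs

open Matrix Module Cfsg.Agent.S0776 Cfsg.Agent.Helper13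

variable {F : Type*} [Field F] {d : ℕ}

/-- a pair of complementary totally isotropic subspaces -/
def IsPolar (U W : Submodule F (Fin d ⊕ Fin d → F)) : Prop :=
  IsCompl U W ∧ (∀ u ∈ U, ∀ v ∈ U, Cfsg.sympForm d F u v = 0) ∧
    (∀ u ∈ W, ∀ v ∈ W, Cfsg.sympForm d F u v = 0)

theorem finrank_V : finrank F (Fin d ⊕ Fin d → F) = 2 * d := by
  rw [Module.finrank_fintype_fun_eq_card, Fintype.card_sum, Fintype.card_fin]
  ring

theorem le_orthogonal_of_ti (U : Submodule F (Fin d ⊕ Fin d → F))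
    (hU : ∀ u ∈ U, ∀ v ∈ U, Cfsg.sympForm d F u v = 0) : U ≤ (sB d F).orthogonal U := by
  intro x hx
  rw [LinearMap.BilinForm.mem_orthogonal_iff]
  intro n hn
  show sB d F n x = 0
  rw [sB_apply]
  exact hU n hn x hx

theorem finrank_le_of_ti (U : Submodule F (Fin d ⊕ Fin d → F))
    (hU : ∀ u ∈ U, ∀ v ∈ U, Cfsg.sympForm d F u v = 0) : finrank F U ≤ d := by
  have h1 := Submodule.finrank_mono (le_orthogonal_of_ti U hU)
  have h2 := LinearMap.BilinForm.finrank_orthogonal (sB_nondeg (m := d) (F := F)) U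
  have h3 := Submodule.finrank_le U
  rw [finrank_V] at h2 h3
  omega

theorem IsPolar.finrank_eq {U W : Submodule F (Fin d ⊕ Fin d → F)} (h : IsPolar U W) :
    finrank F U = d ∧ finrank F W = d := by
  have h1 := finrank_le_of_ti U h.2.1
  have h2 := finrank_le_of_ti W h.2.2
  have h3 := Submodule.finrank_add_eq_of_isCompl h.1
  rw [finrank_V] at h3
  omega

theorem orthogonal_eq_of_ti (U : Submodule F (Fin d ⊕ Fin d → F))
    (hU : ∀ u ∈ U, ∀ v ∈ U, Cfsg.sympForm d F u v = 0) (hd : finrank F U = d) :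
    (sB d F).orthogonal U = U := by
  symm
  apply Submodule.eq_of_le_of_finrank_eq (le_orthogonal_of_ti U hU)
  have h2 := LinearMap.BilinForm.finrank_orthogonal (sB_nondeg (m := d) (F := F)) U
  rw [finrank_V] at h2
  omega

/-- the standard pair -/
def U0 (d : ℕ) (F : Type*) [Field F] : Submodule F (Fin d ⊕ Fin d → F) :=
  LinearMap.ker (LinearMap.funLeft F F (Sum.inr : Fin d → Fin d ⊕ Fin d))

def W0 (d : ℕ) (F : Type*) [Field F] : Submodule F (Fin d ⊕ Fin d → F) :=
  LinearMap.ker (LinearMap.funLeft F F (Sum.inl : Fin d → Fin d ⊕ Fin d))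

theorem mem_U0 (v : Fin d ⊕ Fin d → F) : v ∈ U0 d F ↔ ∀ i, v (Sum.inr i) = 0 := by
  unfold U0
  rw [LinearMap.mem_ker]
  constructor
  · intro h i
    exact congrFun h i
  · intro h
    funext i
    exact h i

theorem mem_W0 (v : Fin d ⊕ Fin d → F) : v ∈ W0 d F ↔ ∀ i, v (Sum.inl i) = 0 := by
  unfold W0
  rw [LinearMap.mem_ker]
  constructor
  · intro h i
    exact congrFun h i
  · intro h
    funext i
    exact h i

theorem isPolar_std : IsPolar (U0 d F) (W0 d F) := by
  refine ⟨⟨?_, ?_⟩, ?_, ?_⟩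
  · rw [Submodule.disjoint_def]
    intro x hx hx'
    rw [mem_U0] at hx
    rw [mem_W0] at hx'
    funext i
    rcases i with i | i
    · exact hx' i
    · exact hx i
  · rw [codisjoint_iff, eq_top_iff]
    intro v _
    rw [Submodule.mem_sup]
    refine ⟨fun i => Sum.elim (fun j => v (Sum.inl j)) (fun _ => 0) i, ?_,
      fun i => Sum.elim (fun _ => 0) (fun j => v (Sum.inr j)) i, ?_, ?_⟩
    · rw [mem_U0]; intro i; rfl
    · rw [mem_W0]; intro i; rfl
    · funext i
      rcases i with i | i <;> simp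
  · intro u hu v hv
    rw [mem_U0] at hu hv
    rw [Cfsg.Agent.S2585.sympForm_eq_sum]
    apply Finset.sum_eq_zero
    intro i _
    rw [hu i, hv i]
    ring
  · intro u hu v hv
    rw [mem_W0] at hu hv
    rw [Cfsg.Agent.S2585.sympForm_eq_sum]
    apply Finset.sum_eq_zero
    intro i _
    rw [hu i, hv i]
    ring


/-- a symplectic matrix as a linear equivalence -/
noncomputable def spEquiv (g : Matrix.symplecticGroup (Fin d) F) :
    (Fin d ⊕ Fin d → F) ≃ₗ[F] (Fin d ⊕ Fin d → F) :=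
  LinearEquiv.ofLinearMap (Matrix.toLin' g.1) (Matrix.toLin' (g⁻¹).1)
    (by
      rw [← Matrix.toLin'_mul, ← Submonoid.coe_mul, mul_inv_cancel]
      exact Matrix.toLin'_one)
    (by
      rw [← Matrix.toLin'_mul, ← Submonoid.coe_mul, inv_mul_cancel]
      exact Matrix.toLin'_one)

theorem spEquiv_apply (g : Matrix.symplecticGroup (Fin d) F) (v : Fin d ⊕ Fin d → F) :
    spEquiv g v = Matrix.toLin' g.1 v := rfl

theorem toLin_injective (g : Matrix.symplecticGroup (Fin d) F) :
    Function.Injective (Matrix.toLin' g.1) := (spEquiv g).injective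

theorem finrank_map_sp (g : Matrix.symplecticGroup (Fin d) F)
    (U : Submodule F (Fin d ⊕ Fin d → F)) :
    finrank F (U.map (Matrix.toLin' g.1)) = finrank F U :=
  (LinearEquiv.finrank_eq (Submodule.equivMapOfInjective _ (toLin_injective g) U)).symm

/-- `Sp_{2d}` is transitive on polar pairs -/
theorem exists_sp_map {U W : Submodule F (Fin d ⊕ Fin d → F)} (h : IsPolar U W) :
    ∃ g : Matrix.symplecticGroup (Fin d) F,
      (U0 d F).map (Matrix.toLin' g.1) = U ∧ (W0 d F).map (Matrix.toLin' g.1) = W := by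
  classical
  obtain ⟨hdU, hdW⟩ := h.finrank_eq
  let bU : Basis (Fin d) F U := Module.finBasisOfFinrankEq F U hdU
  let bW : Basis (Fin d) F W := Module.finBasisOfFinrankEq F W hdW
  let c : Basis (Fin d ⊕ Fin d) F (Fin d ⊕ Fin d → F) :=
    (bU.prod bW).map (Submodule.prodEquivOfIsCompl U W h.1)
  have hc1 : ∀ i, c (Sum.inl i) = (bU i : Fin d ⊕ Fin d → F) := by
    intro i
    simp [c, Basis.map_apply, Basis.prod_apply, Submodule.coe_prodEquivOfIsCompl']
  have hc2 : ∀ i, c (Sum.inr i) = (bW i : Fin d ⊕ Fin d → F) := by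
    intro i
    simp [c, Basis.map_apply, Basis.prod_apply, Submodule.coe_prodEquivOfIsCompl']
  let c' := (sB d F).dualBasis sB_nondeg c
  have hdual : ∀ x y, sB d F (c' x) (c y) = if y = x then 1 else 0 := fun x y =>
    LinearMap.BilinForm.apply_dualBasis_left _ _ x y
  have hwW : ∀ i, c' (Sum.inl i) ∈ W := by
    intro i
    rw [← orthogonal_eq_of_ti W h.2.2 hdW, LinearMap.BilinForm.mem_orthogonal_iff]
    intro n hn
    show sB d F n (c' (Sum.inl i)) = 0
    rw [sB_apply, sympForm_swap, ← sB_apply, neg_eq_zero]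
    have hn' : n = ∑ j, (bW.repr ⟨n, hn⟩ j) • (c (Sum.inr j)) := by
      have h1 := congrArg Subtype.val (bW.sum_repr ⟨n, hn⟩)
      rw [Submodule.coe_sum] at h1
      simp only [Submodule.coe_smul] at h1
      refine h1.symm.trans ?_
      apply Finset.sum_congr rfl
      intro j _
      rw [hc2]
    rw [hn', map_sum]
    apply Finset.sum_eq_zero
    intro j _
    rw [map_smul, hdual, if_neg (by simp), smul_zero]
  let y : Fin d ⊕ Fin d → (Fin d ⊕ Fin d → F) :=
    Sum.elim (fun i => (bU i : Fin d ⊕ Fin d → F)) (fun i => c' (Sum.inl i))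
  have hG : ∀ x x', sB d F (y x) (y x') = Matrix.J (Fin d) F x x' := by
    intro x x'
    rcases x with i | i <;> rcases x' with j | j
    · simp only [y, Sum.elim_inl, Matrix.J, Matrix.fromBlocks_apply₁₁, Matrix.zero_apply]
      rw [sB_apply]
      exact h.2.1 _ (bU i).2 _ (bU j).2
    · simp only [y, Sum.elim_inl, Sum.elim_inr, Matrix.J, Matrix.fromBlocks_apply₁₂,
        Matrix.neg_apply, Matrix.one_apply]
      rw [sB_apply, sympForm_swap, ← sB_apply, ← hc1, hdual]
      simp
    · simp only [y, Sum.elim_inl, Sum.elim_inr, Matrix.J, Matrix.fromBlocks_apply₂₁,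
        Matrix.one_apply]
      rw [← hc1, hdual]
      simp [eq_comm]
    · simp only [y, Sum.elim_inr, Matrix.J, Matrix.fromBlocks_apply₂₂, Matrix.zero_apply]
      rw [sB_apply]
      exact h.2.2 _ (hwW i) _ (hwW j)
  let g : (Fin d ⊕ Fin d → F) →ₗ[F] (Fin d ⊕ Fin d → F) :=
    (Pi.basisFun F (Fin d ⊕ Fin d)).constr F y
  have hcomp : (sB d F).comp g g = sB d F := by
    apply LinearMap.BilinForm.ext_basis (Pi.basisFun F (Fin d ⊕ Fin d))
    intro x x'
    rw [LinearMap.BilinForm.comp_apply, Basis.constr_basis, Basis.constr_basis, hG]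
    unfold sB
    rw [Pi.basisFun_apply, Pi.basisFun_apply, Matrix.toBilin'_single]
  have hmem : LinearMap.toMatrix' g ∈ Matrix.symplecticGroup (Fin d) F := by
    rw [SymplecticGroup.mem_iff']
    have h1 := LinearMap.BilinForm.toMatrix'_comp (sB d F) g g
    rw [hcomp] at h1
    unfold sB at h1
    rw [LinearMap.BilinForm.toMatrix'_toBilin'] at h1
    exact h1.symm
  have hgv : ∀ v : Fin d ⊕ Fin d → F, g v =
      ∑ i, v (Sum.inl i) • (bU i : Fin d ⊕ Fin d → F) + ∑ i, v (Sum.inr i) • c' (Sum.inl i) := by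
    intro v
    show (Pi.basisFun F (Fin d ⊕ Fin d)).constr F y v = _
    rw [Basis.constr_apply_fintype, Fintype.sum_sum_type]
    simp [y]
  refine ⟨⟨LinearMap.toMatrix' g, hmem⟩, ?_, ?_⟩
  · apply Submodule.eq_of_le_of_finrank_eq
    · intro x hx
      obtain ⟨v, hv, rfl⟩ := Submodule.mem_map.mp hx
      show Matrix.toLin' (LinearMap.toMatrix' g) v ∈ U
      rw [Matrix.toLin'_toMatrix', hgv]
      rw [mem_U0] at hv
      have h0 : ∑ i, v (Sum.inr i) • c' (Sum.inl i) = 0 := by
        apply Finset.sum_eq_zero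
        intro i _
        rw [hv i, zero_smul]
      rw [h0, add_zero]
      exact Submodule.sum_mem _ (fun i _ => Submodule.smul_mem _ _ (bU i).2)
    · rw [finrank_map_sp, (isPolar_std (d := d) (F := F)).finrank_eq.1, hdU]
  · apply Submodule.eq_of_le_of_finrank_eq
    · intro x hx
      obtain ⟨v, hv, rfl⟩ := Submodule.mem_map.mp hx
      show Matrix.toLin' (LinearMap.toMatrix' g) v ∈ W
      rw [Matrix.toLin'_toMatrix', hgv]
      rw [mem_W0] at hv
      have h0 : ∑ i, v (Sum.inl i) • (bU i : Fin d ⊕ Fin d → F) = 0 := by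
        apply Finset.sum_eq_zero
        intro i _
        rw [hv i, zero_smul]
      rw [h0, zero_add]
      exact Submodule.sum_mem _ (fun i _ => Submodule.smul_mem _ _ (hwW i))
    · rw [finrank_map_sp, (isPolar_std (d := d) (F := F)).finrank_eq.2, hdW]


theorem IsPolar.map {U W : Submodule F (Fin d ⊕ Fin d → F)} (h : IsPolar U W)
    (g : Matrix.symplecticGroup (Fin d) F) :
    IsPolar (U.map (Matrix.toLin' g.1)) (W.map (Matrix.toLin' g.1)) := by
  refine ⟨?_, ?_, ?_⟩
  · have h1 := (OrderIso.isCompl_iff (Submodule.orderIsoMapComap (spEquiv g))).mp h.1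
    rw [Submodule.orderIsoMapComap_apply', Submodule.orderIsoMapComap_apply',
      ← Submodule.map_equiv_eq_comap_symm, ← Submodule.map_equiv_eq_comap_symm] at h1
    exact h1
  · intro u hu v hv
    obtain ⟨u', hu', rfl⟩ := Submodule.mem_map.mp hu
    obtain ⟨v', hv', rfl⟩ := Submodule.mem_map.mp hv
    rw [Matrix.toLin'_apply, Matrix.toLin'_apply, sympForm_mulVec g.2]
    exact h.2.1 u' hu' v' hv'
  · intro u hu v hv
    obtain ⟨u', hu', rfl⟩ := Submodule.mem_map.mp hu
    obtain ⟨v', hv', rfl⟩ := Submodule.mem_map.mp hv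
    rw [Matrix.toLin'_apply, Matrix.toLin'_apply, sympForm_mulVec g.2]
    exact h.2.2 u' hu' v' hv'

/-- the action of `Sp_{2d}` on pairs of subspaces -/
@[instance_reducible]
noncomputable def pairAction (d : ℕ) (F : Type*) [Field F] :
    MulAction (Matrix.symplecticGroup (Fin d) F)
      (Submodule F (Fin d ⊕ Fin d → F) × Submodule F (Fin d ⊕ Fin d → F)) where
  smul g P := (P.1.map (Matrix.toLin' g.1), P.2.map (Matrix.toLin' g.1))
  one_smul P := by
    show (P.1.map (Matrix.toLin' (1 : Matrix.symplecticGroup (Fin d) F).1),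
      P.2.map (Matrix.toLin' (1 : Matrix.symplecticGroup (Fin d) F).1)) = P
    rw [OneMemClass.coe_one, Matrix.toLin'_one, Submodule.map_id, Submodule.map_id]
  mul_smul g h P := by
    show (P.1.map (Matrix.toLin' (g * h).1), P.2.map (Matrix.toLin' (g * h).1)) =
      ((P.1.map (Matrix.toLin' h.1)).map (Matrix.toLin' g.1),
        (P.2.map (Matrix.toLin' h.1)).map (Matrix.toLin' g.1))
    rw [Submonoid.coe_mul, Matrix.toLin'_mul, Submodule.map_comp, Submodule.map_comp]

theorem levi_map_U0 (A : GL (Fin d) F) :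
    (U0 d F).map (Matrix.toLin' (Cfsg.Agent.Helper40.SylGL.leviHom A).1) = U0 d F := by
  apply Submodule.eq_of_le_of_finrank_eq
  · intro x hx
    obtain ⟨v, hv, rfl⟩ := Submodule.mem_map.mp hx
    rw [mem_U0] at hv ⊢
    intro i
    have h0 : v ∘ Sum.inr = 0 := by
      funext j
      exact hv j
    show (Matrix.fromBlocks (A : Matrix (Fin d) (Fin d) F) 0 0
      ((A⁻¹ : GL (Fin d) F) : Matrix (Fin d) (Fin d) F)ᵀ *ᵥ v) (Sum.inr i) = 0
    rw [Matrix.fromBlocks_mulVec, Sum.elim_inr, h0, Matrix.mulVec_zero, Matrix.zero_mulVec]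
    simp
  · rw [finrank_map_sp]

theorem levi_map_W0 (A : GL (Fin d) F) :
    (W0 d F).map (Matrix.toLin' (Cfsg.Agent.Helper40.SylGL.leviHom A).1) = W0 d F := by
  apply Submodule.eq_of_le_of_finrank_eq
  · intro x hx
    obtain ⟨v, hv, rfl⟩ := Submodule.mem_map.mp hx
    rw [mem_W0] at hv ⊢
    intro i
    have h0 : v ∘ Sum.inl = 0 := by
      funext j
      exact hv j
    show (Matrix.fromBlocks (A : Matrix (Fin d) (Fin d) F) 0 0
      ((A⁻¹ : GL (Fin d) F) : Matrix (Fin d) (Fin d) F)ᵀ *ᵥ v) (Sum.inl i) = 0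
    rw [Matrix.fromBlocks_mulVec, Sum.elim_inl, h0, Matrix.mulVec_zero, Matrix.zero_mulVec]
    simp
  · rw [finrank_map_sp]

/-- orbit-stabilizer for polar pairs -/
theorem card_polar_mul [Fintype F] :
    ∃ t : ℕ, Nat.card {P : Submodule F (Fin d ⊕ Fin d → F) × Submodule F (Fin d ⊕ Fin d → F) //
        IsPolar P.1 P.2} * (Nat.card (GL (Fin d) F) * t) =
      Nat.card (Matrix.symplecticGroup (Fin d) F) := by
  classical
  let _ := pairAction d F
  set ω₀ : Submodule F (Fin d ⊕ Fin d → F) × Submodule F (Fin d ⊕ Fin d → F) :=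
    (U0 d F, W0 d F) with hω
  have hsmul : ∀ (g : Matrix.symplecticGroup (Fin d) F)
      (P : Submodule F (Fin d ⊕ Fin d → F) × Submodule F (Fin d ⊕ Fin d → F)),
      g • P = (P.1.map (Matrix.toLin' g.1), P.2.map (Matrix.toLin' g.1)) := fun g P => rfl
  have horb : MulAction.orbit (Matrix.symplecticGroup (Fin d) F) ω₀ =
      {P | IsPolar P.1 P.2} := by
    ext P
    constructor
    · rintro ⟨g, rfl⟩
      show IsPolar (g • ω₀).1 (g • ω₀).2
      rw [hsmul]
      exact isPolar_std.map g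
    · intro hP
      obtain ⟨g, h1, h2⟩ := exists_sp_map hP
      refine ⟨g, ?_⟩
      show g • ω₀ = P
      rw [hsmul]
      exact Prod.ext h1 h2
  have h1 : Nat.card {P : Submodule F (Fin d ⊕ Fin d → F) × Submodule F (Fin d ⊕ Fin d → F) //
        IsPolar P.1 P.2} =
      Nat.card (MulAction.orbit (Matrix.symplecticGroup (Fin d) F) ω₀) := by
    rw [horb]
    rfl
  have h2 := Nat.card_congr
    (MulAction.orbitProdStabilizerEquivGroup (Matrix.symplecticGroup (Fin d) F) ω₀)
  rw [Nat.card_prod] at h2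
  let ψ : GL (Fin d) F →* MulAction.stabilizer (Matrix.symplecticGroup (Fin d) F) ω₀ :=
    (Cfsg.Agent.Helper40.SylGL.leviHom (F := F) (n := d)).codRestrict _ (by
      intro A
      rw [MulAction.mem_stabilizer_iff, hsmul]
      exact Prod.ext (levi_map_U0 A) (levi_map_W0 A))
  have hψ : Function.Injective ψ := by
    intro A A' hAA
    apply Cfsg.Agent.Helper40.SylGL.leviHom_injective
    exact congrArg Subtype.val hAA
  obtain ⟨t, ht⟩ := Subgroup.card_dvd_of_injective ψ hψ
  refine ⟨t, ?_⟩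
  rw [h1, ← ht]
  exact h2


/-- the number of (ordered) polar pairs is even -/
theorem even_card_polar [Fintype F] (hd : 1 ≤ d) :
    Even (Nat.card {P : Submodule F (Fin d ⊕ Fin d → F) × Submodule F (Fin d ⊕ Fin d → F) //
        IsPolar P.1 P.2}) := by
  classical
  have : Fintype {P : Submodule F (Fin d ⊕ Fin d → F) × Submodule F (Fin d ⊕ Fin d → F) //
        IsPolar P.1 P.2} := Fintype.ofFinite _
  let sw : {P : Submodule F (Fin d ⊕ Fin d → F) × Submodule F (Fin d ⊕ Fin d → F) //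
        IsPolar P.1 P.2} → {P : Submodule F (Fin d ⊕ Fin d → F) × Submodule F (Fin d ⊕ Fin d → F) //
        IsPolar P.1 P.2} := fun P => ⟨(P.1.2, P.1.1), ⟨P.2.1.symm, P.2.2.2, P.2.2.1⟩⟩
  have hsw : ∀ P, sw (sw P) = P := fun P => Subtype.ext rfl
  let σ : Equiv.Perm {P : Submodule F (Fin d ⊕ Fin d → F) × Submodule F (Fin d ⊕ Fin d → F) //
        IsPolar P.1 P.2} := ⟨sw, sw, hsw, hsw⟩
  have hσ : σ ^ 2 = 1 := by
    ext1 P
    rw [pow_two, Equiv.Perm.mul_apply, Equiv.Perm.one_apply]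
    exact hsw P
  have hsupp : σ.support = Finset.univ := by
    ext P
    simp only [Equiv.Perm.mem_support, Finset.mem_univ, iff_true]
    intro h
    have h1 : P.1.2 = P.1.1 := congrArg (fun Q => Q.1.1) h
    have h2 := P.2.1.disjoint
    rw [h1, disjoint_self] at h2
    have h3 := P.2.finrank_eq.1
    rw [h2, finrank_bot] at h3
    omega
  have := Equiv.Perm.two_dvd_card_support hσ
  rw [hsupp, Finset.card_univ, ← Nat.card_eq_fintype_card] at this
  exact even_iff_two_dvd.mpr this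

/-- primes dividing the number of polar pairs -/
theorem exists_dvd_pow_add_one [Fintype F] {p : ℕ} [Fact p.Prime] [CharP F p] (hd : 1 ≤ d)
    (r : ℕ) (hr : r.Prime) (hrp : r ≠ p)
    (hΩ : r ∣ Nat.card {P : Submodule F (Fin d ⊕ Fin d → F) × Submodule F (Fin d ⊕ Fin d → F) //
        IsPolar P.1 P.2} / 2) :
    ∃ j, 1 ≤ j ∧ j ≤ d ∧ r ∣ Fintype.card F ^ j + 1 := by
  classical
  set N := Nat.card {P : Submodule F (Fin d ⊕ Fin d → F) × Submodule F (Fin d ⊕ Fin d → F) //
        IsPolar P.1 P.2} with hN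
  set q := Fintype.card F with hq
  have hq2 : 2 ≤ q := Fintype.one_lt_card
  have hrN : r ∣ N := by
    obtain ⟨k, hk⟩ := even_card_polar (F := F) hd
    rw [← hN] at hk
    have : N / 2 = k := by omega
    rw [this] at hΩ
    rw [hk, ← two_mul]
    exact Dvd.dvd.mul_left hΩ 2
  obtain ⟨t, ht⟩ := card_polar_mul (F := F) (d := d)
  rw [← hN, Cfsg.Agent.Lead.card_symplecticGroup, Nat.card_eq_fintype_card (α := F), ← hq,
    Matrix.card_GL_field, ← hq,
    Cfsg.Agent.Helper14.SpIndex.card_GL_formula q (by omega) d] at ht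
  have hsplit : ∏ i ∈ Finset.range d, (q ^ (2 * (i + 1)) - 1) =
      (∏ i ∈ Finset.range d, (q ^ (i + 1) - 1)) * ∏ i ∈ Finset.range d, (q ^ (i + 1) + 1) := by
    rw [← Finset.prod_mul_distrib]
    apply Finset.prod_congr rfl
    intro i _
    have h1 : q ^ (2 * (i + 1)) = (q ^ (i + 1)) ^ 2 := by rw [← pow_mul, mul_comm]
    have h2 := Nat.sq_sub_sq (q ^ (i + 1)) 1
    rw [one_pow] at h2
    rw [h1, h2, mul_comm]
  rw [hsplit] at ht
  have hPpos : 0 < ∏ i ∈ Finset.range d, (q ^ (i + 1) - 1) := by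
    apply Finset.prod_pos
    intro i _
    have : 2 ≤ q ^ (i + 1) := by
      calc 2 ≤ q := hq2
        _ = q ^ 1 := (pow_one q).symm
        _ ≤ q ^ (i + 1) := Nat.pow_le_pow_right (by omega) (by omega)
    omega
  have ht' : N * (q ^ (∑ i ∈ Finset.range d, i) * t) * ∏ i ∈ Finset.range d, (q ^ (i + 1) - 1) =
      q ^ (d ^ 2) * (∏ i ∈ Finset.range d, (q ^ (i + 1) + 1)) *
        ∏ i ∈ Finset.range d, (q ^ (i + 1) - 1) := by
    calc N * (q ^ (∑ i ∈ Finset.range d, i) * t) * ∏ i ∈ Finset.range d, (q ^ (i + 1) - 1)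
        = N * (((q ^ ∑ i ∈ Finset.range d, i) * ∏ j ∈ Finset.range d, (q ^ (j + 1) - 1)) * t) := by
          ring
      _ = _ := ht
      _ = _ := by ring
  have ht'' := Nat.eq_of_mul_eq_mul_right hPpos ht'
  have hdvd : r ∣ q ^ (d ^ 2) * ∏ i ∈ Finset.range d, (q ^ (i + 1) + 1) := by
    rw [← ht'']
    exact Dvd.dvd.mul_right hrN _
  rcases (Nat.Prime.dvd_mul hr).mp hdvd with h | h
  · exfalso
    have h1 := hr.dvd_of_dvd_pow h
    obtain ⟨k, _, hk⟩ := FiniteField.card F p
    rw [hq, hk] at h1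
    have h2 := hr.dvd_of_dvd_pow h1
    exact hrp ((Nat.prime_dvd_prime_iff_eq hr (Fact.out : p.Prime)).mp h2)
  · obtain ⟨i, hi, hdi⟩ := (Prime.dvd_finsetProd_iff (Nat.Prime.prime hr) _).mp h
    rw [Finset.mem_range] at hi
    exact ⟨i + 1, by omega, by omega, hdi⟩

end Cfsg.Agent.Helper14.PolarPairs
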