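import Mathlib
import Cfsg.Agent.Lib.Helper14.PolarPairs
import Cfsg.Agent.Lib.Helper44.SpTransfer

set_option autoImplicit false

/-!
Derangements of odd prime order of `Sp_{2d}(q)` on polar pairs: an isometry with a self-dual
irreducible factor of multiplicity one fixes no pair of complementary totally isotropic subspaces.
-/

namespace Cfsg.Agent.Helper14.PolarDerange

open Matrix Module Polynomial Cfsg.Agent.S0776 Cfsg.Agent.Helper13 Cfsg.Agent.Helper14.PolarPairs
open Cfsg.Agent.Helper42.SemiConj Cfsg.Agent.Helper44.StarInv Cfsg.Agent.Helper44.SpBlocks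

universe u

section general

variable {F : Type u} [Field F]

theorem aeval_intertwine {N V : Type*} [AddCommGroup N] [Module F N] [AddCommGroup V] [Module F V]
    (ι : N →ₗ[F] V) (S : N →ₗ[F] N) (T : V →ₗ[F] V) (h : ∀ x, ι (S x) = T (ι x)) (q : F[X]) :
    ∀ x : N, ι (aeval S q x) = aeval T q (ι x) := by
  induction q using Polynomial.induction_on with
  | C a =>
    intro x
    rw [aeval_C, aeval_C, Module.algebraMap_end_apply, Module.algebraMap_end_apply, map_smul]
  | add p q hp hq =>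
    intro x
    rw [map_add, map_add, LinearMap.add_apply, LinearMap.add_apply, map_add, hp, hq]
  | monomial n a ih =>
    intro x
    have e : (C a * X ^ (n + 1) : F[X]) = (C a * X ^ n) * X := by ring
    have hS : aeval S (C a * X ^ (n + 1)) = aeval S (C a * X ^ n) * S := by
      rw [e, map_mul, aeval_X]
    have hT : aeval T (C a * X ^ (n + 1)) = aeval T (C a * X ^ n) * T := by
      rw [e, map_mul, aeval_X]
    rw [hS, hT, Module.End.mul_apply, Module.End.mul_apply, ih, h]

theorem aeval_mem_of_invariant {V : Type*} [AddCommGroup V] [Module F V] (T : V →ₗ[F] V)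
    (U : Submodule F V) (hU : ∀ u ∈ U, T u ∈ U) (q : F[X]) : ∀ u ∈ U, aeval T q u ∈ U := by
  intro u hu
  have h1 := aeval_intertwine U.subtype (T.restrict hU) T (fun x => rfl) q ⟨u, hu⟩
  rw [Submodule.subtype_apply, Submodule.subtype_apply] at h1
  rw [← h1]
  exact (aeval (T.restrict hU) q ⟨u, hu⟩).2

theorem adjoint_aeval {V : Type*} [AddCommGroup V] [Module F V] (B : LinearMap.BilinForm F V)
    (T Ti : V →ₗ[F] V) (hiso : ∀ x y, B (T x) (T y) = B x y) (hTi : ∀ x, T (Ti x) = x)
    (q : F[X]) : ∀ x z, B x (aeval T q z) = B (aeval Ti q x) z := by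
  have key : ∀ x z, B x (T z) = B (Ti x) z := by
    intro x z
    rw [← hiso (Ti x) z, hTi]
  induction q using Polynomial.induction_on with
  | C a =>
    intro x z
    rw [aeval_C, aeval_C, Module.algebraMap_end_apply, Module.algebraMap_end_apply, map_smul,
      map_smul, LinearMap.smul_apply]
  | add p q hp hq =>
    intro x z
    rw [map_add, map_add, LinearMap.add_apply, LinearMap.add_apply, map_add, hp, hq, map_add,
      LinearMap.add_apply]
  | monomial n a ih =>
    intro x z
    have e : (C a * X ^ (n + 1) : F[X]) = (C a * X ^ n) * X := by ring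
    have e' : (C a * X ^ (n + 1) : F[X]) = X * (C a * X ^ n) := by ring
    have hT : aeval T (C a * X ^ (n + 1)) = aeval T (C a * X ^ n) * T := by
      rw [e, map_mul, aeval_X]
    have hTi' : aeval Ti (C a * X ^ (n + 1)) = Ti * aeval Ti (C a * X ^ n) := by
      rw [e', map_mul, aeval_X]
    rw [hT, hTi', Module.End.mul_apply, Module.End.mul_apply, ih, key]

end general


section main

variable {F : Type u} [Field F] [Fintype F] {p : ℕ} [Fact p.Prime] [CharP F p] {d : ℕ}

omit [Fintype F] in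
theorem aeval_comm_apply {V : Type*} [AddCommGroup V] [Module F V] (T : V →ₗ[F] V) (q : F[X])
    (x : V) : aeval T q (T x) = T (aeval T q x) := by
  have h1 : aeval T (q * X) = aeval T (X * q) := by rw [mul_comm]
  rw [map_mul, map_mul, aeval_X] at h1
  have := LinearMap.congr_fun h1 x
  rw [Module.End.mul_apply, Module.End.mul_apply] at this
  exact this

/-- the `f₀`-primary component is nondegenerate when `f₀` is self-dual -/
theorem primary_nondeg (T : (Fin d ⊕ Fin d → F) →ₗ[F] (Fin d ⊕ Fin d → F))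
    (hiso : ∀ x y, Cfsg.sympForm d F (T x) (T y) = Cfsg.sympForm d F x y)
    (r : ℕ) (hr : r.Prime) (hrp : r ≠ p) (hT : T ^ r = 1)
    (f₀ : F[X]) (hf₀ : f₀ ∈ powFactors F r) (hst : star r f₀ = f₀)
    (x : Fin d ⊕ Fin d → F) (hx : x ∈ LinearMap.ker (aeval T f₀))
    (hperp : ∀ y ∈ LinearMap.ker (aeval T f₀), Cfsg.sympForm d F x y = 0) : x = 0 := by
  classical
  -- the cofactor
  set h : F[X] := ∏ g ∈ (powFactors F r).erase f₀, g with hh
  have hprod : f₀ * h = X ^ r - 1 := by
    rw [hh, Finset.mul_prod_erase (powFactors F r) (fun g => g) hf₀, powFactors_prod r hr hrp]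
  have hcop : IsCoprime f₀ h := by
    rw [hh]
    apply IsCoprime.prod_right
    intro g hg
    rw [Finset.mem_erase] at hg
    exact powFactors_coprime r hr hrp hf₀ hg.2 (Ne.symm hg.1)
  obtain ⟨a, b, hab⟩ := hcop
  have hTr : aeval T (X ^ r - 1 : F[X]) = 0 := by
    rw [map_sub, map_pow, aeval_X, map_one, hT, sub_self]
  have hTi : ∀ v, T ((T ^ (r - 1)) v) = v := by
    intro v
    have h1 : T * T ^ (r - 1) = 1 := by
      rw [← pow_succ', Nat.sub_add_cancel hr.one_le, hT]
    have := LinearMap.congr_fun h1 v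
    rw [Module.End.mul_apply] at this
    exact this
  have hadj := adjoint_aeval (sB d F) T (T ^ (r - 1))
    (by intro u v; rw [sB_apply, sB_apply]; exact hiso u v) hTi f₀
  have hx' : aeval (T ^ (r - 1)) f₀ x = 0 := by
    have h1 := ker_star_eq T r hr hrp hT f₀ hf₀
    rw [hst] at h1
    have h2 : x ∈ LinearMap.ker (aeval (T ^ (r - 1)) f₀) := by rw [h1]; exact hx
    exact LinearMap.mem_ker.mp h2
  apply (sB_nondeg (m := d) (F := F)).1 x
  intro y
  rw [sB_apply]
  have hy : y = aeval T f₀ (aeval T a y) + aeval T (b * h) y := by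
    have h1 : aeval T (a * f₀ + b * h) y = y := by
      rw [hab, map_one, Module.End.one_apply]
    rw [map_add, LinearMap.add_apply, mul_comm a f₀, map_mul, Module.End.mul_apply] at h1
    exact h1.symm
  have hy2 : aeval T (b * h) y ∈ LinearMap.ker (aeval T f₀) := by
    rw [LinearMap.mem_ker, ← Module.End.mul_apply, ← map_mul]
    have e : f₀ * (b * h) = b * (X ^ r - 1) := by rw [← hprod]; ring
    rw [e, map_mul, hTr, mul_zero, LinearMap.zero_apply]
  rw [hy, sympForm_add_right, hperp _ hy2, add_zero, ← sB_apply, hadj, hx', map_zero,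
    LinearMap.zero_apply]

/-- an isometry with a self-dual irreducible factor of multiplicity one fixes no polar pair -/
theorem no_invariant_polar (T : (Fin d ⊕ Fin d → F) →ₗ[F] (Fin d ⊕ Fin d → F))
    (hiso : ∀ x y, Cfsg.sympForm d F (T x) (T y) = Cfsg.sympForm d F x y)
    (r : ℕ) (hr : r.Prime) (hrp : r ≠ p) (hT : T ^ r = 1)
    (f₀ : F[X]) (hf₀ : f₀ ∈ powFactors F r) (hst : star r f₀ = f₀)
    (hdim : finrank F (LinearMap.ker (aeval T f₀)) = f₀.natDegree)
    (U W : Submodule F (Fin d ⊕ Fin d → F)) (hUW : IsPolar U W)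
    (hU : ∀ u ∈ U, T u ∈ U) (hW : ∀ w ∈ W, T w ∈ W) : False := by
  classical
  have hirr := powFactors_irr r f₀ hf₀
  have hdeg : 0 < f₀.natDegree := hirr.natDegree_pos
  set M := LinearMap.ker (aeval T f₀) with hM
  have hMinv : ∀ x ∈ M, T x ∈ M := by
    intro x hx
    rw [hM, LinearMap.mem_ker] at hx ⊢
    rw [aeval_comm_apply, hx, map_zero]
  have hsplit : ∀ x ∈ M, ∃ u ∈ M ⊓ U, ∃ w ∈ M ⊓ W, u + w = x := by
    intro x hx
    obtain ⟨u, hu, w, hw, rfl⟩ : ∃ u ∈ U, ∃ w ∈ W, u + w = x := by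
      have hx' : x ∈ U ⊔ W := by rw [hUW.1.sup_eq_top]; trivial
      exact Submodule.mem_sup.mp hx'
    have h1 := aeval_mem_of_invariant T U hU f₀ u hu
    have h2 := aeval_mem_of_invariant T W hW f₀ w hw
    rw [hM, LinearMap.mem_ker, map_add] at hx
    have h3 : aeval T f₀ u = - aeval T f₀ w := eq_neg_of_add_eq_zero_left hx
    have h4 : aeval T f₀ u ∈ U ⊓ W := ⟨h1, by rw [h3]; exact W.neg_mem h2⟩
    rw [hUW.1.inf_eq_bot, Submodule.mem_bot] at h4
    have h5 : aeval T f₀ w = 0 := by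
      rw [h4] at h3
      exact neg_eq_zero.mp h3.symm
    exact ⟨u, ⟨LinearMap.mem_ker.mpr h4, hu⟩, w, ⟨LinearMap.mem_ker.mpr h5, hw⟩, rfl⟩
  have hsup : (M ⊓ U) ⊔ (M ⊓ W) = M := by
    apply le_antisymm
    · exact sup_le inf_le_left inf_le_left
    · intro x hx
      obtain ⟨u, hu, w, hw, rfl⟩ := hsplit x hx
      exact Submodule.add_mem_sup hu hw
  have hinf : (M ⊓ U) ⊓ (M ⊓ W) = ⊥ := by
    rw [eq_bot_iff, ← hUW.1.inf_eq_bot]
    exact inf_le_inf inf_le_right inf_le_right
  have hfr := Submodule.finrank_sup_add_finrank_inf_eq (M ⊓ U) (M ⊓ W)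
  rw [hsup, hinf, finrank_bot, add_zero, hdim] at hfr
  have hdvd : ∀ (N : Submodule F (Fin d ⊕ Fin d → F)), N ≤ M → (∀ x ∈ N, T x ∈ N) →
      f₀.natDegree ∣ finrank F N := by
    intro N hNM hN
    apply natDegree_dvd_finrank (T.restrict hN) f₀ hirr
    apply LinearMap.ext
    intro x
    apply Subtype.ext
    have h1 := aeval_intertwine N.subtype (T.restrict hN) T (fun _ => rfl) f₀ x
    rw [Submodule.subtype_apply, Submodule.subtype_apply] at h1
    rw [h1]
    exact LinearMap.mem_ker.mp (hNM x.2)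
  obtain ⟨k₁, hk₁⟩ := hdvd (M ⊓ U) inf_le_left (fun x hx => ⟨hMinv x hx.1, hU x hx.2⟩)
  obtain ⟨k₂, hk₂⟩ := hdvd (M ⊓ W) inf_le_left (fun x hx => ⟨hMinv x hx.1, hW x hx.2⟩)
  -- `M` lies in `U` or in `W`, hence is totally isotropic
  have hti : ∀ x ∈ M, ∀ y ∈ M, Cfsg.sympForm d F x y = 0 := by
    have hcases : finrank F ↥(M ⊓ U) = f₀.natDegree ∨ finrank F ↥(M ⊓ W) = f₀.natDegree := by
      rcases Nat.eq_zero_or_pos k₁ with h0 | h0
      · right
        rw [hk₁, h0, mul_zero, zero_add] at hfr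
        exact hfr.symm
      · left
        have : f₀.natDegree ≤ f₀.natDegree * k₁ := Nat.le_mul_of_pos_right _ h0
        omega
    rcases hcases with h1 | h1
    · have h2 : M ⊓ U = M := Submodule.eq_of_le_of_finrank_eq inf_le_left (by rw [h1, hdim])
      have h3 : M ≤ U := by rw [← h2]; exact inf_le_right
      intro x hx y hy
      exact hUW.2.1 x (h3 hx) y (h3 hy)
    · have h2 : M ⊓ W = M := Submodule.eq_of_le_of_finrank_eq inf_le_left (by rw [h1, hdim])
      have h3 : M ≤ W := by rw [← h2]; exact inf_le_right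
      intro x hx y hy
      exact hUW.2.2 x (h3 hx) y (h3 hy)
  have hpos : 0 < finrank F M := by rw [hdim]; exact hdeg
  obtain ⟨x, hx0⟩ := Module.finrank_pos_iff_exists_ne_zero.mp hpos
  apply hx0
  apply Subtype.ext
  exact primary_nondeg T hiso r hr hrp hT f₀ hf₀ hst x.1 x.2 (fun y hy => hti x.1 x.2 y hy)


/-- an element of order `r` of `Sp_{2d}(q)` with a self-dual irreducible factor of
multiplicity one, when `r ∣ q ^ j + 1` for some `j ≤ d` -/
theorem exists_block (r : ℕ) (hr : r.Prime) (hr2 : r ≠ 2) (hrp : r ≠ p)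
    (j : ℕ) (hjd : j ≤ d) (hdvd : r ∣ Fintype.card F ^ j + 1) :
    ∃ (A : Matrix.symplecticGroup (Fin d) F) (f₀ : F[X]), A ^ r = 1 ∧ f₀ ∈ cycFactors F r ∧
      star r f₀ = f₀ ∧ kdi A.1 f₀ = f₀.natDegree ∧ 2 ≤ f₀.natDegree := by
  classical
  haveI : Fact r.Prime := ⟨hr⟩
  set q := Fintype.card F with hq
  set e := orderOf ((q : ℕ) : ZMod r) with he
  have hqj : ((q : ℕ) : ZMod r) ^ j = -1 := by
    have h1 : (((q ^ j + 1 : ℕ) : ℕ) : ZMod r) = 0 := (ZMod.natCast_eq_zero_iff _ _).mpr hdvd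
    rw [Nat.cast_add, Nat.cast_pow, Nat.cast_one] at h1
    exact eq_neg_of_add_eq_zero_left h1
  have hne : (-1 : ZMod r) ≠ 1 := by
    intro h
    have h2 : (2 : ZMod r) = 0 := by
      have : (1 : ZMod r) + 1 = 0 := by
        nth_rewrite 1 [← h]
        ring
      rw [← this]; norm_num
    have h3 : ((2 : ℕ) : ZMod r) = 0 := by exact_mod_cast h2
    rw [ZMod.natCast_eq_zero_iff] at h3
    exact hr2 ((Nat.prime_dvd_prime_iff_eq hr Nat.prime_two).mp h3)
  have h2j : ((q : ℕ) : ZMod r) ^ (2 * j) = 1 := by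
    rw [mul_comm, pow_mul, hqj]; ring
  have hdvd2 : e ∣ 2 * j := orderOf_dvd_of_pow_eq_one h2j
  have hndvd : ¬ e ∣ j := by
    intro h
    have := orderOf_dvd_iff_pow_eq_one.mp h
    rw [hqj] at this
    exact hne this
  have hev : Even e := by
    by_contra hodd
    rw [Nat.not_even_iff_odd] at hodd
    have hcop : Nat.Coprime e 2 := hodd.coprime_two_right
    exact hndvd (hcop.dvd_of_dvd_mul_left hdvd2)
  obtain ⟨e', he'⟩ := hev
  have he'j : e' ∣ j := by
    have : 2 * e' ∣ 2 * j := by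
      have h1 : e' + e' = 2 * e' := by ring
      rw [← h1, ← he']; exact hdvd2
    exact (Nat.mul_dvd_mul_iff_left (by norm_num)).mp this
  have hjpos : 0 < j := by
    rcases Nat.eq_zero_or_pos j with h0 | h0
    · exfalso
      apply hndvd
      rw [h0]
      exact dvd_zero _
    · exact h0
  have he'd : e' ≤ d := le_trans (Nat.le_of_dvd hjpos he'j) hjd
  have hcard := cyc_card (F := F) r hr hrp
  rw [← hq, ← he] at hcard
  have hr3 : 2 ≤ r - 1 := by
    have := hr.two_le
    rcases Nat.lt_or_ge 2 r with h | h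
    · omega
    · exact absurd (by omega) hr2
  have hnonempty : (cycFactors F r).Nonempty := by
    rw [Finset.nonempty_iff_ne_empty]
    intro h0
    rw [h0, Finset.card_empty, zero_mul] at hcard
    omega
  obtain ⟨f₀, hf₀⟩ := hnonempty
  have hdeg : f₀.natDegree = e := cyc_natDegree r hr hrp f₀ hf₀
  have hepos : 0 < e := by
    rcases Nat.eq_zero_or_pos e with h0 | h0
    · rw [h0, mul_zero] at hcard; omega
    · exact h0
  have hst : star r f₀ = f₀ := star_eq_self_of_even r hr hrp f₀ hf₀ (by rw [← hq, ← he]; exact ⟨e', he'⟩)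
  have hfp := mem_pow_of_mem_cyc r f₀ hf₀
  have hne1 : f₀ ≠ X - 1 := by
    intro h
    rw [h] at hf₀
    exact X_sub_one_notMem_cyc r hr hrp hf₀
  have h1 := spReal_self r hr hr2 hrp f₀ hf₀ hst
  have h2 := spReal_pair (F := F) r hr hrp (X - 1) (X_sub_one_mem_pow r)
  have h3 := spReal_nsmul _ r _ h2 (d - e')
  have h4 := spReal_add _ r _ _ h1 h3
  have hX1 : (X - 1 : F[X]).natDegree = 1 := by
    have h1 : (X - 1 : F[X]) = X - C 1 := by rw [map_one]
    rw [h1]; exact natDegree_X_sub_C 1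
  have hsum : ∑ f ∈ powFactors F r, ((if f = f₀ then f₀.natDegree else 0) +
      (d - e') * ((if f = X - 1 then (X - 1 : F[X]).natDegree else 0) +
        (if f = star r (X - 1) then (X - 1 : F[X]).natDegree else 0))) = 2 * d := by
    rw [Finset.sum_add_distrib, ← Finset.mul_sum, Finset.sum_add_distrib, star_X_sub_one,
      Finset.sum_ite_eq' (powFactors F r) f₀, if_pos hfp,
      Finset.sum_ite_eq' (powFactors F r) (X - 1 : F[X]), if_pos (X_sub_one_mem_pow r), hX1, hdeg]
    omega
  obtain ⟨A, hA1, hA2⟩ := exists_sp_of_real d r hr hrp _ h4 hsum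
  refine ⟨A, f₀, hA1, hf₀, hst, ?_, by omega⟩
  rw [hA2 f₀ hfp, if_pos rfl, if_neg hne1, star_X_sub_one, if_neg hne1]
  simp

end main

end Cfsg.Agent.Helper14.PolarDerange
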