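import Mathlib
import Cfsg.Agent.Lib.Helper43.SpinorNorm
import Cfsg.Agent.Lib.Helper14.ReflClass
import Cfsg.Agent.S0795
import Cfsg.Agent.S0787

set_option autoImplicit false

namespace Cfsg.Agent.Helper14.ReflIndex

open Matrix QuadraticMap Cfsg.Agent.Helper43

section Gen
variable {F : Type*} [Field F] {V : Type*} [AddCommGroup V] [Module F V]

theorem three_refl (Q : QuadraticForm F V) (a b : V) (α β : F) (hA : Q a ≠ 0) (hB : Q b ≠ 0)
    (hX : α * α * Q a + β * β * Q b + α * β * polar Q a b ≠ 0) (v : V) :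
    reflLin Q a (reflLin Q (α • a + β • b) (reflLin Q b v)) =
      reflLin Q ((β * Q b) • a + (α * Q a) • b) v := by
  have hQx : Q (α • a + β • b) = α * α * Q a + β * β * Q b + α * β * polar Q a b := by
    rw [QuadraticMap.map_add Q, QuadraticMap.map_smul, QuadraticMap.map_smul, polar_smul_left,
      polar_smul_right]
    simp only [smul_eq_mul]
    ring
  have hQy : Q ((β * Q b) • a + (α * Q a) • b) =
      Q a * Q b * (α * α * Q a + β * β * Q b + α * β * polar Q a b) := by
    rw [QuadraticMap.map_add Q, QuadraticMap.map_smul, QuadraticMap.map_smul, polar_smul_left,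
      polar_smul_right]
    simp only [smul_eq_mul]
    ring
  set X := α * α * Q a + β * β * Q b + α * β * polar Q a b with hXdef
  simp only [reflLin_apply, hQx, hQy, polar_sub_right, polar_smul_right, polar_add_left,
    polar_smul_left, polar_add_right, polar_self, smul_eq_mul, nsmul_eq_mul, Nat.cast_ofNat]
  match_scalars <;> field_simp <;> ring

end Gen

section Iso
variable {F : Type*} [Field F] [Fintype F] {ι : Type} [Fintype ι] [DecidableEq ι]
variable (Q : QuadraticForm F (ι → F))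

/-- the generating set of reflections of norm class `c` -/
def genSet (c : F) : Set ↥(Cfsg.isometryGroup F ⇑Q) :=
  {g | ∃ (v : ι → F) (t : F), t ≠ 0 ∧ Q v = c * t ^ 2 ∧
    ((g : GL ι F) : Matrix ι ι F) = Cfsg.reflectionMatrix ⇑Q v}

/-- the subgroup generated by reflections of norm class `c` -/
def HC (c : F) : Subgroup ↥(Cfsg.isometryGroup F ⇑Q) := Subgroup.closure (genSet Q c)

theorem reflIso_mem_HC (c : F) (hc : c ≠ 0) {v : ι → F} (hv : Q v ≠ 0)
    (hs : IsSquare (c * Q v)) : reflIso Q hv ∈ HC Q c := by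
  obtain ⟨r, hr⟩ := hs
  apply Subgroup.subset_closure
  have hr0 : r ≠ 0 := by
    rintro rfl
    rw [mul_zero] at hr
    exact (mul_ne_zero hc hv) hr
  refine ⟨v, r / c, div_ne_zero hr0 hc, ?_, rfl⟩
  have hinv : c⁻¹ * c = 1 := inv_mul_cancel₀ hc
  rw [div_eq_mul_inv]
  linear_combination (-(c⁻¹) * (Q v) * c - Q v) * hinv + c⁻¹ * c⁻¹ * c * hr

theorem reflIso_three (a b : ι → F) (α β : F) (hA : Q a ≠ 0) (hB : Q b ≠ 0)
    (hX : Q (α • a + β • b) ≠ 0) (hY : Q ((β * Q b) • a + (α * Q a) • b) ≠ 0) :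
    reflIso Q hA * reflIso Q hX * reflIso Q hB = reflIso Q hY := by
  apply isoGroup_ext
  apply matrix_ext_mulVec
  intro x
  show (Cfsg.reflectionMatrix (⇑Q) a * Cfsg.reflectionMatrix (⇑Q) (α • a + β • b) *
    Cfsg.reflectionMatrix (⇑Q) b) *ᵥ x =
      Cfsg.reflectionMatrix (⇑Q) ((β * Q b) • a + (α * Q a) • b) *ᵥ x
  rw [← Matrix.mulVec_mulVec, ← Matrix.mulVec_mulVec, reflectionMatrix_mulVec_eq,
    reflectionMatrix_mulVec_eq, reflectionMatrix_mulVec_eq, reflectionMatrix_mulVec_eq]
  apply three_refl Q a b α β hA hB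
  have hQx : Q (α • a + β • b) = α * α * Q a + β * β * Q b + α * β * polar Q a b := by
    rw [QuadraticMap.map_add Q, QuadraticMap.map_smul, QuadraticMap.map_smul, polar_smul_left,
      polar_smul_right]
    simp only [smul_eq_mul]
    ring
  rw [← hQx]
  exact hX

theorem pair_nondeg (h2 : (2 : F) ≠ 0) (c : F) (hc : c ≠ 0) (a b : ι → F) (hA : Q a ≠ 0)
    (hB : Q b ≠ 0) (hs : IsSquare (Q a * Q b))
    (hD : 4 * Q a * Q b - polar Q a b * polar Q a b ≠ 0) :
    reflIso Q hA * reflIso Q hB ∈ HC Q c := by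
  set A := Q a with hAdef
  set B := Q b with hBdef
  set t := polar Q a b with htdef
  have h4 : (4 : F) ≠ 0 := by
    have : (4 : F) = 2 * 2 := by norm_num
    rw [this]
    exact mul_ne_zero h2 h2
  have h4A : 4 * A ≠ 0 := mul_ne_zero h4 hA
  have hδ : (4 * A * B - t * t) / (4 * A) ≠ 0 := div_ne_zero hD h4A
  obtain ⟨x, y, hxy⟩ := exists_sq_add_sq_add h2 A ((4 * A * B - t * t) / (4 * A)) (-c) hA hδ
  have hQx0 : ∀ α β : F, Q (α • a + β • b) = α * α * A + β * β * B + α * β * t := by
    intro α β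
    rw [QuadraticMap.map_add Q, QuadraticMap.map_smul, QuadraticMap.map_smul, polar_smul_left,
      polar_smul_right]
    simp only [smul_eq_mul]
    ring
  set α := x - y * t / (2 * A) with hα
  have h2A : 2 * A ≠ 0 := mul_ne_zero h2 hA
  have hQx : Q (α • a + y • b) = c := by
    rw [hQx0, hα]
    field_simp
    field_simp at hxy
    linear_combination hxy
  have hX : Q (α • a + y • b) ≠ 0 := by rw [hQx]; exact hc
  have hQy : Q ((y * Q b) • a + (α * Q a) • b) = A * B * c := by
    rw [hQx0, ← hQx, hQx0]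
    ring
  have hY : Q ((y * Q b) • a + (α * Q a) • b) ≠ 0 := by
    rw [hQy]
    exact mul_ne_zero (mul_ne_zero hA hB) hc
  have h3 := reflIso_three Q a b α y hA hB hX hY
  have haa := reflIso_mul_self Q hA
  have hxx := reflIso_mul_self Q hX
  have key : reflIso Q hA * reflIso Q hB =
      (reflIso Q hA * reflIso Q hX * reflIso Q hA) * reflIso Q hY := by
    rw [← h3]
    rw [show reflIso Q hA * reflIso Q hX * reflIso Q hA *
        (reflIso Q hA * reflIso Q hX * reflIso Q hB) =
        reflIso Q hA * reflIso Q hX * (reflIso Q hA * reflIso Q hA) * reflIso Q hX *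
          reflIso Q hB by group, haa, mul_one, mul_assoc (reflIso Q hA) (reflIso Q hX), hxx,
      mul_one]
  rw [key, reflIso_conj]
  apply Subgroup.mul_mem
  · apply reflIso_mem_HC Q c hc
    rw [Q_reflLin Q hA, hQx]
    exact ⟨c, rfl⟩
  · apply reflIso_mem_HC Q c hc
    rw [hQy]
    obtain ⟨m, hm⟩ := hs
    exact ⟨c * m, by rw [hm]; ring⟩

end Iso

section Deg
variable {F : Type*} [Field F] [Fintype F] {ι : Type} [Fintype ι] [DecidableEq ι]
variable (Q : QuadraticForm F (ι → F))

open Cfsg.Agent.Helper14.ReflGen Cfsg.Agent.Helper14.ReflClass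

theorem chain_mem (c : F) {a e b : ι → F} (hA : Q a ≠ 0) (hE : Q e ≠ 0) (hB : Q b ≠ 0)
    (h1 : reflIso Q hA * reflIso Q hE ∈ HC Q c) (h2 : reflIso Q hE * reflIso Q hB ∈ HC Q c) :
    reflIso Q hA * reflIso Q hB ∈ HC Q c := by
  have := (HC Q c).mul_mem h1 h2
  have hee := reflIso_mul_self Q hE
  rwa [show reflIso Q hA * reflIso Q hE * (reflIso Q hE * reflIso Q hB) =
    reflIso Q hA * (reflIso Q hE * reflIso Q hE) * reflIso Q hB by group, hee, mul_one] at this

theorem exists_hyp_partner (h2 : (2 : F) ≠ 0) (hQ : (polarBilin Q).Nondegenerate)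
    (a z : ι → F) (hA : Q a ≠ 0) (hz : z ≠ 0) (hQz : Q z = 0) (haz : polar Q a z = 0) :
    ∃ u, Q u = 0 ∧ polar Q z u = 1 ∧ polar Q a u = 0 := by
  obtain ⟨w, hw⟩ := exists_polar_ne_zero Q hQ z hz
  have hAi : (Q a)⁻¹ * Q a = 1 := inv_mul_cancel₀ hA
  have h2i : (2 : F)⁻¹ * 2 = 1 := inv_mul_cancel₀ h2
  have hpi : (polar Q z w)⁻¹ * polar Q z w = 1 := inv_mul_cancel₀ hw
  have hza : polar Q z a = 0 := by rw [polar_comm]; exact haz
  obtain ⟨w₁, hw₁⟩ : ∃ w₁, w₁ = w - (polar Q a w * (2⁻¹ * (Q a)⁻¹)) • a := ⟨_, rfl⟩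
  have h1 : polar Q a w₁ = 0 := by
    rw [hw₁, polar_sub_right, polar_smul_right, polar_self', smul_eq_mul]
    linear_combination (-(polar Q a w) * 2⁻¹ * 2) * hAi - (polar Q a w) * h2i
  have h2' : polar Q z w₁ = polar Q z w := by
    rw [hw₁, polar_sub_right, polar_smul_right, hza, smul_zero, sub_zero]
  obtain ⟨w₂, hw₂⟩ : ∃ w₂, w₂ = (polar Q z w)⁻¹ • w₁ := ⟨_, rfl⟩
  have h3 : polar Q a w₂ = 0 := by
    rw [hw₂, polar_smul_right, h1, smul_zero]
  have h4 : polar Q z w₂ = 1 := by
    rw [hw₂, polar_smul_right, h2', smul_eq_mul, hpi]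
  refine ⟨w₂ - Q w₂ • z, ?_, ?_, ?_⟩
  · rw [Q_sub, Q_smul', hQz, polar_smul_right, polar_comm Q w₂ z, h4]
    simp
  · rw [polar_sub_right, polar_smul_right, polar_self', hQz, h4]
    simp
  · rw [polar_sub_right, polar_smul_right, haz, h3]
    simp

theorem exists_avoid (h2 : (2 : F) ≠ 0) (h3 : Fintype.card F ≠ 3) (m : F) :
    ∃ s : F, s ≠ 0 ∧ 2 * m * s ≠ 1 ∧ 2 * m * s ≠ -1 := by
  classical
  have hc2 : Fintype.card F ≠ 2 := by
    intro h
    apply h2
    have := Nat.cast_card_eq_zero F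
    rw [h] at this
    exact_mod_cast this
  have h1 : 1 < Fintype.card F := Fintype.one_lt_card
  have hlt : ({0, (2 * m)⁻¹, -(2 * m)⁻¹} : Finset F).card < (Finset.univ : Finset F).card := by
    rw [Finset.card_univ]
    have : ({0, (2 * m)⁻¹, -(2 * m)⁻¹} : Finset F).card ≤ 3 := Finset.card_le_three
    omega
  obtain ⟨s, -, hs⟩ := Finset.exists_mem_notMem_of_card_lt_card hlt
  simp only [Finset.mem_insert, Finset.mem_singleton, not_or] at hs
  refine ⟨s, hs.1, ?_, ?_⟩
  · intro h
    apply hs.2.1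
    have hm : 2 * m ≠ 0 := by
      intro h0
      rw [h0, zero_mul] at h
      exact zero_ne_one h
    have hi : (2 * m)⁻¹ * (2 * m) = 1 := inv_mul_cancel₀ hm
    have : (2 * m) * (s - (2 * m)⁻¹) = 0 := by linear_combination h - hi
    exact sub_eq_zero.mp ((mul_eq_zero.mp this).resolve_left hm)
  · intro h
    apply hs.2.2
    have hm : 2 * m ≠ 0 := by
      intro h0
      rw [h0, zero_mul] at h
      have : (1 : F) = 0 := by linear_combination h
      exact one_ne_zero this
    rw [eq_neg_iff_add_eq_zero]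
    have hi : (2 * m)⁻¹ * (2 * m) = 1 := inv_mul_cancel₀ hm
    have : (2 * m) * (s + (2 * m)⁻¹) = 0 := by linear_combination h + hi
    exact (mul_eq_zero.mp this).resolve_left hm

end Deg

section Deg2
variable {F : Type*} [Field F] [Fintype F] {ι : Type} [Fintype ι] [DecidableEq ι]
variable (Q : QuadraticForm F (ι → F))

open Cfsg.Agent.Helper14.ReflGen Cfsg.Agent.Helper14.ReflClass

theorem four_ne_zero' (h2 : (2 : F) ≠ 0) : (4 : F) ≠ 0 := by
  have : (4 : F) = 2 * 2 := by norm_num
  rw [this]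
  exact mul_ne_zero h2 h2

/-- polar computations on `α a + β z + γ u` -/
theorem triple_polar (a z u : ι → F) (hQz : Q z = 0) (hQu : Q u = 0) (haz : polar Q a z = 0)
    (hzu : polar Q z u = 1) (hau : polar Q a u = 0) (α β γ : F) :
    polar Q a (α • a + β • z + γ • u) = 2 * Q a * α ∧
    polar Q z (α • a + β • z + γ • u) = γ ∧
    polar Q u (α • a + β • z + γ • u) = β := by
  refine ⟨?_, ?_, ?_⟩
  · rw [polar_add_right, polar_add_right, polar_smul_right, polar_smul_right, polar_smul_right,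
      polar_self', haz, hau]
    simp only [smul_eq_mul]
    ring
  · rw [polar_add_right, polar_add_right, polar_smul_right, polar_smul_right, polar_smul_right,
      polar_self', hQz, hzu, polar_comm Q z a, haz]
    simp
  · rw [polar_add_right, polar_add_right, polar_smul_right, polar_smul_right, polar_smul_right,
      polar_self', hQu, polar_comm Q u z, hzu, polar_comm Q u a, hau]
    simp

theorem triple_zero (h2 : (2 : F) ≠ 0) (a z u : ι → F) (hA : Q a ≠ 0) (hQz : Q z = 0)
    (hQu : Q u = 0)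
    (haz : polar Q a z = 0) (hzu : polar Q z u = 1) (hau : polar Q a u = 0) (α β γ : F)
    (h1 : polar Q a (α • a + β • z + γ • u) = 0) (h2' : polar Q z (α • a + β • z + γ • u) = 0)
    (h3 : polar Q u (α • a + β • z + γ • u) = 0) : α = 0 ∧ β = 0 ∧ γ = 0 := by
  obtain ⟨e1, e2, e3⟩ := triple_polar Q a z u hQz hQu haz hzu hau α β γ
  rw [e1] at h1
  rw [e2] at h2'
  rw [e3] at h3
  refine ⟨?_, h3, h2'⟩
  exact (mul_eq_zero.mp h1).resolve_left (mul_ne_zero h2 hA)

theorem three_le_card (h2 : (2 : F) ≠ 0) (a z u : ι → F) (hA : Q a ≠ 0) (hQz : Q z = 0)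
    (hQu : Q u = 0)
    (haz : polar Q a z = 0) (hzu : polar Q z u = 1) (hau : polar Q a u = 0) :
    3 ≤ Fintype.card ι := by
  have hli : LinearIndependent F ![a, z, u] := by
    rw [Fintype.linearIndependent_iff]
    intro g hg
    rw [Fin.sum_univ_three] at hg
    simp only [Matrix.cons_val_zero, Matrix.cons_val_one, Matrix.cons_val_two,
      Matrix.head_cons, Matrix.tail_cons] at hg
    have hz : ∀ w, polar Q w (g 0 • a + g 1 • z + g 2 • u) = 0 := by
      intro w
      rw [hg]
      simp [polar]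
    obtain ⟨e1, e2, e3⟩ := triple_zero Q h2 a z u hA hQz hQu haz hzu hau (g 0) (g 1) (g 2)
      (hz a) (hz z) (hz u)
    intro i
    fin_cases i
    · exact e1
    · exact e2
    · exact e3
  have := hli.fintype_card_le_finrank
  rw [Module.finrank_fintype_fun_eq_card] at this
  simpa using this

theorem exists_perp_triple (h2 : (2 : F) ≠ 0) (hQ : (polarBilin Q).Nondegenerate)
    (hn : 5 ≤ Fintype.card ι) (a z u : ι → F) (hA : Q a ≠ 0) (hQz : Q z = 0)
    (hQu : Q u = 0)
    (haz : polar Q a z = 0) (hzu : polar Q z u = 1) (hau : polar Q a u = 0) (m : F)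
    (hm : m ≠ 0) : ∃ e, polar Q a e = 0 ∧ polar Q z e = 0 ∧ Q e = m := by
  set H : Submodule F (ι → F) := Submodule.span F {a, z, u} with hHdef
  have hH : Disjoint H (LinearMap.BilinForm.orthogonal (polarBilin Q) H) := by
    rw [Submodule.disjoint_def]
    intro x hx hx'
    obtain ⟨α, β, γ, rfl⟩ := Submodule.mem_span_triple.mp hx
    rw [LinearMap.BilinForm.mem_orthogonal_iff] at hx'
    have ha : a ∈ H := Submodule.subset_span (by simp)
    have hz : z ∈ H := Submodule.subset_span (by simp)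
    have hu : u ∈ H := Submodule.subset_span (by simp)
    obtain ⟨e1, e2, e3⟩ := triple_zero Q h2 a z u hA hQz hQu haz hzu hau α β γ
      (hx' a ha) (hx' z hz) (hx' u hu)
    rw [e1, e2, e3]
    simp
  have hfin : Module.finrank F H ≤ 3 := by
    classical
    have := finrank_span_finset_le_card (R := F) ({a, z, u} : Finset (ι → F))
    rw [Finset.coe_insert, Finset.coe_insert, Finset.coe_singleton] at this
    exact le_trans this Finset.card_le_three
  obtain ⟨y, hy, hQy⟩ := Cfsg.Agent.S0795.exists_perp_value Q hQ H hH (by omega) m hm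
  exact ⟨y, hy a (Submodule.subset_span (by simp)), hy z (Submodule.subset_span (by simp)), hQy⟩

end Deg2

section Deg3
variable {F : Type*} [Field F] [Fintype F] {ι : Type} [Fintype ι] [DecidableEq ι]
variable (Q : QuadraticForm F (ι → F))

open Cfsg.Agent.Helper14.ReflGen Cfsg.Agent.Helper14.ReflClass

theorem pair_deg (h2 : (2 : F) ≠ 0) (hQ : (polarBilin Q).Nondegenerate)
    (h43 : ¬ (Fintype.card ι = 4 ∧ Fintype.card F = 3)) (heven : Even (Fintype.card ι))
    (c : F) (hc : c ≠ 0) (a b : ι → F) (hA : Q a ≠ 0) (hB : Q b ≠ 0)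
    (hs : IsSquare (Q a * Q b))
    (hD : 4 * Q a * Q b - polar Q a b * polar Q a b = 0) :
    reflIso Q hA * reflIso Q hB ∈ HC Q c := by
  have h4 := four_ne_zero' h2
  have hAi : (Q a)⁻¹ * Q a = 1 := inv_mul_cancel₀ hA
  have h2i : (2 : F)⁻¹ * 2 = 1 := inv_mul_cancel₀ h2
  obtain ⟨lam, hlam⟩ : ∃ lam, lam = polar Q a b * (2⁻¹ * (Q a)⁻¹) := ⟨_, rfl⟩
  obtain ⟨z, hz⟩ : ∃ z, z = b - lam • a := ⟨_, rfl⟩
  have hbz : b = lam • a + z := by rw [hz]; abel
  have hQz : Q z = 0 := by
    rw [hz, Q_sub, Q_smul', polar_smul_right, polar_comm Q b a, smul_eq_mul, hlam]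
    field_simp
    linear_combination hD
  have haz : polar Q a z = 0 := by
    rw [hz, polar_sub_right, polar_smul_right, polar_self', smul_eq_mul, hlam]
    field_simp
    ring
  by_cases hz0 : z = 0
  · have hb : b = lam • a := by rw [hbz, hz0, add_zero]
    have hl0 : lam ≠ 0 := by
      rintro h0
      rw [h0, zero_smul] at hb
      apply hB
      rw [hb]
      exact QuadraticMap.map_zero Q
    have : reflIso Q hB = reflIso Q hA := by
      apply reflIso_congr
      conv_lhs => rw [hb]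
      exact reflLin_smul Q hl0 a
    rw [this, reflIso_mul_self]
    exact Subgroup.one_mem _
  · obtain ⟨u, hQu, hzu, hau⟩ := exists_hyp_partner Q h2 hQ a z hA hz0 hQz haz
    have hn3 := three_le_card Q h2 a z u hA hQz hQu haz hzu hau
    by_cases hq : Fintype.card F = 3
    · have hn5 : 5 ≤ Fintype.card ι := by
        obtain ⟨k, hk⟩ := heven
        have : Fintype.card ι ≠ 4 := fun h => h43 ⟨h, hq⟩
        omega
      obtain ⟨e, hae, hze, hQe⟩ := exists_perp_triple Q h2 hQ hn5 a z u hA hQz hQu haz hzu hau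
        (Q a) hA
      have hE : Q e ≠ 0 := by rw [hQe]; exact hA
      have heb : polar Q e b = 0 := by
        rw [hbz, polar_add_right, polar_smul_right, polar_comm Q e a, hae, polar_comm Q e z, hze]
        simp
      apply chain_mem Q c hA hE hB
      · apply pair_nondeg Q h2 c hc a e hA hE
        · rw [hQe]; exact ⟨Q a, rfl⟩
        · rw [hae, hQe]
          simp only [mul_zero, sub_zero]
          exact mul_ne_zero (mul_ne_zero h4 hA) hA
      · apply pair_nondeg Q h2 c hc e b hE hB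
        · rw [hQe]; exact hs
        · rw [heb, hQe]
          simp only [mul_zero, sub_zero]
          exact mul_ne_zero (mul_ne_zero h4 hA) hB
    · obtain ⟨m, hm⟩ := hs
      obtain ⟨s, hs0, hs1, hs2⟩ := exists_avoid h2 hq m
      obtain ⟨e, he⟩ : ∃ e, e = (Q a * s * s) • z + u := ⟨_, rfl⟩
      have hQe : Q e = Q a * s * s := by
        rw [he, Q_add', Q_smul', hQz, hQu, polar_smul_left, hzu]
        simp
      have hE : Q e ≠ 0 := by
        rw [hQe]
        exact mul_ne_zero (mul_ne_zero hA hs0) hs0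
      have hae : polar Q a e = 0 := by
        rw [he, polar_add_right, polar_smul_right, haz, hau]
        simp
      have heb : polar Q e b = 1 := by
        rw [hbz, polar_add_right, polar_smul_right, polar_comm Q e a, hae, he, polar_add_left,
          polar_smul_left, polar_self', hQz, polar_comm Q u z, hzu]
        simp
      apply chain_mem Q c hA hE hB
      · apply pair_nondeg Q h2 c hc a e hA hE
        · rw [hQe]; exact ⟨Q a * s, by ring⟩
        · rw [hae, hQe]
          simp only [mul_zero, sub_zero]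
          exact mul_ne_zero (mul_ne_zero h4 hA) (mul_ne_zero (mul_ne_zero hA hs0) hs0)
      · apply pair_nondeg Q h2 c hc e b hE hB
        · rw [hQe]; exact ⟨m * s, by linear_combination (s * s) * hm⟩
        · rw [heb, hQe]
          have : 4 * (Q a * s * s) * Q b - 1 * 1 = (2 * m * s - 1) * (2 * m * s + 1) := by
            linear_combination (4 * s * s) * hm
          rw [this]
          apply mul_ne_zero
          · exact sub_ne_zero.mpr hs1
          · intro h
            apply hs2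
            linear_combination h

end Deg3

section Main
variable {F : Type*} [Field F] [Fintype F] {ι : Type} [Fintype ι] [DecidableEq ι]
variable (Q : QuadraticForm F (ι → F))

open Cfsg.Agent.Helper14.ReflGen Cfsg.Agent.Helper14.ReflClass

theorem pair_mem (h2 : (2 : F) ≠ 0) (hQ : (polarBilin Q).Nondegenerate)
    (h43 : ¬ (Fintype.card ι = 4 ∧ Fintype.card F = 3)) (heven : Even (Fintype.card ι))
    (c : F) (hc : c ≠ 0) (a b : ι → F) (hA : Q a ≠ 0) (hB : Q b ≠ 0)
    (hs : IsSquare (Q a * Q b)) :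
    reflIso Q hA * reflIso Q hB ∈ HC Q c := by
  by_cases hD : 4 * Q a * Q b - polar Q a b * polar Q a b = 0
  · exact pair_deg Q h2 hQ h43 heven c hc a b hA hB hs hD
  · exact pair_nondeg Q h2 c hc a b hA hB hs hD

/-- determinant as a homomorphism on the isometry group -/
noncomputable def detHom : ↥(Cfsg.isometryGroup F ⇑Q) →* Fˣ :=
  Matrix.GeneralLinearGroup.det.comp (Subgroup.subtype _)

theorem detHom_reflIso {v : ι → F} (hv : Q v ≠ 0) : detHom Q (reflIso Q hv) = -1 := by
  apply Units.ext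
  show ((reflIso Q hv : ↥(Cfsg.isometryGroup F ⇑Q)) : GL ι F).det.val = _
  rw [Matrix.GeneralLinearGroup.val_det_apply, reflIso_coe, reflectionMatrix_det Q hv]
  simp

theorem not_mem_HC [DecidableEq F] (h2 : (2 : F) ≠ 0) (hn : 2 ≤ Fintype.card ι)
    (hQ : (polarBilin Q).Nondegenerate) (c : F) (hc : c ≠ 0) (v₀ : ι → F) (hv₀ : Q v₀ ≠ 0)
    (hs₀ : IsSquare (c * Q v₀)) (b : ι → F) (hB : Q b ≠ 0) (hns : ¬ IsSquare (c * Q b)) :
    reflIso Q hB ∉ HC Q c := by
  have key : ∀ g ∈ HC Q c, (theta Q g = 1 ∧ detHom Q g = 1) ∨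
      (theta Q g = theta Q (reflIso Q hv₀) ∧ detHom Q g = -1) := by
    intro g hg
    induction hg using Subgroup.closure_induction with
    | mem g hg =>
      obtain ⟨v, t, ht, hvt, hgv⟩ := hg
      have hv : Q v ≠ 0 := by
        rw [hvt]
        exact mul_ne_zero hc (pow_ne_zero 2 ht)
      have hgr : g = reflIso Q hv := isoGroup_ext Q hgv
      right
      rw [hgr]
      refine ⟨?_, detHom_reflIso Q hv⟩
      rw [theta_reflIso_eq_iff Q h2 hn hQ hv hv₀]
      obtain ⟨r, hr⟩ := hs₀
      refine ⟨t * r, ?_⟩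
      rw [hvt]
      linear_combination (t ^ 2) * hr
    | one => left; exact ⟨map_one _, map_one _⟩
    | mul x y hx hy ihx ihy =>
      rw [map_mul, map_mul]
      rcases ihx with ⟨h1, h1'⟩ | ⟨h1, h1'⟩ <;> rcases ihy with ⟨h3, h3'⟩ | ⟨h3, h3'⟩
      · left; rw [h1, h1', h3, h3']; simp
      · right; rw [h1, h1', h3, h3']; simp
      · right; rw [h1, h1', h3, h3']; simp
      · left; rw [h1, h1', h3, h3', Int.units_mul_self]; simp
    | inv x hx ih =>
      rw [map_inv, map_inv]
      rcases ih with ⟨h1, h1'⟩ | ⟨h1, h1'⟩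
      · left; rw [h1, h1']; simp
      · right; rw [h1, h1', Int.units_inv_eq_self]; simp
  intro hmem
  have hneg : (-1 : Fˣ) ≠ 1 := by
    intro h
    have h' := congrArg Units.val h
    simp only [Units.val_neg, Units.val_one] at h'
    apply h2
    linear_combination -h'
  rcases key _ hmem with ⟨-, h1⟩ | ⟨h1, -⟩
  · rw [detHom_reflIso] at h1
    exact hneg h1
  · rw [theta_reflIso_eq_iff Q h2 hn hQ hB hv₀] at h1
    obtain ⟨k, hk⟩ := h1
    obtain ⟨r, hr⟩ := hs₀
    apply hns
    have hi : (Q v₀)⁻¹ * Q v₀ = 1 := inv_mul_cancel₀ hv₀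
    refine ⟨r * k * (Q v₀)⁻¹, ?_⟩
    have e : c * Q b * (Q v₀ * Q v₀) = (r * k) * (r * k) := by
      linear_combination (Q b * Q v₀) * hr + (r * r) * hk
    calc c * Q b = c * Q b * (Q v₀ * Q v₀) * ((Q v₀)⁻¹ * (Q v₀)⁻¹) := by
          linear_combination (-(c * Q b) * ((Q v₀)⁻¹ * Q v₀ + 1)) * hi
      _ = r * k * (Q v₀)⁻¹ * (r * k * (Q v₀)⁻¹) := by rw [e]; ring

end Main

section Final
variable {F : Type*} [Field F] [Fintype F] {ι : Type} [Fintype ι] [DecidableEq ι]
variable (Q : QuadraticForm F (ι → F))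

open Cfsg.Agent.Helper14.ReflGen Cfsg.Agent.Helper14.ReflClass

theorem isSquare_of_not_not (c x y : F) (hc : c ≠ 0) (hx : x ≠ 0) (hy : y ≠ 0)
    (h1 : ¬ IsSquare (c * x)) (h2 : ¬ IsSquare (c * y)) : IsSquare (x * y) := by
  have h := (Cfsg.Agent.S0787.isSquare_mul_iff (mul_ne_zero hc hx) (mul_ne_zero hc hy)).mpr
    ⟨fun h => absurd h h1, fun h => absurd h h2⟩
  obtain ⟨r, hr⟩ := h
  have hi : c⁻¹ * c = 1 := inv_mul_cancel₀ hc
  refine ⟨r * c⁻¹, ?_⟩
  calc x * y = (c * x * (c * y)) * (c⁻¹ * c⁻¹) := by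
        linear_combination (-(x * y) * (c⁻¹ * c + 1)) * hi
    _ = r * c⁻¹ * (r * c⁻¹) := by rw [hr]; ring

theorem index_HC (h2 : (2 : F) ≠ 0) (hn : 2 ≤ Fintype.card ι) (heven : Even (Fintype.card ι))
    (hQ : (polarBilin Q).Nondegenerate)
    (h43 : ¬ (Fintype.card ι = 4 ∧ Fintype.card F = 3)) (c : F) (hc : c ≠ 0) :
    (HC Q c).index = 2 := by
  classical
  have hchar : ringChar F ≠ 2 := by
    intro h
    apply h2
    have := ringChar.Nat.cast_ringChar (R := F)
    rw [h] at this
    exact_mod_cast this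
  obtain ⟨v₀, hv₀⟩ := Cfsg.Agent.S0787.exists_Q_eq hn Q hQ c hc
  obtain ⟨ν, hν⟩ := FiniteField.exists_nonsquare hchar
  have hν0 : ν ≠ 0 := by
    rintro rfl
    exact hν ⟨0, by simp⟩
  obtain ⟨b₀, hb₀⟩ := Cfsg.Agent.S0787.exists_Q_eq hn Q hQ (ν / c) (div_ne_zero hν0 hc)
  have hcb : c * Q b₀ = ν := by
    rw [hb₀, mul_div_cancel₀ _ hc]
  have hV₀ : Q v₀ ≠ 0 := by rw [hv₀]; exact hc
  have hB₀ : Q b₀ ≠ 0 := by rw [hb₀]; exact div_ne_zero hν0 hc
  have hns : ¬ IsSquare (c * Q b₀) := by rw [hcb]; exact hν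
  have hnot := not_mem_HC Q h2 hn hQ c hc v₀ hV₀ (by rw [hv₀]; exact ⟨c, rfl⟩) b₀ hB₀ hns
  have hF : (∃ s : F, s ≠ 0 ∧ s ≠ 1) ∨ Fintype.card ι ≠ 4 := by
    left
    refine ⟨2, h2, ?_⟩
    intro h
    have : (1 : F) = 0 := by linear_combination h
    exact one_ne_zero this
  have hbb := reflIso_mul_self Q hB₀
  -- the step
  have step : ∀ (x : ↥(Cfsg.isometryGroup F ⇑Q)) (v : ι → F) (hv : Q v ≠ 0),
      (x ∈ HC Q c ∨ x * reflIso Q hB₀ ∈ HC Q c) →
      (x * reflIso Q hv ∈ HC Q c ∨ x * reflIso Q hv * reflIso Q hB₀ ∈ HC Q c) := by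
    intro x v hv ih
    by_cases hcl : IsSquare (c * Q v)
    · have hyH := reflIso_mem_HC Q c hc hv hcl
      rcases ih with ih | ih
      · left
        exact Subgroup.mul_mem _ ih hyH
      · right
        have e : x * reflIso Q hv * reflIso Q hB₀ =
            (x * reflIso Q hB₀) * (reflIso Q hB₀ * reflIso Q hv * reflIso Q hB₀) := by
          rw [show x * reflIso Q hB₀ * (reflIso Q hB₀ * reflIso Q hv * reflIso Q hB₀) =
            x * (reflIso Q hB₀ * reflIso Q hB₀) * reflIso Q hv * reflIso Q hB₀ by group, hbb,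
            mul_one]
        rw [e, reflIso_conj]
        apply Subgroup.mul_mem _ ih
        apply reflIso_mem_HC Q c hc
        rw [Q_reflLin Q hB₀]
        exact hcl
    · have hvb : IsSquare (Q v * Q b₀) := isSquare_of_not_not c (Q v) (Q b₀) hc hv hB₀ hcl hns
      have hbv : IsSquare (Q b₀ * Q v) := by rw [mul_comm]; exact hvb
      rcases ih with ih | ih
      · right
        rw [mul_assoc]
        exact Subgroup.mul_mem _ ih (pair_mem Q h2 hQ h43 heven c hc v b₀ hv hB₀ hvb)
      · left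
        have e : x * reflIso Q hv = (x * reflIso Q hB₀) * (reflIso Q hB₀ * reflIso Q hv) := by
          rw [show x * reflIso Q hB₀ * (reflIso Q hB₀ * reflIso Q hv) =
            x * (reflIso Q hB₀ * reflIso Q hB₀) * reflIso Q hv by group, hbb, mul_one]
        rw [e]
        exact Subgroup.mul_mem _ ih (pair_mem Q h2 hQ h43 heven c hc b₀ v hB₀ hv hbv)
  have hP : ∀ g : ↥(Cfsg.isometryGroup F ⇑Q), g ∈ HC Q c ∨ g * reflIso Q hB₀ ∈ HC Q c := by
    intro g
    have hg : g ∈ Subgroup.closure {g : ↥(Cfsg.isometryGroup F ⇑Q) | ∃ v : ι → F, Q v ≠ 0 ∧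
        ((g : GL ι F) : Matrix ι ι F) = Cfsg.reflectionMatrix ⇑Q v} := by
      rw [isometryGroup_closure_refl Q hQ hF]
      trivial
    induction hg using Subgroup.closure_induction_right with
    | one => left; exact Subgroup.one_mem _
    | mul_right x hx y hy ih =>
      obtain ⟨v, hv, hyv⟩ := hy
      have hy' : y = reflIso Q hv := isoGroup_ext Q hyv
      rw [hy']
      exact step x v hv ih
    | mul_inv_cancel x hx y hy ih =>
      obtain ⟨v, hv, hyv⟩ := hy
      have hy' : y = reflIso Q hv := isoGroup_ext Q hyv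
      rw [hy', reflIso_inv]
      exact step x v hv ih
  rw [Subgroup.index_eq_two_iff]
  refine ⟨reflIso Q hB₀, fun g => ?_⟩
  rcases hP g with h | h
  · right
    refine ⟨h, fun h' => hnot ?_⟩
    have := Subgroup.mul_mem _ (Subgroup.inv_mem _ h) h'
    rwa [inv_mul_cancel_left] at this
  · left
    refine ⟨h, fun h' => hnot ?_⟩
    have := Subgroup.mul_mem _ (Subgroup.inv_mem _ h') h
    rwa [inv_mul_cancel_left] at this

end Final

end Cfsg.Agent.Helper14.ReflIndex
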