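import Mathlib
import Cfsg.Agent.Lib.Helper14.SPIDefs
import Cfsg.Agent.S0776

set_option autoImplicit false

/-!
SPI assembly, part A: the standard symplectic space as an instance of the abstract setting and
arithmetic of the constant `c`.
-/

namespace Cfsg.Agent.Helper14.SPIMain

open Module Cfsg.Agent.Helper14.SPI Cfsg.Agent.S0776 Cfsg.Agent.Helper13

section conc

variable {F : Type*} [Field F] {d : ℕ}

theorem finrank_V0 : finrank F (Fin d ⊕ Fin d → F) = 2 * d := by
  rw [Module.finrank_fintype_fun_eq_card, Fintype.card_sum, Fintype.card_fin]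
  ring

theorem nondeg_top : NondegOn (sB d F) ⊤ := by
  intro u _ hu
  obtain ⟨w, hw⟩ := exists_partner hu
  exact ⟨w, Submodule.mem_top, by rw [sB_apply, hw]; exact one_ne_zero⟩

theorem isIsom_toLin (A : Matrix.symplecticGroup (Fin d) F) :
    IsIsom (sB d F) (Matrix.toLin' (A : Matrix (Fin d ⊕ Fin d) (Fin d ⊕ Fin d) F)) := by
  intro u w
  rw [sB_apply, sB_apply, Matrix.toLin'_apply, Matrix.toLin'_apply]
  exact sympForm_mulVec A.2 u w

theorem toLin_pow (M : Matrix (Fin d ⊕ Fin d) (Fin d ⊕ Fin d) F) (k : ℕ) :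
    Matrix.toLin' (M ^ k) = (Matrix.toLin' M) ^ k := by
  have := map_pow (Matrix.toLinAlgEquiv' (R := F) (n := Fin d ⊕ Fin d)) M k
  exact this

theorem omega_iff (a : ℕ) {t : ℕ} (D : Fin t → Submodule F (Fin d ⊕ Fin d → F)) :
    OmegaProp d a D ↔ (2 ≤ t ∧ 0 < a ∧ (∀ j, finrank F (D j) = a) ∧ IsOrthFam (sB d F) ⊤ D) := by
  constructor
  · rintro ⟨h1, h2, h3⟩
    refine ⟨h1.two_le, h1.pos, h1.finrank_eq, ⟨h1.indep, h1.iSup_eq_top, ?_, ?_⟩⟩
    · intro j u hu hu0
      obtain ⟨v, hv, hne⟩ := h2 j u hu hu0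
      exact ⟨v, hv, by rw [sB_apply]; exact hne⟩
    · intro j j' hjj u hu v hv
      rw [sB_apply]
      exact h3 j j' hjj u hu v hv
  · rintro ⟨h1, h2, h3, h4⟩
    refine ⟨⟨h1, h2, h3, h4.indep, h4.sup⟩, ?_, ?_⟩
    · intro j u hu hu0
      obtain ⟨v, hv, hne⟩ := h4.nondeg j u hu hu0
      exact ⟨v, hv, by rw [← sB_apply]; exact hne⟩
    · intro j j' hjj u hu v hv
      rw [← sB_apply]
      exact h4.orth j j' hjj u hu v hv

end conc

section arith

variable (q r : ℕ) [Fact r.Prime]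

theorem order_pos (hrq : ¬ r ∣ q) : 0 < orderOf (q : ZMod r) := by
  have hne : (q : ZMod r) ≠ 0 := by
    intro h
    exact hrq ((ZMod.natCast_eq_zero_iff _ _).mp h)
  have hfin : IsOfFinOrder (q : ZMod r) := by
    rw [isOfFinOrder_iff_pow_eq_one]
    exact ⟨r - 1, by have := (Fact.out : r.Prime).two_le; omega, ZMod.pow_card_sub_one_eq_one hne⟩
  exact hfin.orderOf_pos

theorem cOf_pos (hrq : ¬ r ∣ q) : 0 < cOf q r := by
  have := order_pos q r hrq
  unfold cOf
  split_ifs <;> omega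

theorem order_dvd (hrq : ¬ r ∣ q) : orderOf (q : ZMod r) ∣ r - 1 := by
  have hne : (q : ZMod r) ≠ 0 := by
    intro h
    exact hrq ((ZMod.natCast_eq_zero_iff _ _).mp h)
  exact orderOf_dvd_of_pow_eq_one (ZMod.pow_card_sub_one_eq_one hne)

theorem cOf_le (hr2 : r ≠ 2) (hrq : ¬ r ∣ q) : cOf q r ≤ r - 1 := by
  have hpos := order_pos q r hrq
  have hdvd := order_dvd q r hrq
  have hr := (Fact.out : r.Prime)
  have hr3 : 0 < r - 1 := by have := hr.two_le; omega
  unfold cOf
  split_ifs with hev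
  · exact Nat.le_of_dvd hr3 hdvd
  · rw [Nat.not_even_iff_odd] at hev
    have heven : Even (r - 1) := by
      rcases hr.eq_two_or_odd' with h | h
      · exact absurd h hr2
      · obtain ⟨k, hk⟩ := h
        exact ⟨k, by omega⟩
    have h2 : 2 ∣ r - 1 := heven.two_dvd
    have hcop : Nat.Coprime 2 (orderOf (q : ZMod r)) := (hev.coprime_two_left)
    exact Nat.le_of_dvd hr3 (hcop.mul_dvd_of_dvd_of_dvd h2 hdvd)

end arith

end Cfsg.Agent.Helper14.SPIMain
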