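import Mathlib
import Cfsg.Agent.Lib.Helper14.SPIMainA
import Cfsg.Agent.Lib.Helper21.SPIPERMA
import Cfsg.Agent.Lib.Helper21.SPIPERMB
import Cfsg.Agent.Lib.Helper29.SPICDVD
import Cfsg.Agent.Lib.Helper29.SPIFREE
import Cfsg.Agent.Lib.Helper29.SPIORB
import Cfsg.Agent.Lib.Helper42.SPIBLK
import Cfsg.Agent.Lib.Helper42.SPIIDC
import Cfsg.Agent.Lib.Helper49.SPILE
import Cfsg.Agent.Lib.Helper62.SPISPLIT
import Cfsg.Agent.Lib.Helper66.SPIFIX

set_option autoImplicit false

/-!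
SPI assembly, part B: both directions of S5961 from the SPI pieces.
-/

namespace Cfsg.Agent.Helper14.SPIMain

open Module Cfsg.Agent.Helper14.SPI Cfsg.Agent.S0776 Cfsg.Agent.Helper13

section gen

variable {F V : Type*} [Field F] [AddCommGroup V] [Module F V]

theorem isIsom_pow (B : LinearMap.BilinForm F V) (X : V →ₗ[F] V) (hX : IsIsom B X) (k : ℕ) :
    IsIsom B (X ^ k) := by
  induction k with
  | zero => intro u w; simp
  | succ k ih =>
    intro u w
    rw [pow_succ, Module.End.mul_apply, Module.End.mul_apply, ih, hX]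

end gen

section main

variable {F : Type*} [Field F] [Fintype F] {p : ℕ} [Fact p.Prime] [CharP F p] {d : ℕ}

omit [Fintype F] in
theorem hr0_of (r : ℕ) [Fact r.Prime] (hrp : r ≠ p) : (r : F) ≠ 0 := by
  intro h
  have hdvd : p ∣ r := (CharP.cast_eq_zero_iff F p r).mp h
  have := (Nat.prime_dvd_prime_iff_eq (Fact.out : p.Prime) (Fact.out : r.Prime)).mp hdvd
  exact hrp this.symm

theorem hrq_of (r : ℕ) [Fact r.Prime] (hrp : r ≠ p) : ¬ r ∣ Fintype.card F := by
  intro h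
  obtain ⟨n, -, hn⟩ := FiniteField.card F p
  rw [hn] at h
  have h1 : r ∣ p := (Fact.out : r.Prime).dvd_of_dvd_pow h
  exact hrp ((Nat.prime_dvd_prime_iff_eq (Fact.out : r.Prime) (Fact.out : p.Prime)).mp h1)

omit [Fintype F] [Fact p.Prime] [CharP F p] in
/-- a vector and a partner, for `d ≥ 1` -/
theorem exists_pair (hd : 1 ≤ d) : ∃ u w : Fin d ⊕ Fin d → F, u ≠ 0 ∧ sB d F u w = 1 := by
  classical
  have hu : (Pi.single (Sum.inl ⟨0, by omega⟩) 1 : Fin d ⊕ Fin d → F) ≠ 0 := by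
    intro h
    have := congrFun h (Sum.inl ⟨0, by omega⟩)
    simp at this
  obtain ⟨w, hw⟩ := exists_partner hu
  exact ⟨_, w, hu, by rw [sB_apply]; exact hw⟩

omit [Fintype F] [Fact p.Prime] [CharP F p] in
/-- a scalar isometry of the standard space is `±1` -/
theorem scalar_sq (hd : 1 ≤ d) (X : (Fin d ⊕ Fin d → F) →ₗ[F] (Fin d ⊕ Fin d → F))
    (hX : IsIsom (sB d F) X) (z : F) (hz : X = z • 1) : z * z = 1 := by
  obtain ⟨u, w, -, huw⟩ := exists_pair (F := F) hd
  have h := hX u w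
  rw [hz] at h
  simp only [LinearMap.smul_apply, Module.End.one_apply, map_smul, smul_eq_mul, huw] at h
  linear_combination h

omit [Fintype F] [Fact p.Prime] [CharP F p] in
theorem pow_succ_eq_one_of_sq (z : F) (hzz : z * z = 1) (r : ℕ) (hodd : Odd r) : z ^ (r + 1) = 1 := by
  obtain ⟨k, rfl⟩ := hodd
  have : 2 * k + 1 + 1 = 2 * (k + 1) := by ring
  rw [this, pow_mul, pow_two, hzz, one_pow]

theorem left (hd : 2 ≤ d) (a t : ℕ) (hat : 2 * d = a * t) (ha : 2 ≤ a) (hae : Even a) (ht : 2 ≤ t)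
    (r : ℕ) [Fact r.Prime] (hr2 : r ≠ 2) (hrp : r ≠ p)
    (hca : cOf (Fintype.card F) r ≤ a)
    (hk : (2 * d) % cOf (Fintype.card F) r = t * (a % cOf (Fintype.card F) r))
    (x : Matrix.symplecticGroup (Fin d) F) (z : F)
    (hz : ((x ^ r : Matrix.symplecticGroup (Fin d) F) : Matrix (Fin d ⊕ Fin d) (Fin d ⊕ Fin d) F)
      = z • (1 : Matrix (Fin d ⊕ Fin d) (Fin d ⊕ Fin d) F)) :
    ∃ D : Fin t → Submodule F (Fin d ⊕ Fin d → F), OmegaProp d a D ∧
      ∃ σ : Equiv.Perm (Fin t), ∀ j,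
        (D j).map (Matrix.toLin' (x : Matrix (Fin d ⊕ Fin d) (Fin d ⊕ Fin d) F)) = D (σ j) := by
  have hrodd : Odd r := (Fact.out : r.Prime).eq_two_or_odd'.resolve_left hr2
  set X := Matrix.toLin' (x : Matrix (Fin d ⊕ Fin d) (Fin d ⊕ Fin d) F) with hXdef
  have hXiso : IsIsom (sB d F) X := isIsom_toLin x
  have hXr : X ^ r = z • 1 := by
    rw [hXdef, ← toLin_pow, ← SubmonoidClass.coe_pow, hz, map_smul, Matrix.toLin'_one]
    rfl
  have hzz : z * z = 1 := scalar_sq (by omega) (X ^ r) (isIsom_pow _ X hXiso r) z hXr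
  have hz0 : z ≠ 0 := by
    rintro rfl
    simp at hzz
  have hYiso : IsIsom (sB d F) (z • X) := by
    intro u w
    have h1 := hXiso u w
    simp only [LinearMap.smul_apply, map_smul, smul_eq_mul]
    rw [h1, ← mul_assoc, hzz, one_mul]
  have hYr : (z • X) ^ r = 1 := by
    rw [smul_pow, hXr, smul_smul, ← pow_succ, pow_succ_eq_one_of_sq z hzz r hrodd, one_smul]
  have hat' : finrank F (Fin d ⊕ Fin d → F) = a * t := by rw [finrank_V0, hat]
  have hk' : finrank F (Fin d ⊕ Fin d → F) % cOf (Fintype.card F) r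
      = t * (a % cOf (Fintype.card F) r) := by rw [finrank_V0, hk]
  obtain ⟨D, hfam, hfin, hinv⟩ := Cfsg.Agent.Helper49.SPI.exists_decomp_of_arith (sB d F) sB_alt nondeg_top (z • X) hYiso r
    hr2 (hr0_of r hrp) (hrq_of r hrp) hYr a t hat' hae hca hk'
  have hXinj : Function.Injective X := by
    rw [injective_iff_map_eq_zero]
    intro v hv
    have h1 : (X ^ r) v = 0 := by
      obtain ⟨k, hk⟩ : ∃ k, r = k + 1 := ⟨r - 1, by have := (Fact.out : r.Prime).two_le; omega⟩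
      rw [hk, pow_succ, Module.End.mul_apply, hv, map_zero]
    rw [hXr, LinearMap.smul_apply, Module.End.one_apply] at h1
    exact (smul_eq_zero.mp h1).resolve_left hz0
  have hmap : ∀ j, (D j).map X = D j := by
    intro j
    have hle : (D j).map X ≤ D j := by
      rw [← Submodule.map_smul X (D j) z hz0]
      exact hinv j
    refine Submodule.eq_of_le_of_finrank_eq hle ?_
    exact (LinearEquiv.finrank_eq (Submodule.equivMapOfInjective X hXinj (D j))).symm
  refine ⟨D, (omega_iff a D).mpr ⟨ht, by omega, hfin, hfam⟩, 1, ?_⟩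
  intro j
  rw [hmap j]
  rfl


omit [Fintype F] [Fact p.Prime] [CharP F p] in
/-- decompositions exist -/
theorem nonempty_omega' (a t : ℕ) (hat : 2 * d = a * t) (ha : 2 ≤ a) (hae : Even a) (ht : 2 ≤ t) :
    Nonempty {D : Fin t → Submodule F (Fin d ⊕ Fin d → F) // OmegaProp d a D} := by
  have hsum : ∑ _j : Fin t, a = finrank F (⊤ : Submodule F (Fin d ⊕ Fin d → F)) := by
    rw [finrank_top, finrank_V0, Finset.sum_const, Finset.card_univ, Fintype.card_fin, smul_eq_mul,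
      hat, mul_comm]
  obtain ⟨E, hE1, hE2⟩ := Cfsg.Agent.Helper62.SPI.exists_split (sB d F) sB_alt ⊤ nondeg_top (fun _ : Fin t => a)
    (fun _ => hae) hsum
  exact ⟨⟨E, (omega_iff a E).mpr ⟨ht, by omega, hE2, hE1⟩⟩⟩

/-- from `hΩ`: `r` divides the order of `Sp_2d(F)` -/
theorem dvd_card_sp (a t : ℕ) (hat : 2 * d = a * t) (ha : 2 ≤ a) (hae : Even a) (ht : 2 ≤ t)
    (r : ℕ)
    (hΩ : r ∣ Nat.card {D : Fin t → Submodule F (Fin d ⊕ Fin d → F) // OmegaProp d a D} /
      Nat.factorial t) :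
    r ∣ Nat.card (Matrix.symplecticGroup (Fin d) F) := by
  have h1 := Cfsg.Agent.Helper29.SPI.factorial_dvd_card (F := F) d a t
  have h2 := Cfsg.Agent.Helper29.SPI.card_dvd_card_sp (F := F) d a t (nonempty_omega' a t hat ha hae ht)
  have h3 : Nat.card {D : Fin t → Submodule F (Fin d ⊕ Fin d → F) // OmegaProp d a D} =
      Nat.factorial t *
        (Nat.card {D : Fin t → Submodule F (Fin d ⊕ Fin d → F) // OmegaProp d a D} /
          Nat.factorial t) := (Nat.mul_div_cancel' h1).symm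
  exact dvd_trans (dvd_trans (Dvd.dvd.mul_left hΩ _) (dvd_of_eq h3.symm)) h2

/-- `c ≤ 2d` as soon as `Sp_2d(F)` has an element of order `r` -/
theorem c_le_of_order (hd : 1 ≤ d) (r : ℕ) [Fact r.Prime] (hrp : r ≠ p)
    (y : Matrix.symplecticGroup (Fin d) F) (hy : orderOf y = r) :
    cOf (Fintype.card F) r ≤ 2 * d := by
  set X := Matrix.toLin' (y : Matrix (Fin d ⊕ Fin d) (Fin d ⊕ Fin d) F) with hXdef
  have hXiso : IsIsom (sB d F) X := isIsom_toLin y
  have hyr : y ^ r = 1 := by rw [← hy]; exact pow_orderOf_eq_one y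
  have hXr : X ^ r = 1 := by
    rw [hXdef, ← toLin_pow, ← SubmonoidClass.coe_pow, hyr]
    exact Matrix.toLin'_one
  have hX1 : X ≠ 1 := by
    intro h
    have h1 : (y : Matrix (Fin d ⊕ Fin d) (Fin d ⊕ Fin d) F) = 1 := by
      apply Matrix.toLin'.injective
      rw [← hXdef, h]
      exact Matrix.toLin'_one.symm
    have h2 : y = 1 := Subtype.ext h1
    rw [h2, orderOf_one] at hy
    exact (Fact.out : r.Prime).ne_one hy.symm
  obtain ⟨-, -, -, -, hRnd, hRx, hRfpf⟩ := Cfsg.Agent.Helper66.SPI.fix_decomp (sB d F) sB_alt X hXiso r (hr0_of r hrp) hXr ⊤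
    (le_top) nondeg_top
  have hdvd := Cfsg.Agent.Helper29.SPI.c_dvd_finrank (sB d F) sB_alt X r (hrq_of r hrp) hXr _ hRx hRnd hRfpf
  have hpos : 0 < finrank F ((⊤ : Submodule F (Fin d ⊕ Fin d → F)).map (X - 1)) := by
    rw [Module.finrank_pos_iff_exists_ne_zero]
    by_contra hcon
    push Not at hcon
    apply hX1
    apply LinearMap.ext
    intro v
    have hv : (X - 1) v ∈ (⊤ : Submodule F (Fin d ⊕ Fin d → F)).map (X - 1) :=
      Submodule.mem_map_of_mem Submodule.mem_top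
    have h0 := hcon ⟨_, hv⟩
    have h1 : (X - 1) v = 0 := congrArg Subtype.val h0
    rw [LinearMap.sub_apply, Module.End.one_apply, sub_eq_zero] at h1
    rw [h1, Module.End.one_apply]
  have hle : finrank F ((⊤ : Submodule F (Fin d ⊕ Fin d → F)).map (X - 1)) ≤ 2 * d := by
    rw [← finrank_V0 (F := F) (d := d)]
    exact Submodule.finrank_le _
  exact le_trans (Nat.le_of_dvd hpos hdvd) hle

/-- the dichotomy for an `m`-block element under the stabilisation hypothesis -/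
theorem key (hd : 2 ≤ d) (a t : ℕ) (ha : 2 ≤ a)
    (r : ℕ) [Fact r.Prime] (hr2 : r ≠ 2) (hrp : r ≠ p)
    (h : ∀ x : ↥(Matrix.symplecticGroup (Fin d) F),
      (∃ z : F, ((x ^ r : ↥(Matrix.symplecticGroup (Fin d) F)) :
        Matrix (Fin d ⊕ Fin d) (Fin d ⊕ Fin d) F) =
          z • (1 : Matrix (Fin d ⊕ Fin d) (Fin d ⊕ Fin d) F)) →
      (∀ z : F, (x : Matrix (Fin d ⊕ Fin d) (Fin d ⊕ Fin d) F) ≠
        z • (1 : Matrix (Fin d ⊕ Fin d) (Fin d ⊕ Fin d) F)) →
      ∃ D : Fin t → Submodule F (Fin d ⊕ Fin d → F), OmegaProp d a D ∧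
        ∃ σ : Equiv.Perm (Fin t), ∀ j,
          (D j).map (Matrix.toLin' (x : Matrix (Fin d ⊕ Fin d) (Fin d ⊕ Fin d) F)) = D (σ j))
    (m : ℕ) (hm1 : 1 ≤ m) (hm : m * cOf (Fintype.card F) r ≤ 2 * d) :
    (∃ ρ : Fin t → ℕ, (∀ j, cOf (Fintype.card F) r ∣ ρ j ∧ ρ j ≤ a) ∧
        ∑ j, ρ j = m * cOf (Fintype.card F) r) ∨
      (a + m * cOf (Fintype.card F) r ≤ 2 * d ∧ (r - 1) * a ≤ m * cOf (Fintype.card F) r) := by
  have hrodd : Odd r := (Fact.out : r.Prime).eq_two_or_odd'.resolve_left hr2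
  have hcpos := cOf_pos (Fintype.card F) r (hrq_of r hrp)
  obtain ⟨A, hAr, hker⟩ := Cfsg.Agent.Helper42.SPI.exists_m_block (F := F) (p := p) d r hr2 hrp m hm
  set X := Matrix.toLin' (A : Matrix (Fin d ⊕ Fin d) (Fin d ⊕ Fin d) F) with hXdef
  have hXiso : IsIsom (sB d F) X := isIsom_toLin A
  have hXr : X ^ r = 1 := by
    rw [hXdef, ← toLin_pow, ← SubmonoidClass.coe_pow, hAr]
    exact Matrix.toLin'_one
  have h1 : ∃ z : F, ((A ^ r : ↥(Matrix.symplecticGroup (Fin d) F)) :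
      Matrix (Fin d ⊕ Fin d) (Fin d ⊕ Fin d) F) =
        z • (1 : Matrix (Fin d ⊕ Fin d) (Fin d ⊕ Fin d) F) := by
    refine ⟨1, ?_⟩
    rw [hAr, one_smul]
    rfl
  have h2 : ∀ z : F, (A : Matrix (Fin d ⊕ Fin d) (Fin d ⊕ Fin d) F) ≠
      z • (1 : Matrix (Fin d ⊕ Fin d) (Fin d ⊕ Fin d) F) := by
    intro z hz
    have hXz : X = z • 1 := by
      rw [hXdef, hz, map_smul, Matrix.toLin'_one]
      rfl
    have hzz : z * z = 1 := scalar_sq (by omega) X hXiso z hXz
    have hzr : z ^ r = 1 := by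
      obtain ⟨u, w, hu, -⟩ := exists_pair (F := F) (d := d) (by omega)
      have h3 : (X ^ r) u = u := by rw [hXr, Module.End.one_apply]
      rw [hXz, smul_pow, one_pow, LinearMap.smul_apply, Module.End.one_apply] at h3
      have h4 : (z ^ r - 1) • u = 0 := by rw [sub_smul, h3, one_smul, sub_self]
      have h5 := (smul_eq_zero.mp h4).resolve_right hu
      linear_combination h5
    have hz1 : z = 1 := by
      have h6 := pow_succ_eq_one_of_sq z hzz r hrodd
      rw [pow_succ, hzr, one_mul] at h6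
      exact h6
    have hX1 : X - 1 = 0 := by rw [hXz, hz1, one_smul, sub_self]
    rw [hX1, LinearMap.ker_zero, finrank_top, finrank_V0] at hker
    have : 0 < m * cOf (Fintype.card F) r := Nat.mul_pos (by omega) hcpos
    omega
  obtain ⟨D, hD, σ, hσ⟩ := h A h1 h2
  obtain ⟨ht2, ha0, hfin, hfam⟩ := (omega_iff a D).mp hD
  by_cases hσ1 : σ = 1
  · left
    have hinv : ∀ j, (D j).map X ≤ D j := by
      intro j
      rw [hσ j, hσ1]
      exact le_of_eq rfl
    obtain ⟨ρ, hρ1, hρ2⟩ := Cfsg.Agent.Helper42.SPI.id_case (sB d F) sB_alt X hXiso r (hr0_of r hrp) (hrq_of r hrp) hXr a D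
      hfam hfin hinv
    refine ⟨ρ, hρ1, ?_⟩
    rw [finrank_V0] at hρ2
    omega
  · right
    have hA := Cfsg.Agent.Helper21.SPI.perm_fixed_ge X r hXr a ha0 D hfin hfam.indep σ hσ hσ1
    have hB := Cfsg.Agent.Helper21.SPI.perm_fixed_le X r hXr a ha0 D hfin hfam.indep σ hσ hσ1
    rw [finrank_V0] at hB
    constructor <;> omega

theorem right (hd : 2 ≤ d) (a t : ℕ) (hat : 2 * d = a * t) (ha : 2 ≤ a) (hae : Even a) (ht : 2 ≤ t)
    (r : ℕ) [Fact r.Prime] (hr2 : r ≠ 2) (hrp : r ≠ p)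
    (hΩ : r ∣ Nat.card {D : Fin t → Submodule F (Fin d ⊕ Fin d → F) // OmegaProp d a D} /
      Nat.factorial t)
    (h : ∀ x : ↥(Matrix.symplecticGroup (Fin d) F),
      (∃ z : F, ((x ^ r : ↥(Matrix.symplecticGroup (Fin d) F)) :
        Matrix (Fin d ⊕ Fin d) (Fin d ⊕ Fin d) F) =
          z • (1 : Matrix (Fin d ⊕ Fin d) (Fin d ⊕ Fin d) F)) →
      (∀ z : F, (x : Matrix (Fin d ⊕ Fin d) (Fin d ⊕ Fin d) F) ≠
        z • (1 : Matrix (Fin d ⊕ Fin d) (Fin d ⊕ Fin d) F)) →
      ∃ D : Fin t → Submodule F (Fin d ⊕ Fin d → F), OmegaProp d a D ∧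
        ∃ σ : Equiv.Perm (Fin t), ∀ j,
          (D j).map (Matrix.toLin' (x : Matrix (Fin d ⊕ Fin d) (Fin d ⊕ Fin d) F)) = D (σ j)) :
    cOf (Fintype.card F) r ≤ a ∧
      (2 * d) % cOf (Fintype.card F) r = t * (a % cOf (Fintype.card F) r) := by
  have hrq := hrq_of (F := F) r hrp
  have hcpos := cOf_pos (Fintype.card F) r hrq
  have hcle := cOf_le (Fintype.card F) r hr2 hrq
  have hr3 : 3 ≤ r := by
    have h2 := (Fact.out : r.Prime).two_le
    omega
  set c := cOf (Fintype.card F) r with hcdef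
  -- `c ≤ 2d`
  have hdvd := dvd_card_sp (F := F) a t hat ha hae ht r hΩ
  obtain ⟨y, hy⟩ := exists_prime_orderOf_dvd_card' r hdvd
  have hc2d : c ≤ 2 * d := c_le_of_order (by omega) r hrp y hy
  -- `c ≤ a`
  have hca : c ≤ a := by
    by_contra hlt
    push Not at hlt
    rcases key hd a t ha r hr2 hrp h 1 le_rfl (by rw [one_mul]; exact hc2d) with
      ⟨ρ, hρ1, hρ2⟩ | ⟨-, hB⟩
    · have hzero : ∀ j, ρ j = 0 := by
        intro j
        obtain ⟨h1, h2⟩ := hρ1 j
        exact Nat.eq_zero_of_dvd_of_lt h1 (lt_of_le_of_lt h2 hlt)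
      rw [Finset.sum_eq_zero (fun j _ => hzero j), one_mul] at hρ2
      omega
    · rw [one_mul] at hB
      have : (r - 1) * 2 ≤ (r - 1) * a := Nat.mul_le_mul_left _ ha
      omega
  refine ⟨hca, ?_⟩
  -- the residues
  set m := (2 * d) / c with hmdef
  have hm1 : 1 ≤ m := Nat.div_pos hc2d hcpos
  have hdm : c * m + (2 * d) % c = 2 * d := Nat.div_add_mod (2 * d) c
  have hda : c * (a / c) + a % c = a := Nat.div_add_mod a c
  have hkc : (2 * d) % c < c := Nat.mod_lt _ hcpos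
  have hmc : m * c ≤ 2 * d := by rw [mul_comm]; omega
  rcases key hd a t ha r hr2 hrp h m hm1 hmc with ⟨ρ, hρ1, hρ2⟩ | ⟨hA, -⟩
  · have hρle : ∀ j, ρ j ≤ (a / c) * c := by
      intro j
      obtain ⟨⟨s, hs⟩, h2⟩ := hρ1 j
      rw [hs, mul_comm]
      apply Nat.mul_le_mul_right
      rw [Nat.le_div_iff_mul_le hcpos, mul_comm]
      rw [hs] at h2
      exact h2
    have hsum : ∑ j : Fin t, ρ j ≤ t * ((a / c) * c) := by
      calc ∑ j : Fin t, ρ j ≤ ∑ _j : Fin t, (a / c) * c := Finset.sum_le_sum (fun j _ => hρle j)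
        _ = t * ((a / c) * c) := by rw [Finset.sum_const, Finset.card_univ, Fintype.card_fin, smul_eq_mul]
    rw [hρ2] at hsum
    have hmle : m ≤ t * (a / c) := by
      have : m * c ≤ (t * (a / c)) * c := by rw [mul_assoc]; exact hsum
      exact Nat.le_of_mul_le_mul_right this hcpos
    have hexp : 2 * d = (t * (a / c)) * c + t * (a % c) := by
      rw [hat]
      nth_rewrite 1 [← hda]
      ring
    rcases Nat.lt_or_ge m (t * (a / c)) with hlt | hge
    · exfalso
      have h1 : (m + 1) * c ≤ (t * (a / c)) * c := Nat.mul_le_mul_right _ hlt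
      have h2 : (m + 1) * c = m * c + c := by ring
      have h3 : c * m = m * c := mul_comm _ _
      omega
    · have heq : m = t * (a / c) := le_antisymm hmle hge
      have h3 : c * m = m * c := mul_comm _ _
      rw [← heq] at hexp
      omega
  · exfalso
    have h3 : c * m = m * c := mul_comm _ _
    have hA' : a + m * c ≤ 2 * d := hA
    omega

end main

end Cfsg.Agent.Helper14.SPIMain
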