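import Mathlib
import Cfsg.Agent.Lib.Helper5.SpAut8
import Cfsg.Agent.Lib.Helper5.FTPG3

/-!
# Automorphisms of `PSp_{2m}(F)` permuting the transvection groups are standard

A version of helper5's `SpAut8` with the hypothesis "`α` and `α⁻¹` permute the groups `Tb v`"
(`PermTb`) in place of the restriction `(2m, p) ≠ (4, 2)`.
-/

set_option autoImplicit false
set_option linter.unusedSectionVars false
set_option linter.unusedVariables false

namespace Cfsg.Agent.Helper14.SpExc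

open Matrix Cfsg Cfsg.Agent.Helper13 Cfsg.Agent.Helper84.SpRoot Cfsg.Agent.Helper40.AutPSp
  Cfsg.Agent.Helper5.SpAut

variable {F : Type*} [Field F] {m : ℕ}

/-- `α` permutes the transvection groups -/
def PermTb (α : PSp m F ≃* PSp m F) : Prop :=
  ∀ v : Fin m ⊕ Fin m → F, v ≠ 0 →
    ∃ w : Fin m ⊕ Fin m → F, w ≠ 0 ∧ (Tb v).map α.toMonoidHom = Tb w

section Finite

variable [Fintype F]

open Classical in
/-- the point map of an automorphism, on vectors (`0 ↦ 0`) -/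
noncomputable def ptMap' (hm : 2 ≤ m) (α : PSp m F ≃* PSp m F) (h4 : PermTb α)
    (v : Fin m ⊕ Fin m → F) : Fin m ⊕ Fin m → F :=
  if hv : v = 0 then 0 else Classical.choose (h4 v hv)

theorem ptMap'_spec (hm : 2 ≤ m) (α : PSp m F ≃* PSp m F) (h4 : PermTb α)
    {v : Fin m ⊕ Fin m → F} (hv : v ≠ 0) :
    ptMap' hm α h4 v ≠ 0 ∧ (Tb v).map α.toMonoidHom = Tb (ptMap' hm α h4 v) := by
  unfold ptMap'
  rw [dif_neg hv]
  exact Classical.choose_spec (h4 v hv)

theorem ptMap'_zero (hm : 2 ≤ m) (α : PSp m F ≃* PSp m F) (h4 : PermTb α) :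
    ptMap' hm α h4 0 = 0 := by
  unfold ptMap'
  rw [dif_pos rfl]

theorem ptMap'_perp_iff (hm : 2 ≤ m) (α : PSp m F ≃* PSp m F) (h4 : PermTb α)
    {u v : Fin m ⊕ Fin m → F} (hu : u ≠ 0) (hv : v ≠ 0) :
    Cfsg.sympForm m F (ptMap' hm α h4 u) (ptMap' hm α h4 v) = 0 ↔ Cfsg.sympForm m F u v = 0 := by
  have hm0 : 0 < m := by omega
  obtain ⟨hu', hu2⟩ := ptMap'_spec hm α h4 hu
  obtain ⟨hv', hv2⟩ := ptMap'_spec hm α h4 hv
  rw [← tb_commute_iff hm0 hu' hv', ← tb_commute_iff hm0 hu hv, ← hu2, ← hv2]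
  constructor
  · intro h a ha b hb
    apply α.injective
    have := h _ (Subgroup.mem_map_of_mem _ ha) _ (Subgroup.mem_map_of_mem _ hb)
    rw [map_mul, map_mul]
    exact this
  · rintro h _ ⟨a, ha, rfl⟩ _ ⟨b, hb, rfl⟩
    show α a * α b = α b * α a
    rw [← map_mul, ← map_mul, h a ha b hb]

/-- surjectivity on points -/
theorem ptMap'_surj (hm : 2 ≤ m) (α : PSp m F ≃* PSp m F) (h4 : PermTb α)
    (h4' : PermTb α.symm) {w : Fin m ⊕ Fin m → F} (hw : w ≠ 0) :
    ∃ v : Fin m ⊕ Fin m → F, v ≠ 0 ∧ ∃ a : F, a ≠ 0 ∧ ptMap' hm α h4 v = a • w := by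
  have hm0 : 0 < m := by omega
  obtain ⟨v, hv, hvw⟩ := h4' w hw
  refine ⟨v, hv, ?_⟩
  obtain ⟨hv', hv2⟩ := ptMap'_spec hm α h4 hv
  have h1 : Tb (ptMap' hm α h4 v) = Tb w := by
    rw [← hv2, ← hvw, Subgroup.map_map]
    have : α.toMonoidHom.comp α.symm.toMonoidHom = MonoidHom.id _ := by
      ext x; simp
    rw [this, Subgroup.map_id]
  obtain ⟨a, ha⟩ := Tb_eq_imp hm0 hv' h1
  refine ⟨a, ?_, ha⟩
  rintro rfl
  rw [zero_smul] at ha
  exact hv' ha

theorem ptMap'_col (hm : 2 ≤ m) (α : PSp m F ≃* PSp m F) (h4 : PermTb α)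
    (h4' : PermTb α.symm) (u w x : Fin m ⊕ Fin m → F) (hu : u ≠ 0) (hw : w ≠ 0) (hx : x ≠ 0)
    (h : x ∈ Submodule.span F {u, w}) :
    ptMap' hm α h4 x ∈ Submodule.span F {ptMap' hm α h4 u, ptMap' hm α h4 w} := by
  rw [mem_span_pair_iff_perp (ptMap'_spec hm α h4 hu).1]
  intro d' hd'u hd'w
  by_cases hd' : d' = 0
  · rw [hd', sympForm_zero_left]
  obtain ⟨d, hd, a, ha, hda⟩ := ptMap'_surj hm α h4 h4' hd'
  have hd'eq : d' = a⁻¹ • ptMap' hm α h4 d := by
    rw [hda, smul_smul, inv_mul_cancel₀ ha, one_smul]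
  rw [hd'eq, sympForm_smul_left] at hd'u hd'w ⊢
  have h1 : Cfsg.sympForm m F d u = 0 := by
    rw [← ptMap'_perp_iff hm α h4 hd hu]
    rcases mul_eq_zero.mp hd'u with h | h
    · exact absurd h (inv_ne_zero ha)
    · exact h
  have h2 : Cfsg.sympForm m F d w = 0 := by
    rw [← ptMap'_perp_iff hm α h4 hd hw]
    rcases mul_eq_zero.mp hd'w with h | h
    · exact absurd h (inv_ne_zero ha)
    · exact h
  have h3 := (mem_span_pair_iff_perp hu).mp h d h1 h2
  rw [(ptMap'_perp_iff hm α h4 hd hx).mpr h3, mul_zero]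

theorem ptMap'_col' (hm : 2 ≤ m) (α : PSp m F ≃* PSp m F) (h4 : PermTb α)
    (u w x : Fin m ⊕ Fin m → F) (hu : u ≠ 0) (hw : w ≠ 0) (hx : x ≠ 0)
    (h : ptMap' hm α h4 x ∈ Submodule.span F {ptMap' hm α h4 u, ptMap' hm α h4 w}) :
    x ∈ Submodule.span F {u, w} := by
  rw [mem_span_pair_iff_perp hu]
  intro d hdu hdw
  by_cases hd : d = 0
  · rw [hd, sympForm_zero_left]
  have h1 := (ptMap'_perp_iff hm α h4 hd hu).mpr hdu
  have h2 := (ptMap'_perp_iff hm α h4 hd hw).mpr hdw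
  have h3 := (mem_span_pair_iff_perp (ptMap'_spec hm α h4 hu).1).mp h _ h1 h2
  exact (ptMap'_perp_iff hm α h4 hd hx).mp h3

/-- final assembly: an automorphism whose point map is induced by a semilinear map is standard -/
theorem struct_of_ftpg' (hm : 2 ≤ m) (α : PSp m F ≃* PSp m F) (h4 : PermTb α)
    (hF : FTPGConcl (ptMap' hm α h4)) :
    ∃ (G : ↥(Cfsg.GSp m F)) (σ : F ≃+* F), α = PhiSp G * fieldAutPSp σ := by
  have hm0 : 0 < m := by omega
  obtain ⟨σ, L, hL, hΦ⟩ := hF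
  have hσbij : Function.Bijective σ :=
    ⟨σ.injective, Finite.injective_iff_surjective.mp σ.injective⟩
  let σe : F ≃+* F := RingEquiv.ofBijective σ hσbij
  have hσe : ∀ a, σe a = σ a := fun _ => rfl
  have hLinj : Function.Injective L := by
    rw [injective_iff_map_eq_zero]
    intro v hv
    by_contra hv0
    obtain ⟨b, hb, hbv⟩ := hΦ v hv0
    rw [hv, smul_zero] at hbv
    exact (ptMap'_spec hm α h4 hv0).1 hbv
  have hLperp : ∀ x y, Cfsg.sympForm m F x y = 0 → Cfsg.sympForm m F (L x) (L y) = 0 := by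
    intro x y hxy
    by_cases hx : x = 0
    · rw [hx, map_zero, sympForm_zero_left]
    by_cases hy : y = 0
    · rw [hy, map_zero, sympForm_zero_right]
    obtain ⟨b, hb, hbx⟩ := hΦ x hx
    obtain ⟨b', hb', hby⟩ := hΦ y hy
    have h1 := (ptMap'_perp_iff hm α h4 hx hy).mpr hxy
    rw [hbx, hby, sympForm_smul_left, sympForm_smul_right] at h1
    rcases mul_eq_zero.mp h1 with h | h
    · exact absurd h hb
    · rcases mul_eq_zero.mp h with h | h
      · exact absurd h hb'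
      · exact h
  obtain ⟨G, hG⟩ := exists_GSp_of_semilinear hm0 σe L (fun x y => map_add L x y)
    (fun a x => by rw [hσe]; exact hL a x) hLinj hLperp
  refine ⟨G, σe, ?_⟩
  -- γ and α agree on all transvection groups
  set γ : MulAut (PSp m F) := PhiSp G * fieldAutPSp σe with hγ
  have hagree : ∀ v : Fin m ⊕ Fin m → F, v ≠ 0 →
      (Tb v).map (γ : PSp m F ≃* PSp m F).toMonoidHom = (Tb v).map α.toMonoidHom := by
    intro v hv
    obtain ⟨b, hb, hbv⟩ := hΦ v hv
    rw [hγ, map_Tb_PhiSp_field, ← hG, (ptMap'_spec hm α h4 hv).2, hbv, Tb_smul hb]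
  have hrig := rigidity hm0 (α.trans (γ : PSp m F ≃* PSp m F).symm) (by
    intro v hv
    have h1 : (α.trans (γ : PSp m F ≃* PSp m F).symm).toMonoidHom
        = ((γ : PSp m F ≃* PSp m F).symm.toMonoidHom).comp α.toMonoidHom := rfl
    rw [h1, ← Subgroup.map_map, ← hagree v hv, Subgroup.map_map]
    have h2 : ((γ : PSp m F ≃* PSp m F).symm.toMonoidHom).comp
        (γ : PSp m F ≃* PSp m F).toMonoidHom = MonoidHom.id _ := by
      ext x; simp
    rw [h2, Subgroup.map_id])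
  apply MulEquiv.ext
  intro x
  have h3 := congrArg (fun e : PSp m F ≃* PSp m F => (γ : PSp m F ≃* PSp m F) (e x)) hrig
  simp only [MulEquiv.trans_apply, MulEquiv.apply_symm_apply, MulEquiv.refl_apply] at h3
  exact h3


/-- an automorphism which, together with its inverse, permutes the transvection groups is
standard -/
theorem struct_of_permTb (hm : 2 ≤ m) (α : PSp m F ≃* PSp m F) (h4 : PermTb α)
    (h4' : PermTb α.symm) :
    ∃ (G : ↥(Cfsg.GSp m F)) (σ : F ≃+* F), α = PhiSp G * fieldAutPSp σ := by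
  apply struct_of_ftpg' hm α h4
  have hdim : 3 ≤ Module.finrank F (Fin m ⊕ Fin m → F) := by
    rw [Module.finrank_fintype_fun_eq_card, Fintype.card_sum, Fintype.card_fin]
    omega
  exact Cfsg.Agent.Helper5.FTPG.ftpg hdim _
    (fun v hv => (ptMap'_spec hm α h4 hv).1)
    (ptMap'_col hm α h4 h4')
    (ptMap'_col' hm α h4)

end Finite

end Cfsg.Agent.Helper14.SpExc
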