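import Mathlib
import Cfsg.Agent.S0776
import Cfsg.Agent.Lib.Helper5.SpAut8

/-!
# `Sp_4(F)` in characteristic two: centres of Sylow 2-subgroups

For a suitable (hence every) Sylow 2-subgroup `P ≤ stab v` of `Sp_4(F)`, `char F = 2`, the centre
of `P` consists of the Eichler elements `eich v (b • w) c` for a fixed `w ⊥ v`; those with
`b ≠ 0 ≠ c` are squares.  Hence the non-squares of `Z(P)` lie in `T v ∪ S v w`.
-/

set_option autoImplicit false
set_option linter.unusedSectionVars false
set_option linter.unusedVariables false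

namespace Cfsg.Agent.Helper14.SpExc

open Matrix Cfsg Cfsg.Agent.Helper13 Cfsg.Agent.Helper84.SpRoot Cfsg.Agent.Helper40.AutPSp
  Cfsg.Agent.Helper5.SpAut Cfsg.Agent.S0776 Module

variable {F : Type*} [Field F] {m : ℕ}

/-! ### Eichler elements -/

/-- uniqueness of the Eichler representation -/
theorem eich_eq_imp {v u u' : Fin m ⊕ Fin m → F} (hv : v ≠ 0)
    (hu : Cfsg.sympForm m F u v = 0) (hu' : Cfsg.sympForm m F u' v = 0) {c c' : F}
    (h : eich v u c = eich v u' c') : ∃ a : F, u' = u + a • v := by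
  obtain ⟨x0, hx0⟩ := exists_partner (m := m) hv
  have hx0' : Cfsg.sympForm m F x0 v = -1 := by rw [sympForm_swap, hx0]
  have h1 := congrArg (fun g : Matrix.symplecticGroup (Fin m) F => g.val *ᵥ x0) h
  simp only [eich_act hu, eich_act hu', hx0'] at h1
  refine ⟨(Cfsg.sympForm m F x0 u' - c') - (Cfsg.sympForm m F x0 u - c), ?_⟩
  have h2 : u' - (u + ((Cfsg.sympForm m F x0 u' - c') - (Cfsg.sympForm m F x0 u - c)) • v) =
      (x0 + (-1 : F) • u + Cfsg.sympForm m F x0 u • v + (c * -1) • v) -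
        (x0 + (-1 : F) • u' + Cfsg.sympForm m F x0 u' • v + (c' * -1) • v) := by
    module
  rw [h1, sub_self, sub_eq_zero] at h2
  exact h2

/-- changing `u` by a multiple of `v` -/
theorem eich_add_smul_self {v u : Fin m ⊕ Fin m → F} (hu : Cfsg.sympForm m F u v = 0) (a c : F) :
    eich v (u + a • v) c = eich v u (c + 2 * a) := by
  have hu2 : Cfsg.sympForm m F (u + a • v) v = 0 := by
    rw [sympForm_add_left, sympForm_smul_left, sympForm_self, hu, mul_zero, add_zero]
  apply sp_ext
  intro x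
  rw [eich_act hu2, eich_act hu, sympForm_add_right, sympForm_smul_right]
  module

section CharTwo

variable [CharP F 2]

/-- the quadratic invariant of an Eichler involution -/
theorem sympForm_eich_self {v u : Fin m ⊕ Fin m → F} (hu : Cfsg.sympForm m F u v = 0) (c : F)
    (x : Fin m ⊕ Fin m → F) :
    Cfsg.sympForm m F x ((eich v u c).val *ᵥ x) =
      c * Cfsg.sympForm m F x v * Cfsg.sympForm m F x v := by
  rw [eich_act hu]
  simp only [sympForm_add_right, sympForm_smul_right, sympForm_self]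
  have h2 : (2 : F) = 0 := CharTwo.two_eq_zero
  linear_combination (Cfsg.sympForm m F x v * Cfsg.sympForm m F x u) * h2

/-- a nontrivial transvection is not an Eichler element with `c = 0` -/
theorem sympT_ne_eich_zero {v₀ v u : Fin m ⊕ Fin m → F} (hv₀ : v₀ ≠ 0)
    (hu : Cfsg.sympForm m F u v = 0) {d : F} (h : sympT v₀ d = eich v u 0) : d = 0 := by
  by_contra hd
  obtain ⟨x, hx⟩ := exists_partner (m := m) hv₀
  have hx' : Cfsg.sympForm m F x v₀ = 1 := by rw [sympForm_swap, hx, CharTwo.neg_eq]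
  have h1 := sympForm_eich_self hu 0 x
  rw [← h, sympT_act, sympForm_add_right, sympForm_smul_right, sympForm_self, hx', zero_mul,
    zero_mul, zero_add, mul_one, mul_one] at h1
  exact hd h1

/-- Eichler elements `eich v u c` with `u ∉ ⟨v⟩` and `c ≠ 0` are squares -/
theorem isSquare_eich_c2 {v u : Fin m ⊕ Fin m → F} (hv : v ≠ 0)
    (hu : Cfsg.sympForm m F u v = 0) (hind : ∀ a : F, u ≠ a • v) {c : F} (hc : c ≠ 0) :
    ∃ s : Matrix.symplecticGroup (Fin m) F, s * s = eich v u c := by
  obtain ⟨y, hy1, hy2⟩ := exists_sep hv hind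
  have hyv : Cfsg.sympForm m F (c • y) v = 0 := by
    rw [sympForm_smul_left, sympForm_swap, hy2, neg_zero, mul_zero]
  refine ⟨eich v (c • y) 0 * sympT u c⁻¹, ?_⟩
  have hbb : sympT u c⁻¹ * sympT u c⁻¹ = 1 := by
    rw [sympT_mul, CharTwo.add_self_eq_zero, sympT_zero]
  have hbv : (sympT u c⁻¹).val *ᵥ v = v := by
    rw [sympT_act, orth_symm hu]
    simp
  have hby : (sympT u c⁻¹).val *ᵥ (c • y) = c • y + u := by
    rw [sympT_act, sympForm_smul_left, sympForm_swap y u, hy1, CharTwo.neg_eq, mul_one,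
      inv_mul_cancel₀ hc, one_smul]
  rw [sq_skeleton hyv hu hbb hbv hby, sympForm_smul_right, hy1, mul_one]

end CharTwo

/-! ### the groups `S v w` -/

/-- the "short root group" attached to an isotropic flag `v, w` -/
def S (v w : Fin m ⊕ Fin m → F) (hwv : Cfsg.sympForm m F w v = 0) :
    Subgroup (Matrix.symplecticGroup (Fin m) F) where
  carrier := {g | ∃ b : F, g = eich v (b • w) 0}
  one_mem' := ⟨0, by rw [zero_smul, eich_one]⟩
  mul_mem' := by
    rintro _ _ ⟨b, rfl⟩ ⟨b', rfl⟩
    have h1 : Cfsg.sympForm m F (b • w) v = 0 := by rw [sympForm_smul_left, hwv, mul_zero]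
    have h2 : Cfsg.sympForm m F (b' • w) v = 0 := by rw [sympForm_smul_left, hwv, mul_zero]
    refine ⟨b + b', ?_⟩
    rw [eich_mul h1 h2, add_smul, sympForm_smul_left, sympForm_smul_right, sympForm_self]
    simp
  inv_mem' := by
    rintro _ ⟨b, rfl⟩
    have h1 : Cfsg.sympForm m F (b • w) v = 0 := by rw [sympForm_smul_left, hwv, mul_zero]
    have h2 : Cfsg.sympForm m F ((-b) • w) v = 0 := by rw [sympForm_smul_left, hwv, mul_zero]
    refine ⟨-b, ?_⟩
    rw [inv_eq_iff_mul_eq_one, eich_mul h1 h2, ← add_smul, add_neg_cancel, zero_smul,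
      sympForm_smul_left, sympForm_smul_right, sympForm_self]
    simp [eich_one]

theorem mem_S {v w : Fin m ⊕ Fin m → F} {hwv : Cfsg.sympForm m F w v = 0}
    {g : Matrix.symplecticGroup (Fin m) F} : g ∈ S v w hwv ↔ ∃ b : F, g = eich v (b • w) 0 :=
  Iff.rfl

/-- conjugation of `S v w` -/
theorem S_conj (k : Matrix.symplecticGroup (Fin m) F) (v w : Fin m ⊕ Fin m → F)
    (hwv : Cfsg.sympForm m F w v = 0) :
    (S v w hwv).map (MulAut.conj k).toMonoidHom =
      S (k.val *ᵥ v) (k.val *ᵥ w) (by rw [sympForm_mulVec k.2, hwv]) := by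
  ext g
  constructor
  · rintro ⟨_, ⟨b, rfl⟩, rfl⟩
    have h1 : Cfsg.sympForm m F (b • w) v = 0 := by rw [sympForm_smul_left, hwv, mul_zero]
    refine ⟨b, ?_⟩
    show k * eich v (b • w) 0 * k⁻¹ = _
    rw [conj_eich k h1, Matrix.mulVec_smul]
  · rintro ⟨b, rfl⟩
    have h1 : Cfsg.sympForm m F (b • w) v = 0 := by rw [sympForm_smul_left, hwv, mul_zero]
    refine ⟨eich v (b • w) 0, ⟨b, rfl⟩, ?_⟩
    show k * eich v (b • w) 0 * k⁻¹ = _
    rw [conj_eich k h1, Matrix.mulVec_smul]

/-! ### Lagrangians in dimension four -/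

theorem mem_span_of_perp_pair (hm2 : m = 2) {v w u : Fin m ⊕ Fin m → F} (hv : v ≠ 0)
    (hind : ∀ a : F, w ≠ a • v) (hwv : Cfsg.sympForm m F w v = 0)
    (huv : Cfsg.sympForm m F u v = 0) (huw : Cfsg.sympForm m F u w = 0) :
    ∃ a b : F, u = a • v + b • w := by
  have hli : LinearIndependent F ![v, w] := by
    rw [LinearIndependent.pair_iff' hv]
    intro a h
    exact hind a h.symm
  have hfr : finrank F (Submodule.span F (Set.range ![v, w])) = 2 := by
    rw [finrank_span_eq_card hli]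
    rfl
  have hrange : Set.range ![v, w] = {v, w} := by
    ext x
    simp only [Set.mem_range, Set.mem_insert_iff, Set.mem_singleton_iff]
    constructor
    · rintro ⟨i, rfl⟩
      fin_cases i
      · left; rfl
      · right; rfl
    · rintro (rfl | rfl)
      · exact ⟨0, rfl⟩
      · exact ⟨1, rfl⟩
  rw [hrange] at hfr
  set W := Submodule.span F ({v, w} : Set (Fin m ⊕ Fin m → F)) with hW
  have hti : ∀ x ∈ W, ∀ y ∈ W, Cfsg.sympForm m F x y = 0 := by
    intro x hx y hy
    obtain ⟨a, b, rfl⟩ := Submodule.mem_span_pair.1 hx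
    obtain ⟨a', b', rfl⟩ := Submodule.mem_span_pair.1 hy
    simp only [sympForm_add_left, sympForm_add_right, sympForm_smul_left, sympForm_smul_right,
      sympForm_self, hwv, orth_symm hwv]
    ring
  have hle : W ≤ (sB m F).orthogonal W := by
    intro x hx
    rw [LinearMap.BilinForm.mem_orthogonal_iff]
    intro n hn
    show sB m F n x = 0
    rw [sB_apply]
    exact hti n hn x hx
  have hV : finrank F (Fin m ⊕ Fin m → F) = 4 := by
    rw [Module.finrank_fintype_fun_eq_card, Fintype.card_sum, Fintype.card_fin, hm2]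
  have h2 := LinearMap.BilinForm.finrank_orthogonal (sB_nondeg (m := m) (F := F)) W
  rw [hV, hfr] at h2
  have heq : W = (sB m F).orthogonal W := by
    apply Submodule.eq_of_le_of_finrank_eq hle
    rw [hfr, h2]
  have hu : u ∈ (sB m F).orthogonal W := by
    rw [LinearMap.BilinForm.mem_orthogonal_iff]
    intro n hn
    show sB m F n u = 0
    rw [sB_apply]
    obtain ⟨a, b, rfl⟩ := Submodule.mem_span_pair.1 hn
    rw [sympForm_add_left, sympForm_smul_left, sympForm_smul_left, orth_symm huv, orth_symm huw]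
    ring
  rw [← heq] at hu
  obtain ⟨a, b, h⟩ := Submodule.mem_span_pair.1 hu
  exact ⟨a, b, h.symm⟩

/-! ### a good Sylow subgroup -/

section Finite

variable [Fintype F] [CharP F 2]

/-- a vector fixed by `Q v` is a multiple of `v` -/
theorem mem_span_of_Q_fixes {v v' : Fin m ⊕ Fin m → F} (hv : v ≠ 0)
    (h : ∀ g ∈ Q v, g.val *ᵥ v' = v') : ∃ a : F, v' = a • v := by
  by_contra hcon
  push Not at hcon
  obtain ⟨z, hz1, hz2⟩ := exists_sep hv hcon
  have hzv : Cfsg.sympForm m F z v = 0 := by rw [sympForm_swap, hz2, neg_zero]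
  have h1 := h _ (eich_mem_Q hzv 0)
  have h0 := h _ (sympT_mem_Q v 1)
  rw [sympT_act, one_mul] at h0
  have hv'v : Cfsg.sympForm m F v' v = 0 := by
    have : Cfsg.sympForm m F v' v • v = 0 := by
      have := congrArg (fun t => t - v') h0
      simpa using this
    rcases smul_eq_zero.1 this with h' | h'
    · exact h'
    · exact absurd h' hv
  rw [eich_act hzv, hv'v, hz1] at h1
  have : v = 0 := by
    have := congrArg (fun t => t - v') h1
    simpa using this
  exact hv this

theorem exists_good_sylow (hm : 2 ≤ m) (hm2 : m = 2) :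
    ∃ (P : Sylow 2 (Matrix.symplecticGroup (Fin m) F)) (v w : Fin m ⊕ Fin m → F)
      (hwv : Cfsg.sympForm m F w v = 0), v ≠ 0 ∧ (∀ a : F, w ≠ a • v) ∧
      (P : Subgroup _) ≤ stab v ∧
      ∀ z ∈ ZP (P : Subgroup (Matrix.symplecticGroup (Fin m) F)),
        ∃ b c : F, z = eich v (b • w) c := by
  haveI : Fact (Nat.Prime 2) := ⟨Nat.prime_two⟩
  have hm0 : 0 < m := by omega
  let v : Fin m ⊕ Fin m → F := Pi.single (Sum.inl ⟨0, by omega⟩) 1
  let w : Fin m ⊕ Fin m → F := Pi.single (Sum.inl ⟨1, by omega⟩) 1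
  have hv : v ≠ 0 := by
    intro h
    have := congrFun h (Sum.inl ⟨0, by omega⟩)
    simp [v] at this
  have hwv : Cfsg.sympForm m F w v = 0 := by
    show Cfsg.sympForm m F w (Pi.single (Sum.inl ⟨0, by omega⟩) 1) = 0
    rw [sympForm_single_inl']
    simp [w]
  have hvw : Cfsg.sympForm m F v w = 0 := orth_symm hwv
  have hind : ∀ a : F, w ≠ a • v := by
    intro a h
    have := congrFun h (Sum.inl ⟨1, by omega⟩)
    simp [v, w] at this
  -- the 2-group `⟨t⟩ Q v`
  set t := sympT w (1 : F) with ht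
  have htv : t.val *ᵥ v = v := by
    rw [ht, sympT_act, hvw, mul_zero, zero_smul, add_zero]
  have htt : t * t = 1 := by
    rw [ht, sympT_mul, CharTwo.add_self_eq_zero, sympT_zero]
  have hzp : IsPGroup 2 (Subgroup.zpowers t) := by
    rintro ⟨g, hg⟩
    obtain ⟨i, rfl⟩ := Subgroup.mem_zpowers_iff.1 hg
    refine ⟨1, ?_⟩
    apply Subtype.ext
    rw [pow_one]
    show (t ^ i) ^ 2 = 1
    rw [← zpow_natCast, ← _root_.zpow_mul, mul_comm, _root_.zpow_mul, zpow_natCast, pow_two, htt,
      _root_.one_zpow]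
  have hzle : Subgroup.zpowers t ≤ stab v := by
    rw [Subgroup.zpowers_le]
    exact htv
  have hH : IsPGroup 2 (Subgroup.zpowers t ⊔ Q v : Subgroup _) :=
    IsPGroup.to_sup_of_normal_right' hzp (Q_isPGroup (p := 2) hv)
      (hzle.trans (stab_le_normalizer_Q v))
  obtain ⟨P, hHP⟩ := hH.exists_le_sylow
  have hQP : Q v ≤ (P : Subgroup _) := le_trans le_sup_right hHP
  have htP : t ∈ (P : Subgroup _) := hHP (Subgroup.mem_sup_left (Subgroup.mem_zpowers t))
  -- `P ≤ stab v`
  obtain ⟨v', hv'0, hPv'⟩ := exists_fixed_vector (p := 2) hm0 P.1 P.2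
  obtain ⟨a, ha⟩ := mem_span_of_Q_fixes hv (fun g hg => hPv' (hQP hg))
  have ha0 : a ≠ 0 := by
    rintro rfl
    rw [zero_smul] at ha
    exact hv'0 ha
  have hPv : (P : Subgroup _) ≤ stab v := by
    intro g hg
    have h1 : g.val *ᵥ v' = v' := hPv' hg
    rw [ha, Matrix.mulVec_smul] at h1
    show g.val *ᵥ v = v
    have h2 := congrArg (fun x => a⁻¹ • x) h1
    simpa [smul_smul, inv_mul_cancel₀ ha0] using h2
  refine ⟨P, v, w, hwv, hv, hind, hPv, ?_⟩
  intro z hz
  have hzQ := ZP_le_Q hv P hPv hz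
  obtain ⟨u, c, hu, rfl⟩ := exists_eich_of_mem_Q hv hzQ
  rw [mem_ZP] at hz
  -- commuting with `t`
  have hcomm : t * eich v u c = eich v u c * t := hz.2 t htP
  have hconj : eich v (t.val *ᵥ u) c = eich v u c := by
    have := conj_eich t hu c
    rw [htv, hcomm, mul_inv_cancel_right] at this
    exact this.symm
  have htu : t.val *ᵥ u = u + Cfsg.sympForm m F u w • w := by
    rw [ht, sympT_act, one_mul]
  have htuv : Cfsg.sympForm m F (t.val *ᵥ u) v = 0 := by
    rw [htu, sympForm_add_left, sympForm_smul_left, hu, hwv, mul_zero, add_zero]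
  obtain ⟨a', ha'⟩ := eich_eq_imp hv htuv hu hconj
  have huw : Cfsg.sympForm m F u w = 0 := by
    by_contra hne
    rw [htu] at ha'
    -- u = u + f(u,w) w + a' v
    have h3 : (u + Cfsg.sympForm m F u w • w + a' • v) - u = 0 := by rw [← ha', sub_self]
    have h1 : Cfsg.sympForm m F u w • w = (-a') • v := by
      have h4 : Cfsg.sympForm m F u w • w =
          ((u + Cfsg.sympForm m F u w • w + a' • v) - u) + (-a') • v := by module
      rw [h4, h3, zero_add]
    apply hind ((Cfsg.sympForm m F u w)⁻¹ * (-a'))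
    rw [← smul_smul, ← h1, smul_smul, inv_mul_cancel₀ hne, one_smul]
  obtain ⟨a₁, b₁, hab⟩ := mem_span_of_perp_pair hm2 hv hind hwv hu huw
  refine ⟨b₁, c + 2 * a₁, ?_⟩
  have h1 : Cfsg.sympForm m F (b₁ • w) v = 0 := by rw [sympForm_smul_left, hwv, mul_zero]
  rw [← eich_add_smul_self h1, hab, add_comm]

end Finite

end Cfsg.Agent.Helper14.SpExc
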