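import Mathlib
import Cfsg.Agent.Lib.Helper14.SpExcTwoA
import Cfsg.Agent.Lib.Helper14.SpExcPerm
import Cfsg.Agent.Lib.Helper14.LocalBalSpMain

/-!
# Automorphisms of `Sp_4(F)`, `char F = 2`

Every automorphism `α` of `PSp_4(F)` either maps all long root groups `Tb v` to long root groups
(case I) or all of them to short root groups `Sb v w` (case II); in case II `α²` is of case I.
Automorphisms of case I are standard.  Consequences: `α² ∈ PΓSp` for all `α`; automorphisms of odd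
order and automorphisms fixing a transvection lie in `PΓSp`.
-/

set_option autoImplicit false
set_option linter.unusedSectionVars false
set_option linter.unusedVariables false
set_option linter.style.haveILetI false

namespace Cfsg.Agent.Helper14.SpExc

open Matrix Cfsg Cfsg.Agent.Helper13 Cfsg.Agent.Helper84.SpRoot Cfsg.Agent.Helper40.AutPSp
  Cfsg.Agent.Helper5.SpAut Cfsg.Agent.Helper14.LocalBal

variable {F : Type*} [Field F] {m : ℕ}

/-- the image of `S v w` in `PSp` -/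
def Sb (v w : Fin m ⊕ Fin m → F) (hwv : Cfsg.sympForm m F w v = 0) : Subgroup (PSp m F) :=
  (S v w hwv).map (QuotientGroup.mk' (Subgroup.center (Matrix.symplecticGroup (Fin m) F)))

theorem Sb_conj (k : Matrix.symplecticGroup (Fin m) F) (v w : Fin m ⊕ Fin m → F)
    (hwv : Cfsg.sympForm m F w v = 0) :
    (Sb v w hwv).map (MulAut.conj (QuotientGroup.mk' (Subgroup.center
      (Matrix.symplecticGroup (Fin m) F)) k)).toMonoidHom =
      Sb (k.val *ᵥ v) (k.val *ᵥ w) (by rw [sympForm_mulVec k.2, hwv]) := by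
  unfold Sb
  rw [← S_conj k v w hwv, Subgroup.map_map, Subgroup.map_map]
  congr 1

section CharTwo

variable [CharP F 2]

theorem mk_inj (hm : 0 < m) {a b : Matrix.symplecticGroup (Fin m) F}
    (h : (QuotientGroup.mk a : PSp m F) = QuotientGroup.mk b) : a = b := by
  rw [QuotientGroup.eq] at h
  have := center_eq_bot_of_char_two hm h
  rw [inv_mul_eq_one] at this
  exact this

/-- a long root group and a short root group meet trivially -/
theorem eq_one_of_mem_Tb_of_mem_Sb (hm : 0 < m) {v v' w' : Fin m ⊕ Fin m → F} (hv : v ≠ 0)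
    {hwv' : Cfsg.sympForm m F w' v' = 0} {z : PSp m F} (h1 : z ∈ Tb v)
    (h2 : z ∈ Sb v' w' hwv') : z = 1 := by
  obtain ⟨t, ht, rfl⟩ := h1
  obtain ⟨s, hs, hst⟩ := h2
  obtain ⟨d, rfl⟩ := mem_T_iff.mp ht
  obtain ⟨b, rfl⟩ := mem_S.1 hs
  have h3 : eich v' (b • w') 0 = sympT v d := mk_inj hm hst
  have hbw : Cfsg.sympForm m F (b • w') v' = 0 := by rw [sympForm_smul_left, hwv', mul_zero]
  have hd : d = 0 := sympT_ne_eich_zero hv hbw h3.symm
  rw [hd, sympT_zero, map_one]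

end CharTwo

section Finite

variable [Fintype F]

theorem card_Tb (hm : 0 < m) {v : Fin m ⊕ Fin m → F} (hv : v ≠ 0) :
    Nat.card ↥(Tb v) = Nat.card F := by
  symm
  apply Nat.card_congr
  refine Equiv.ofBijective (fun c : F => (⟨QuotientGroup.mk (sympT v c),
    Subgroup.mem_map_of_mem _ (sympT_mem_T v c)⟩ : ↥(Tb v))) ⟨?_, ?_⟩
  · intro c c' h
    exact mk_sympT_inj hm hv (congrArg Subtype.val h)
  · rintro ⟨_, t, ht, rfl⟩
    obtain ⟨c, rfl⟩ := mem_T_iff.mp ht
    exact ⟨c, rfl⟩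

theorem card_Sb_le (v w : Fin m ⊕ Fin m → F) (hwv : Cfsg.sympForm m F w v = 0) :
    Nat.card ↥(Sb v w hwv) ≤ Nat.card F := by
  apply Nat.card_le_card_of_surjective (fun b : F => (⟨QuotientGroup.mk (eich v (b • w) 0),
    Subgroup.mem_map_of_mem _ ⟨b, rfl⟩⟩ : ↥(Sb v w hwv)))
  rintro ⟨_, s, hs, rfl⟩
  obtain ⟨b, rfl⟩ := mem_S.1 hs
  exact ⟨b, rfl⟩

theorem card_map_equiv {K : Type*} [Group K] (α : K ≃* K) (H : Subgroup K) :
    Nat.card ↥(H.map α.toMonoidHom) = Nat.card ↥H :=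
  (Nat.card_congr (H.equivMapOfInjective α.toMonoidHom α.injective).toEquiv).symm

variable [CharP F 2]

/-- the long root group of the fixed vector consists of central non-squares -/
theorem Tb_subset_charSet (hm : 0 < m) {v : Fin m ⊕ Fin m → F} (hv : v ≠ 0)
    (P : Sylow 2 (Matrix.symplecticGroup (Fin m) F)) (hP : (P : Subgroup _) ≤ stab v)
    (z : PSp m F) (hz : z ∈ Tb v) :
    z ∈ charSet 2 ((P : Subgroup (Matrix.symplecticGroup (Fin m) F)).map
      (QuotientGroup.mk' (Subgroup.center (Matrix.symplecticGroup (Fin m) F)))) := by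
  haveI : Fact (Nat.Prime 2) := ⟨Nat.prime_two⟩
  obtain ⟨t, ht, rfl⟩ := hz
  have htZ := T_le_ZP (p := 2) hv P hP ht
  rw [mem_ZP] at htZ
  refine ⟨Subgroup.mem_map_of_mem _ htZ.1, ?_, ?_⟩
  · rintro u' ⟨u, hu, rfl⟩
    rw [← map_mul, ← map_mul, htZ.2 u hu]
  · intro _
    obtain ⟨c, rfl⟩ := mem_T_iff.mp ht
    by_cases hc : c = 0
    · left
      rw [hc, sympT_zero, map_one]
    · right
      rintro ⟨sb, hsb⟩
      obtain ⟨s, rfl⟩ := QuotientGroup.mk'_surjective _ sb
      rw [← map_mul, QuotientGroup.mk'_apply, QuotientGroup.mk'_apply, QuotientGroup.eq] at hsb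
      have h1 := center_eq_bot_of_char_two hm hsb
      rw [inv_mul_eq_one] at h1
      exact hc (sympT_not_sq hv h1)

/-- a Sylow 2-subgroup with its flag -/
def Good (P : Sylow 2 (Matrix.symplecticGroup (Fin m) F)) : Prop :=
  ∃ (v w : Fin m ⊕ Fin m → F) (hwv : Cfsg.sympForm m F w v = 0), v ≠ 0 ∧
    (P : Subgroup _) ≤ stab v ∧
    ∀ z ∈ charSet 2 ((P : Subgroup (Matrix.symplecticGroup (Fin m) F)).map
      (QuotientGroup.mk' (Subgroup.center (Matrix.symplecticGroup (Fin m) F)))),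
      z ∈ Tb v ∨ z ∈ Sb v w hwv

theorem exists_good (hm : 2 ≤ m) (hm2 : m = 2) :
    ∃ P : Sylow 2 (Matrix.symplecticGroup (Fin m) F), Good P := by
  have hm0 : 0 < m := by omega
  obtain ⟨P, v, w, hwv, hv, hind, hPv, hZ⟩ := exists_good_sylow (F := F) hm hm2
  refine ⟨P, v, w, hwv, hv, hPv, ?_⟩
  rintro _ ⟨⟨z, hzP, rfl⟩, hcomm, hsq⟩
  have hzZ : z ∈ ZP (P : Subgroup (Matrix.symplecticGroup (Fin m) F)) := by
    rw [mem_ZP]
    refine ⟨hzP, fun u hu => ?_⟩
    have h1 := hcomm _ (Subgroup.mem_map_of_mem _ hu)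
    rw [QuotientGroup.mk'_apply, QuotientGroup.mk'_apply, ← QuotientGroup.mk_mul,
      ← QuotientGroup.mk_mul] at h1
    exact mk_inj hm0 h1
  obtain ⟨b, c, rfl⟩ := hZ z hzZ
  have hbw : Cfsg.sympForm m F (b • w) v = 0 := by rw [sympForm_smul_left, hwv, mul_zero]
  by_cases hb : b = 0
  · left
    rw [hb, zero_smul, eich_zero_eq_sympT]
    exact Subgroup.mem_map_of_mem _ (sympT_mem_T v c)
  by_cases hc : c = 0
  · right
    rw [hc]
    exact Subgroup.mem_map_of_mem _ ⟨b, rfl⟩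
  · exfalso
    have hind' : ∀ a : F, b • w ≠ a • v := by
      intro a h
      apply hind (b⁻¹ * a)
      rw [← smul_smul, ← h, smul_smul, inv_mul_cancel₀ hb, one_smul]
    obtain ⟨s, hs⟩ := isSquare_eich_c2 hv hbw hind' hc
    rcases hsq rfl with h | h
    · rw [QuotientGroup.mk'_apply] at h
      have h1 : eich v (b • w) c = 1 := by
        apply mk_inj hm0
        rw [h]
        rfl
      have h2 := sympForm_eich_self hbw c
      obtain ⟨x, hx⟩ := exists_partner (m := m) hv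
      have hx' : Cfsg.sympForm m F x v = 1 := by rw [sympForm_swap, hx, CharTwo.neg_eq]
      have h3 := h2 x
      rw [h1, one_act, sympForm_self, hx', mul_one, mul_one] at h3
      exact hc h3.symm
    · apply h
      refine ⟨QuotientGroup.mk' _ s, ?_⟩
      rw [← map_mul, hs]

/-- `Good` is invariant under conjugation -/
theorem Good.conj {P : Sylow 2 (Matrix.symplecticGroup (Fin m) F)} (h : Good P)
    (g : Matrix.symplecticGroup (Fin m) F) (P' : Sylow 2 (Matrix.symplecticGroup (Fin m) F))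
    (hP' : (P' : Subgroup (Matrix.symplecticGroup (Fin m) F)) =
      (P : Subgroup _).map (MulAut.conj g).toMonoidHom) : Good P' := by
  obtain ⟨v, w, hwv, hv, hPv, hch⟩ := h
  refine ⟨g.val *ᵥ v, g.val *ᵥ w, by rw [sympForm_mulVec g.2, hwv], act_ne_zero g hv, ?_, ?_⟩
  · rw [hP']
    rintro _ ⟨y, hy, rfl⟩
    show (g * y * g⁻¹).val *ᵥ (g.val *ᵥ v) = g.val *ᵥ v
    rw [mul_act, mul_act, inv_mulVec_mulVec, mem_stab.1 (hPv hy)]
  · set π := QuotientGroup.mk' (Subgroup.center (Matrix.symplecticGroup (Fin m) F)) with hπ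
    have hmap : ((P' : Subgroup (Matrix.symplecticGroup (Fin m) F)).map π) =
        ((P : Subgroup _).map π).map (MulAut.conj (π g)).toMonoidHom := by
      rw [hP', Subgroup.map_map, Subgroup.map_map]
      congr 1
    intro z hz
    rw [hmap, ← charSet_map] at hz
    obtain ⟨z₀, hz₀, rfl⟩ := hz
    rcases hch z₀ hz₀ with h1 | h1
    · left
      rw [← Tb_conj]
      exact ⟨z₀, h1, rfl⟩
    · right
      rw [← Sb_conj g v w hwv]
      exact ⟨z₀, h1, rfl⟩

theorem good_all (hm : 2 ≤ m) (hm2 : m = 2)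
    (P : Sylow 2 (Matrix.symplecticGroup (Fin m) F)) : Good P := by
  obtain ⟨P₁, hP₁⟩ := exists_good (F := F) hm hm2
  obtain ⟨g, hg⟩ := MulAction.exists_smul_eq (Matrix.symplecticGroup (Fin m) F) P₁ P
  apply hP₁.conj g P
  rw [← hg]
  rfl

/-- the image of a Sylow subgroup under an automorphism of `PSp` -/
theorem exists_sylow_image (α : PSp m F ≃* PSp m F)
    (P0 : Sylow 2 (Matrix.symplecticGroup (Fin m) F)) :
    ∃ P' : Sylow 2 (Matrix.symplecticGroup (Fin m) F),
      ((P0 : Subgroup _).map (QuotientGroup.mk' (Subgroup.center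
        (Matrix.symplecticGroup (Fin m) F)))).map α.toMonoidHom =
      (P' : Subgroup _).map (QuotientGroup.mk' (Subgroup.center
        (Matrix.symplecticGroup (Fin m) F))) := by
  haveI : Fact (Nat.Prime 2) := ⟨Nat.prime_two⟩
  set π := QuotientGroup.mk' (Subgroup.center (Matrix.symplecticGroup (Fin m) F)) with hπdef
  have hπ : Function.Surjective π := QuotientGroup.mk'_surjective _
  let S0 : Sylow 2 (PSp m F) := Sylow.mapSurjective hπ P0
  let S1 : Sylow 2 (PSp m F) := Sylow.mapSurjective (f := α.toMonoidHom) α.surjective S0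
  obtain ⟨gb, hgb⟩ := MulAction.exists_smul_eq (PSp m F) S0 S1
  have hsub : ((P0 : Subgroup _).map π).map α.toMonoidHom
      = ((P0 : Subgroup _).map π).map (MulAut.conj gb).toMonoidHom := by
    have h1 := congrArg (fun S : Sylow 2 (PSp m F) => (S : Subgroup (PSp m F))) hgb
    simp only [Sylow.coe_subgroup_smul, Subgroup.pointwise_smul_def] at h1
    exact h1.symm
  obtain ⟨g, rfl⟩ := hπ gb
  refine ⟨g • P0, ?_⟩
  rw [hsub]
  have h2 : ((g • P0 : Sylow 2 (Matrix.symplecticGroup (Fin m) F)) : Subgroup _) =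
      (P0 : Subgroup _).map (MulAut.conj g).toMonoidHom := rfl
  rw [h2, Subgroup.map_map, Subgroup.map_map]
  congr 1

/-- case I: all long root groups go to long root groups -/
def CaseI (α : PSp m F ≃* PSp m F) : Prop := PermTb α

/-- case II: all long root groups go to short root groups -/
def CaseII (α : PSp m F ≃* PSp m F) : Prop :=
  ∀ v : Fin m ⊕ Fin m → F, v ≠ 0 →
    ∃ (v' w' : Fin m ⊕ Fin m → F) (hwv' : Cfsg.sympForm m F w' v' = 0),
      (Tb v).map α.toMonoidHom = Sb v' w' hwv'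

theorem Tb_ne_bot' (hm : 0 < m) {v : Fin m ⊕ Fin m → F} (hv : v ≠ 0) :
    ∃ z ∈ Tb v, z ≠ 1 := by
  refine ⟨QuotientGroup.mk (sympT v 1), Subgroup.mem_map_of_mem _ (sympT_mem_T v 1), ?_⟩
  intro h
  have h3 : (QuotientGroup.mk (sympT v (1 : F)) : PSp m F) =
      QuotientGroup.mk (sympT v (0 : F)) := by
    rw [h, sympT_zero]
    rfl
  exact one_ne_zero (mk_sympT_inj hm hv h3)

theorem not_caseI_and_caseII (hm : 0 < m) (α : PSp m F ≃* PSp m F) {v : Fin m ⊕ Fin m → F}
    (hv : v ≠ 0) {v₁ : Fin m ⊕ Fin m → F} (hv₁ : v₁ ≠ 0)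
    (h1 : (Tb v).map α.toMonoidHom = Tb v₁)
    {v' w' : Fin m ⊕ Fin m → F} {hwv' : Cfsg.sympForm m F w' v' = 0}
    (h2 : (Tb v).map α.toMonoidHom = Sb v' w' hwv') : False := by
  obtain ⟨z, hz, hz1⟩ := Tb_ne_bot' hm hv₁
  apply hz1
  apply eq_one_of_mem_Tb_of_mem_Sb hm hv₁ hz
  rw [← h2, h1]
  exact hz

/-- a subgroup of order `|F|` inside the non-squares of the centre of a good Sylow subgroup is its
long root group or its short root group -/
theorem eq_Tb_or_eq_Sb (hm : 0 < m) {v w : Fin m ⊕ Fin m → F} (hv : v ≠ 0)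
    {hwv : Cfsg.sympForm m F w v = 0} (H : Subgroup (PSp m F))
    (hcard : Nat.card F ≤ Nat.card ↥H)
    (hH : ∀ z ∈ H, z ∈ Tb v ∨ z ∈ Sb v w hwv) : H = Tb v ∨ H = Sb v w hwv := by
  rcases le_or_le_of_subset_union H (Tb v) (Sb v w hwv) hH with h | h
  · left
    apply Subgroup.eq_of_le_of_card_ge h
    rw [card_Tb hm hv]
    exact hcard
  · right
    apply Subgroup.eq_of_le_of_card_ge h
    exact le_trans (card_Sb_le v w hwv) hcard

/-- the dichotomy at the fixed vector of a Sylow subgroup, together with the image Sylow subgroup -/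
theorem dichotomy_at (hm : 2 ≤ m) (hm2 : m = 2) (α : PSp m F ≃* PSp m F)
    (P0 : Sylow 2 (Matrix.symplecticGroup (Fin m) F)) {v0 : Fin m ⊕ Fin m → F} (hv0 : v0 ≠ 0)
    (hP0 : (P0 : Subgroup _) ≤ stab v0)
    (H : Subgroup (PSp m F)) (hcard : Nat.card F ≤ Nat.card ↥H)
    (hH : ∀ z ∈ H, z ∈ charSet 2 ((P0 : Subgroup (Matrix.symplecticGroup (Fin m) F)).map
      (QuotientGroup.mk' (Subgroup.center (Matrix.symplecticGroup (Fin m) F))))) :
    ∃ (P' : Sylow 2 (Matrix.symplecticGroup (Fin m) F)) (v' w' : Fin m ⊕ Fin m → F)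
      (hwv' : Cfsg.sympForm m F w' v' = 0), v' ≠ 0 ∧ (P' : Subgroup _) ≤ stab v' ∧
      (∀ z, z ∈ charSet 2 ((P0 : Subgroup (Matrix.symplecticGroup (Fin m) F)).map
        (QuotientGroup.mk' (Subgroup.center (Matrix.symplecticGroup (Fin m) F)))) →
        α z ∈ charSet 2 ((P' : Subgroup (Matrix.symplecticGroup (Fin m) F)).map
          (QuotientGroup.mk' (Subgroup.center (Matrix.symplecticGroup (Fin m) F))))) ∧
      (∀ z ∈ charSet 2 ((P' : Subgroup (Matrix.symplecticGroup (Fin m) F)).map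
        (QuotientGroup.mk' (Subgroup.center (Matrix.symplecticGroup (Fin m) F)))),
        z ∈ Tb v' ∨ z ∈ Sb v' w' hwv') ∧
      (H.map α.toMonoidHom = Tb v' ∨ H.map α.toMonoidHom = Sb v' w' hwv') := by
  have hm0 : 0 < m := by omega
  obtain ⟨P', hP'⟩ := exists_sylow_image α P0
  obtain ⟨v', w', hwv', hv', hPv', hch⟩ := good_all hm hm2 P'
  have hmapch : ∀ z, z ∈ charSet 2 ((P0 : Subgroup (Matrix.symplecticGroup (Fin m) F)).map
        (QuotientGroup.mk' (Subgroup.center (Matrix.symplecticGroup (Fin m) F)))) →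
        α z ∈ charSet 2 ((P' : Subgroup (Matrix.symplecticGroup (Fin m) F)).map
          (QuotientGroup.mk' (Subgroup.center (Matrix.symplecticGroup (Fin m) F)))) := by
    intro z hz
    rw [← hP', ← charSet_map]
    exact ⟨z, hz, rfl⟩
  refine ⟨P', v', w', hwv', hv', hPv', hmapch, hch, ?_⟩
  apply eq_Tb_or_eq_Sb hm0 hv'
  · rw [card_map_equiv]
    exact hcard
  · rintro _ ⟨z, hz, rfl⟩
    exact hch _ (hmapch z (hH z hz))

/-- propagation along conjugation -/
theorem map_Tb_of_map_Tb (hm : 0 < m) (α : PSp m F ≃* PSp m F) {v0 v : Fin m ⊕ Fin m → F}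
    (hv0 : v0 ≠ 0) (hv : v ≠ 0) :
    ∃ k : Matrix.symplecticGroup (Fin m) F, (Tb v).map α.toMonoidHom =
      ((Tb v0).map α.toMonoidHom).map (MulAut.conj (QuotientGroup.mk' (Subgroup.center
        (Matrix.symplecticGroup (Fin m) F)) k)).toMonoidHom := by
  obtain ⟨h, hh⟩ := Cfsg.Agent.Helper5.sp_transitive v0 v hv0 hv
  obtain ⟨k, hk⟩ := QuotientGroup.mk'_surjective (Subgroup.center
    (Matrix.symplecticGroup (Fin m) F)) (α (QuotientGroup.mk' _ h))
  refine ⟨k, ?_⟩
  rw [← hh, ← Tb_conj h v0, map_conj_comm, hk]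

theorem caseI_or_caseII (hm : 2 ≤ m) (hm2 : m = 2) (α : PSp m F ≃* PSp m F) :
    CaseI α ∨ CaseII α := by
  haveI : Fact (Nat.Prime 2) := ⟨Nat.prime_two⟩
  have hm0 : 0 < m := by omega
  obtain ⟨P0⟩ : Nonempty (Sylow 2 (Matrix.symplecticGroup (Fin m) F)) := Sylow.nonempty
  obtain ⟨v0, w0, hwv0, hv0, hP0, -⟩ := good_all hm hm2 P0
  obtain ⟨P', v', w', hwv', hv', hPv', -, -, h⟩ := dichotomy_at hm hm2 α P0 hv0 hP0 (Tb v0)
    (by rw [card_Tb hm0 hv0]) (Tb_subset_charSet hm0 hv0 P0 hP0)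
  rcases h with h | h
  · left
    intro v hv
    obtain ⟨k, hk⟩ := map_Tb_of_map_Tb hm0 α hv0 hv
    refine ⟨k.val *ᵥ v', act_ne_zero k hv', ?_⟩
    rw [hk, h, Tb_conj]
  · right
    intro v hv
    obtain ⟨k, hk⟩ := map_Tb_of_map_Tb hm0 α hv0 hv
    refine ⟨k.val *ᵥ v', k.val *ᵥ w', by rw [sympForm_mulVec k.2, hwv'], ?_⟩
    rw [hk, h, Sb_conj]

theorem caseI_symm (hm : 2 ≤ m) (hm2 : m = 2) (α : PSp m F ≃* PSp m F) (h : CaseI α) :
    CaseI α.symm := by
  have hm0 : 0 < m := by omega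
  rcases caseI_or_caseII hm hm2 α.symm with h' | h'
  · exact h'
  · exfalso
    let v : Fin m ⊕ Fin m → F := e1 (by omega)
    have hv : v ≠ 0 := e1_ne_zero (by omega)
    obtain ⟨u', hu', hu⟩ := h v hv
    obtain ⟨a, b, hab, h2⟩ := h' u' hu'
    have h3 : (Tb u').map α.symm.toMonoidHom = Tb v := by
      rw [← hu, Subgroup.map_map]
      have : α.symm.toMonoidHom.comp α.toMonoidHom = MonoidHom.id _ := by
        ext x; simp
      rw [this, Subgroup.map_id]
    exact not_caseI_and_caseII hm0 α.symm hu' hv h3 h2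

theorem caseI_sq_of_caseII (hm : 2 ≤ m) (hm2 : m = 2) (α : PSp m F ≃* PSp m F)
    (h : CaseII α) : CaseI (α.trans α) := by
  haveI : Fact (Nat.Prime 2) := ⟨Nat.prime_two⟩
  have hm0 : 0 < m := by omega
  obtain ⟨P0⟩ : Nonempty (Sylow 2 (Matrix.symplecticGroup (Fin m) F)) := Sylow.nonempty
  obtain ⟨v0, w0, hwv0, hv0, hP0, -⟩ := good_all hm hm2 P0
  -- first step
  obtain ⟨P', v', w', hwv', hv', hPv', hch1, hgood1, h1⟩ :=
    dichotomy_at hm hm2 α P0 hv0 hP0 (Tb v0)
      (by rw [card_Tb hm0 hv0]) (Tb_subset_charSet hm0 hv0 P0 hP0)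
  have h1' : (Tb v0).map α.toMonoidHom = Sb v' w' hwv' := by
    rcases h1 with h1 | h1
    · exfalso
      obtain ⟨a, b, hab, h2⟩ := h v0 hv0
      exact not_caseI_and_caseII hm0 α hv0 hv' h1 h2
    · exact h1
  have hcardS : Nat.card F ≤ Nat.card ↥(Sb v' w' hwv') := by
    rw [← h1', card_map_equiv, card_Tb hm0 hv0]
  have hSch : ∀ z ∈ Sb v' w' hwv',
      z ∈ charSet 2 ((P' : Subgroup (Matrix.symplecticGroup (Fin m) F)).map
        (QuotientGroup.mk' (Subgroup.center (Matrix.symplecticGroup (Fin m) F)))) := by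
    intro z hz
    rw [← h1'] at hz
    obtain ⟨z₀, hz₀, rfl⟩ := hz
    exact hch1 z₀ (Tb_subset_charSet hm0 hv0 P0 hP0 z₀ hz₀)
  -- second step, for the short root group
  obtain ⟨P'', v'', w'', hwv'', hv'', hPv'', hch2, hgood2, h2⟩ :=
    dichotomy_at hm hm2 α P' hv' hPv' (Sb v' w' hwv') hcardS hSch
  -- second step, for the long root group, with the same image Sylow subgroup
  have h3 : (Tb v').map α.toMonoidHom = Tb v'' ∨
      (Tb v').map α.toMonoidHom = Sb v'' w'' hwv'' := by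
    apply eq_Tb_or_eq_Sb hm0 hv''
    · rw [card_map_equiv, card_Tb hm0 hv']
    · rintro _ ⟨z, hz, rfl⟩
      exact hgood2 _ (hch2 z (Tb_subset_charSet hm0 hv' P' hPv' z hz))
  have h3' : (Tb v').map α.toMonoidHom = Sb v'' w'' hwv'' := by
    rcases h3 with h3 | h3
    · exfalso
      obtain ⟨a, b, hab, h4⟩ := h v' hv'
      exact not_caseI_and_caseII hm0 α hv' hv'' h3 h4
    · exact h3
  have h2' : (Sb v' w' hwv').map α.toMonoidHom = Tb v'' := by
    rcases h2 with h2 | h2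
    · exact h2
    · exfalso
      have heq : Sb v' w' hwv' = Tb v' :=
        Subgroup.map_injective (f := α.toMonoidHom) α.injective (h2.trans h3'.symm)
      obtain ⟨z, hz, hz1⟩ := Tb_ne_bot' hm0 hv'
      apply hz1
      apply eq_one_of_mem_Tb_of_mem_Sb hm0 hv' hz (hwv' := hwv')
      rw [heq]
      exact hz
  -- conclusion
  have h5 : (Tb v0).map (α.trans α).toMonoidHom = Tb v'' := by
    rw [← h2', ← h1', Subgroup.map_map]
    rfl
  rcases caseI_or_caseII hm hm2 (α.trans α) with h6 | h6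
  · exact h6
  · exfalso
    obtain ⟨a, b, hab, h7⟩ := h6 v0 hv0
    exact not_caseI_and_caseII hm0 (α.trans α) hv0 hv'' h5 h7

theorem caseI_trans_self (α : PSp m F ≃* PSp m F) (h : CaseI α) : CaseI (α.trans α) := by
  intro v hv
  obtain ⟨w, hw, h1⟩ := h v hv
  obtain ⟨u, hu, h2⟩ := h w hw
  refine ⟨u, hu, ?_⟩
  rw [← h2, ← h1, Subgroup.map_map]
  rfl

theorem mem_gammaSub_of_caseI (hm : 2 ≤ m) (hm2 : m = 2) (α : MulAut (PSp m F))
    (h : CaseI α) : α ∈ gammaSub m F := by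
  obtain ⟨G, σ, hGσ⟩ := struct_of_permTb hm α h (caseI_symm hm hm2 α h)
  exact (mem_gammaSub α).2 ⟨G, σ, hGσ⟩

/-- the square of every automorphism of `PSp_4(F)`, `char F = 2`, is standard -/
theorem sq_mem_gammaSub (hm : 2 ≤ m) (hm2 : m = 2) (α : MulAut (PSp m F)) :
    α * α ∈ gammaSub m F := by
  apply mem_gammaSub_of_caseI hm hm2
  have h0 : (α * α : MulAut (PSp m F)) = α.trans α := rfl
  rw [h0]
  rcases caseI_or_caseII hm hm2 α with h | h
  · exact caseI_trans_self α h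
  · exact caseI_sq_of_caseII hm hm2 α h

/-- automorphisms of odd prime order are standard -/
theorem mem_gammaSub_of_order (hm : 2 ≤ m) (hm2 : m = 2) (x : MulAut (PSp m F)) {p : ℕ}
    (hp : p.Prime) (hp2 : p ≠ 2) (hord : orderOf x = p) : x ∈ gammaSub m F := by
  have hodd : Odd p := hp.odd_of_ne_two hp2
  obtain ⟨k, hk⟩ := hodd
  have hx : x = (x * x) ^ (k + 1) := by
    rw [← pow_two, ← pow_mul]
    have h2 : 2 * (k + 1) = p + 1 := by omega
    rw [h2, pow_succ, ← hord, pow_orderOf_eq_one, one_mul]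
  rw [hx]
  exact Subgroup.pow_mem _ (sq_mem_gammaSub hm hm2 x) _

/-- automorphisms fixing a transvection are standard -/
theorem mem_gammaSub_of_fixes (hm : 2 ≤ m) (hm2 : m = 2) (n : MulAut (PSp m F))
    (hfix : n (QuotientGroup.mk (sympT (e1 (show 1 ≤ m by omega)) (1 : F)) : PSp m F) =
      QuotientGroup.mk (sympT (e1 (show 1 ≤ m by omega)) (1 : F))) : n ∈ gammaSub m F := by
  have hm0 : 0 < m := by omega
  apply mem_gammaSub_of_caseI hm hm2
  rcases caseI_or_caseII hm hm2 n with h | h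
  · exact h
  · exfalso
    have hv : e1 (F := F) (show 1 ≤ m by omega) ≠ 0 := e1_ne_zero _
    obtain ⟨a, b, hab, h2⟩ := h _ hv
    have hz : (QuotientGroup.mk (sympT (e1 (show 1 ≤ m by omega)) (1 : F)) : PSp m F) ∈
        Tb (e1 (F := F) (show 1 ≤ m by omega)) :=
      Subgroup.mem_map_of_mem _ (sympT_mem_T _ 1)
    have hz2 : (QuotientGroup.mk (sympT (e1 (show 1 ≤ m by omega)) (1 : F)) : PSp m F) ∈
        Sb a b hab := by
      rw [← h2]
      exact ⟨_, hz, hfix⟩
    have h3 := eq_one_of_mem_Tb_of_mem_Sb hm0 hv hz hz2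
    have h4 : (QuotientGroup.mk (sympT (e1 (show 1 ≤ m by omega)) (1 : F)) : PSp m F) =
        QuotientGroup.mk (sympT (e1 (show 1 ≤ m by omega)) (0 : F)) := by
      rw [h3, sympT_zero]
      rfl
    exact one_ne_zero (mk_sympT_inj hm0 hv h4)

end Finite

end Cfsg.Agent.Helper14.SpExc
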