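import Mathlib

set_option autoImplicit false

/-! Gluing invariant bilinear forms along a direct sum decomposition of a representation. -/

namespace Cfsg.Agent.Helper14.SelfDual

open LinearMap

universe u v w

variable {F : Type u} [Field F] {G : Type v} [Group G] {V : Type w} [AddCommGroup V] [Module F V]

theorem projOnto_equivariant (ρ : Representation F G V) (M1 M2 : Subrepresentation ρ)
    (h : IsCompl M1.toSubmodule M2.toSubmodule) (g : G) (v : V) :
    M1.toSubmodule.projectionOnto M2.toSubmodule h (ρ g v) =
      M1.toRepresentation g (M1.toSubmodule.projectionOnto M2.toSubmodule h v) := by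
  have hv := Submodule.projection_add_projection_eq_self h v
  have h1 : M1.toSubmodule.projectionOnto M2.toSubmodule h
      (ρ g (M1.toSubmodule.projection M2.toSubmodule h v)) =
      M1.toRepresentation g (M1.toSubmodule.projectionOnto M2.toSubmodule h v) := by
    have hm : ρ g (M1.toSubmodule.projection M2.toSubmodule h v) ∈ M1.toSubmodule :=
      M1.apply_mem_toSubmodule g (Submodule.projection_apply_mem h v)
    rw [Submodule.projectionOnto_apply_of_mem_left h hm]
    rfl
  have h2 : M1.toSubmodule.projectionOnto M2.toSubmodule h
      (ρ g (M2.toSubmodule.projection M1.toSubmodule h.symm v)) = 0 := by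
    apply Submodule.projectionOnto_apply_of_mem_right
    exact M2.apply_mem_toSubmodule g (Submodule.projection_apply_mem h.symm v)
  calc M1.toSubmodule.projectionOnto M2.toSubmodule h (ρ g v)
      = M1.toSubmodule.projectionOnto M2.toSubmodule h
          (ρ g (M1.toSubmodule.projection M2.toSubmodule h v +
            M2.toSubmodule.projection M1.toSubmodule h.symm v)) := by rw [hv]
    _ = _ := by rw [map_add, map_add, h1, h2, add_zero]

theorem combine (ρ : Representation F G V) (M1 M2 : Subrepresentation ρ)
    (h : IsCompl M1.toSubmodule M2.toSubmodule)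
    (A1 : LinearMap.BilinForm F M1.toSubmodule) (A2 : LinearMap.BilinForm F M2.toSubmodule)
    (h1a : ∀ x, A1 x x = 0)
    (h1i : ∀ g x y, A1 (M1.toRepresentation g x) (M1.toRepresentation g y) = A1 x y)
    (h1n : A1.SeparatingLeft)
    (h2a : ∀ x, A2 x x = 0)
    (h2i : ∀ g x y, A2 (M2.toRepresentation g x) (M2.toRepresentation g y) = A2 x y)
    (h2n : A2.SeparatingLeft) :
    ∃ A : LinearMap.BilinForm F V, (∀ x, A x x = 0) ∧
      (∀ g x y, A (ρ g x) (ρ g y) = A x y) ∧ A.SeparatingLeft := by
  set π1 := M1.toSubmodule.projectionOnto M2.toSubmodule h with hπ1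
  set π2 := M2.toSubmodule.projectionOnto M1.toSubmodule h.symm with hπ2
  refine ⟨A1.compl₁₂ π1 π1 + A2.compl₁₂ π2 π2, ?_, ?_, ?_⟩
  · intro x
    simp only [LinearMap.add_apply, LinearMap.compl₁₂_apply, h1a, h2a, add_zero]
  · intro g x y
    simp only [LinearMap.add_apply, LinearMap.compl₁₂_apply]
    rw [hπ1, hπ2, projOnto_equivariant ρ M1 M2 h, projOnto_equivariant ρ M1 M2 h,
      projOnto_equivariant ρ M2 M1 h.symm, projOnto_equivariant ρ M2 M1 h.symm, h1i, h2i]
  · intro x hx
    have e1 : π1 x = 0 := by
      apply h1n
      intro m
      have := hx (m : V)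
      simp only [LinearMap.add_apply, LinearMap.compl₁₂_apply] at this
      have a1 : π1 (m : V) = m := Submodule.projectionOnto_apply_left h m
      have a2 : π2 (m : V) = 0 := Submodule.projectionOnto_apply_of_mem_right h.symm m.2
      rw [a1, a2, map_zero, add_zero] at this
      exact this
    have e2 : π2 x = 0 := by
      apply h2n
      intro m
      have := hx (m : V)
      simp only [LinearMap.add_apply, LinearMap.compl₁₂_apply] at this
      have a1 : π2 (m : V) = m := Submodule.projectionOnto_apply_left h.symm m
      have a2 : π1 (m : V) = 0 := Submodule.projectionOnto_apply_of_mem_right h m.2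
      rw [a1, a2, map_zero, zero_add] at this
      exact this
    have hv := Submodule.projection_add_projection_eq_self h x
    rw [Submodule.projection_apply, Submodule.projection_apply] at hv
    rw [← hv]
    have e1' : M1.toSubmodule.projectionOnto M2.toSubmodule h x = 0 := e1
    have e2' : M2.toSubmodule.projectionOnto M1.toSubmodule h.symm x = 0 := e2
    rw [e1', e2']
    simp

end Cfsg.Agent.Helper14.SelfDual
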