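import Mathlib

set_option autoImplicit false

/-! Self-dual modules in odd characteristic: splitting into an alternating and a symmetric part,
using the asymmetry operator of a nondegenerate bilinear form. -/

namespace Cfsg.Agent.Helper14.SelfDual

open LinearMap

variable {F : Type*} [Field F] {G : Type*} [Group G] {V : Type*} [AddCommGroup V] [Module F V]
  [FiniteDimensional F V]

omit [FiniteDimensional F V] in
theorem rho_self_inv (ρ : Representation F G V) (g : G) (y : V) : ρ g (ρ g⁻¹ y) = y := by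
  have : (ρ g * ρ g⁻¹) y = y := by
    rw [← map_mul, mul_inv_cancel, map_one]; rfl
  exact this

theorem odd_case (h2 : (2 : F) ≠ 0) (ρ : Representation F G V) (B : LinearMap.BilinForm F V)
    (hB : B.Nondegenerate) (hBinv : ∀ g : G, ∀ x y : V, B (ρ g x) (ρ g y) = B x y) :
    ∃ U W : Submodule F V, IsCompl U W ∧ (∀ g : G, ∀ u ∈ U, ρ g u ∈ U) ∧
      (∀ g : G, ∀ w ∈ W, ρ g w ∈ W) ∧
      (∃ A : LinearMap.BilinForm F V, (∀ x : V, A x x = 0) ∧
        (∀ g : G, ∀ x ∈ U, ∀ y ∈ U, A (ρ g x) (ρ g y) = A x y) ∧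
        (∀ x ∈ U, (∀ y ∈ U, A x y = 0) → x = 0)) ∧
      (∃ S : LinearMap.BilinForm F V, (∀ x y : V, S x y = S y x) ∧
        (∀ g : G, ∀ x ∈ W, ∀ y ∈ W, S (ρ g x) (ρ g y) = S x y) ∧
        (∀ x ∈ W, (∀ y ∈ W, S x y = 0) → x = 0)) := by
  classical
  -- the asymmetry operator
  obtain ⟨τ, hτ⟩ : ∃ τ : Module.End F V, ∀ v w : V, B (τ w) v = B v w := by
    refine ⟨B.flip.symmCompOfNondegenerate B hB, fun v w => ?_⟩
    rw [LinearMap.BilinForm.symmCompOfNondegenerate_left_apply]
    rfl
  obtain ⟨f, hf⟩ : ∃ f : Module.End F V, f = 1 + τ := ⟨_, rfl⟩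
  have hfapp : ∀ v, f v = v + τ v := by
    intro v; rw [hf]; rfl
  obtain ⟨n, hn1, hn⟩ : ∃ n : ℕ, 1 ≤ n ∧ IsCompl (LinearMap.ker (f ^ n)) (LinearMap.range (f ^ n)) := by
    have := (LinearMap.eventually_isCompl_ker_pow_range_pow f).and (Filter.eventually_ge_atTop 1)
    obtain ⟨n, h1, h2⟩ := this.exists
    exact ⟨n, h2, h1⟩
  -- commutation
  have hτρ : ∀ g : G, ∀ v : V, τ (ρ g v) = ρ g (τ v) := by
    intro g v
    have : τ (ρ g v) - ρ g (τ v) = 0 := by
      apply hB.1
      intro y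
      rw [map_sub, LinearMap.sub_apply, hτ]
      have h1 : B (ρ g (τ v)) y = B (ρ g (τ v)) (ρ g (ρ g⁻¹ y)) := by rw [rho_self_inv]
      rw [h1, hBinv, hτ]
      have h2 : B y (ρ g v) = B (ρ g (ρ g⁻¹ y)) (ρ g v) := by rw [rho_self_inv]
      rw [h2, hBinv, sub_self]
    exact sub_eq_zero.mp this
  have hfρ : ∀ g : G, Commute (ρ g) f := by
    intro g
    apply LinearMap.ext
    intro v
    show ρ g (f v) = f (ρ g v)
    rw [hfapp, hfapp, map_add, hτρ]
  have hfnρ : ∀ g : G, ∀ v : V, (f ^ n) (ρ g v) = ρ g ((f ^ n) v) := by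
    intro g v
    have := (hfρ g).pow_right n
    have h := LinearMap.congr_fun this.eq v
    exact h.symm
  have hτf : Commute τ f := by
    rw [hf]
    exact (Commute.one_right τ).add_right (Commute.refl τ)
  have hτfn : ∀ m : ℕ, ∀ v : V, τ ((f ^ m) v) = (f ^ m) (τ v) := by
    intro m v
    have := hτf.pow_right m
    exact LinearMap.congr_fun this.eq v
  have hffn : ∀ v : V, f ((f ^ n) v) = (f ^ n) (f v) := by
    intro v
    have := (Commute.refl f).pow_right n
    exact LinearMap.congr_fun this.eq v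
  -- the key identity
  have key1 : ∀ v w : V, B (f v) (τ w) = B v (f w) := by
    intro v w
    have e1 : B (τ v) (τ w) = B v w := by rw [hτ, hτ]
    rw [hfapp, hfapp, map_add, LinearMap.add_apply, map_add, e1, add_comm]
  have key : ∀ m : ℕ, ∀ v w : V, B ((f ^ m) v) ((τ ^ m) w) = B v ((f ^ m) w) := by
    intro m
    induction m with
    | zero => intro v w; simp
    | succ m ih =>
      intro v w
      have e1 : (f ^ (m + 1)) v = (f ^ m) (f v) := by rw [pow_succ]; rfl
      have e2 : (τ ^ (m + 1)) w = (τ ^ m) (τ w) := by rw [pow_succ]; rfl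
      have e3 : (f ^ (m + 1)) w = f ((f ^ m) w) := by rw [pow_succ']; rfl
      rw [e1, e2, ih, ← hτfn, key1, e3]
  set U : Submodule F V := LinearMap.ker (f ^ n) with hU
  set W : Submodule F V := LinearMap.range (f ^ n) with hW
  have hUW : ∀ u ∈ U, ∀ w ∈ W, B u w = 0 := by
    intro u hu w hw
    obtain ⟨z, rfl⟩ := hw
    rw [← key n u z]
    have : (f ^ n) u = 0 := hu
    rw [this, map_zero, LinearMap.zero_apply]
  have hτU : ∀ u ∈ U, τ u ∈ U := by
    intro u hu
    show (f ^ n) (τ u) = 0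
    rw [← hτfn]
    have : (f ^ n) u = 0 := hu
    rw [this, map_zero]
  have hWU : ∀ w ∈ W, ∀ u ∈ U, B w u = 0 := by
    intro w hw u hu
    rw [← hτ w u]
    exact hUW _ (hτU u hu) w hw
  have hfW : ∀ w ∈ W, f w ∈ W := by
    intro w hw
    obtain ⟨z, rfl⟩ := hw
    exact ⟨f z, (hffn z).symm⟩
  have hdecomp : ∀ y : V, ∃ u ∈ U, ∃ w ∈ W, y = u + w := by
    intro y
    have : y ∈ U ⊔ W := by rw [hn.sup_eq_top]; trivial
    obtain ⟨u, hu, w, hw, h⟩ := Submodule.mem_sup.mp this
    exact ⟨u, hu, w, hw, h.symm⟩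
  refine ⟨U, W, hn, ?_, ?_, ?_, ?_⟩
  · intro g u hu
    show (f ^ n) (ρ g u) = 0
    rw [hfnρ]
    have : (f ^ n) u = 0 := hu
    rw [this, map_zero]
  · intro g w hw
    obtain ⟨z, rfl⟩ := hw
    exact ⟨ρ g z, hfnρ g z⟩
  · refine ⟨B - B.flip, ?_, ?_, ?_⟩
    · intro x
      simp [LinearMap.flip_apply]
    · intro g x _ y _
      show B (ρ g x) (ρ g y) - B (ρ g y) (ρ g x) = B x y - B y x
      rw [hBinv, hBinv]
    · intro x hx hxy
      have hz : x - τ x = 0 := by
        apply hB.1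
        intro y
        obtain ⟨u, hu, w, hw, rfl⟩ := hdecomp y
        have hzU : x - τ x ∈ U := U.sub_mem hx (hτU x hx)
        rw [map_add, hUW _ hzU w hw, add_zero, map_sub, LinearMap.sub_apply, hτ]
        have := hxy u hu
        simpa [LinearMap.flip_apply] using this
      have hτx : τ x = x := (sub_eq_zero.mp hz).symm
      have hfx : ∀ m : ℕ, (f ^ m) x = (2 : F) ^ m • x := by
        intro m
        induction m with
        | zero => simp
        | succ m ih =>
          have e3 : (f ^ (m + 1)) x = f ((f ^ m) x) := by rw [pow_succ']; rfl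
          rw [e3, ih, map_smul, hfapp, hτx, pow_succ, mul_smul, two_smul]
      have h0 : (f ^ n) x = 0 := hx
      rw [hfx] at h0
      rcases smul_eq_zero.mp h0 with h | h
      · exact absurd h (pow_ne_zero _ h2)
      · exact h
  · refine ⟨B + B.flip, ?_, ?_, ?_⟩
    · intro x y
      simp [LinearMap.flip_apply, add_comm]
    · intro g x _ y _
      show B (ρ g x) (ρ g y) + B (ρ g y) (ρ g x) = B x y + B y x
      rw [hBinv, hBinv]
    · intro x hx hxy
      have hz : f x = 0 := by
        apply hB.1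
        intro y
        obtain ⟨u, hu, w, hw, rfl⟩ := hdecomp y
        rw [map_add, hWU _ (hfW x hx) u hu, zero_add, hfapp, map_add, LinearMap.add_apply, hτ]
        have := hxy w hw
        simpa [LinearMap.flip_apply] using this
      have hxU : x ∈ U := by
        show (f ^ n) x = 0
        obtain ⟨k, rfl⟩ : ∃ k, n = k + 1 := ⟨n - 1, by omega⟩
        have e1 : (f ^ (k + 1)) x = (f ^ k) (f x) := by rw [pow_succ]; rfl
        rw [e1, hz, map_zero]
      have : x ∈ U ⊓ W := ⟨hxU, hx⟩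
      rw [hn.inf_eq_bot] at this
      exact (Submodule.mem_bot F).mp this

end Cfsg.Agent.Helper14.SelfDual
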