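import Mathlib
import Cfsg.Agent.Lib.Helper14.SelfDualCombine
import Cfsg.Agent.Lib.Helper14.SelfDualOdd

set_option autoImplicit false
set_option maxHeartbeats 800000

/-! Self-dual modules in characteristic 2 for groups of odd order: a module without fixed points
carrying a nondegenerate invariant bilinear form carries a nondegenerate invariant alternating form. -/

namespace Cfsg.Agent.Helper14.SelfDual

open LinearMap Module

universe u v w

section Basic

variable {F : Type u} [Field F] {G : Type v} [Group G] {V : Type w} [AddCommGroup V] [Module F V]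

theorem inv_apply_form (ρ : Representation F G V) (B : LinearMap.BilinForm F V)
    (hinv : ∀ g x y, B (ρ g x) (ρ g y) = B x y) (g : G) (x y : V) :
    B x (ρ g y) = B (ρ g⁻¹ x) y := by
  have := hinv g (ρ g⁻¹ x) y
  rw [rho_self_inv] at this
  exact this

theorem inv_apply_form' (ρ : Representation F G V) (B : LinearMap.BilinForm F V)
    (hinv : ∀ g x y, B (ρ g x) (ρ g y) = B x y) (g : G) (x y : V) :
    B (ρ g x) y = B x (ρ g⁻¹ y) := by
  have := hinv g x (ρ g⁻¹ y)
  rw [rho_self_inv] at this
  exact this

/-- In odd-order groups acting in characteristic 2 without fixed points, a vector in the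
symmetric radical is isotropic. -/
theorem q_zero [Finite G] (h2 : (2 : F) = 0) (hodd : Odd (Nat.card G))
    (ρ : Representation F G V) (B : LinearMap.BilinForm F V)
    (hinv : ∀ g x y, B (ρ g x) (ρ g y) = B x y) (hfix : ∀ v, (∀ g, ρ g v = v) → v = 0)
    (k : V) (hk : ∀ y, B k y = B y k) : B k k = 0 := by
  classical
  have := Fintype.ofFinite G
  have hs : ∑ g : G, ρ g k = 0 := by
    apply hfix
    intro h
    rw [map_sum]
    apply Fintype.sum_equiv (Equiv.mulLeft h)
    intro g
    show ρ h (ρ g k) = ρ (h * g) k
    rw [map_mul]; rfl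
  have hsum : ∑ g : G, B k (ρ g k) = 0 := by
    rw [← map_sum, hs, map_zero]
  have hrest : ∑ g ∈ (Finset.univ.erase (1 : G)), B k (ρ g k) = 0 := by
    apply Finset.sum_involution (fun g _ => g⁻¹)
    · intro g _
      have : B k (ρ g⁻¹ k) = B k (ρ g k) := by
        rw [inv_apply_form ρ B hinv, inv_inv, ← hk]
      rw [this, ← two_mul, h2, zero_mul]
    · intro g hg _ hgg
      have hg1 : g ≠ 1 := (Finset.mem_erase.mp hg).1
      apply hg1
      have hsq : g ^ 2 = 1 := by
        rw [pow_two]
        nth_rw 1 [← hgg]
        exact inv_mul_cancel g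
      have hd : orderOf g ∣ 2 := orderOf_dvd_of_pow_eq_one hsq
      have hd' : orderOf g ∣ Nat.card G := orderOf_dvd_natCard g
      have hod : Odd (orderOf g) := Odd.of_dvd_nat hodd hd'
      have : orderOf g = 1 := by
        rcases (Nat.dvd_prime Nat.prime_two).mp hd with h | h
        · exact h
        · rw [h] at hod; exact absurd hod (by decide)
      exact orderOf_eq_one_iff.mp this
    · intro g _
      exact inv_inv g
    · intro g hg
      have hg1 : g ≠ 1 := (Finset.mem_erase.mp hg).1
      exact Finset.mem_erase.mpr ⟨inv_ne_one.mpr hg1, Finset.mem_univ _⟩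
  rw [← Finset.add_sum_erase Finset.univ _ (Finset.mem_univ (1 : G)), hrest, add_zero, map_one] at hsum
  exact hsum

/-- The symmetric radical of a bilinear form: vectors `x` with `B x y = B y x` for all `y`. -/
def symRad (B : LinearMap.BilinForm F V) : Submodule F V where
  carrier := {x | ∀ y, B x y = B y x}
  add_mem' := by
    intro a b ha hb y
    simp only [Set.mem_setOf_eq] at ha hb
    rw [map_add, LinearMap.add_apply, map_add, ha, hb]
  zero_mem' := by
    intro y
    simp
  smul_mem' := by
    intro c a ha y
    simp only [Set.mem_setOf_eq] at ha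
    rw [map_smul, LinearMap.smul_apply, map_smul, ha]

theorem mem_symRad (B : LinearMap.BilinForm F V) (x : V) :
    x ∈ symRad B ↔ ∀ y, B x y = B y x := Iff.rfl

/-- The symmetric radical as a subrepresentation. -/
def symRadRep (ρ : Representation F G V) (B : LinearMap.BilinForm F V)
    (hinv : ∀ g x y, B (ρ g x) (ρ g y) = B x y) : Subrepresentation ρ where
  toSubmodule := symRad B
  apply_mem_toSubmodule := by
    intro g v hv y
    rw [inv_apply_form' ρ B hinv g v y, hv (ρ g⁻¹ y), ← inv_apply_form ρ B hinv g y v]

/-- The right orthogonal complement of a subrepresentation. -/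
def orthRep (ρ : Representation F G V) (B : LinearMap.BilinForm F V)
    (hinv : ∀ g x y, B (ρ g x) (ρ g y) = B x y) (X : Subrepresentation ρ) :
    Subrepresentation ρ where
  toSubmodule := B.orthogonal X.toSubmodule
  apply_mem_toSubmodule := by
    intro g y hy
    rw [LinearMap.BilinForm.mem_orthogonal_iff] at hy ⊢
    intro x hx
    show B x (ρ g y) = 0
    rw [inv_apply_form ρ B hinv]
    exact hy _ (X.apply_mem_toSubmodule g⁻¹ hx)

theorem mem_orthRep (ρ : Representation F G V) (B : LinearMap.BilinForm F V)
    (hinv : ∀ g x y, B (ρ g x) (ρ g y) = B x y) (X : Subrepresentation ρ) (y : V) :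
    y ∈ (orthRep ρ B hinv X).toSubmodule ↔ ∀ x ∈ X.toSubmodule, B x y = 0 :=
  LinearMap.BilinForm.mem_orthogonal_iff

end Basic

section Main

variable {F : Type u} [Field F] {G : Type v} [Group G] [Finite G]

theorem alt_exists (h2 : (2 : F) = 0) (hodd : Odd (Nat.card G)) :
    ∀ (n : ℕ) (V : Type w) [AddCommGroup V] [Module F V] [FiniteDimensional F V]
      (ρ : Representation F G V) (B : LinearMap.BilinForm F V),
      Module.finrank F V = n → B.Nondegenerate →
      (∀ g x y, B (ρ g x) (ρ g y) = B x y) → (∀ v, (∀ g, ρ g v = v) → v = 0) →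
      ∃ A : LinearMap.BilinForm F V, (∀ x, A x x = 0) ∧
        (∀ g x y, A (ρ g x) (ρ g y) = A x y) ∧ A.SeparatingLeft := by
  intro n
  induction n using Nat.strong_induction_on with
  | _ n ih =>
  intro V _ _ _ ρ B hn hB hinv hfix
  classical
  have char2 : ∀ a : F, a + a = 0 := fun a => by rw [← two_mul, h2, zero_mul]
  have hcard : ((Nat.card G : ℕ) : F) = 1 := by
    obtain ⟨k, hk⟩ := hodd
    rw [hk]; push_cast; rw [h2, zero_mul, zero_add]
  haveI : NeZero ((Nat.card G : ℕ) : F) := ⟨by rw [hcard]; exact one_ne_zero⟩
  -- Step 0: is B + Bᵀ nondegenerate?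
  by_cases hA0 : (B + B.flip).SeparatingLeft
  · refine ⟨B + B.flip, ?_, ?_, hA0⟩
    · intro x
      show B x x + B x x = 0
      exact char2 _
    · intro g x y
      show B (ρ g x) (ρ g y) + B (ρ g y) (ρ g x) = B x y + B y x
      rw [hinv, hinv]
  -- the symmetric radical is nonzero
  have hK : (symRad B) ≠ ⊥ := by
    unfold LinearMap.SeparatingLeft at hA0
    push_neg at hA0
    obtain ⟨x0, h0, hne⟩ := hA0
    intro hbot
    apply hne
    have : x0 ∈ symRad B := by
      intro y
      have e : B x0 y + B y x0 = 0 := h0 y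
      have : B x0 y = - B y x0 := eq_neg_of_add_eq_zero_left e
      rw [this, neg_eq_of_add_eq_zero_left (char2 _)]
    rw [hbot] at this
    exact (Submodule.mem_bot F).mp this
  -- minimal invariant subspace of the symmetric radical
  let 𝒮 : Set (Subrepresentation ρ) := {X | X.toSubmodule ≠ ⊥ ∧ X.toSubmodule ≤ symRad B}
  have h𝒮 : 𝒮.Nonempty := ⟨symRadRep ρ B hinv, hK, le_rfl⟩
  obtain ⟨X, ⟨hXne, hXK⟩, hXmin⟩ := WellFounded.has_min
    (measure (fun X : Subrepresentation ρ => finrank F X.toSubmodule)).wf 𝒮 h𝒮
  have hmin : ∀ Y : Subrepresentation ρ, Y.toSubmodule ≤ X.toSubmodule → Y.toSubmodule ≠ ⊥ →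
      Y.toSubmodule = X.toSubmodule := by
    intro Y hYX hYne
    have hY : Y ∈ 𝒮 := ⟨hYne, hYX.trans hXK⟩
    have := hXmin Y hY
    apply Submodule.eq_of_le_of_finrank_le hYX
    exact not_lt.mp this
  have hXsym : ∀ x ∈ X.toSubmodule, ∀ y, B x y = B y x := fun x hx => hXK hx
  set Xp : Subrepresentation ρ := orthRep ρ B hinv X with hXp
  have hXp_iff : ∀ y, y ∈ Xp.toSubmodule ↔ ∀ x ∈ X.toSubmodule, B x y = 0 :=
    fun y => mem_orthRep ρ B hinv X y
  have hXp_left : ∀ y ∈ Xp.toSubmodule, ∀ x ∈ X.toSubmodule, B y x = 0 := by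
    intro y hy x hx
    rw [← hXsym x hx]
    exact (hXp_iff y).mp hy x hx
  have hdimXp : finrank F Xp.toSubmodule = finrank F V - finrank F X.toSubmodule :=
    B.finrank_orthogonal hB X.toSubmodule
  have hXle : finrank F X.toSubmodule ≤ finrank F V := Submodule.finrank_le _
  have hXpos : 1 ≤ finrank F X.toSubmodule := Submodule.one_le_finrank_iff.mpr hXne
  by_cases hcase : X.toSubmodule ⊓ Xp.toSubmodule = ⊥
  · -- Case A: X is nondegenerate
    have hcompl : IsCompl X.toSubmodule Xp.toSubmodule := by
      refine ⟨disjoint_iff.mpr hcase, codisjoint_iff.mpr ?_⟩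
      apply Submodule.eq_top_of_finrank_eq
      have := Submodule.finrank_sup_add_finrank_inf_eq X.toSubmodule Xp.toSubmodule
      rw [hcase, finrank_bot, add_zero] at this
      rw [this, hdimXp]
      omega
    by_cases hXtop : X.toSubmodule = ⊤
    · refine ⟨B, ?_, hinv, hB.1⟩
      intro x
      apply q_zero h2 hodd ρ B hinv hfix
      apply hXsym
      rw [hXtop]; trivial
    · have hlt1 : finrank F X.toSubmodule < n := by
        rw [← hn]; exact Submodule.finrank_lt hXtop
      have hlt2 : finrank F Xp.toSubmodule < n := by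
        rw [hdimXp, hn]; omega
      have hBX : (B.restrict X.toSubmodule).Nondegenerate := by
        apply LinearMap.BilinForm.Nondegenerate.ofSeparatingLeft
        intro x hx
        have hmem : (x : V) ∈ X.toSubmodule ⊓ Xp.toSubmodule := by
          refine ⟨x.2, (hXp_iff _).mpr ?_⟩
          intro x' hx'
          rw [hXsym x' hx']
          exact hx ⟨x', hx'⟩
        rw [hcase] at hmem
        exact Subtype.ext ((Submodule.mem_bot F).mp hmem)
      have hBXp : (B.restrict Xp.toSubmodule).Nondegenerate := by
        apply LinearMap.BilinForm.Nondegenerate.ofSeparatingLeft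
        intro y hy
        apply Subtype.ext
        apply hB.1
        intro v
        have hv : v ∈ X.toSubmodule ⊔ Xp.toSubmodule := by rw [hcompl.sup_eq_top]; trivial
        obtain ⟨x, hx, y', hy', rfl⟩ := Submodule.mem_sup.mp hv
        rw [map_add, hXp_left _ y.2 x hx, zero_add]
        exact hy ⟨y', hy'⟩
      obtain ⟨A1, h1a, h1i, h1n⟩ := ih _ hlt1 X.toSubmodule X.toRepresentation
        (B.restrict X.toSubmodule) rfl hBX (fun g x y => hinv g x y)
        (fun v hv => Subtype.ext (hfix v (fun g => congrArg Subtype.val (hv g))))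
      obtain ⟨A2, h2a, h2i, h2n⟩ := ih _ hlt2 Xp.toSubmodule Xp.toRepresentation
        (B.restrict Xp.toSubmodule) rfl hBXp (fun g x y => hinv g x y)
        (fun v hv => Subtype.ext (hfix v (fun g => congrArg Subtype.val (hv g))))
      exact combine ρ X Xp hcompl A1 A2 h1a h1i h1n h2a h2i h2n
  · -- Case B: X is totally isotropic
    have hXXp : X.toSubmodule ≤ Xp.toSubmodule := by
      have := hmin (X ⊓ Xp) inf_le_left hcase
      intro x hx
      have hx' : x ∈ (X ⊓ Xp).toSubmodule := by rw [this]; exact hx
      exact hx'.2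
    obtain ⟨Y, hY⟩ := exists_isCompl Xp
    have hXpY : IsCompl Xp.toSubmodule Y.toSubmodule := by
      refine ⟨disjoint_iff.mpr ?_, codisjoint_iff.mpr ?_⟩
      · have := congrArg Subrepresentation.toSubmodule hY.inf_eq_bot
        exact this
      · have := congrArg Subrepresentation.toSubmodule hY.sup_eq_top
        exact this
    have hdimY : finrank F Y.toSubmodule = finrank F X.toSubmodule := by
      have := Submodule.finrank_add_eq_of_isCompl hXpY
      omega
    have hdecomp : ∀ v : V, ∃ z ∈ Xp.toSubmodule, ∃ y ∈ Y.toSubmodule, v = z + y := by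
      intro v
      have hv : v ∈ Xp.toSubmodule ⊔ Y.toSubmodule := by rw [hXpY.sup_eq_top]; trivial
      obtain ⟨z, hz, y, hy, rfl⟩ := Submodule.mem_sup.mp hv
      exact ⟨z, hz, y, hy, rfl⟩
    have hXpYbot : ∀ y ∈ Y.toSubmodule, y ∈ Xp.toSubmodule → y = 0 := by
      intro y hy hy'
      have : y ∈ Xp.toSubmodule ⊓ Y.toSubmodule := ⟨hy', hy⟩
      rw [hXpY.inf_eq_bot] at this
      exact (Submodule.mem_bot F).mp this
    have hXYbot : X.toSubmodule ⊓ Y.toSubmodule = ⊥ := by
      rw [eq_bot_iff]
      intro y hy
      exact (Submodule.mem_bot F).mpr (hXpYbot y hy.2 (hXXp hy.1))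
    -- a vector of X orthogonal to Y vanishes
    have hXzero : ∀ x ∈ X.toSubmodule, (∀ y ∈ Y.toSubmodule, B x y = 0) → x = 0 := by
      intro x hx hxy
      apply hB.1
      intro v
      obtain ⟨z, hz, y, hy, rfl⟩ := hdecomp v
      rw [map_add, (hXp_iff z).mp hz x hx, hxy y hy, add_zero]
    set H : Subrepresentation ρ := X ⊔ Y with hH
    have hHdim : finrank F H.toSubmodule = finrank F X.toSubmodule + finrank F Y.toSubmodule := by
      have := Submodule.finrank_sup_add_finrank_inf_eq X.toSubmodule Y.toSubmodule
      rw [hXYbot, finrank_bot, add_zero] at this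
      exact this
    by_cases hHtop : H.toSubmodule = ⊤
    · -- hyperbolic form on V = X ⊕ Y
      have hc : IsCompl X.toSubmodule Y.toSubmodule :=
        ⟨disjoint_iff.mpr hXYbot, codisjoint_iff.mpr hHtop⟩
      set PX : V →ₗ[F] V := X.toSubmodule.projection Y.toSubmodule hc with hPX
      set PY : V →ₗ[F] V := Y.toSubmodule.projection X.toSubmodule hc.symm with hPY
      have hPXmem : ∀ v, PX v ∈ X.toSubmodule := fun v => Submodule.projection_apply_mem hc v
      have hPYmem : ∀ v, PY v ∈ Y.toSubmodule := fun v => Submodule.projection_apply_mem hc.symm v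
      have hPXρ : ∀ g v, PX (ρ g v) = ρ g (PX v) := by
        intro g v
        have := projOnto_equivariant ρ X Y hc g v
        have h' := congrArg Subtype.val this
        exact h'
      have hPYρ : ∀ g v, PY (ρ g v) = ρ g (PY v) := by
        intro g v
        have := projOnto_equivariant ρ Y X hc.symm g v
        have h' := congrArg Subtype.val this
        exact h'
      have hsum : ∀ v, PX v + PY v = v := fun v => Submodule.projection_add_projection_eq_self hc v
      refine ⟨B.compl₁₂ PX PY + (B.compl₁₂ PX PY).flip, ?_, ?_, ?_⟩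
      · intro x
        show B (PX x) (PY x) + B (PX x) (PY x) = 0
        exact char2 _
      · intro g x y
        show B (PX (ρ g x)) (PY (ρ g y)) + B (PX (ρ g y)) (PY (ρ g x)) =
          B (PX x) (PY y) + B (PX y) (PY x)
        rw [hPXρ, hPXρ, hPYρ, hPYρ, hinv, hinv]
      · intro v hv
        have hv' : ∀ w, B (PX v) (PY w) + B (PX w) (PY v) = 0 := hv
        have e1 : PX v = 0 := by
          apply hXzero _ (hPXmem v)
          intro y hy
          have := hv' y
          have a1 : PX y = 0 := Submodule.projection_apply_of_mem_right hc hy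
          have a2 : PY y = y := Submodule.projection_apply_of_mem_left hc.symm hy
          rw [a1, a2, map_zero, LinearMap.zero_apply, add_zero] at this
          exact this
        have e2 : PY v = 0 := by
          apply hXpYbot _ (hPYmem v)
          rw [hXp_iff]
          intro x hx
          have := hv' x
          have a1 : PX x = x := Submodule.projection_apply_of_mem_left hc hx
          have a2 : PY x = 0 := Submodule.projection_apply_of_mem_right hc.symm hx
          rw [a1, a2, map_zero, zero_add] at this
          exact this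
        rw [← hsum v, e1, e2, add_zero]
    · -- split off H = X ⊕ Y
      set Hp : Subrepresentation ρ := orthRep ρ B hinv H with hHp
      have hHp_iff : ∀ y, y ∈ Hp.toSubmodule ↔ ∀ x ∈ H.toSubmodule, B x y = 0 :=
        fun y => mem_orthRep ρ B hinv H y
      have hXH : X.toSubmodule ≤ H.toSubmodule := le_sup_left (a := X.toSubmodule)
      have hYH : Y.toSubmodule ≤ H.toSubmodule := le_sup_right (a := X.toSubmodule)
      have hHHp : H.toSubmodule ⊓ Hp.toSubmodule = ⊥ := by
        rw [eq_bot_iff]
        intro h' hh'
        obtain ⟨hh1, hh2⟩ := hh'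
        have hh2' := (hHp_iff h').mp hh2
        obtain ⟨x', hx', y', hy', rfl⟩ := Submodule.mem_sup.mp hh1
        have hy0 : y' = 0 := by
          apply hXpYbot y' hy'
          rw [hXp_iff]
          intro x hx
          have := hh2' x (hXH hx)
          rw [map_add, (hXp_iff x').mp (hXXp hx') x hx, zero_add] at this
          exact this
        have hx0 : x' = 0 := by
          apply hXzero x' hx'
          intro y hy
          rw [hXsym x' hx']
          have := hh2' y (hYH hy)
          rw [hy0, add_zero] at this
          exact this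
        rw [hx0, hy0, add_zero]
        exact Submodule.zero_mem _
      have hdimHp : finrank F Hp.toSubmodule = finrank F V - finrank F H.toSubmodule :=
        B.finrank_orthogonal hB H.toSubmodule
      have hHle : finrank F H.toSubmodule ≤ finrank F V := Submodule.finrank_le _
      have hcompl : IsCompl H.toSubmodule Hp.toSubmodule := by
        refine ⟨disjoint_iff.mpr hHHp, codisjoint_iff.mpr ?_⟩
        apply Submodule.eq_top_of_finrank_eq
        have := Submodule.finrank_sup_add_finrank_inf_eq H.toSubmodule Hp.toSubmodule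
        rw [hHHp, finrank_bot, add_zero] at this
        rw [this, hdimHp]
        omega
      have hlt1 : finrank F H.toSubmodule < n := by
        rw [← hn]; exact Submodule.finrank_lt hHtop
      have hlt2 : finrank F Hp.toSubmodule < n := by
        rw [hdimHp, hn, hHdim]; omega
      have hBH : (B.restrict H.toSubmodule).Nondegenerate := by
        apply LinearMap.BilinForm.Nondegenerate.ofSeparatingRight
        intro h' hh'
        have hmem : (h' : V) ∈ H.toSubmodule ⊓ Hp.toSubmodule := by
          refine ⟨h'.2, (hHp_iff _).mpr ?_⟩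
          intro x hx
          exact hh' ⟨x, hx⟩
        rw [hHHp] at hmem
        exact Subtype.ext ((Submodule.mem_bot F).mp hmem)
      have hBHp : (B.restrict Hp.toSubmodule).Nondegenerate := by
        apply LinearMap.BilinForm.Nondegenerate.ofSeparatingLeft
        intro v hv
        -- v lies in the left orthogonal of Hp, which is H
        have hL : B.flip.orthogonal Hp.toSubmodule = H.toSubmodule := by
          symm
          apply Submodule.eq_of_le_of_finrank_le
          · intro h hh
            rw [LinearMap.BilinForm.mem_orthogonal_iff]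
            intro v' hv'
            show B h v' = 0
            exact (hHp_iff v').mp hv' h hh
          · rw [LinearMap.BilinForm.finrank_orthogonal hB.flip, hdimHp]
            omega
        have hvL : (v : V) ∈ B.flip.orthogonal Hp.toSubmodule := by
          rw [LinearMap.BilinForm.mem_orthogonal_iff]
          intro v' hv'
          show B v v' = 0
          exact hv ⟨v', hv'⟩
        rw [hL] at hvL
        have hmem : (v : V) ∈ H.toSubmodule ⊓ Hp.toSubmodule := ⟨hvL, v.2⟩
        rw [hHHp] at hmem
        exact Subtype.ext ((Submodule.mem_bot F).mp hmem)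
      obtain ⟨A1, h1a, h1i, h1n⟩ := ih _ hlt1 H.toSubmodule H.toRepresentation
        (B.restrict H.toSubmodule) rfl hBH (fun g x y => hinv g x y)
        (fun v hv => Subtype.ext (hfix v (fun g => congrArg Subtype.val (hv g))))
      obtain ⟨A2, h2a, h2i, h2n⟩ := ih _ hlt2 Hp.toSubmodule Hp.toRepresentation
        (B.restrict Hp.toSubmodule) rfl hBHp (fun g x y => hinv g x y)
        (fun v hv => Subtype.ext (hfix v (fun g => congrArg Subtype.val (hv g))))
      exact combine ρ H Hp hcompl A1 A2 h1a h1i h1n h2a h2i h2n

theorem two_case (h2 : (2 : F) = 0) (hodd : Odd (Nat.card G))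
    {V : Type w} [AddCommGroup V] [Module F V] [FiniteDimensional F V]
    (ρ : Representation F G V) (B : LinearMap.BilinForm F V) (hB : B.Nondegenerate)
    (hinv : ∀ g x y, B (ρ g x) (ρ g y) = B x y) :
    ∃ U W : Submodule F V, IsCompl U W ∧ (∀ g : G, ∀ u ∈ U, ρ g u ∈ U) ∧
      (∀ g : G, ∀ w ∈ W, ρ g w ∈ W) ∧
      (∃ A : LinearMap.BilinForm F V, (∀ x : V, A x x = 0) ∧
        (∀ g : G, ∀ x ∈ U, ∀ y ∈ U, A (ρ g x) (ρ g y) = A x y) ∧
        (∀ x ∈ U, (∀ y ∈ U, A x y = 0) → x = 0)) ∧
      (∃ S : LinearMap.BilinForm F V, (∀ x y : V, S x y = S y x) ∧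
        (∀ g : G, ∀ x ∈ W, ∀ y ∈ W, S (ρ g x) (ρ g y) = S x y) ∧
        (∀ x ∈ W, (∀ y ∈ W, S x y = 0) → x = 0)) ∧
      (∀ g : G, ∀ w ∈ W, ρ g w = w) := by
  classical
  have := Fintype.ofFinite G
  have hcard : ((Nat.card G : ℕ) : F) = 1 := by
    obtain ⟨k, hk⟩ := hodd
    rw [hk]; push_cast; rw [h2, zero_mul, zero_add]
  obtain ⟨e, he⟩ : ∃ e : V →ₗ[F] V, e = ∑ g : G, ρ g := ⟨_, rfl⟩
  have heapp : ∀ v, e v = ∑ g : G, ρ g v := by
    intro v; rw [he, LinearMap.sum_apply]
  have he_fix : ∀ h v, ρ h (e v) = e v := by
    intro h v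
    rw [heapp, map_sum]
    apply Fintype.sum_equiv (Equiv.mulLeft h)
    intro g
    show ρ h (ρ g v) = ρ (h * g) v
    rw [map_mul]; rfl
  have he_inv : ∀ h v, e (ρ h v) = e v := by
    intro h v
    rw [heapp, heapp]
    apply Fintype.sum_equiv (Equiv.mulRight h)
    intro g
    show ρ g (ρ h v) = ρ (g * h) v
    rw [map_mul]; rfl
  have he_of_fixed : ∀ w, (∀ g, ρ g w = w) → e w = w := by
    intro w hw
    rw [heapp]
    simp only [hw]
    rw [Finset.sum_const, Finset.card_univ, ← Nat.card_eq_fintype_card,
      ← Nat.cast_smul_eq_nsmul F, hcard, one_smul]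
  have he_idem : ∀ v, e (e v) = e v := fun v => he_of_fixed _ (fun g => he_fix g v)
  set U : Submodule F V := LinearMap.ker e with hU
  set W : Submodule F V := LinearMap.range e with hW
  have hWfix : ∀ g : G, ∀ w ∈ W, ρ g w = w := by
    intro g w hw
    obtain ⟨z, rfl⟩ := hw
    exact he_fix g z
  have hc : IsCompl U W := by
    refine ⟨disjoint_iff.mpr ?_, codisjoint_iff.mpr ?_⟩
    · rw [eq_bot_iff]
      intro v hv
      obtain ⟨hv1, z, rfl⟩ := hv
      have : e (e z) = 0 := hv1
      rw [he_idem] at this
      rw [this]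
      exact Submodule.zero_mem _
    · rw [eq_top_iff]
      intro v _
      have h1 : v - e v ∈ U := by
        show e (v - e v) = 0
        rw [map_sub, he_idem, sub_self]
      have h2' : e v ∈ W := ⟨v, rfl⟩
      have : v = (v - e v) + e v := by abel
      rw [this]
      exact Submodule.add_mem_sup h1 h2'
  have hUinv : ∀ g : G, ∀ u ∈ U, ρ g u ∈ U := by
    intro g u hu
    show e (ρ g u) = 0
    rw [he_inv]
    exact hu
  have hWinv : ∀ g : G, ∀ w ∈ W, ρ g w ∈ W := by
    intro g w hw
    rw [hWfix g w hw]
    exact hw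
  let Urep : Subrepresentation ρ := ⟨U, fun g _ hv => hUinv g _ hv⟩
  let Wrep : Subrepresentation ρ := ⟨W, fun g _ hv => hWinv g _ hv⟩
  have horth : ∀ u ∈ U, ∀ w, (∀ g, ρ g w = w) → B u w = 0 := by
    intro u hu w hw
    have h1 : B (e u) w = B u w := by
      rw [heapp, map_sum, LinearMap.sum_apply]
      have : ∀ g : G, B (ρ g u) w = B u w := by
        intro g
        nth_rw 1 [← hw g]
        exact hinv g u w
      simp only [this]
      rw [Finset.sum_const, Finset.card_univ, ← Nat.card_eq_fintype_card,
        ← Nat.cast_smul_eq_nsmul F, hcard, one_smul]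
    have h0 : e u = 0 := hu
    rw [h0, map_zero, LinearMap.zero_apply] at h1
    exact h1.symm
  have hBU : (B.restrict U).Nondegenerate := by
    apply LinearMap.BilinForm.Nondegenerate.ofSeparatingLeft
    intro u hu
    apply Subtype.ext
    apply hB.1
    intro v
    have h1 : v - e v ∈ U := by
      show e (v - e v) = 0
      rw [map_sub, he_idem, sub_self]
    have : v = (v - e v) + e v := by abel
    rw [this, map_add, horth u u.2 (e v) (fun g => he_fix g v), add_zero]
    exact hu ⟨v - e v, h1⟩
  have hfixU : ∀ v : U, (∀ g, Urep.toRepresentation g v = v) → v = 0 := by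
    intro v hv
    apply Subtype.ext
    have hv' : ∀ g, ρ g (v : V) = v := fun g => congrArg Subtype.val (hv g)
    have h1 := he_of_fixed _ hv'
    have h0 : e (v : V) = 0 := v.2
    rw [h0] at h1
    exact h1.symm
  obtain ⟨AU, hAa, hAi, hAn⟩ := alt_exists h2 hodd _ U Urep.toRepresentation
    (B.restrict U) rfl hBU (fun g x y => hinv g x y) hfixU
  set πU := U.projectionOnto W hc with hπU
  set πW := W.projectionOnto U hc.symm with hπW
  refine ⟨U, W, hc, hUinv, hWinv, ?_, ?_, hWfix⟩
  · refine ⟨AU.compl₁₂ πU πU, ?_, ?_, ?_⟩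
    · intro x
      rw [LinearMap.compl₁₂_apply, hAa]
    · intro g x _ y _
      rw [LinearMap.compl₁₂_apply, LinearMap.compl₁₂_apply, hπU,
        projOnto_equivariant ρ Urep Wrep hc, projOnto_equivariant ρ Urep Wrep hc]
      exact hAi g _ _
    · intro x hx hxy
      have e1 : πU x = ⟨x, hx⟩ := Submodule.projectionOnto_apply_of_mem_left hc hx
      have : (⟨x, hx⟩ : U) = 0 := by
        apply hAn
        intro u'
        have := hxy u' u'.2
        rw [LinearMap.compl₁₂_apply, e1, Submodule.projectionOnto_apply_left hc u'] at this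
        exact this
      exact congrArg Subtype.val this
  · set b := Module.finBasis F W with hb
    let φ : Fin (finrank F W) → (V →ₗ[F] F) := fun i => (b.coord i) ∘ₗ πW
    have hSapp : ∀ x y, (∑ i, LinearMap.BilinForm.linMulLin (φ i) (φ i)) x y =
        ∑ i, φ i x * φ i y := by
      intro x y
      rw [LinearMap.sum_apply, LinearMap.sum_apply]
      rfl
    refine ⟨∑ i, LinearMap.BilinForm.linMulLin (φ i) (φ i), ?_, ?_, ?_⟩
    · intro x y
      rw [hSapp, hSapp]
      apply Finset.sum_congr rfl
      intro i _
      exact mul_comm _ _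
    · intro g x hx y hy
      rw [hWfix g x hx, hWfix g y hy]
    · intro x hx hxy
      have e1 : πW x = ⟨x, hx⟩ := Submodule.projectionOnto_apply_of_mem_left hc.symm hx
      have : (⟨x, hx⟩ : W) = 0 := by
        apply b.ext_elem_iff.mpr
        intro j
        have := hxy (b j) (b j).2
        rw [hSapp] at this
        have hφ : ∀ i, φ i (b j : V) = if j = i then 1 else 0 := by
          intro i
          show b.coord i (πW (b j : V)) = _
          rw [Submodule.projectionOnto_apply_left hc.symm (b j)]
          simp [Module.Basis.coord_apply, Finsupp.single_apply]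
        simp only [hφ, mul_ite, mul_one, mul_zero, Finset.sum_ite_eq, Finset.mem_univ,
          if_true] at this
        have h' : b.coord j (πW x) = 0 := this
        rw [e1] at h'
        simpa using h'
      exact congrArg Subtype.val this

end Main

end Cfsg.Agent.Helper14.SelfDual
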