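import Mathlib
import Cfsg.Agent.Lib.Helper42.Jordan1
import Cfsg.Agent.S2167

set_option autoImplicit false

/-!
Parity of ranks of powers of `A - 1` for an isometry `A` of a non-degenerate alternating
(resp. symmetric, characteristic not two) bilinear form.
-/

namespace Cfsg.Agent.Helper14.UnipParity

open Module Cfsg.Agent.Helper42.Jordan

universe u v

variable {F : Type u} [Field F] {V : Type v} [AddCommGroup V] [Module F V]

/-- `B(N^j u, A^j v) = (-1)^j B(u, N^j v)` for an isometry `A` and `N = A - 1`. -/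
lemma key_adj (B : LinearMap.BilinForm F V) (A : Module.End F V)
    (hA : ∀ x y, B (A x) (A y) = B x y) (j : ℕ) (u v : V) :
    B (((A - 1) ^ j) u) ((A ^ j) v) = (-1) ^ j * B u (((A - 1) ^ j) v) := by
  induction j generalizing u v with
  | zero => simp
  | succ j ih =>
    have hc : Commute (A - 1) (A ^ j) :=
      ((Commute.refl A).sub_left (Commute.one_left A)).pow_right j
    have h1 : ((A - 1) ^ (j + 1)) u = (A - 1) (((A - 1) ^ j) u) := by
      rw [pow_succ', Module.End.mul_apply]
    have h2 : (A ^ (j + 1)) v = A ((A ^ j) v) := by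
      rw [pow_succ', Module.End.mul_apply]
    have h3 : ∀ x y : V, B ((A - 1) x) (A y) = - B x ((A - 1) y) := by
      intro x y
      simp only [LinearMap.sub_apply, Module.End.one_apply, map_sub, LinearMap.sub_apply, hA]
      ring
    rw [h1, h2, h3]
    have h4 : (A - 1) ((A ^ j) v) = (A ^ j) ((A - 1) v) := by
      have := congrArg (fun f : Module.End F V => f v) hc.eq
      simpa [Module.End.mul_apply] using this
    rw [h4, ih]
    have h5 : ((A - 1) ^ j) ((A - 1) v) = ((A - 1) ^ (j + 1)) v := by
      rw [pow_succ, Module.End.mul_apply]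
    rw [h5]
    ring

variable [FiniteDimensional F V]

omit [FiniteDimensional F V] in
lemma isometry_injective (B : LinearMap.BilinForm F V) (hB : B.Nondegenerate) (A : Module.End F V)
    (hA : ∀ x y, B (A x) (A y) = B x y) : Function.Injective A := by
  rw [← LinearMap.ker_eq_bot, LinearMap.ker_eq_bot']
  intro x hx
  apply hB.1
  intro y
  rw [← hA, hx]; simp

omit [FiniteDimensional F V] in
lemma isometry_pow (B : LinearMap.BilinForm F V) (A : Module.End F V)
    (hA : ∀ x y, B (A x) (A y) = B x y) (k : ℕ) (x y : V) :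
    B ((A ^ k) x) ((A ^ k) y) = B x y := by
  induction k with
  | zero => simp
  | succ k ih => rw [pow_succ', Module.End.mul_apply, Module.End.mul_apply, hA, ih]

lemma isometry_pow_surjective (B : LinearMap.BilinForm F V) (hB : B.Nondegenerate)
    (A : Module.End F V) (hA : ∀ x y, B (A x) (A y) = B x y) (k : ℕ) :
    Function.Surjective (A ^ k) := by
  have h1 : Function.Surjective A :=
    LinearMap.injective_iff_surjective.mp (isometry_injective B hB A hA)
  induction k with
  | zero => intro x; exact ⟨x, by simp⟩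
  | succ k ih =>
    intro x
    obtain ⟨y, rfl⟩ := ih x
    obtain ⟨z, rfl⟩ := h1 y
    exact ⟨z, by rw [pow_succ, Module.End.mul_apply]⟩

omit [FiniteDimensional F V] in
lemma commute_pow_apply (A : Module.End F V) (i j : ℕ) (x : V) :
    ((A - 1) ^ i) ((A ^ j) x) = (A ^ j) (((A - 1) ^ i) x) := by
  have hc : Commute ((A - 1) ^ i) (A ^ j) :=
    (((Commute.refl A).sub_left (Commute.one_left A)).pow_right j).pow_left i
  have := congrArg (fun f : Module.End F V => f x) hc.eq
  simpa [Module.End.mul_apply] using this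

/-- For an isometry `A` of a non-degenerate alternating form, `(A-1)^(2k)` has even rank. -/
theorem even_rk_even (B : LinearMap.BilinForm F V) (hB : B.Nondegenerate) (halt : B.IsAlt)
    (A : Module.End F V) (hA : ∀ x y, B (A x) (A y) = B x y) (k : ℕ) :
    Even (rk (A - 1) (2 * k)) := by
  set N : Module.End F V := A - 1 with hN
  let γ : V →ₗ[F] V →ₗ[F] F := B.compl₁₂ (N ^ k) (N ^ k)
  have hγ : ∀ x y, γ x y = B ((N ^ k) x) ((N ^ k) y) := fun x y => rfl
  have hγalt : γ.IsAlt := fun x => by rw [hγ]; exact halt _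
  obtain ⟨k', hk'⟩ := Cfsg.Agent.S2167.alt_even_aux (finrank F V) V rfl γ hγalt
  have hker : LinearMap.ker γ = LinearMap.ker (N ^ (2 * k)) := by
    ext x
    rw [LinearMap.mem_ker, LinearMap.mem_ker]
    obtain ⟨z, hz⟩ := isometry_pow_surjective B hB A hA k ((N ^ k) x)
    have hNz : (N ^ (2 * k)) x = (A ^ k) ((N ^ k) z) := by
      rw [two_mul, pow_add, Module.End.mul_apply, ← hz, hN, commute_pow_apply]
    have hkey : ∀ y, γ x y = - ((-1) ^ k * B y ((N ^ k) z)) := by
      intro y
      rw [hγ, ← LinearMap.IsAlt.neg halt ((N ^ k) y) ((N ^ k) x), ← hz, hN, key_adj B A hA]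
    constructor
    · intro h
      have h0 : (N ^ k) z = 0 := by
        apply hB.2
        intro y
        have := hkey y
        rw [h] at this
        simp only [LinearMap.zero_apply] at this
        have h2 : (-1 : F) ^ k ≠ 0 := pow_ne_zero _ (by simp)
        have h3 : (-1 : F) ^ k * B y ((N ^ k) z) = 0 := by
          rw [eq_comm, neg_eq_zero] at this; exact this
        exact (mul_eq_zero.mp h3).resolve_left h2
      rw [hNz, h0, map_zero]
    · intro h
      have h0 : (N ^ k) z = 0 := by
        apply isometry_injective B hB (A ^ k) (isometry_pow B A hA k)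
        rw [← hNz, h, map_zero]
      apply LinearMap.ext; intro y
      rw [hkey, h0]; simp
  have hrn : rk N (2 * k) + finrank F (LinearMap.ker (N ^ (2 * k))) = finrank F V := by
    rw [rk]; exact LinearMap.finrank_range_add_finrank_ker _
  rw [← hker] at hrn
  exact ⟨k', by omega⟩

omit [FiniteDimensional F V] in
lemma add_one_injective (h2 : (2 : F) ≠ 0) (A : Module.End F V) (hnil : IsNilpotent (A - 1))
    (u : V) (hu : A u + u = 0) : u = 0 := by
  obtain ⟨n, hn⟩ := hnil
  have h1 : (A - 1) u = (-2 : F) • u := by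
    have : A u = -u := eq_neg_of_add_eq_zero_left hu
    rw [LinearMap.sub_apply, this, Module.End.one_apply, neg_smul, two_smul]
    abel
  have h3 : ∀ j : ℕ, ((A - 1) ^ j) u = ((-2 : F) ^ j) • u := by
    intro j
    induction j with
    | zero => simp
    | succ j ih => rw [pow_succ', Module.End.mul_apply, ih, map_smul, h1, smul_smul, pow_succ]
  have h4 := h3 n
  rw [hn, LinearMap.zero_apply] at h4
  have h5 : ((-2 : F)) ^ n ≠ 0 := pow_ne_zero _ (by simpa using h2)
  exact (smul_eq_zero.mp h4.symm).resolve_left h5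

/-- For a unipotent isometry `A` of a non-degenerate symmetric form in characteristic not two,
`(A-1)^(2k+1)` has even rank. -/
theorem even_rk_odd (h2 : (2 : F) ≠ 0) (B : LinearMap.BilinForm F V) (hB : B.Nondegenerate)
    (hsymm : ∀ x y, B x y = B y x)
    (A : Module.End F V) (hA : ∀ x y, B (A x) (A y) = B x y) (hnil : IsNilpotent (A - 1)) (k : ℕ) :
    Even (rk (A - 1) (2 * k + 1)) := by
  set N : Module.End F V := A - 1 with hN
  let γ : V →ₗ[F] V →ₗ[F] F := B.compl₁₂ (N ^ k) (N ^ (k + 1)) - B.compl₁₂ (N ^ (k + 1)) (N ^ k)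
  have hγ : ∀ x y, γ x y = B ((N ^ k) x) ((N ^ (k + 1)) y) - B ((N ^ (k + 1)) x) ((N ^ k) y) :=
    fun x y => rfl
  have hγalt : γ.IsAlt := fun x => by rw [hγ, hsymm]; exact sub_self _
  obtain ⟨k', hk'⟩ := Cfsg.Agent.S2167.alt_even_aux (finrank F V) V rfl γ hγalt
  have hkey : ∀ y z, γ y ((A ^ (k + 1)) z) =
      (-1) ^ k * B y (A ((N ^ (2 * k + 1)) z) + (N ^ (2 * k + 1)) z) := by
    intro y z
    rw [hγ]
    have e1 : (N ^ (k + 1)) ((A ^ (k + 1)) z) = (A ^ k) ((N ^ (k + 1)) (A z)) := by
      rw [pow_succ A k, Module.End.mul_apply, hN, commute_pow_apply]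
    have e2 : (N ^ k) ((A ^ (k + 1)) z) = (A ^ (k + 1)) ((N ^ k) z) := by
      rw [hN, commute_pow_apply]
    have e3 : (N ^ k) ((N ^ (k + 1)) (A z)) = A ((N ^ (2 * k + 1)) z) := by
      rw [← Module.End.mul_apply, ← pow_add, show k + (k + 1) = 2 * k + 1 by omega]
      have := commute_pow_apply A (2 * k + 1) 1 z
      rw [pow_one] at this
      rw [hN, this]
    have e4 : (N ^ (k + 1)) ((N ^ k) z) = (N ^ (2 * k + 1)) z := by
      rw [← Module.End.mul_apply, ← pow_add, show k + 1 + k = 2 * k + 1 by omega]
    rw [e1, e2, hN, key_adj B A hA k, key_adj B A hA (k + 1), ← hN, e3, e4, map_add, pow_succ]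
    ring
  have hker : LinearMap.ker γ = LinearMap.ker (N ^ (2 * k + 1)) := by
    ext x
    rw [LinearMap.mem_ker, LinearMap.mem_ker]
    obtain ⟨z, hz⟩ := isometry_pow_surjective B hB A hA (k + 1) x
    set u := (N ^ (2 * k + 1)) z with hu
    have hNx : (N ^ (2 * k + 1)) x = (A ^ (k + 1)) u := by
      rw [← hz, hN, commute_pow_apply]
    have hγx : ∀ y, γ x y = - ((-1) ^ k * B y (A u + u)) := by
      intro y
      rw [← LinearMap.IsAlt.neg hγalt y x, ← hz, hkey]
    constructor
    · intro h
      have h0 : A u + u = 0 := by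
        apply hB.2
        intro y
        have := hγx y
        rw [h] at this
        simp only [LinearMap.zero_apply] at this
        have h2' : (-1 : F) ^ k ≠ 0 := pow_ne_zero _ (by simp)
        have h3 : (-1 : F) ^ k * B y (A u + u) = 0 := by
          rw [eq_comm, neg_eq_zero] at this; exact this
        exact (mul_eq_zero.mp h3).resolve_left h2'
      rw [hNx, add_one_injective h2 A hnil u h0, map_zero]
    · intro h
      have h0 : u = 0 := by
        apply isometry_injective B hB (A ^ (k + 1)) (isometry_pow B A hA (k + 1))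
        rw [← hNx, h, map_zero]
      apply LinearMap.ext; intro y
      rw [hγx, h0]; simp
  have hrn : rk N (2 * k + 1) + finrank F (LinearMap.ker (N ^ (2 * k + 1))) = finrank F V := by
    rw [rk]; exact LinearMap.finrank_range_add_finrank_ker _
  rw [← hker] at hrn
  exact ⟨k', by omega⟩

end Cfsg.Agent.Helper14.UnipParity
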