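import Mathlib
import Cfsg.Prelude.Def_GeometricClasses
import Cfsg.Agent.Lib.Helper14.SimForm
import Cfsg.Agent.Lib.Helper14.UnipParity

/-!
# Elements of `SL_n` with no conjugate in the group of symplectic similarities

A linear map `T` of determinant one on an `n`-dimensional space which is not a similarity of any
nondegenerate alternating form gives an element of `SL_n(F)` none of whose conjugates preserves a
given symplectic form up to a scalar.
-/

set_option autoImplicit false

namespace Cfsg.Agent.Helper14.SpDerange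

open Module Cfsg.Agent.Helper14.SimForm Cfsg.Agent.Helper42.Jordan

variable {F : Type*} [Field F]

/-- conjugation commutes with powers -/
theorem conj_pow_apply {W V : Type*} [AddCommGroup W] [Module F W] [AddCommGroup V] [Module F V]
    (Ψ : W ≃ₗ[F] V) (T : W →ₗ[F] W) (k : ℕ) (v : V) :
    ((Ψ.conj T) ^ k) v = Ψ ((T ^ k) (Ψ.symm v)) := by
  induction k generalizing v with
  | zero => simp
  | succ k ih =>
    rw [pow_succ, pow_succ, Module.End.mul_apply, Module.End.mul_apply, ih, LinearEquiv.conj_apply_apply,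
      LinearEquiv.symm_apply_apply]

/-- the derangement criterion -/
theorem exists_derangement {n : ℕ} (f : (Fin n → F) → (Fin n → F) → F)
    (hf : Cfsg.Geo.IsSymplecticForm f)
    {W : Type*} [AddCommGroup W] [Module F W] [FiniteDimensional F W] (hW : finrank F W = n)
    (T : W →ₗ[F] W) (hdet : LinearMap.det T = 1) (r : ℕ) (z : F) (hTr : T ^ r = z • 1)
    (hns : ∀ c : F, T ≠ c • 1) (hsim : ∀ μ : F, ¬ HasSim T μ) :
    ∃ x : Matrix.SpecialLinearGroup (Fin n) F,
      (∃ z : F, ((x ^ r : Matrix.SpecialLinearGroup (Fin n) F) : Matrix (Fin n) (Fin n) F) =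
        z • (1 : Matrix (Fin n) (Fin n) F)) ∧
      (∀ z : F, (x : Matrix (Fin n) (Fin n) F) ≠ z • (1 : Matrix (Fin n) (Fin n) F)) ∧
      ∀ P : Matrix.SpecialLinearGroup (Fin n) F, P⁻¹ * x * P ∉
        ((Cfsg.Geo.similarityGroup f).comap
          (Matrix.SpecialLinearGroup.toGL : Matrix.SpecialLinearGroup (Fin n) F →* GL (Fin n) F)) := by
  classical
  have hfin : finrank F W = finrank F (Fin n → F) := by
    rw [hW, Module.finrank_pi, Fintype.card_fin]
  let Ψ : W ≃ₗ[F] (Fin n → F) := LinearEquiv.ofFinrankEq W (Fin n → F) hfin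
  set X : (Fin n → F) →ₗ[F] (Fin n → F) := Ψ.conj T with hX
  have hXΨ : ∀ w, X (Ψ w) = Ψ (T w) := by
    intro w
    rw [hX, LinearEquiv.conj_apply_apply, LinearEquiv.symm_apply_apply]
  set M : Matrix (Fin n) (Fin n) F := LinearMap.toMatrix' X with hM
  have hMX : Matrix.toLin' M = X := by rw [hM, Matrix.toLin'_toMatrix']
  have hMdet : M.det = 1 := by
    rw [hM, LinearMap.det_toMatrix', hX, LinearEquiv.conj_apply, LinearMap.comp_assoc, LinearMap.det_conj, hdet]
  obtain ⟨x, hx⟩ : ∃ x : Matrix.SpecialLinearGroup (Fin n) F,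
      (x : Matrix (Fin n) (Fin n) F) = M := ⟨⟨M, hMdet⟩, rfl⟩
  refine ⟨x, ⟨z, ?_⟩, ?_, ?_⟩
  · rw [Matrix.SpecialLinearGroup.coe_pow, hx]
    apply Matrix.toLin'.injective
    have h1 : Matrix.toLin' (M ^ r) = (Matrix.toLin' M) ^ r :=
      map_pow (Matrix.toLinAlgEquiv' (R := F) (n := Fin n)) M r
    rw [h1, hMX]
    apply LinearMap.ext
    intro v
    rw [conj_pow_apply, hTr, map_smul, Matrix.toLin'_one]
    simp
  · intro c hc
    apply hns c
    have h1 : X = c • 1 := by
      rw [← hMX]
      show Matrix.toLin' M = c • 1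
      have : M = c • (1 : Matrix (Fin n) (Fin n) F) := by rw [← hx]; exact hc
      rw [this, map_smul, Matrix.toLin'_one]
      rfl
    apply LinearMap.ext
    intro w
    apply Ψ.injective
    rw [← hXΨ, h1]
    simp
  · intro P hP
    rw [Subgroup.mem_comap] at hP
    obtain ⟨c, hc⟩ := hP
    set g : Matrix (Fin n) (Fin n) F :=
      ((P⁻¹ * x * P :
        Matrix.SpecialLinearGroup (Fin n) F) : Matrix (Fin n) (Fin n) F) with hg
    have hcg : ∀ u v, f (g.mulVec u) (g.mulVec v) = (c : F) * f u v := hc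
    have hgM : g = (P⁻¹ : Matrix.SpecialLinearGroup (Fin n) F).1 * M * P.1 := by
      rw [hg, Matrix.SpecialLinearGroup.coe_mul, Matrix.SpecialLinearGroup.coe_mul, hx]
    let Φ : W ≃ₗ[F] (Fin n → F) := Ψ.trans (Matrix.SpecialLinearGroup.toLin' P⁻¹)
    have hΦ : ∀ w, Φ w = (P⁻¹ : Matrix.SpecialLinearGroup (Fin n) F).1.mulVec (Ψ w) := by
      intro w
      show Matrix.SpecialLinearGroup.toLin' P⁻¹ (Ψ w) = _
      rw [Matrix.SpecialLinearGroup.toLin'_apply, Matrix.toLin'_apply]
    have hPP : P.1 * (P⁻¹ : Matrix.SpecialLinearGroup (Fin n) F).1 = 1 := by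
      rw [← Matrix.SpecialLinearGroup.coe_mul, mul_inv_cancel, Matrix.SpecialLinearGroup.coe_one]
    have hΦT : ∀ w, Φ (T w) = g.mulVec (Φ w) := by
      intro w
      rw [hΦ, hΦ, ← hXΨ, ← hMX, Matrix.toLin'_apply, hgM, Matrix.mulVec_mulVec,
        Matrix.mulVec_mulVec, Matrix.mul_assoc, Matrix.mul_assoc, hPP, Matrix.mul_one]
    let B : LinearMap.BilinForm F (Fin n → F) :=
      LinearMap.mk₂ F f hf.bilinear.add_left
        (fun c x v => by rw [hf.bilinear.smul_left, smul_eq_mul])
        hf.bilinear.add_right (fun c v x => by rw [hf.bilinear.smul_right, smul_eq_mul])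
    have hB : ∀ u v, B u v = f u v := fun _ _ => rfl
    apply hsim (c : F)
    refine ⟨B.comp (Φ : W →ₗ[F] (Fin n → F)) (Φ : W →ₗ[F] (Fin n → F)), ?_, ?_, ?_⟩
    · intro u
      rw [LinearMap.BilinForm.comp_apply, hB]
      exact hf.alternating _
    · intro u hu
      by_contra hne
      have hΦu : Φ u ≠ 0 := fun h => hne (Φ.map_eq_zero_iff.mp h)
      obtain ⟨-, y, hy⟩ := hf.nondegenerate (Φ u) hΦu
      apply hy
      have := hu (Φ.symm y)
      rw [LinearMap.BilinForm.comp_apply, hB] at this
      simpa using this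
    · intro u v
      rw [LinearMap.BilinForm.comp_apply, LinearMap.BilinForm.comp_apply, hB, hB]
      show f (Φ (T u)) (Φ (T v)) = (c : F) * f (Φ u) (Φ v)
      rw [hΦT, hΦT, hcg]

/-- the multiplier of a similarity of finite order -/
theorem sim_pow_eq_one {W : Type*} [AddCommGroup W] [Module F W] [Nontrivial W]
    (T : W →ₗ[F] W) (k : ℕ) (hT : T ^ k = 1) (μ : F) (h : HasSim T μ) : μ ^ k = 1 := by
  obtain ⟨g, -, hg2, hg3⟩ := h
  have hpow : ∀ j : ℕ, ∀ u v, g ((T ^ j) u) ((T ^ j) v) = μ ^ j * g u v := by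
    intro j
    induction j with
    | zero => intro u v; simp
    | succ j ih =>
      intro u v
      rw [pow_succ', Module.End.mul_apply, Module.End.mul_apply, hg3, ih, pow_succ']
      ring
  obtain ⟨u, hu⟩ := exists_ne (0 : W)
  have : ∃ v, g u v ≠ 0 := by
    by_contra hcon
    push Not at hcon
    exact hu (hg2 u hcon)
  obtain ⟨v, hv⟩ := this
  have h1 := hpow k u v
  rw [hT] at h1
  simp only [Module.End.one_apply] at h1
  have h2 : (μ ^ k - 1) * g u v = 0 := by linear_combination -h1
  rcases mul_eq_zero.mp h2 with h | h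
  · exact sub_eq_zero.mp h
  · exact absurd h hv

/-- a map of finite order `r` with `(T - 1) ^ 2` of odd rank is not a symplectic similarity, when
the field has no non-trivial `r`-th roots of unity -/
theorem not_hasSim_of_odd_rk {W : Type*} [AddCommGroup W] [Module F W] [FiniteDimensional F W]
    [Nontrivial W] (T : W →ₗ[F] W) (r : ℕ) (hT : T ^ r = 1) (hroot : ∀ μ : F, μ ^ r = 1 → μ = 1)
    (hodd : Odd (rk (T - 1) 2)) (μ : F) : ¬ HasSim T μ := by
  intro h
  have hμ : μ = 1 := hroot μ (sim_pow_eq_one T r hT μ h)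
  obtain ⟨g, hg1, hg2, hg3⟩ := h
  have hnd : g.Nondegenerate := by
    apply LinearMap.BilinForm.Nondegenerate.ofSeparatingLeft
    intro u hu
    exact hg2 u hu
  have halt : g.IsAlt := hg1
  have := Cfsg.Agent.Helper14.UnipParity.even_rk_even g hnd halt T
    (fun x y => by rw [hg3, hμ, one_mul]) 1
  rw [mul_one] at this
  exact (Nat.not_even_iff_odd.mpr hodd) this


/-! ### (a) unipotent elements -/

section unipotent

variable {p : ℕ} [Fact p.Prime] [CharP F p]

/-- a unipotent map with Jordan blocks `3, 1, …, 1` is not a symplectic similarity -/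
theorem derangement_unipotent (hp2 : p ≠ 2) {n : ℕ} (hn : 3 ≤ n)
    (f : (Fin n → F) → (Fin n → F) → F) (hf : Cfsg.Geo.IsSymplecticForm f) :
    ∃ x : Matrix.SpecialLinearGroup (Fin n) F,
      (∃ z : F, ((x ^ p : Matrix.SpecialLinearGroup (Fin n) F) : Matrix (Fin n) (Fin n) F) =
        z • (1 : Matrix (Fin n) (Fin n) F)) ∧
      (∀ z : F, (x : Matrix (Fin n) (Fin n) F) ≠ z • (1 : Matrix (Fin n) (Fin n) F)) ∧
      ∀ P : Matrix.SpecialLinearGroup (Fin n) F, P⁻¹ * x * P ∉
        ((Cfsg.Geo.similarityGroup f).comap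
          (Matrix.SpecialLinearGroup.toGL : Matrix.SpecialLinearGroup (Fin n) F →* GL (Fin n) F)) := by
  classical
  have hp3 : 3 ≤ p := by
    have := (Fact.out : p.Prime).two_le
    omega
  haveI : Nonempty (Fin n) := ⟨⟨0, by omega⟩⟩
  haveI : Nontrivial (Fin n → F) := Function.nontrivial
  let i0 : Fin n := ⟨0, by omega⟩
  let i1 : Fin n := ⟨1, by omega⟩
  let i2 : Fin n := ⟨2, by omega⟩
  have h01 : i0 ≠ i1 := by intro h; have := congrArg Fin.val h; simp [i0, i1] at this
  have h02 : i0 ≠ i2 := by intro h; have := congrArg Fin.val h; simp [i0, i2] at this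
  have h12 : i1 ≠ i2 := by intro h; have := congrArg Fin.val h; simp [i1, i2] at this
  set N : Matrix (Fin n) (Fin n) F := Matrix.single i0 i1 1 + Matrix.single i1 i2 1 with hN
  have hN2 : N * N = Matrix.single i0 i2 1 := by
    rw [hN, add_mul, mul_add, mul_add, Matrix.single_mul_single_of_ne _ _ _ _ h01.symm,
      Matrix.single_mul_single_same, Matrix.single_mul_single_of_ne _ _ _ _ h02.symm,
      Matrix.single_mul_single_of_ne _ _ _ _ h12.symm]
    simp
  have hN3 : N * N * N = 0 := by
    rw [hN2, hN, mul_add, Matrix.single_mul_single_of_ne _ _ _ _ h02.symm,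
      Matrix.single_mul_single_of_ne _ _ _ _ h12.symm]
    simp
  have hNp : N ^ p = 0 := by
    obtain ⟨k, hk⟩ : ∃ k, p = 3 + k := ⟨p - 3, by omega⟩
    rw [hk, pow_add, pow_succ, pow_two, hN3, zero_mul]
  set T : (Fin n → F) →ₗ[F] (Fin n → F) := Matrix.toLin' (1 + N) with hT
  have hT1 : T - 1 = Matrix.toLin' N := by
    rw [hT, map_add, Matrix.toLin'_one]
    show LinearMap.id + Matrix.toLin' N - 1 = Matrix.toLin' N
    rw [Module.End.one_eq_id]
    abel
  have hfin : finrank F (Fin n → F) = n := by rw [Module.finrank_pi, Fintype.card_fin]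
  have hdet : LinearMap.det T = 1 := by
    rw [hT, LinearMap.det_toLin']
    rw [Matrix.det_of_isUpperTriangular]
    · apply Finset.prod_eq_one
      intro i _
      rw [Matrix.add_apply, Matrix.one_apply_eq, hN, Matrix.add_apply]
      have e1 : Matrix.single i0 i1 (1 : F) i i = 0 := by
        rw [Matrix.single_apply]
        split_ifs with h
        · exact absurd (h.1.trans h.2.symm) h01
        · rfl
      have e2 : Matrix.single i1 i2 (1 : F) i i = 0 := by
        rw [Matrix.single_apply]
        split_ifs with h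
        · exact absurd (h.1.trans h.2.symm) h12
        · rfl
      rw [e1, e2]
      ring
    · intro i j hji
      have hne : i ≠ j := fun h => by rw [h] at hji; exact lt_irrefl _ hji
      rw [Matrix.add_apply, Matrix.one_apply_ne hne, hN, Matrix.add_apply, Matrix.single_apply,
        Matrix.single_apply]
      have hji' : j.val < i.val := hji
      split_ifs with h1 h2 h2
      · exfalso
        have a := congrArg Fin.val h1.1
        have b := congrArg Fin.val h1.2
        simp [i0, i1] at a b
        omega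
      · exfalso
        have a := congrArg Fin.val h1.1
        have b := congrArg Fin.val h1.2
        simp [i0, i1] at a b
        omega
      · exfalso
        have a := congrArg Fin.val h2.1
        have b := congrArg Fin.val h2.2
        simp [i1, i2] at a b
        omega
      · simp
  have hTp : T ^ p = 1 := by
    have h1 : Matrix.toLin' ((1 + N) ^ p) = (Matrix.toLin' (1 + N)) ^ p :=
      map_pow (Matrix.toLinAlgEquiv' (R := F) (n := Fin n)) (1 + N) p
    rw [hT, ← h1]
    haveI : CharP (Matrix (Fin n) (Fin n) F) p := Matrix.charP p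
    rw [add_pow_char_of_commute p (Commute.one_left N), one_pow, hNp, add_zero, Matrix.toLin'_one]
    rfl
  have hns : ∀ c : F, T ≠ c • 1 := by
    intro c hc
    have h1 : (1 + N) = c • (1 : Matrix (Fin n) (Fin n) F) := by
      apply Matrix.toLin'.injective
      rw [map_smul, Matrix.toLin'_one]
      exact hc
    have h2 := congrFun (congrFun h1 i0) i1
    rw [Matrix.add_apply, Matrix.one_apply_ne h01, Matrix.smul_apply, Matrix.one_apply_ne h01, hN,
      Matrix.add_apply, Matrix.single_apply_same, Matrix.single_apply] at h2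
    rw [if_neg (fun h => h01 h.1.symm)] at h2
    simp at h2
  have hroot : ∀ μ : F, μ ^ p = 1 → μ = 1 := by
    intro μ hμ
    have h1 : (μ - 1) ^ p = 0 := by rw [sub_pow_char, hμ, one_pow, sub_self]
    exact sub_eq_zero.mp (pow_eq_zero_iff (Fact.out : p.Prime).ne_zero |>.mp h1)
  have hodd : Odd (rk (T - 1) 2) := by
    have h1 : rk (T - 1) 2 = 1 := by
      unfold rk
      rw [hT1]
      have h2 : (Matrix.toLin' N) ^ 2 = Matrix.toLin' (Matrix.single i0 i2 (1 : F)) := by
        rw [pow_two, ← hN2, Matrix.toLin'_mul]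
        rfl
      rw [h2]
      have h3 : LinearMap.range (Matrix.toLin' (Matrix.single i0 i2 (1 : F))) =
          Submodule.span F {(Pi.single i0 (1 : F) : Fin n → F)} := by
        ext v
        rw [LinearMap.mem_range, Submodule.mem_span_singleton]
        constructor
        · rintro ⟨w, rfl⟩
          refine ⟨w i2, ?_⟩
          rw [Matrix.toLin'_apply, Matrix.single_mulVec, one_mul]
          ext k
          by_cases hk : k = i0
          · subst hk; simp
          · simp [Function.update_of_ne hk, Pi.single_eq_of_ne hk]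
        · rintro ⟨a, rfl⟩
          refine ⟨Pi.single i2 a, ?_⟩
          rw [Matrix.toLin'_apply, Matrix.single_mulVec, one_mul]
          ext k
          by_cases hk : k = i0
          · subst hk; simp
          · simp [Function.update_of_ne hk, Pi.single_eq_of_ne hk]
      rw [h3, finrank_span_singleton]
      intro h
      have := congrFun h i0
      simp at this
    rw [h1]
    exact odd_one
  exact exists_derangement f hf hfin T hdet p 1 (by rw [hTp, one_smul]) hns
    (not_hasSim_of_odd_rk T p hTp hroot hodd)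

end unipotent


/-! ### (c) semisimple elements with an odd-dimensional irreducible block -/

section field

variable [Fintype F]

/-- no non-trivial `r`-th roots of unity when `r ∤ q - 1` -/
theorem root_eq_one (r : ℕ) [Fact r.Prime] (hndvd : ¬ r ∣ Fintype.card F - 1) (μ : F)
    (hμ : μ ^ r = 1) : μ = 1 := by
  classical
  have hμ0 : μ ≠ 0 := by
    rintro rfl
    rw [zero_pow (Fact.out : r.Prime).ne_zero] at hμ
    exact zero_ne_one hμ
  set u : Fˣ := Units.mk0 μ hμ0 with hu0
  have hu : u ^ r = 1 := by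
    apply Units.ext
    rw [Units.val_pow_eq_pow_val, Units.val_one]
    exact hμ
  have h1 : orderOf u ∣ r := orderOf_dvd_of_pow_eq_one hu
  have h2 : orderOf u ∣ Fintype.card F - 1 := by
    rw [← Fintype.card_units]
    exact orderOf_dvd_card
  rcases (Nat.dvd_prime (Fact.out : r.Prime)).mp h1 with h | h
  · have : u = 1 := orderOf_eq_one_iff.mp h
    have h3 := congrArg Units.val this
    rw [hu0, Units.val_mk0, Units.val_one] at h3
    exact h3
  · rw [h] at h2
    exact absurd h2 hndvd

theorem derangement_field {p : ℕ} [Fact p.Prime] [CharP F p] {n : ℕ}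
    (f : (Fin n → F) → (Fin n → F) → F) (hf : Cfsg.Geo.IsSymplecticForm f)
    (e r : ℕ) [Fact r.Prime] (he1 : 1 ≤ e) (hen : e < n) (hodd : Odd e)
    (hdvd : r ∣ Fintype.card F ^ e - 1) (hndvd : ¬ r ∣ Fintype.card F - 1) :
    ∃ x : Matrix.SpecialLinearGroup (Fin n) F,
      (∃ z : F, ((x ^ r : Matrix.SpecialLinearGroup (Fin n) F) : Matrix (Fin n) (Fin n) F) =
        z • (1 : Matrix (Fin n) (Fin n) F)) ∧
      (∀ z : F, (x : Matrix (Fin n) (Fin n) F) ≠ z • (1 : Matrix (Fin n) (Fin n) F)) ∧
      ∀ P : Matrix.SpecialLinearGroup (Fin n) F, P⁻¹ * x * P ∉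
        ((Cfsg.Geo.similarityGroup f).comap
          (Matrix.SpecialLinearGroup.toGL : Matrix.SpecialLinearGroup (Fin n) F →* GL (Fin n) F)) := by
  classical
  haveI : NeZero e := ⟨by omega⟩
  obtain ⟨L, _, _, _, hfr, hcard⟩ : ∃ (L : Type) (_ : Field L) (_ : Finite L) (_ : Algebra F L),
      finrank F L = e ∧ Nat.card L = Fintype.card F ^ e :=
    ⟨FiniteField.Extension F p e, inferInstance, inferInstance, inferInstance,
      FiniteField.finrank_extension F p e, by
        rw [FiniteField.natCard_extension, Nat.card_eq_fintype_card]⟩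
  have hunits : Nat.card Lˣ = Fintype.card F ^ e - 1 := by rw [Nat.card_units, hcard]
  obtain ⟨ζ, hζ⟩ := exists_prime_orderOf_dvd_card' (G := Lˣ) r (by rw [hunits]; exact hdvd)
  haveI : Module.Finite F L := Module.Finite.of_finite
  have hζ1 : (ζ : L) - 1 ≠ 0 := by
    intro h
    have : ζ = 1 := Units.ext (sub_eq_zero.1 h)
    rw [this, orderOf_one] at hζ
    exact (Fact.out : r.Prime).one_lt.ne hζ
  have hfinW : finrank F (L × (Fin (n - e) → F)) = n := by
    rw [Module.finrank_prod, hfr, Module.finrank_pi, Fintype.card_fin]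
    omega
  haveI : Nontrivial (L × (Fin (n - e) → F)) := by
    apply Module.nontrivial_of_finrank_pos (R := F)
    rw [hfinW]
    omega
  set T₀ : Module.End F L := Algebra.lmul F L (ζ : L) with hT₀
  set T : (L × (Fin (n - e) → F)) →ₗ[F] (L × (Fin (n - e) → F)) :=
    T₀.prodMap LinearMap.id with hT
  have hT₀r : T₀ ^ r = 1 := by
    rw [hT₀, ← map_pow, ← Units.val_pow_eq_pow_val, ← hζ, pow_orderOf_eq_one, Units.val_one,
      map_one]
  have hTk : ∀ k : ℕ, ∀ w, (T ^ k) w = ((T₀ ^ k) w.1, w.2) := by
    intro k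
    induction k with
    | zero => intro w; simp
    | succ k ih =>
      intro w
      rw [pow_succ, Module.End.mul_apply, ih, pow_succ, Module.End.mul_apply]
      rfl
  have hTr : T ^ r = 1 := by
    apply LinearMap.ext
    intro w
    rw [hTk, hT₀r]
    rfl
  have hdet : LinearMap.det T = 1 := by
    rw [hT, LinearMap.det_prodMap, LinearMap.det_id, mul_one]
    apply root_eq_one r hndvd
    rw [← map_pow, hT₀r, map_one]
  have hns : ∀ c : F, T ≠ c • 1 := by
    intro c hc
    haveI : Nonempty (Fin (n - e)) := ⟨⟨0, by omega⟩⟩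
    obtain ⟨k, hk⟩ := exists_ne (0 : Fin (n - e) → F)
    have h1 := congrArg (fun S : (L × (Fin (n - e) → F)) →ₗ[F] (L × (Fin (n - e) → F)) =>
      (S (0, k)).2) hc
    simp only [hT, LinearMap.prodMap_apply, LinearMap.id_apply, LinearMap.smul_apply,
      Module.End.one_apply, Prod.smul_snd] at h1
    have hc1 : c = 1 := by
      by_contra hne
      have h2 : (1 - c) • k = 0 := by rw [sub_smul, one_smul, ← h1, sub_self]
      rcases smul_eq_zero.mp h2 with h | h
      · exact hne (sub_eq_zero.mp h).symm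
      · exact hk h
    have h3 := congrArg (fun S : (L × (Fin (n - e) → F)) →ₗ[F] (L × (Fin (n - e) → F)) =>
      (S (1, 0)).1) hc
    simp only [hT, LinearMap.prodMap_apply, LinearMap.smul_apply,
      Module.End.one_apply, Prod.smul_fst, hc1, one_smul] at h3
    have h4 : (ζ : L) * 1 = 1 := h3
    apply hζ1
    rw [mul_one] at h4
    rw [h4, sub_self]
  have hrk : rk (T - 1) 2 = e := by
    unfold rk
    set S : Module.End F L := Algebra.lmul F L (((ζ : L) - 1) * ((ζ : L) - 1)) with hS
    have h1 : (T - 1) ^ 2 = (LinearMap.inl F L (Fin (n - e) → F)) ∘ₗ S ∘ₗ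
        (LinearMap.fst F L (Fin (n - e) → F)) := by
      apply LinearMap.ext
      intro w
      have h2 : ∀ v : L × (Fin (n - e) → F), (T - 1) v = (((ζ : L) - 1) * v.1, 0) := by
        intro v
        show T v - v = _
        apply Prod.ext
        · show (ζ : L) * v.1 - v.1 = ((ζ : L) - 1) * v.1
          ring
        · show v.2 - v.2 = 0
          rw [sub_self]
      rw [pow_two, Module.End.mul_apply, h2, h2]
      show _ = (S w.1, 0)
      rw [hS]
      show _ = (((ζ : L) - 1) * ((ζ : L) - 1) * w.1, (0 : Fin (n - e) → F))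
      rw [mul_assoc]
    rw [h1]
    have h3 : LinearMap.range (S ∘ₗ (LinearMap.fst F L (Fin (n - e) → F))) = ⊤ := by
      rw [LinearMap.range_eq_top]
      intro y
      refine ⟨((((ζ : L) - 1) * ((ζ : L) - 1))⁻¹ * y, 0), ?_⟩
      show ((ζ : L) - 1) * ((ζ : L) - 1) * ((((ζ : L) - 1) * ((ζ : L) - 1))⁻¹ * y) = y
      rw [← mul_assoc, mul_inv_cancel₀ (mul_ne_zero hζ1 hζ1), one_mul]
    rw [LinearMap.range_comp_of_range_eq_top _ h3,
      LinearMap.finrank_range_of_inj LinearMap.inl_injective, hfr]
  exact exists_derangement f hf hfinW T hdet r 1 (by rw [hTr, one_smul]) hns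
    (not_hasSim_of_odd_rk T r hTr (root_eq_one r hndvd) (by rw [hrk]; exact hodd))

end field


/-! ### (b) diagonal elements -/

section diag

/-- the combinatorial core: the multiset `l, l, l⁻², 1, …, 1` is not symmetric under any
`a ↦ μ / a` -/
theorem no_perm {n : ℕ} (hn : 4 ≤ n) (he : Even n) (r : ℕ) (hgap : ¬ (n = 6 ∧ r = 3)) (l : F)
    (hl0 : l ≠ 0) (hl1 : l ≠ 1) (hl2 : l ^ 2 ≠ 1) (hl4 : l ^ 4 ≠ 1) (hl3 : l ^ 3 = 1 → r = 3)
    (d : Fin n → F) (hd0 : ∀ i : Fin n, i.val < 2 → d i = l)
    (hd2 : ∀ i : Fin n, i.val = 2 → d i = (l⁻¹) ^ 2) (hd3 : ∀ i : Fin n, 3 ≤ i.val → d i = 1)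
    (σ : Equiv.Perm (Fin n)) (μ : F) (key : ∀ i, d (σ i) * d i = μ) : False := by
  have hcases : ∀ j, d j = l ∨ d j = (l⁻¹) ^ 2 ∨ d j = 1 := by
    intro j
    rcases lt_trichotomy j.val 2 with h | h | h
    · exact Or.inl (hd0 j h)
    · exact Or.inr (Or.inl (hd2 j h))
    · exact Or.inr (Or.inr (hd3 j (by omega)))
  have hinv2 : (l⁻¹) ^ 2 ≠ 1 := by
    intro h
    apply hl2
    rw [inv_pow, inv_eq_one] at h
    exact h
  have h1ge : ∀ j, d j = 1 → 3 ≤ j.val := by
    intro j hj
    by_contra hlt
    rcases lt_trichotomy j.val 2 with h | h | h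
    · rw [hd0 j h] at hj; exact hl1 hj
    · rw [hd2 j h] at hj; exact hinv2 hj
    · omega
  let i0 : Fin n := ⟨0, by omega⟩
  let i1 : Fin n := ⟨1, by omega⟩
  let i2 : Fin n := ⟨2, by omega⟩
  let i3 : Fin n := ⟨3, by omega⟩
  have hdi0 : d i0 = l := hd0 i0 (by simp [i0])
  have hdi1 : d i1 = l := hd0 i1 (by simp [i1])
  have hdi2 : d i2 = (l⁻¹) ^ 2 := hd2 i2 (by simp [i2])
  -- `μ ≠ 1`
  have hμ1 : μ ≠ 1 := by
    intro hμ
    have h := key i0
    rw [hdi0, hμ] at h
    rcases hcases (σ i0) with hc | hc | hc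
    · rw [hc] at h
      apply hl2
      rw [pow_two]
      exact h
    · rw [hc] at h
      apply hl1
      have : (l⁻¹) ^ 2 * l = l⁻¹ := by field_simp
      rw [this] at h
      exact inv_eq_one.mp h
    · rw [hc, one_mul] at h
      exact hl1 h
  have hS : ∀ i : Fin n, 3 ≤ i.val → (σ i).val < 3 := by
    intro i hi
    by_contra hge
    have h := key i
    rw [hd3 i hi, hd3 (σ i) (by omega), mul_one] at h
    exact hμ1 h.symm
  have hSμ : ∀ i : Fin n, 3 ≤ i.val → d (σ i) = μ := by
    intro i hi
    have h := key i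
    rw [hd3 i hi, mul_one] at h
    exact h
  -- `n ≤ 6`
  have hn6 : n ≤ 6 := by
    by_contra hgt
    have h7 : 7 ≤ n := by omega
    let τ : Fin 4 → Fin 3 := fun k => ⟨(σ ⟨3 + k.val, by omega⟩).val, hS _ (by simp)⟩
    obtain ⟨k, k', hne, heq⟩ := Fintype.exists_ne_map_eq_of_card_lt τ (by simp)
    have h1 : (σ ⟨3 + k.val, by omega⟩).val = (σ ⟨3 + k'.val, by omega⟩).val := by
      have h0 : (τ k).val = (τ k').val := congrArg Fin.val heq
      exact h0
    have h2 := σ.injective (Fin.ext h1)
    have h3 := congrArg Fin.val h2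
    simp only at h3
    exact hne (Fin.ext (by omega))
  obtain ⟨m, hm⟩ := he
  have hn46 : n = 4 ∨ n = 6 := by omega
  rcases hn46 with h4 | h6
  · -- `n = 4`
    have hlast : ∀ a : Fin n, 3 ≤ a.val → a = i3 := by
      intro a ha
      apply Fin.ext
      have := a.2
      show a.val = 3
      omega
    have hdi3 : d i3 = 1 := hd3 i3 (by simp [i3])
    have hj : (σ i3).val < 3 := hS i3 (by simp [i3])
    have hdj : d (σ i3) = μ := hSμ i3 (by simp [i3])
    have hab : σ i0 ≠ σ i1 := by
      intro h
      have := congrArg Fin.val (σ.injective h)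
      simp [i0, i1] at this
    have ka := key i0
    have kb := key i1
    rw [hdi0] at ka
    rw [hdi1] at kb
    rcases hcases (σ i3) with hc | hc | hc
    · -- `μ = l`
      rw [hc] at hdj
      rw [← hdj] at ka kb
      have ha1 : d (σ i0) = 1 := by
        have : (d (σ i0) - 1) * l = 0 := by linear_combination ka
        rcases mul_eq_zero.mp this with h | h
        · exact sub_eq_zero.mp h
        · exact absurd h hl0
      have hb1 : d (σ i1) = 1 := by
        have : (d (σ i1) - 1) * l = 0 := by linear_combination kb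
        rcases mul_eq_zero.mp this with h | h
        · exact sub_eq_zero.mp h
        · exact absurd h hl0
      exact hab ((hlast _ (h1ge _ ha1)).trans (hlast _ (h1ge _ hb1)).symm)
    · -- `μ = l⁻²`
      rw [hc] at hdj
      rw [← hdj] at ka kb
      have hx : ∀ x : Fin n, d x * l = (l⁻¹) ^ 2 → d x = 1 := by
        intro x hx
        rcases hcases x with h | h | h
        · exfalso
          rw [h] at hx
          apply hl4
          have : l ^ 4 = (l * l) * l ^ 2 := by ring
          rw [this, hx]
          field_simp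
        · exfalso
          rw [h] at hx
          apply hl1
          have h5 : (l⁻¹) ^ 2 * (l - 1) = 0 := by linear_combination hx
          rcases mul_eq_zero.mp h5 with h6 | h6
          · exact absurd h6 (pow_ne_zero 2 (inv_ne_zero hl0))
          · exact sub_eq_zero.mp h6
        · exact h
      exact hab ((hlast _ (h1ge _ (hx _ ka))).trans (hlast _ (h1ge _ (hx _ kb))).symm)
    · have := h1ge _ hc
      omega
  · -- `n = 6`
    let τ : Fin 3 → Fin 3 := fun k => ⟨(σ ⟨3 + k.val, by omega⟩).val, hS _ (by simp)⟩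
    have hτinj : Function.Injective τ := by
      intro k k' heq
      have h1 : (σ ⟨3 + k.val, by omega⟩).val = (σ ⟨3 + k'.val, by omega⟩).val := by
        have h0 : (τ k).val = (τ k').val := congrArg Fin.val heq
        exact h0
      have h2 := σ.injective (Fin.ext h1)
      have h3 := congrArg Fin.val h2
      simp only at h3
      exact Fin.ext (by omega)
    have hτsurj : Function.Surjective τ := Finite.injective_iff_surjective.mp hτinj
    obtain ⟨k, hk⟩ := hτsurj 0
    obtain ⟨k', hk'⟩ := hτsurj 2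
    have e0 : σ ⟨3 + k.val, by omega⟩ = i0 := by
      apply Fin.ext
      have := congrArg Fin.val hk
      simpa [τ, i0] using this
    have e2 : σ ⟨3 + k'.val, by omega⟩ = i2 := by
      apply Fin.ext
      have := congrArg Fin.val hk'
      simpa [τ, i2] using this
    have f0 := hSμ ⟨3 + k.val, by omega⟩ (by simp)
    have f2 := hSμ ⟨3 + k'.val, by omega⟩ (by simp)
    rw [e0, hdi0] at f0
    rw [e2, hdi2] at f2
    have h3 : l ^ 3 = 1 := by
      have h5 : l = (l⁻¹) ^ 2 := f0.trans f2.symm
      have : l ^ 3 = l * l ^ 2 := by ring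
      rw [this]
      nth_rewrite 1 [h5]
      field_simp
    exact hgap ⟨h6, hl3 h3⟩

variable [Fintype F]

theorem derangement_diag {n : ℕ} (hn : 4 ≤ n) (he : Even n)
    (f : (Fin n → F) → (Fin n → F) → F) (hf : Cfsg.Geo.IsSymplecticForm f)
    (r : ℕ) [Fact r.Prime] (hr2 : r ≠ 2) (hgap : ¬ (n = 6 ∧ r = 3))
    (hdvd : r ∣ Fintype.card F - 1) :
    ∃ x : Matrix.SpecialLinearGroup (Fin n) F,
      (∃ z : F, ((x ^ r : Matrix.SpecialLinearGroup (Fin n) F) : Matrix (Fin n) (Fin n) F) =
        z • (1 : Matrix (Fin n) (Fin n) F)) ∧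
      (∀ z : F, (x : Matrix (Fin n) (Fin n) F) ≠ z • (1 : Matrix (Fin n) (Fin n) F)) ∧
      ∀ P : Matrix.SpecialLinearGroup (Fin n) F, P⁻¹ * x * P ∉
        ((Cfsg.Geo.similarityGroup f).comap
          (Matrix.SpecialLinearGroup.toGL : Matrix.SpecialLinearGroup (Fin n) F →* GL (Fin n) F)) := by
  classical
  have hrp : r.Prime := Fact.out
  obtain ⟨u, hu⟩ := exists_prime_orderOf_dvd_card' (G := Fˣ) r (by
    rw [Nat.card_eq_fintype_card, Fintype.card_units]; exact hdvd)
  set l : F := (u : F) with hl
  have hl0 : l ≠ 0 := u.ne_zero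
  have hlk : ∀ k : ℕ, l ^ k = 1 → r ∣ k := by
    intro k hk
    rw [← hu]
    apply orderOf_dvd_of_pow_eq_one
    apply Units.ext
    rw [Units.val_pow_eq_pow_val, Units.val_one]
    exact hk
  have hlr : l ^ r = 1 := by
    rw [hl, ← Units.val_pow_eq_pow_val, ← hu, pow_orderOf_eq_one, Units.val_one]
  have hl1 : l ≠ 1 := by
    intro h
    have := hlk 1 (by rw [pow_one, h])
    exact hrp.one_lt.ne' (Nat.dvd_one.mp this)
  have hr3 : 3 ≤ r := by
    have := hrp.two_le
    omega
  have hl2 : l ^ 2 ≠ 1 := by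
    intro h
    have := Nat.le_of_dvd (by norm_num) (hlk 2 h)
    omega
  have hl4 : l ^ 4 ≠ 1 := by
    intro h
    have h4 : r ∣ 2 ^ 2 := hlk 4 h
    have := hrp.dvd_of_dvd_pow h4
    have := Nat.le_of_dvd (by norm_num) this
    omega
  have hl3 : l ^ 3 = 1 → r = 3 := by
    intro h
    have h3 := hlk 3 h
    exact ((Nat.prime_dvd_prime_iff_eq hrp Nat.prime_three).mp h3)
  let i0 : Fin n := ⟨0, by omega⟩
  let i1 : Fin n := ⟨1, by omega⟩
  let i2 : Fin n := ⟨2, by omega⟩
  let i3 : Fin n := ⟨3, by omega⟩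
  set d : Fin n → F := fun i => if i.val < 2 then l else if i.val = 2 then (l⁻¹) ^ 2 else 1 with hd
  have hd0 : ∀ i : Fin n, i.val < 2 → d i = l := by
    intro i hi
    simp only [hd, if_pos hi]
  have hd2 : ∀ i : Fin n, i.val = 2 → d i = (l⁻¹) ^ 2 := by
    intro i hi
    simp only [hd]
    rw [if_neg (by omega), if_pos hi]
  have hd3 : ∀ i : Fin n, 3 ≤ i.val → d i = 1 := by
    intro i hi
    simp only [hd]
    rw [if_neg (by omega), if_neg (by omega)]
  have hdr : ∀ i, d i ^ r = 1 := by
    intro i
    rcases lt_trichotomy i.val 2 with h | h | h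
    · rw [hd0 i h, hlr]
    · rw [hd2 i h, ← pow_mul, mul_comm, pow_mul, inv_pow, hlr, inv_one, one_pow]
    · rw [hd3 i (by omega), one_pow]
  have hdd : ∀ i, d i = (if i = i0 then l else 1) * (if i = i1 then l else 1) *
      (if i = i2 then (l⁻¹) ^ 2 else 1) := by
    intro i
    rcases lt_trichotomy i.val 2 with h | h | h
    · rw [hd0 i h]
      have h2 : i ≠ i2 := fun e => by have := congrArg Fin.val e; simp [i2] at this; omega
      rw [if_neg h2, mul_one]
      by_cases h0 : i.val = 0
      · have e0 : i = i0 := Fin.ext h0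
        have e1 : i ≠ i1 := fun e => by have := congrArg Fin.val e; simp [i1] at this; omega
        rw [if_pos e0, if_neg e1, mul_one]
      · have e0 : i ≠ i0 := fun e => h0 (congrArg Fin.val e)
        have e1 : i = i1 := Fin.ext (by show i.val = 1; omega)
        rw [if_neg e0, if_pos e1, one_mul]
    · rw [hd2 i h]
      have e0 : i ≠ i0 := fun e => by have := congrArg Fin.val e; simp [i0] at this; omega
      have e1 : i ≠ i1 := fun e => by have := congrArg Fin.val e; simp [i1] at this; omega
      have e2 : i = i2 := Fin.ext h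
      rw [if_neg e0, if_neg e1, if_pos e2, one_mul, one_mul]
    · rw [hd3 i (by omega)]
      have e0 : i ≠ i0 := fun e => by have := congrArg Fin.val e; simp [i0] at this; omega
      have e1 : i ≠ i1 := fun e => by have := congrArg Fin.val e; simp [i1] at this; omega
      have e2 : i ≠ i2 := fun e => by have := congrArg Fin.val e; simp [i2] at this; omega
      rw [if_neg e0, if_neg e1, if_neg e2, one_mul, one_mul]
  have hprod : ∏ i, d i = 1 := by
    simp_rw [hdd]
    rw [Finset.prod_mul_distrib, Finset.prod_mul_distrib,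
      Finset.prod_ite_eq' Finset.univ i0 (fun _ => l),
      Finset.prod_ite_eq' Finset.univ i1 (fun _ => l),
      Finset.prod_ite_eq' Finset.univ i2 (fun _ => (l⁻¹) ^ 2)]
    simp only [Finset.mem_univ, if_true]
    field_simp
  set T : (Fin n → F) →ₗ[F] (Fin n → F) := Matrix.toLin' (Matrix.diagonal d) with hT
  have hfin : finrank F (Fin n → F) = n := by rw [Module.finrank_pi, Fintype.card_fin]
  have hdet : LinearMap.det T = 1 := by
    rw [hT, LinearMap.det_toLin', Matrix.det_diagonal, hprod]
  have hTr : T ^ r = 1 := by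
    have h1 : Matrix.toLin' ((Matrix.diagonal d) ^ r) = (Matrix.toLin' (Matrix.diagonal d)) ^ r :=
      map_pow (Matrix.toLinAlgEquiv' (R := F) (n := Fin n)) (Matrix.diagonal d) r
    rw [hT, ← h1, Matrix.diagonal_pow]
    have : d ^ r = fun _ => (1 : F) := by
      funext i
      exact hdr i
    rw [this, Matrix.diagonal_one, Matrix.toLin'_one]
    rfl
  have hTe : ∀ i, T (Pi.single i 1) = d i • Pi.single i 1 := by
    intro i
    rw [hT, Matrix.toLin'_apply, Matrix.diagonal_mulVec_single, mul_one]
    ext k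
    simp [Pi.single_apply]
  have hns : ∀ c : F, T ≠ c • 1 := by
    intro c hc
    have h0 := congrFun (congrArg (fun S : (Fin n → F) →ₗ[F] (Fin n → F) =>
      S (Pi.single i0 1)) hc) i0
    have h3 := congrFun (congrArg (fun S : (Fin n → F) →ₗ[F] (Fin n → F) =>
      S (Pi.single i3 1)) hc) i3
    simp only [hTe, LinearMap.smul_apply, Module.End.one_apply, Pi.smul_apply, Pi.single_eq_same,
      smul_eq_mul, mul_one] at h0 h3
    rw [hd0 i0 (by simp [i0])] at h0
    rw [hd3 i3 (by simp [i3])] at h3
    exact hl1 (h0.trans h3.symm)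
  have hsim : ∀ μ : F, ¬ HasSim T μ := by
    rintro μ ⟨g, hg1, hg2, hg3⟩
    set G : Matrix (Fin n) (Fin n) F := LinearMap.BilinForm.toMatrix' g with hG
    have hGij : ∀ i j, G i j = g (Pi.single i 1) (Pi.single j 1) := fun i j =>
      LinearMap.BilinForm.toMatrix'_apply g i j
    have hGμ : ∀ i j, (d i * d j - μ) * G i j = 0 := by
      intro i j
      have := hg3 (Pi.single i 1) (Pi.single j 1)
      rw [hTe, hTe, map_smul, map_smul, LinearMap.smul_apply, smul_eq_mul, smul_eq_mul,
        ← hGij] at this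
      linear_combination this
    have hnd : g.Nondegenerate := by
      apply LinearMap.BilinForm.Nondegenerate.ofSeparatingLeft
      intro v hv
      exact hg2 v hv
    have hdetG : G.det ≠ 0 :=
      Matrix.nondegenerate_iff_det_ne_zero.mp
        (LinearMap.BilinForm.nondegenerate_toMatrix'_iff.mpr hnd)
    obtain ⟨σ, hσ⟩ : ∃ σ : Equiv.Perm (Fin n), ∀ i, G (σ i) i ≠ 0 := by
      by_contra hcon
      push Not at hcon
      apply hdetG
      rw [Matrix.det_apply']
      apply Finset.sum_eq_zero
      intro σ _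
      obtain ⟨i, hi⟩ := hcon σ
      rw [Finset.prod_eq_zero (f := fun i => G (σ i) i) (Finset.mem_univ i) hi, mul_zero]
    have key : ∀ i, d (σ i) * d i = μ := by
      intro i
      rcases mul_eq_zero.mp (hGμ (σ i) i) with h | h
      · exact sub_eq_zero.mp h
      · exact absurd h (hσ i)
    exact no_perm hn he r hgap l hl0 hl1 hl2 hl4 hl3 d hd0 hd2 hd3 σ μ key
  exact exists_derangement f hf hfin T hdet r 1 (by rw [hTr, one_smul]) hns hsim

end diag

end Cfsg.Agent.Helper14.SpDerange
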