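import Mathlib

set_option autoImplicit false

/-!
TSP server (S5980): the linear map attached to an adapted family (shared definition).
-/

namespace Cfsg.Agent.Helper14.TSPSigs

universe u

/-- the linear map `Y ↦ Σ_k (Y (0,k) • u k + Y (1,k) • v k)` attached to two families of vectors -/
noncomputable def adaptedMap {F : Type u} [Field F] {V : Type*} [AddCommGroup V] [Module F V] {b : ℕ}
    (u v : Fin b → V) : (Fin 2 × Fin b → F) →ₗ[F] V :=
  ∑ k : Fin b, ((LinearMap.proj ((0 : Fin 2), k)).smulRight (u k) +
    (LinearMap.proj ((1 : Fin 2), k)).smulRight (v k))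

theorem adaptedMap_apply {F : Type u} [Field F] {V : Type*} [AddCommGroup V] [Module F V] {b : ℕ}
    (u v : Fin b → V) (Y : Fin 2 × Fin b → F) :
    adaptedMap u v Y = ∑ k : Fin b, (Y (0, k) • u k + Y (1, k) • v k) := by
  unfold adaptedMap
  rw [LinearMap.sum_apply]
  rfl

end Cfsg.Agent.Helper14.TSPSigs
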