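import Mathlib
import Cfsg.Agent.Lib.Helper14.PolarDerange
import Cfsg.Agent.Lib.Helper13.SympGeom

set_option autoImplicit false

/-!
TSP server (S5980): (C4), (C5) minimal-support elements of odd prime order `r ∤ q` of `Sp_{2d}(q)`.
-/

namespace Cfsg.Agent.Helper14.TSPC45

open Matrix Module Polynomial Cfsg.Agent.S0776 Cfsg.Agent.Helper13
open Cfsg.Agent.Helper42.SemiConj Cfsg.Agent.Helper44.StarInv Cfsg.Agent.Helper44.SpBlocks

universe u

variable {F : Type u} [Field F] [Fintype F]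

/-- transfer of a symplectic matrix with prescribed primary dimensions to `spGL` -/
theorem transfer (d r : ℕ) (A : Matrix.symplecticGroup (Fin d) F) (hA : A ^ r = 1) :
    ∃ x : GL (Fin d ⊕ Fin d) F, x ∈ Cfsg.spGL d F ∧ x.val ^ r = 1 ∧ x.val = A.val := by
  refine ⟨((toSpGL A : Cfsg.spGL d F) : GL (Fin d ⊕ Fin d) F), (toSpGL A).2, ?_, rfl⟩
  show A.val ^ r = 1
  have := congrArg Subtype.val hA
  rw [SubmonoidClass.coe_pow] at this
  exact this

variable (p : ℕ) [Fact p.Prime] [CharP F p]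

/-- (C4) -/
theorem exists_block_even (d : ℕ) (r : ℕ) (hr : r.Prime)
    (hr2 : r ≠ 2) (hrp : r ≠ p) (j : ℕ) (hjd : j ≤ d) (hdvd : r ∣ Fintype.card F ^ j + 1) :
    ∃ x : GL (Fin d ⊕ Fin d) F, x ∈ Cfsg.spGL d F ∧ ∃ f₀ : F[X], x.val ^ r = 1 ∧
      Irreducible f₀ ∧ f₀.natDegree = orderOf ((Fintype.card F : ℕ) : ZMod r) ∧
      kdi x.val f₀ = f₀.natDegree ∧ kdi x.val (X - C 1) + f₀.natDegree = 2 * d := by
  classical
  haveI : Fact r.Prime := ⟨hr⟩
  set q := Fintype.card F with hq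
  set e := orderOf ((q : ℕ) : ZMod r) with he
  have hqj : ((q : ℕ) : ZMod r) ^ j = -1 := by
    have h1 : (((q ^ j + 1 : ℕ) : ℕ) : ZMod r) = 0 := (ZMod.natCast_eq_zero_iff _ _).mpr hdvd
    rw [Nat.cast_add, Nat.cast_pow, Nat.cast_one] at h1
    exact eq_neg_of_add_eq_zero_left h1
  have hne : (-1 : ZMod r) ≠ 1 := by
    intro h
    have h2 : (2 : ZMod r) = 0 := by
      have : (1 : ZMod r) + 1 = 0 := by
        nth_rewrite 1 [← h]
        ring
      rw [← this]; norm_num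
    have h3 : ((2 : ℕ) : ZMod r) = 0 := by exact_mod_cast h2
    rw [ZMod.natCast_eq_zero_iff] at h3
    exact hr2 ((Nat.prime_dvd_prime_iff_eq hr Nat.prime_two).mp h3)
  have h2j : ((q : ℕ) : ZMod r) ^ (2 * j) = 1 := by
    rw [mul_comm, pow_mul, hqj]; ring
  have hdvd2 : e ∣ 2 * j := orderOf_dvd_of_pow_eq_one h2j
  have hndvd : ¬ e ∣ j := by
    intro h
    have := orderOf_dvd_iff_pow_eq_one.mp h
    rw [hqj] at this
    exact hne this
  have hev : Even e := by
    by_contra hodd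
    rw [Nat.not_even_iff_odd] at hodd
    have hcop : Nat.Coprime e 2 := hodd.coprime_two_right
    exact hndvd (hcop.dvd_of_dvd_mul_left hdvd2)
  obtain ⟨e', he'⟩ := hev
  have he'j : e' ∣ j := by
    have : 2 * e' ∣ 2 * j := by
      have h1 : e' + e' = 2 * e' := by ring
      rw [← h1, ← he']; exact hdvd2
    exact (Nat.mul_dvd_mul_iff_left (by norm_num)).mp this
  have hjpos : 0 < j := by
    rcases Nat.eq_zero_or_pos j with h0 | h0
    · exfalso
      apply hndvd
      rw [h0]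
      exact dvd_zero _
    · exact h0
  have he'd : e' ≤ d := le_trans (Nat.le_of_dvd hjpos he'j) hjd
  have hcard := cyc_card (F := F) r hr hrp
  rw [← hq, ← he] at hcard
  have hr3 : 2 ≤ r - 1 := by
    have := hr.two_le
    rcases Nat.lt_or_ge 2 r with h | h
    · omega
    · exact absurd (by omega) hr2
  have hnonempty : (cycFactors F r).Nonempty := by
    rw [Finset.nonempty_iff_ne_empty]
    intro h0
    rw [h0, Finset.card_empty, zero_mul] at hcard
    omega
  obtain ⟨f₀, hf₀⟩ := hnonempty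
  have hdeg : f₀.natDegree = e := cyc_natDegree r hr hrp f₀ hf₀
  have hst : star r f₀ = f₀ :=
    star_eq_self_of_even r hr hrp f₀ hf₀ (by rw [← hq, ← he]; exact ⟨e', he'⟩)
  have hfp := mem_pow_of_mem_cyc r f₀ hf₀
  have hne1 : f₀ ≠ X - 1 := by
    intro h
    rw [h] at hf₀
    exact X_sub_one_notMem_cyc r hr hrp hf₀
  have h1 := spReal_self r hr hr2 hrp f₀ hf₀ hst
  have h2 := spReal_pair (F := F) r hr hrp (X - 1) (X_sub_one_mem_pow r)
  have h3 := spReal_nsmul _ r _ h2 (d - e')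
  have h4 := spReal_add _ r _ _ h1 h3
  have hX1 : (X - 1 : F[X]).natDegree = 1 := by
    have h1 : (X - 1 : F[X]) = X - C 1 := by rw [map_one]
    rw [h1]; exact natDegree_X_sub_C 1
  have hsum : ∑ f ∈ powFactors F r, ((if f = f₀ then f₀.natDegree else 0) +
      (d - e') * ((if f = X - 1 then (X - 1 : F[X]).natDegree else 0) +
        (if f = star r (X - 1) then (X - 1 : F[X]).natDegree else 0))) = 2 * d := by
    rw [Finset.sum_add_distrib, ← Finset.mul_sum, Finset.sum_add_distrib, star_X_sub_one,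
      Finset.sum_ite_eq' (powFactors F r) f₀, if_pos hfp,
      Finset.sum_ite_eq' (powFactors F r) (X - 1 : F[X]), if_pos (X_sub_one_mem_pow r), hX1, hdeg]
    omega
  obtain ⟨A, hA1, hA2⟩ := exists_sp_of_real d r hr hrp _ h4 hsum
  obtain ⟨x, hx, hxr, hxA⟩ := transfer d r A hA1
  refine ⟨x, hx, f₀, hxr, cyc_irr r f₀ hf₀, hdeg, ?_, ?_⟩
  · rw [hxA, hA2 f₀ hfp, if_pos rfl, if_neg hne1, star_X_sub_one, if_neg hne1]
    simp
  · have hC1 : (X - C 1 : F[X]) = X - 1 := by rw [map_one]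
    rw [hxA, hC1, hA2 (X - 1) (X_sub_one_mem_pow r), if_neg (Ne.symm hne1), if_pos rfl,
      star_X_sub_one, if_pos rfl, hX1, hdeg]
    omega

/-- (C5) -/
theorem exists_block_odd (d : ℕ) (r : ℕ) (hr : r.Prime)
    (hr2 : r ≠ 2) (hrp : r ≠ p) (hodd : Odd (orderOf ((Fintype.card F : ℕ) : ZMod r)))
    (hle : orderOf ((Fintype.card F : ℕ) : ZMod r) ≤ d) :
    ∃ x : GL (Fin d ⊕ Fin d) F, x ∈ Cfsg.spGL d F ∧ ∃ f₀ : F[X], x.val ^ r = 1 ∧
      Irreducible f₀ ∧ f₀.natDegree = orderOf ((Fintype.card F : ℕ) : ZMod r) ∧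
      kdi x.val f₀ = f₀.natDegree ∧ kdi x.val (X - C 1) + 2 * f₀.natDegree = 2 * d := by
  classical
  haveI : Fact r.Prime := ⟨hr⟩
  set q := Fintype.card F with hq
  set e := orderOf ((q : ℕ) : ZMod r) with he
  have hcard := cyc_card (F := F) r hr hrp
  rw [← hq, ← he] at hcard
  have hr3 : 2 ≤ r - 1 := by
    have := hr.two_le
    rcases Nat.lt_or_ge 2 r with h | h
    · omega
    · exact absurd (by omega) hr2
  have hnonempty : (cycFactors F r).Nonempty := by
    rw [Finset.nonempty_iff_ne_empty]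
    intro h0
    rw [h0, Finset.card_empty, zero_mul] at hcard
    omega
  obtain ⟨f₀, hf₀⟩ := hnonempty
  have hdeg : f₀.natDegree = e := cyc_natDegree r hr hrp f₀ hf₀
  have hst : star r f₀ ≠ f₀ := star_ne_self_of_odd r hr hr2 hrp f₀ hf₀ (by rw [← hq, ← he]; exact hodd)
  have hfp := mem_pow_of_mem_cyc r f₀ hf₀
  have hsfp := star_mem r hr hrp f₀ hfp
  have hne1 : f₀ ≠ X - 1 := by
    intro h
    rw [h] at hf₀
    exact X_sub_one_notMem_cyc r hr hrp hf₀
  have hsne1 : star r f₀ ≠ X - 1 := by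
    intro h
    have h5 := star_mem_cyc r hr hrp f₀ hf₀
    rw [h] at h5
    exact X_sub_one_notMem_cyc r hr hrp h5
  have h1 := spReal_pair (F := F) r hr hrp f₀ hfp
  have h2 := spReal_pair (F := F) r hr hrp (X - 1) (X_sub_one_mem_pow r)
  have h3 := spReal_nsmul _ r _ h2 (d - e)
  have h4 := spReal_add _ r _ _ h1 h3
  have hX1 : (X - 1 : F[X]).natDegree = 1 := by
    have h1 : (X - 1 : F[X]) = X - C 1 := by rw [map_one]
    rw [h1]; exact natDegree_X_sub_C 1
  have hsum : ∑ f ∈ powFactors F r, (((if f = f₀ then f₀.natDegree else 0) +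
      (if f = star r f₀ then f₀.natDegree else 0)) +
      (d - e) * ((if f = X - 1 then (X - 1 : F[X]).natDegree else 0) +
        (if f = star r (X - 1) then (X - 1 : F[X]).natDegree else 0))) = 2 * d := by
    rw [Finset.sum_add_distrib, Finset.sum_add_distrib, ← Finset.mul_sum, Finset.sum_add_distrib,
      star_X_sub_one, Finset.sum_ite_eq' (powFactors F r) f₀, if_pos hfp,
      Finset.sum_ite_eq' (powFactors F r) (star r f₀), if_pos hsfp,
      Finset.sum_ite_eq' (powFactors F r) (X - 1 : F[X]), if_pos (X_sub_one_mem_pow r), hX1, hdeg]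
    omega
  obtain ⟨A, hA1, hA2⟩ := exists_sp_of_real d r hr hrp _ h4 hsum
  obtain ⟨x, hx, hxr, hxA⟩ := transfer d r A hA1
  refine ⟨x, hx, f₀, hxr, cyc_irr r f₀ hf₀, hdeg, ?_, ?_⟩
  · rw [hxA, hA2 f₀ hfp, if_pos rfl, if_neg (Ne.symm hst), if_neg hne1, star_X_sub_one,
      if_neg hne1]
    simp
  · have hC1 : (X - C 1 : F[X]) = X - 1 := by rw [map_one]
    rw [hxA, hC1, hA2 (X - 1) (X_sub_one_mem_pow r), if_neg (Ne.symm hne1),
      if_neg (Ne.symm hsne1), if_pos rfl, star_X_sub_one, if_pos rfl, hX1, hdeg]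
    omega

end Cfsg.Agent.Helper14.TSPC45
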