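import Mathlib
import Cfsg.Prelude.Def_GeometricClasses
import Cfsg.Agent.Lib.Helper14.TensorStab

set_option autoImplicit false

/-!
Membership in `Cfsg.Geo.tensorProductSubgroup` in terms of an intertwining linear equivalence.
-/

namespace Cfsg.Agent.Helper14.TensorMem

open Matrix Module
open scoped Kronecker

universe u

variable {F : Type u} [Field F] {a b n : ℕ}

/-- multiplication by an invertible matrix as a linear equivalence -/
noncomputable def glLin (P : GL (Fin n) F) : (Fin n → F) ≃ₗ[F] (Fin n → F) :=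
  LinearEquiv.ofLinearMap (Matrix.toLin' P.val) (Matrix.toLin' P⁻¹.val)
    (by rw [← Matrix.toLin'_mul, ← Units.val_mul, mul_inv_cancel, Units.val_one, Matrix.toLin'_one])
    (by rw [← Matrix.toLin'_mul, ← Units.val_mul, inv_mul_cancel, Units.val_one, Matrix.toLin'_one])

theorem glLin_apply (P : GL (Fin n) F) (v : Fin n → F) : glLin P v = P.val *ᵥ v := by
  show Matrix.toLin' P.val v = _
  rw [Matrix.toLin'_apply]

/-- the coordinate change attached to a tensor decomposition -/
noncomputable def phi (e : Fin n ≃ Fin a × Fin b) (P : GL (Fin n) F) :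
    (Fin n → F) ≃ₗ[F] (Fin a × Fin b → F) :=
  (glLin P⁻¹).trans (LinearEquiv.funCongrLeft F F e.symm)

theorem phi_apply (e : Fin n ≃ Fin a × Fin b) (P : GL (Fin n) F) (v : Fin n → F) :
    phi e P v = (P⁻¹.val *ᵥ v) ∘ e.symm := by
  show (LinearEquiv.funCongrLeft F F e.symm) (glLin P⁻¹ v) = _
  rw [glLin_apply]
  rfl

theorem phi_conj (e : Fin n ≃ Fin a × Fin b) (P : GL (Fin n) F) (k : GL (Fin a × Fin b) F)
    (v : Fin n → F) :
    phi e P ((((MulAut.conj P).toMonoidHom ((Cfsg.Geo.glReindex e.symm).toMonoidHom k) :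
      GL (Fin n) F) : Matrix (Fin n) (Fin n) F) *ᵥ v) = k.val *ᵥ phi e P v := by
  rw [phi_apply, phi_apply]
  have h1 : (((MulAut.conj P).toMonoidHom ((Cfsg.Geo.glReindex e.symm).toMonoidHom k) :
      GL (Fin n) F) : Matrix (Fin n) (Fin n) F) =
      P.val * (k.val.submatrix e e) * P⁻¹.val := by
    show (P * (Cfsg.Geo.glReindex e.symm k) * P⁻¹).val = _
    rw [Units.val_mul, Units.val_mul]
    rfl
  have h3 : ∀ w : Fin n → F, P⁻¹.val *ᵥ (P.val *ᵥ w) = w := by
    intro w
    rw [Matrix.mulVec_mulVec, ← Units.val_mul, inv_mul_cancel, Units.val_one, Matrix.one_mulVec]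
  rw [h1, ← Matrix.mulVec_mulVec, ← Matrix.mulVec_mulVec, h3, Matrix.submatrix_mulVec_equiv]
  funext ij
  simp

/-- Kronecker product of invertible matrices -/
def kronGL (A : GL (Fin a) F) (B : GL (Fin b) F) : GL (Fin a × Fin b) F :=
  ⟨A.val ⊗ₖ B.val, A⁻¹.val ⊗ₖ B⁻¹.val, by
    rw [← Matrix.mul_kronecker_mul, ← Units.val_mul, ← Units.val_mul, mul_inv_cancel,
      mul_inv_cancel, Units.val_one, Units.val_one, Matrix.one_kronecker_one], by
    rw [← Matrix.mul_kronecker_mul, ← Units.val_mul, ← Units.val_mul, inv_mul_cancel,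
      inv_mul_cancel, Units.val_one, Units.val_one, Matrix.one_kronecker_one]⟩

theorem kronGL_mem (A : GL (Fin a) F) (B : GL (Fin b) F) :
    kronGL A B ∈ Cfsg.Geo.kroneckerSubgroup a b F := ⟨A, B, rfl⟩

/-- membership in the stabiliser of a tensor decomposition -/
theorem mem_tensor_iff (e : Fin n ≃ Fin a × Fin b) (P : GL (Fin n) F) (y : GL (Fin n) F) :
    y ∈ Cfsg.Geo.tensorProductSubgroup a b e P ↔
      ∃ (A : GL (Fin a) F) (B : GL (Fin b) F), ∀ v,
        phi e P (y.val *ᵥ v) = (A.val ⊗ₖ B.val) *ᵥ phi e P v := by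
  constructor
  · intro hy
    unfold Cfsg.Geo.tensorProductSubgroup at hy
    rw [Subgroup.mem_map] at hy
    obtain ⟨y', hy', rfl⟩ := hy
    rw [Subgroup.mem_map] at hy'
    obtain ⟨k, hk, rfl⟩ := hy'
    obtain ⟨A, B, hAB⟩ := hk
    refine ⟨A, B, ?_⟩
    intro v
    rw [phi_conj, hAB]
  · rintro ⟨A, B, hAB⟩
    have hy : y = (MulAut.conj P).toMonoidHom
        ((Cfsg.Geo.glReindex e.symm).toMonoidHom (kronGL A B)) := by
      apply Units.ext
      apply Matrix.toLin'.injective
      apply LinearMap.ext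
      intro v
      rw [Matrix.toLin'_apply, Matrix.toLin'_apply]
      apply (phi e P).injective
      rw [hAB, phi_conj]
      rfl
    rw [hy]
    unfold Cfsg.Geo.tensorProductSubgroup
    exact Subgroup.mem_map_of_mem _ (Subgroup.mem_map_of_mem _ (kronGL_mem A B))

/-- an element conjugate into the stabiliser of a tensor decomposition is a Kronecker product up to
a linear equivalence -/
theorem isKron_of_conj_mem (e : Fin n ≃ Fin a × Fin b) (P : GL (Fin n) F) (x g : GL (Fin n) F)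
    (h : g⁻¹ * x * g ∈ Cfsg.Geo.tensorProductSubgroup a b e P) :
    Cfsg.Agent.Helper14.TensorStab.IsKron a b x.val := by
  obtain ⟨A, B, hAB⟩ := (mem_tensor_iff e P _).mp h
  refine ⟨(glLin g⁻¹).trans (phi e P), A, B, ?_⟩
  intro v
  have h1 := hAB (g⁻¹.val *ᵥ v)
  have h2 : (g⁻¹ * x * g).val *ᵥ (g⁻¹.val *ᵥ v) = g⁻¹.val *ᵥ (x.val *ᵥ v) := by
    rw [Units.val_mul, Units.val_mul, Matrix.mulVec_mulVec, Matrix.mul_assoc, ← Units.val_mul g,
      mul_inv_cancel, Units.val_one, Matrix.mul_one, Matrix.mulVec_mulVec]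
  rw [h2] at h1
  show phi e P (glLin g⁻¹ (x.val *ᵥ v)) = _ *ᵥ phi e P (glLin g⁻¹ v)
  rw [glLin_apply, glLin_apply]
  exact h1

end Cfsg.Agent.Helper14.TensorMem
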