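import Mathlib
import Cfsg.Prelude.Def_GeometricClasses
import Cfsg.Agent.Lib.Helper14.TensorStab
import Cfsg.Agent.Lib.Helper14.TensorMem
import Cfsg.Agent.Lib.Helper44.KdIdx

set_option autoImplicit false

/-!
TSP server (S5980): Kronecker products over an arbitrary finite index type.
-/

namespace Cfsg.Agent.Helper14.TSP

open Matrix Module Polynomial
open scoped Kronecker
open Cfsg.Agent.Helper14.TensorStab Cfsg.Agent.Helper14.TensorMem
open Cfsg.Agent.Helper42.SemiConj Cfsg.Agent.Helper44.StarInv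

universe u

variable {F : Type u} [Field F] {ι : Type} [Fintype ι] [DecidableEq ι] {a b : ℕ}

/-- `x` is linearly equivalent to a Kronecker product of invertible matrices (general index type) -/
def IsKronS (a b : ℕ) (x : Matrix ι ι F) : Prop :=
  ∃ (Ψ : (ι → F) ≃ₗ[F] (Fin a × Fin b → F)) (A : GL (Fin a) F) (B : GL (Fin b) F),
    ∀ v, Ψ (x *ᵥ v) = ((A : Matrix (Fin a) (Fin a) F) ⊗ₖ (B : Matrix (Fin b) (Fin b) F)) *ᵥ Ψ v

/-- multiplication by an invertible matrix as a linear equivalence -/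
noncomputable def glLinS (P : GL ι F) : (ι → F) ≃ₗ[F] (ι → F) :=
  LinearEquiv.ofLinearMap (Matrix.toLin' P.val) (Matrix.toLin' P⁻¹.val)
    (by rw [← Matrix.toLin'_mul, ← Units.val_mul, mul_inv_cancel, Units.val_one, Matrix.toLin'_one])
    (by rw [← Matrix.toLin'_mul, ← Units.val_mul, inv_mul_cancel, Units.val_one, Matrix.toLin'_one])

theorem glLinS_apply (P : GL ι F) (v : ι → F) : glLinS P v = P.val *ᵥ v := by
  show Matrix.toLin' P.val v = _
  rw [Matrix.toLin'_apply]

/-- the coordinate change attached to a tensor decomposition -/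
noncomputable def phiS (e : ι ≃ Fin a × Fin b) (P : GL ι F) :
    (ι → F) ≃ₗ[F] (Fin a × Fin b → F) :=
  (glLinS P⁻¹).trans (LinearEquiv.funCongrLeft F F e.symm)

theorem phiS_apply (e : ι ≃ Fin a × Fin b) (P : GL ι F) (v : ι → F) :
    phiS e P v = (P⁻¹.val *ᵥ v) ∘ e.symm := by
  show (LinearEquiv.funCongrLeft F F e.symm) (glLinS P⁻¹ v) = _
  rw [glLinS_apply]
  rfl

theorem phiS_symm_apply (e : ι ≃ Fin a × Fin b) (P : GL ι F) (X : Fin a × Fin b → F) :
    (phiS e P).symm X = P.val *ᵥ (X ∘ e) := by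
  apply (phiS e P).injective
  rw [LinearEquiv.apply_symm_apply, phiS_apply, Matrix.mulVec_mulVec, ← Units.val_mul,
    inv_mul_cancel, Units.val_one, Matrix.one_mulVec]
  funext ij
  simp

theorem phiS_conj (e : ι ≃ Fin a × Fin b) (P : GL ι F) (k : GL (Fin a × Fin b) F)
    (v : ι → F) :
    phiS e P ((((MulAut.conj P).toMonoidHom ((Cfsg.Geo.glReindex e.symm).toMonoidHom k) :
      GL ι F) : Matrix ι ι F) *ᵥ v) = k.val *ᵥ phiS e P v := by
  rw [phiS_apply, phiS_apply]
  have h1 : (((MulAut.conj P).toMonoidHom ((Cfsg.Geo.glReindex e.symm).toMonoidHom k) :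
      GL ι F) : Matrix ι ι F) =
      P.val * (k.val.submatrix e e) * P⁻¹.val := by
    show (P * (Cfsg.Geo.glReindex e.symm k) * P⁻¹).val = _
    rw [Units.val_mul, Units.val_mul]
    rfl
  have h3 : ∀ w : ι → F, P⁻¹.val *ᵥ (P.val *ᵥ w) = w := by
    intro w
    rw [Matrix.mulVec_mulVec, ← Units.val_mul, inv_mul_cancel, Units.val_one, Matrix.one_mulVec]
  rw [h1, ← Matrix.mulVec_mulVec, ← Matrix.mulVec_mulVec, h3, Matrix.submatrix_mulVec_equiv]
  funext ij
  simp

/-- membership in the stabiliser of a tensor decomposition -/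
theorem mem_tensorS_iff (e : ι ≃ Fin a × Fin b) (P : GL ι F) (y : GL ι F) :
    y ∈ Cfsg.Geo.tensorProductSubgroup a b e P ↔
      ∃ (A : GL (Fin a) F) (B : GL (Fin b) F), ∀ v,
        phiS e P (y.val *ᵥ v) = (A.val ⊗ₖ B.val) *ᵥ phiS e P v := by
  constructor
  · intro hy
    unfold Cfsg.Geo.tensorProductSubgroup at hy
    rw [Subgroup.mem_map] at hy
    obtain ⟨y', hy', rfl⟩ := hy
    rw [Subgroup.mem_map] at hy'
    obtain ⟨k, hk, rfl⟩ := hy'
    obtain ⟨A, B, hAB⟩ := hk
    refine ⟨A, B, ?_⟩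
    intro v
    rw [phiS_conj, hAB]
  · rintro ⟨A, B, hAB⟩
    have hy : y = (MulAut.conj P).toMonoidHom
        ((Cfsg.Geo.glReindex e.symm).toMonoidHom (kronGL A B)) := by
      apply Units.ext
      apply Matrix.toLin'.injective
      apply LinearMap.ext
      intro v
      rw [Matrix.toLin'_apply, Matrix.toLin'_apply]
      apply (phiS e P).injective
      rw [hAB, phiS_conj]
      rfl
    rw [hy]
    unfold Cfsg.Geo.tensorProductSubgroup
    exact Subgroup.mem_map_of_mem _ (Subgroup.mem_map_of_mem _ (kronGL_mem A B))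

/-- an element conjugate into the stabiliser of a tensor decomposition is a Kronecker product up to
a linear equivalence -/
theorem isKronS_of_conj_mem (e : ι ≃ Fin a × Fin b) (P : GL ι F) (x g : GL ι F)
    (h : g⁻¹ * x * g ∈ Cfsg.Geo.tensorProductSubgroup a b e P) :
    IsKronS a b x.val := by
  obtain ⟨A, B, hAB⟩ := (mem_tensorS_iff e P _).mp h
  refine ⟨(glLinS g⁻¹).trans (phiS e P), A, B, ?_⟩
  intro v
  have h1 := hAB (g⁻¹.val *ᵥ v)
  have h2 : (g⁻¹ * x * g).val *ᵥ (g⁻¹.val *ᵥ v) = g⁻¹.val *ᵥ (x.val *ᵥ v) := by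
    rw [Units.val_mul, Units.val_mul, Matrix.mulVec_mulVec, Matrix.mul_assoc, ← Units.val_mul g,
      mul_inv_cancel, Units.val_one, Matrix.mul_one, Matrix.mulVec_mulVec]
  rw [h2] at h1
  show phiS e P (glLinS g⁻¹ (x.val *ᵥ v)) = _ *ᵥ phiS e P (glLinS g⁻¹ v)
  rw [glLinS_apply, glLinS_apply]
  exact h1

/-- intertwined with `1 ⊗ B`: all primary dimensions are multiples of `a` -/
theorem kdi_of_left_scalar (x : Matrix ι ι F)
    (Ψ : (ι → F) ≃ₗ[F] (Fin a × Fin b → F)) (A : Matrix (Fin a) (Fin a) F)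
    (B : Matrix (Fin b) (Fin b) F)
    (hΨ : ∀ v, Ψ (x *ᵥ v) = (A ⊗ₖ B) *ᵥ Ψ v) (α : F) (hα : A = α • 1) (f : F[X]) :
    kdi x f = a * kdi (α • B) f := by
  have hM : A ⊗ₖ B = (1 : Matrix (Fin a) (Fin a) F) ⊗ₖ (α • B) := by
    rw [hα, Matrix.smul_kronecker, Matrix.kronecker_smul]
  unfold kdi
  rw [← finrank_ker_one_kron, ← hM]
  apply finrank_ker_aeval_eq_of_conj Ψ
  intro v
  rw [Matrix.toLin'_apply, Matrix.toLin'_apply]
  exact hΨ v

/-- a Kronecker product with a large eigenspace has a scalar first factor: criterion (A) -/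
theorem not_isKronS_of_large [Fintype F] (hn : Fintype.card ι = a * b) (M : Matrix ι ι F) (l : F)
    (hlarge : Fintype.card ι < kdi M (X - C l) + b)
    (f : F[X]) (hirr : Irreducible f)
    (hnd : ¬ a * f.natDegree ∣ kdi M f) : ¬ IsKronS a b M := by
  rintro ⟨Ψ, A, B, hΨ⟩
  have hconj : ∀ v, Ψ (Matrix.toLin' M v) =
      Matrix.toLin' ((A : Matrix (Fin a) (Fin a) F) ⊗ₖ (B : Matrix (Fin b) (Fin b) F)) (Ψ v) := by
    intro v
    rw [Matrix.toLin'_apply, Matrix.toLin'_apply]
    exact hΨ v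
  have h1 := finrank_ker_aeval_eq_of_conj Ψ _ _ hconj (X - C l)
  unfold kdi at hlarge
  rw [h1, TensorStab.aeval_X_sub_C, hn] at hlarge
  obtain ⟨α, hα⟩ := scalar_of_large_ker (A : Matrix (Fin a) (Fin a) F)
    (B : Matrix (Fin b) (Fin b) F) (gl_mulVec_eq_zero B) l hlarge
  apply hnd
  rw [kdi_of_left_scalar M Ψ _ _ hΨ α hα f]
  exact Nat.mul_dvd_mul_left a (natDegree_dvd_kdi _ f hirr)

/-- a matrix with a proper non-zero fixed space is not scalar -/
theorem not_scalar_of_kdi (M : Matrix ι ι F) (h0 : 0 < kdi M (X - C 1))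
    (h1 : kdi M (X - C 1) < Fintype.card ι) (z : F) : M ≠ z • (1 : Matrix ι ι F) := by
  intro hM
  unfold kdi at h0 h1
  rw [TensorStab.aeval_X_sub_C, hM, one_smul] at h0 h1
  have hT : Matrix.toLin' (z • (1 : Matrix ι ι F)) - (1 : Module.End F (ι → F)) =
      (z - 1) • (1 : Module.End F (ι → F)) := by
    rw [map_smul, Matrix.toLin'_one]
    apply LinearMap.ext
    intro v
    simp [sub_smul]
  rw [hT] at h0 h1
  by_cases hz : z - 1 = 0
  · rw [hz, zero_smul, LinearMap.ker_zero, finrank_top, Module.finrank_fintype_fun_eq_card] at h1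
    exact lt_irrefl _ h1
  · have : LinearMap.ker ((z - 1) • (1 : Module.End F (ι → F))) = ⊥ := by
      rw [LinearMap.ker_eq_bot']
      intro v hv
      rw [LinearMap.smul_apply, Module.End.one_apply] at hv
      exact (smul_eq_zero.mp hv).resolve_left hz
    rw [this, finrank_bot] at h0
    exact lt_irrefl _ h0

end Cfsg.Agent.Helper14.TSP
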