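import Mathlib

set_option autoImplicit false

/-!
TSP server (S5980): (K1) invariant subspaces without fixed vectors of an operator of prime order.
-/

namespace Cfsg.Agent.Helper14.TSPK1

open Module

universe u

variable {F : Type u} [Field F] [Fintype F]

theorem dvd_finrank_of_invariant {V : Type*} [AddCommGroup V] [Module F V] [FiniteDimensional F V]
    (T : V →ₗ[F] V) (r : ℕ) (hr : r.Prime) (hT : T ^ r = 1) (N : Submodule F V)
    (hN : ∀ v ∈ N, T v ∈ N) (hfix : ∀ v ∈ N, T v = v → v = 0) :
    orderOf ((Fintype.card F : ℕ) : ZMod r) ∣ finrank F N := by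
  classical
  haveI : Fact r.Prime := ⟨hr⟩
  haveI : Finite N := Module.finite_of_finite F
  haveI : Fintype N := Fintype.ofFinite N
  let f : Function.End N := fun v => ⟨T v, hN v v.2⟩
  have hpow : ∀ (k : ℕ) (v : N), ((f ^ k) v : V) = (T ^ k) v := by
    intro k
    induction k with
    | zero => intro v; rfl
    | succ k ih =>
      intro v
      rw [pow_succ', pow_succ']
      show ((f ((f ^ k) v) : N) : V) = T ((T ^ k) v)
      rw [← ih v]
  have hf : f ^ r ^ 1 = 1 := by
    rw [pow_one]
    funext v
    apply Subtype.ext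
    rw [hpow, hT]
    rfl
  have hmod := Equiv.Perm.card_fixedPoints_modEq (p := r) (n := 1) hf
  have hfp : Fintype.card (Function.fixedPoints f) = 1 := by
    rw [Fintype.card_eq_one_iff]
    refine ⟨⟨0, ?_⟩, ?_⟩
    · show f 0 = 0
      apply Subtype.ext
      show T ((0 : N) : V) = ((0 : N) : V)
      rw [Submodule.coe_zero, map_zero]
    · rintro ⟨v, hv⟩
      apply Subtype.ext
      show v = 0
      have h1 : f v = v := hv
      have h2 : T (v : V) = v := congrArg Subtype.val h1
      apply Subtype.ext
      exact hfix v v.2 h2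
  rw [hfp, Module.card_eq_pow_finrank (K := F) (V := N)] at hmod
  apply orderOf_dvd_of_pow_eq_one
  have h3 : ((Fintype.card F ^ finrank F N : ℕ) : ZMod r) = ((1 : ℕ) : ZMod r) :=
    (ZMod.natCast_eq_natCast_iff _ _ _).mpr hmod
  rw [Nat.cast_pow, Nat.cast_one] at h3
  exact h3

end Cfsg.Agent.Helper14.TSPK1
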