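import Mathlib
import Cfsg.Agent.Lib.Helper14.TSPDefs
import Cfsg.Agent.Lib.Helper14.TSPK1
import Cfsg.Agent.Lib.Helper70.TSPK2

set_option autoImplicit false

/-!
TSP server (S5980): (K3) the fixed space of a Kronecker product of two operators of prime order.
-/

namespace Cfsg.Agent.Helper14.TSPK3

open Matrix Module Polynomial
open scoped Kronecker
open Cfsg.Agent.Helper44.StarInv Cfsg.Agent.Helper14.TSPK1 Cfsg.Agent.Helper70.TSP

universe u

section op

variable {F : Type u} [Field F] {V : Type*} [AddCommGroup V] [Module F V]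

theorem pow_apply_of_fixed (T : V →ₗ[F] V) (v : V) (h : T v = v) (k : ℕ) : (T ^ k) v = v := by
  induction k with
  | zero => rfl
  | succ k ih => rw [pow_succ, Module.End.mul_apply, h, ih]

theorem no_fixed_in_range (T : V →ₗ[F] V) (r : ℕ) (hrF : (r : F) ≠ 0) (hT : T ^ r = 1) (v : V)
    (hv : v ∈ LinearMap.range (T - 1)) (hfix : T v = v) : v = 0 := by
  obtain ⟨u, rfl⟩ := hv
  have hS : (∑ k ∈ Finset.range r, T ^ k) * (T - 1) = 0 := by rw [geom_sum_mul, hT, sub_self]
  have h1 : (∑ k ∈ Finset.range r, T ^ k) ((T - 1) u) = 0 := by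
    rw [← Module.End.mul_apply, hS]
    rfl
  rw [LinearMap.sum_apply] at h1
  have h2 : ∀ k ∈ Finset.range r, (T ^ k) ((T - 1) u) = (T - 1) u :=
    fun k _ => pow_apply_of_fixed T _ hfix k
  rw [Finset.sum_congr rfl h2, Finset.sum_const, Finset.card_range, ← Nat.cast_smul_eq_nsmul F] at h1
  exact (smul_eq_zero.mp h1).resolve_left hrF

theorem finrank_range_sub_one [FiniteDimensional F V] (T : V →ₗ[F] V) :
    finrank F (LinearMap.range (T - 1)) + finrank F (LinearMap.ker (T - 1)) = finrank F V :=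
  LinearMap.finrank_range_add_finrank_ker (T - 1)

end op

variable {F : Type u} [Field F]

theorem kdi_X_sub_one {ι : Type} [Fintype ι] [DecidableEq ι] (A : Matrix ι ι F) :
    kdi A (X - C 1) = finrank F (LinearMap.ker (Matrix.toLin' A - 1)) := by
  unfold kdi
  rw [Cfsg.Agent.Helper14.TensorStab.aeval_X_sub_C, one_smul]

variable [Fintype F]

/-- the inverse transpose has the same fixed-space dimension -/
theorem kdi_inv_transpose {a : ℕ} (A : Matrix (Fin a) (Fin a) F) (r : ℕ) (hr : 0 < r)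
    (hA : A ^ r = 1) : kdi ((A ^ (r - 1))ᵀ) (X - C 1) = kdi A (X - C 1) := by
  rw [kdi_transpose, kdi_X_sub_one, kdi_X_sub_one]
  have hAA : A ^ (r - 1) * A = 1 := by
    rw [← pow_succ, Nat.sub_add_cancel hr, hA]
  have hAA' : A * A ^ (r - 1) = 1 := by
    rw [← pow_succ', Nat.sub_add_cancel hr, hA]
  have hker : LinearMap.ker (Matrix.toLin' (A ^ (r - 1)) - 1) =
      LinearMap.ker (Matrix.toLin' A - 1) := by
    apply Submodule.ext
    intro v
    rw [LinearMap.mem_ker, LinearMap.mem_ker, LinearMap.sub_apply, LinearMap.sub_apply,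
      Module.End.one_apply, sub_eq_zero, sub_eq_zero, Matrix.toLin'_apply, Matrix.toLin'_apply]
    constructor
    · intro h
      have h1 : A *ᵥ (A ^ (r - 1) *ᵥ v) = A *ᵥ v := by rw [h]
      rw [Matrix.mulVec_mulVec, hAA', Matrix.one_mulVec] at h1
      exact h1.symm
    · intro h
      have h1 : A ^ (r - 1) *ᵥ (A *ᵥ v) = A ^ (r - 1) *ᵥ v := by rw [h]
      rw [Matrix.mulVec_mulVec, hAA, Matrix.one_mulVec] at h1
      exact h1.symm
  rw [hker]

/-- (K3) -/
theorem fixed_kron_bound {a b : ℕ} (A : Matrix (Fin a) (Fin a) F) (B : Matrix (Fin b) (Fin b) F)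
    (r : ℕ) (hr : r.Prime) (hrF : (r : F) ≠ 0) (hA : A ^ r = 1) (hB : B ^ r = 1) :
    orderOf ((Fintype.card F : ℕ) : ZMod r) * kdi (A ⊗ₖ B) (X - C 1) ≤
      orderOf ((Fintype.card F : ℕ) : ZMod r) * (kdi A (X - C 1) * kdi B (X - C 1)) +
        (a - kdi A (X - C 1)) * (b - kdi B (X - C 1)) := by
  classical
  set i := orderOf ((Fintype.card F : ℕ) : ZMod r) with hi
  have hrpos : 0 < r := hr.pos
  -- the two operators
  set Cm : Matrix (Fin a) (Fin a) F := (A ^ (r - 1))ᵀ with hCm
  set Cl : (Fin a → F) →ₗ[F] (Fin a → F) := Matrix.toLin' Cm with hCl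
  set Bl : (Fin b → F) →ₗ[F] (Fin b → F) := Matrix.toLin' B with hBl
  have hAA : A ^ (r - 1) * A = 1 := by rw [← pow_succ, Nat.sub_add_cancel hrpos, hA]
  have hCmr : Cm ^ r = 1 := by
    rw [hCm, ← Matrix.transpose_pow, ← pow_mul, mul_comm, pow_mul, hA, one_pow,
      Matrix.transpose_one]
  have hClr : Cl ^ r = 1 := by
    rw [hCl, ← Cfsg.Agent.Helper44.StarInv.toLin_pow_i, hCmr, Matrix.toLin'_one]
    rfl
  have hBlr : Bl ^ r = 1 := by
    rw [hBl, ← Cfsg.Agent.Helper44.StarInv.toLin_pow_i, hB, Matrix.toLin'_one]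
    rfl
  -- the spaces of intertwiners
  let Z : Submodule F ((Fin a → F) →ₗ[F] (Fin b → F)) :=
    { carrier := {X | Bl ∘ₗ X = X ∘ₗ Cl}
      add_mem' := by
        intro X Y hX hY
        show Bl ∘ₗ (X + Y) = (X + Y) ∘ₗ Cl
        rw [LinearMap.comp_add, LinearMap.add_comp, hX, hY]
      zero_mem' := by
        show Bl ∘ₗ (0 : (Fin a → F) →ₗ[F] (Fin b → F)) = 0 ∘ₗ Cl
        rw [LinearMap.comp_zero, LinearMap.zero_comp]
      smul_mem' := by
        intro c X hX
        show Bl ∘ₗ (c • X) = (c • X) ∘ₗ Cl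
        rw [LinearMap.comp_smul, LinearMap.smul_comp, hX] }
  set N₁ : Submodule F (Fin a → F) := LinearMap.range (Cl - 1) with hN₁
  set M₁ : Submodule F (Fin b → F) := LinearMap.range (Bl - 1) with hM₁
  set N₀ : Submodule F (Fin a → F) := LinearMap.ker (Cl - 1) with hN₀
  set K_B : Submodule F (Fin b → F) := LinearMap.ker (Bl - 1) with hK_B
  let Z₁ : Submodule F ((Fin a → F) →ₗ[F] (Fin b → F)) :=
    { carrier := {X | Bl ∘ₗ X = X ∘ₗ Cl ∧ ∀ w ∈ N₁, X w = 0}
      add_mem' := by
        rintro X Y ⟨hX, hX'⟩ ⟨hY, hY'⟩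
        refine ⟨?_, ?_⟩
        · show Bl ∘ₗ (X + Y) = (X + Y) ∘ₗ Cl
          rw [LinearMap.comp_add, LinearMap.add_comp, hX, hY]
        · intro w hw
          rw [LinearMap.add_apply, hX' w hw, hY' w hw, add_zero]
      zero_mem' := by
        refine ⟨?_, fun w _ => rfl⟩
        show Bl ∘ₗ (0 : (Fin a → F) →ₗ[F] (Fin b → F)) = 0 ∘ₗ Cl
        rw [LinearMap.comp_zero, LinearMap.zero_comp]
      smul_mem' := by
        rintro c X ⟨hX, hX'⟩
        refine ⟨?_, ?_⟩
        · show Bl ∘ₗ (c • X) = (c • X) ∘ₗ Cl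
          rw [LinearMap.comp_smul, LinearMap.smul_comp, hX]
        · intro w hw
          rw [LinearMap.smul_apply, hX' w hw, smul_zero] }
  have hZmem : ∀ X, X ∈ Z ↔ Bl ∘ₗ X = X ∘ₗ Cl := fun X => Iff.rfl
  have hZ₁mem : ∀ X, X ∈ Z₁ ↔ (Bl ∘ₗ X = X ∘ₗ Cl ∧ ∀ w ∈ N₁, X w = 0) := fun X => Iff.rfl
  -- dimensions
  have hdimN : finrank F N₁ + finrank F N₀ = a := by
    rw [hN₁, hN₀, finrank_range_sub_one, Module.finrank_fin_fun]
  have hdimM : finrank F M₁ + finrank F K_B = b := by
    rw [hM₁, hK_B, finrank_range_sub_one, Module.finrank_fin_fun]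
  have hN₀kd : finrank F N₀ = kdi A (X - C 1) := by
    rw [← kdi_inv_transpose A r hrpos hA, kdi_X_sub_one]
  have hK_Bkd : finrank F K_B = kdi B (X - C 1) := by
    rw [kdi_X_sub_one]
  -- N₁ is invariant
  have hN₁inv : ∀ v ∈ N₁, Cl v ∈ N₁ := by
    rintro v ⟨u, rfl⟩
    refine ⟨Cl u, ?_⟩
    rw [LinearMap.sub_apply, LinearMap.sub_apply, Module.End.one_apply, Module.End.one_apply,
      map_sub]
  -- divisibility of invariant subspaces of N₁
  have hdiv : ∀ N' : Submodule F (Fin a → F), N' ≤ N₁ → (∀ v ∈ N', Cl v ∈ N') →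
      i ∣ finrank F N' := by
    intro N' hle hinv
    exact dvd_finrank_of_invariant Cl r hr hClr N' hinv
      (fun v hv hfix => no_fixed_in_range Cl r hrF hClr v (hle hv) hfix)
  -- intertwiners map N₁ into M₁
  have hM₁' : ∀ X : (Fin a → F) →ₗ[F] (Fin b → F), Bl ∘ₗ X = X ∘ₗ Cl → ∀ w ∈ N₁, X w ∈ M₁ := by
    rintro X hX w ⟨u, rfl⟩
    refine ⟨X u, ?_⟩
    have h1 : Bl (X u) = X (Cl u) := LinearMap.congr_fun hX u
    rw [LinearMap.sub_apply, LinearMap.sub_apply, Module.End.one_apply, Module.End.one_apply,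
      map_sub, h1]
  -- the bound for Z₁
  have hdisj : Disjoint N₀ N₁ := by
    rw [Submodule.disjoint_def]
    intro v hv0 hv1
    have hfix : Cl v = v := by
      have := LinearMap.mem_ker.mp hv0
      rw [LinearMap.sub_apply, Module.End.one_apply, sub_eq_zero] at this
      exact this
    exact no_fixed_in_range Cl r hrF hClr v hv1 hfix
  have hsup : N₀ ⊔ N₁ = ⊤ := by
    apply Submodule.eq_top_of_disjoint _ _ _ hdisj
    rw [Module.finrank_fin_fun]
    omega
  have hk₀ : finrank F Z₁ ≤ kdi A (X - C 1) * kdi B (X - C 1) := by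
    have hcod : ∀ X : Z₁, ∀ n : N₀, (X : (Fin a → F) →ₗ[F] (Fin b → F)) (n : Fin a → F) ∈ K_B := by
      intro X n
      have hX := X.2.1
      have hn : Cl (n : Fin a → F) = n := by
        have := LinearMap.mem_ker.mp n.2
        rw [LinearMap.sub_apply, Module.End.one_apply, sub_eq_zero] at this
        exact this
      rw [hK_B, LinearMap.mem_ker, LinearMap.sub_apply, Module.End.one_apply, sub_eq_zero]
      have h1 : Bl ((X : (Fin a → F) →ₗ[F] (Fin b → F)) (n : Fin a → F)) =
          (X : (Fin a → F) →ₗ[F] (Fin b → F)) (Cl (n : Fin a → F)) := LinearMap.congr_fun hX _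
      rw [h1, hn]
    let g : Z₁ →ₗ[F] (N₀ →ₗ[F] K_B) :=
      { toFun := fun X =>
          { toFun := fun n => ⟨(X : (Fin a → F) →ₗ[F] (Fin b → F)) (n : Fin a → F), hcod X n⟩
            map_add' := by
              intro n n'
              apply Subtype.ext
              show (X : (Fin a → F) →ₗ[F] (Fin b → F)) ((n + n' : N₀) : Fin a → F) = _
              rw [Submodule.coe_add, map_add]
              rfl
            map_smul' := by
              intro c n
              apply Subtype.ext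
              show (X : (Fin a → F) →ₗ[F] (Fin b → F)) ((c • n : N₀) : Fin a → F) = _
              rw [Submodule.coe_smul, map_smul]
              rfl }
        map_add' := by
          intro X Y
          apply LinearMap.ext
          intro n
          apply Subtype.ext
          rfl
        map_smul' := by
          intro c X
          apply LinearMap.ext
          intro n
          apply Subtype.ext
          rfl }
    have hginj : Function.Injective g := by
      intro X Y hXY
      apply Subtype.ext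
      apply LinearMap.ext
      intro v
      have hv : v ∈ N₀ ⊔ N₁ := by rw [hsup]; exact Submodule.mem_top
      obtain ⟨n₀, hn₀, n₁, hn₁, rfl⟩ := Submodule.mem_sup.mp hv
      rw [map_add, map_add, X.2.2 n₁ hn₁, Y.2.2 n₁ hn₁, add_zero, add_zero]
      have h1 := LinearMap.congr_fun hXY ⟨n₀, hn₀⟩
      have h2 := congrArg Subtype.val h1
      exact h2
    calc finrank F Z₁ ≤ finrank F (N₀ →ₗ[F] K_B) :=
          LinearMap.finrank_le_finrank_of_injective hginj
      _ = finrank F N₀ * finrank F K_B := Module.finrank_linearMap F F N₀ K_B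
      _ = kdi A (X - C 1) * kdi B (X - C 1) := by rw [hN₀kd, hK_Bkd]
  -- apply (K2)
  have hK2 := intertwiner_bound Cl Bl i (kdi A (X - C 1) * kdi B (X - C 1)) N₁ M₁ hN₁inv hdiv hM₁'
    Z Z₁ hZmem hZ₁mem hk₀
  -- the fixed space of the Kronecker product embeds in Z
  have hemb : kdi (A ⊗ₖ B) (X - C 1) ≤ finrank F Z := by
    rw [kdi_X_sub_one]
    let Xm : (Fin a × Fin b → F) →ₗ[F] Matrix (Fin b) (Fin a) F :=
      { toFun := fun v k j => v (j, k)
        map_add' := fun _ _ => rfl
        map_smul' := fun _ _ => rfl }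
    have hvec : ∀ v, Matrix.vec (Xm v) = v := by
      intro v
      funext ⟨j, k⟩
      rfl
    have hmem : ∀ v : LinearMap.ker (Matrix.toLin' (A ⊗ₖ B) - 1),
        Matrix.toLin' (Xm (v : Fin a × Fin b → F)) ∈ Z := by
      intro v
      have hv := LinearMap.mem_ker.mp v.2
      rw [LinearMap.sub_apply, Module.End.one_apply, sub_eq_zero, Matrix.toLin'_apply] at hv
      have h1 : B * Xm (v : Fin a × Fin b → F) * Aᵀ = Xm (v : Fin a × Fin b → F) := by
        apply Matrix.vec_inj.mp
        rw [← Matrix.kronecker_mulVec_vec, hvec, hv]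
      have h2 : B * Xm (v : Fin a × Fin b → F) = Xm (v : Fin a × Fin b → F) * Cm := by
        have h3 : B * Xm (v : Fin a × Fin b → F) * Aᵀ * Cm = B * Xm (v : Fin a × Fin b → F) := by
          rw [hCm, Matrix.mul_assoc, ← Matrix.transpose_mul, hAA, Matrix.transpose_one,
            Matrix.mul_one]
        rw [← h3, h1]
      show Bl ∘ₗ Matrix.toLin' (Xm (v : Fin a × Fin b → F)) =
        Matrix.toLin' (Xm (v : Fin a × Fin b → F)) ∘ₗ Cl
      rw [hBl, hCl, ← Matrix.toLin'_mul, ← Matrix.toLin'_mul, h2]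
    let g : LinearMap.ker (Matrix.toLin' (A ⊗ₖ B) - 1) →ₗ[F] Z :=
      { toFun := fun v => ⟨Matrix.toLin' (Xm (v : Fin a × Fin b → F)), hmem v⟩
        map_add' := by
          intro v w
          apply Subtype.ext
          show Matrix.toLin' (Xm ((v + w : LinearMap.ker (Matrix.toLin' (A ⊗ₖ B) - 1)) :
            Fin a × Fin b → F)) = _
          rw [Submodule.coe_add, map_add, map_add]
          rfl
        map_smul' := by
          intro c v
          apply Subtype.ext
          show Matrix.toLin' (Xm ((c • v : LinearMap.ker (Matrix.toLin' (A ⊗ₖ B) - 1)) :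
            Fin a × Fin b → F)) = _
          rw [Submodule.coe_smul, map_smul, map_smul]
          rfl }
    have hginj : Function.Injective g := by
      intro v w hvw
      apply Subtype.ext
      have h1 : Matrix.toLin' (Xm (v : Fin a × Fin b → F)) =
          Matrix.toLin' (Xm (w : Fin a × Fin b → F)) := congrArg Subtype.val hvw
      have h2 : Xm (v : Fin a × Fin b → F) = Xm (w : Fin a × Fin b → F) :=
        Matrix.toLin'.injective h1
      rw [← hvec (v : Fin a × Fin b → F), h2, hvec]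
    exact LinearMap.finrank_le_finrank_of_injective hginj
  calc i * kdi (A ⊗ₖ B) (X - C 1) ≤ i * finrank F Z := Nat.mul_le_mul_left i hemb
    _ ≤ i * (kdi A (X - C 1) * kdi B (X - C 1)) + finrank F N₁ * finrank F M₁ := hK2
    _ = i * (kdi A (X - C 1) * kdi B (X - C 1)) +
        (a - kdi A (X - C 1)) * (b - kdi B (X - C 1)) := by
      have h1 : finrank F N₁ = a - kdi A (X - C 1) := by omega
      have h2 : finrank F M₁ = b - kdi B (X - C 1) := by omega
      rw [h1, h2]

/-- (K3b) -/
theorem dvd_sub_kdi_one {a : ℕ} (A : Matrix (Fin a) (Fin a) F) (r : ℕ) (hr : r.Prime)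
    (hrF : (r : F) ≠ 0) (hA : A ^ r = 1) :
    orderOf ((Fintype.card F : ℕ) : ZMod r) ∣ a - kdi A (X - C 1) := by
  set Al : (Fin a → F) →ₗ[F] (Fin a → F) := Matrix.toLin' A with hAl
  have hAlr : Al ^ r = 1 := by
    rw [hAl, ← Cfsg.Agent.Helper44.StarInv.toLin_pow_i, hA, Matrix.toLin'_one]
    rfl
  have hinv : ∀ v ∈ LinearMap.range (Al - 1), Al v ∈ LinearMap.range (Al - 1) := by
    rintro v ⟨u, rfl⟩
    refine ⟨Al u, ?_⟩
    rw [LinearMap.sub_apply, LinearMap.sub_apply, Module.End.one_apply, Module.End.one_apply,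
      map_sub]
  have h1 := dvd_finrank_of_invariant Al r hr hAlr (LinearMap.range (Al - 1)) hinv
    (fun v hv hfix => no_fixed_in_range Al r hrF hAlr v hv hfix)
  have h2 := finrank_range_sub_one Al
  rw [Module.finrank_fin_fun, ← kdi_X_sub_one] at h2
  have h3 : finrank F (LinearMap.range (Al - 1)) = a - kdi A (X - C 1) := by omega
  rw [← h3]
  exact h1

end Cfsg.Agent.Helper14.TSPK3
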