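import Mathlib
import Cfsg.Agent.Lib.Helper14.TSPDefs

set_option autoImplicit false

/-!
TSP server (S5980): (NK1) normalisation of a Kronecker product of prime order.
-/

namespace Cfsg.Agent.Helper14.TSPNK1

open Matrix Module Polynomial
open scoped Kronecker
open Cfsg.Agent.Helper14.TSP Cfsg.Agent.Helper14.TensorStab Cfsg.Agent.Helper42.SemiConj

universe u

variable {F : Type u} [Field F] [Fintype F]

theorem exists_normalized {ι : Type} [Fintype ι] [DecidableEq ι] {a b : ℕ} (ha : 0 < a)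
    (hb : 0 < b) (M : Matrix ι ι F) (hk : IsKronS a b M) (r : ℕ) (hr : r.Prime) (hMr : M ^ r = 1)
    (hr1 : ¬ r ∣ Fintype.card F - 1) :
    ∃ (Ψ : (ι → F) ≃ₗ[F] (Fin a × Fin b → F)) (A : Matrix (Fin a) (Fin a) F)
      (B : Matrix (Fin b) (Fin b) F), A ^ r = 1 ∧ B ^ r = 1 ∧
      ∀ v, Ψ (M *ᵥ v) = (A ⊗ₖ B) *ᵥ Ψ v := by
  classical
  obtain ⟨Ψ, A, B, hΨ⟩ := hk
  set K := (A : Matrix (Fin a) (Fin a) F) ⊗ₖ (B : Matrix (Fin b) (Fin b) F) with hK
  have hconj : ∀ v, Ψ (Matrix.toLin' M v) = Matrix.toLin' K (Ψ v) := by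
    intro v
    rw [Matrix.toLin'_apply, Matrix.toLin'_apply]
    exact hΨ v
  have hKr : K ^ r = 1 := by
    apply Matrix.toLin'.injective
    apply LinearMap.ext
    intro w
    obtain ⟨v, rfl⟩ := Ψ.surjective w
    have h1 := pow_intertwine (Ψ : (ι → F) →ₗ[F] (Fin a × Fin b → F)) (Matrix.toLin' M)
      (Matrix.toLin' K) hconj r v
    have h2 : (Matrix.toLin' M) ^ r = 1 := by
      have := map_pow (Matrix.toLinAlgEquiv' (R := F) (n := ι)) M r
      rw [hMr, map_one] at this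
      exact this.symm
    have h3 : Matrix.toLin' (K ^ r) = (Matrix.toLin' K) ^ r :=
      map_pow (Matrix.toLinAlgEquiv' (R := F) (n := Fin a × Fin b)) K r
    rw [h3, Matrix.toLin'_one]
    rw [h2] at h1
    exact h1.symm
  rw [hK, kron_pow] at hKr
  obtain ⟨c, hc⟩ := scalar_of_kron_eq_one hb _ _ hKr
  -- c ≠ 0
  have hc0 : c ≠ 0 := by
    intro h0
    rw [h0, zero_smul] at hc
    rw [hc, Matrix.zero_kronecker] at hKr
    have := congrFun (congrFun hKr (⟨0, ha⟩, ⟨0, hb⟩)) (⟨0, ha⟩, ⟨0, hb⟩)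
    rw [Matrix.zero_apply, Matrix.one_apply_eq] at this
    exact zero_ne_one this
  -- B ^ r = c⁻¹ • 1
  have hBr : (B : Matrix (Fin b) (Fin b) F) ^ r = c⁻¹ • 1 := by
    rw [hc] at hKr
    ext k k'
    have := congrFun (congrFun hKr (⟨0, ha⟩, k)) (⟨0, ha⟩, k')
    rw [Matrix.kroneckerMap_apply, Matrix.smul_apply, Matrix.one_apply_eq, smul_eq_mul, mul_one,
      Matrix.one_apply] at this
    rw [Matrix.smul_apply, Matrix.one_apply, smul_eq_mul]
    have h1 : ((B : Matrix (Fin b) (Fin b) F) ^ r) k k' = c⁻¹ * (c * ((B : Matrix (Fin b) (Fin b) F) ^ r) k k') := by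
      rw [← mul_assoc, inv_mul_cancel₀ hc0, one_mul]
    rw [h1, this]
    by_cases hkk : k = k'
    · simp [hkk]
    · simp [hkk]
  -- an `r`-th root of `c`
  have hcop : Nat.Coprime (Nat.card Fˣ) r := by
    rw [Nat.card_units, Nat.card_eq_fintype_card, Nat.coprime_comm, hr.coprime_iff_not_dvd]
    exact hr1
  obtain ⟨μ, hμ⟩ : ∃ μ : Fˣ, μ ^ r = Units.mk0 c hc0 :=
    ⟨(powCoprime hcop).symm (Units.mk0 c hc0), (powCoprime hcop).apply_symm_apply _⟩
  have hμ' : (μ : F) ^ r = c := by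
    have := congrArg Units.val hμ
    rw [Units.val_pow_eq_pow_val, Units.val_mk0] at this
    exact this
  have hμ0 : (μ : F) ≠ 0 := μ.ne_zero
  refine ⟨Ψ, (μ : F)⁻¹ • (A : Matrix (Fin a) (Fin a) F), (μ : F) • (B : Matrix (Fin b) (Fin b) F),
    ?_, ?_, ?_⟩
  · rw [_root_.smul_pow, hc, smul_smul, inv_pow, hμ', inv_mul_cancel₀ hc0, one_smul]
  · rw [_root_.smul_pow, hBr, smul_smul, hμ', mul_inv_cancel₀ hc0, one_smul]
  · intro v
    rw [hΨ v, Matrix.smul_kronecker, Matrix.kronecker_smul, smul_smul, inv_mul_cancel₀ hμ0,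
      one_smul]

end Cfsg.Agent.Helper14.TSPNK1
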