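import Mathlib
import Cfsg.Agent.Lib.Helper14.TSPDefs
import Cfsg.Agent.Lib.Helper14.TSPK3
import Cfsg.Agent.Lib.Helper71.TSPSYM
import Cfsg.Agent.Lib.Helper78.TSPNKA
import Cfsg.Agent.Lib.Helper14.TSPNK1

set_option autoImplicit false

/-!
TSP server (S5980): the direct direction, assembled from the pieces.
-/

namespace Cfsg.Agent.Helper14.TSPDirect

open Matrix Module Polynomial
open scoped Kronecker
open Cfsg.Agent.Helper14.TSP Cfsg.Agent.Helper44.StarInv
open Cfsg.Agent.Helper42.SemiConj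

universe u

variable {F : Type u} [Field F] [Fintype F]

omit [Fintype F] in
theorem kdi_one_sub_eq_iff {a : ℕ} (A : Matrix (Fin a) (Fin a) F) :
    kdi A (X - C 1) = a ↔ A = 1 := by
  unfold kdi
  rw [Cfsg.Agent.Helper14.TensorStab.aeval_X_sub_C, one_smul]
  constructor
  · intro h
    have h1 : LinearMap.ker (Matrix.toLin' A - 1) = ⊤ := by
      apply Submodule.eq_top_of_finrank_eq
      rw [h, Module.finrank_fin_fun]
    have h2 : Matrix.toLin' A - 1 = 0 := LinearMap.ker_eq_top.mp h1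
    apply Matrix.toLin'.injective
    rw [Matrix.toLin'_one]
    exact sub_eq_zero.mp h2
  · intro h
    rw [h, Matrix.toLin'_one]
    have : (LinearMap.id : (Fin a → F) →ₗ[F] (Fin a → F)) - 1 = 0 := sub_self _
    rw [this, LinearMap.ker_zero, finrank_top, Module.finrank_fin_fun]

omit [Fintype F] in
theorem kdi_le {a : ℕ} (A : Matrix (Fin a) (Fin a) F) (f : F[X]) : kdi A f ≤ a := by
  unfold kdi
  calc finrank F (LinearMap.ker (aeval (Matrix.toLin' A) f)) ≤ finrank F (Fin a → F) :=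
        Submodule.finrank_le _
    _ = a := Module.finrank_fin_fun F

/-- the minimal-support elements of order `r ∤ q (q - 1)` are not Kronecker products -/
theorem not_isKronS_of_minimal {ι : Type} [Fintype ι] [DecidableEq ι] {a b : ℕ}
    (hn : Fintype.card ι = a * b) (ha : Even a) (ha2 : 2 ≤ a) (hb : 3 ≤ b)
    (M : Matrix ι ι F) (r : ℕ) (hr : r.Prime) (hrF : (r : F) ≠ 0)
    (hr1 : ¬ r ∣ Fintype.card F - 1) (hMr : M ^ r = 1) (f₀ : F[X]) (hirr : Irreducible f₀)
    (hdeg : f₀.natDegree = orderOf ((Fintype.card F : ℕ) : ZMod r)) (hi2 : 2 ≤ f₀.natDegree)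
    (hkd₀ : kdi M f₀ = f₀.natDegree)
    (hkd₁ : kdi M (X - C 1) + f₀.natDegree = Fintype.card ι ∨
      (Odd f₀.natDegree ∧ kdi M (X - C 1) + 2 * f₀.natDegree = Fintype.card ι)) :
    ¬ IsKronS a b M := by
  intro hk
  obtain ⟨Ψ, A, B, hAr, hBr, hΨ⟩ := Cfsg.Agent.Helper14.TSPNK1.exists_normalized (by omega) (by omega) M hk r hr hMr hr1
  set i := f₀.natDegree with hi
  have hconj : ∀ v, Ψ (Matrix.toLin' M v) = Matrix.toLin' (A ⊗ₖ B) (Ψ v) := by
    intro v
    rw [Matrix.toLin'_apply, Matrix.toLin'_apply]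
    exact hΨ v
  have hkdiM : ∀ g : F[X], kdi M g = kdi (A ⊗ₖ B) g := fun g =>
    finrank_ker_aeval_eq_of_conj Ψ _ _ hconj g
  have hipos : 0 < i := by omega
  by_cases hA1 : A = 1
  · have h1 := kdi_of_left_scalar M Ψ A B hΨ 1 (by rw [hA1, one_smul]) f₀
    rw [one_smul, hkd₀] at h1
    obtain ⟨t, ht⟩ := natDegree_dvd_kdi B f₀ hirr
    rw [ht, ← hi] at h1
    have h2 : i * 1 = i * (a * t) := by rw [mul_one]; nth_rewrite 1 [h1]; ring
    have h3 : 1 = a * t := Nat.eq_of_mul_eq_mul_left hipos h2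
    have h4 : a = 1 := Nat.eq_one_of_mul_eq_one_right h3.symm
    omega
  by_cases hB1 : B = 1
  · have hΨ' : ∀ v, Ψ (M *ᵥ v) = (A ⊗ₖ (1 : Matrix (Fin b) (Fin b) F)) *ᵥ Ψ v := by
      intro v
      rw [hΨ v, hB1]
    have h1 := Cfsg.Agent.Helper71.TSP.kdi_of_right_one M Ψ A hΨ' f₀
    rw [hkd₀] at h1
    obtain ⟨t, ht⟩ := natDegree_dvd_kdi A f₀ hirr
    rw [ht, ← hi] at h1
    have h2 : i * 1 = i * (b * t) := by rw [mul_one]; nth_rewrite 1 [h1]; ring
    have h3 : 1 = b * t := Nat.eq_of_mul_eq_mul_left hipos h2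
    have h4 : b = 1 := Nat.eq_one_of_mul_eq_one_right h3.symm
    omega
  -- both factors non-trivial
  have hK := Cfsg.Agent.Helper14.TSPK3.fixed_kron_bound A B r hr hrF hAr hBr
  have hdA := Cfsg.Agent.Helper14.TSPK3.dvd_sub_kdi_one A r hr hrF hAr
  have hdB := Cfsg.Agent.Helper14.TSPK3.dvd_sub_kdi_one B r hr hrF hBr
  rw [← hdeg] at hK hdA hdB
  set a₀ := kdi A (X - C 1) with ha₀
  set b₀ := kdi B (X - C 1) with hb₀
  have ha₀le : a₀ ≤ a := kdi_le A _
  have hb₀le : b₀ ≤ b := kdi_le B _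
  have ha₀lt : a₀ < a := lt_of_le_of_ne ha₀le (fun h => hA1 ((kdi_one_sub_eq_iff A).mp h))
  have hb₀lt : b₀ < b := lt_of_le_of_ne hb₀le (fun h => hB1 ((kdi_one_sub_eq_iff B).mp h))
  obtain ⟨α, hα⟩ := hdA
  obtain ⟨β, hβ⟩ := hdB
  have hα1 : 1 ≤ α := by
    rcases Nat.eq_zero_or_pos α with h | h
    · rw [h, mul_zero] at hα; omega
    · exact h
  have hβ1 : 1 ≤ β := by
    rcases Nat.eq_zero_or_pos β with h | h
    · rw [h, mul_zero] at hβ; omega
    · exact h
  rw [hα, hβ, ← hkdiM] at hK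
  rcases hkd₁ with h | ⟨hodd, h⟩
  · exact Cfsg.Agent.Helper78.TSP.arith_contra a b i a₀ b₀ α β (kdi M (X - C 1)) i hi2 ha hb (by omega) (by omega) hα1 hβ1
      hK (by rw [h, hn]) (Or.inl rfl)
  · exact Cfsg.Agent.Helper78.TSP.arith_contra a b i a₀ b₀ α β (kdi M (X - C 1)) (2 * i) hi2 ha hb (by omega) (by omega)
      hα1 hβ1 hK (by rw [h, hn]) (Or.inr ⟨hodd, rfl⟩)

/-- a matrix with a primary component for an irreducible polynomial of degree `≥ 2` is not scalar -/
theorem not_scalar_of_kdi_irr {ι : Type} [Fintype ι] [DecidableEq ι] (M : Matrix ι ι F)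
    (f₀ : F[X]) (hirr : Irreducible f₀) (hi2 : 2 ≤ f₀.natDegree) (h0 : 0 < kdi M f₀) (z : F) :
    M ≠ z • (1 : Matrix ι ι F) := by
  intro hM
  unfold kdi at h0
  obtain ⟨v, hv⟩ := Module.finrank_pos_iff_exists_ne_zero.mp h0
  apply hv
  apply Subtype.ext
  have h1 : aeval (Matrix.toLin' M) f₀ (v : ι → F) = 0 := LinearMap.mem_ker.mp v.2
  generalize (v : ι → F) = w at h1 ⊢
  have hT : Matrix.toLin' M = z • (1 : Module.End F (ι → F)) := by
    rw [hM, map_smul, Matrix.toLin'_one]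
    rfl
  have h2 : aeval (Matrix.toLin' M) f₀ = (f₀.eval z) • (1 : Module.End F (ι → F)) := by
    rw [hT]
    have : z • (1 : Module.End F (ι → F)) = algebraMap F (Module.End F (ι → F)) z := by
      rw [Algebra.algebraMap_eq_smul_one]
    rw [this, Polynomial.aeval_algebraMap_apply, Algebra.algebraMap_eq_smul_one]
    rfl
  rw [h2, LinearMap.smul_apply, Module.End.one_apply] at h1
  show w = 0
  have hroot : f₀.eval z ≠ 0 := by
    intro h0'
    have hdeg1 := Polynomial.degree_eq_one_of_irreducible_of_root hirr h0'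
    have h3 : f₀.natDegree = 1 := Polynomial.natDegree_eq_of_degree_eq_some hdeg1
    omega
  exact (smul_eq_zero.mp h1).resolve_left hroot

end Cfsg.Agent.Helper14.TSPDirect
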