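import Mathlib
import Cfsg.Agent.Lib.Helper14.TSPDefs
import Cfsg.Agent.Lib.Helper14.TSPAdapted
import Cfsg.Agent.Lib.Helper13.SympGeom
import Cfsg.Agent.Lib.Helper70.TSPE0
import Cfsg.Agent.Lib.Helper70.TSPE2
import Cfsg.Agent.Lib.Helper70.TSPE3
import Cfsg.Agent.Lib.Helper71.TSPB1
import Cfsg.Agent.Lib.Helper71.TSPB2
import Cfsg.Agent.Lib.Helper71.TSPB3
import Cfsg.Agent.Lib.Helper71.TSPB4
import Cfsg.Agent.Lib.Helper71.TSPPP
import Cfsg.Agent.Lib.Helper74.TSPE1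
import Cfsg.Agent.Lib.Helper9.TSPPN
import Cfsg.Agent.Lib.Helper96.TSPIND

set_option autoImplicit false

/-!
TSP server (S5980): (ECONV) the converse direction.
-/

namespace Cfsg.Agent.Helper14.TSPECONV

open Matrix Module Polynomial
open scoped Kronecker
open Cfsg.Agent.Helper14.TSP Cfsg.Agent.Helper14.TSPSigs Cfsg.Agent.Helper14.TensorMem

universe u

variable {F : Type u} [Field F]

theorem sympForm_altForm (d : ℕ) :
    Cfsg.Agent.Helper96.SympInvol.AltForm (Cfsg.sympForm d F) :=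
  ⟨Cfsg.Agent.Helper13.sympForm_add_left, Cfsg.Agent.Helper13.sympForm_smul_left,
    Cfsg.Agent.Helper13.sympForm_add_right, Cfsg.Agent.Helper13.sympForm_smul_right,
    Cfsg.Agent.Helper13.sympForm_self⟩

/-- the diagonal matrix with non-zero entries as a unit -/
def diagGL {d : ℕ} (ε : Fin d → F) (hε : ∀ k, ε k ≠ 0) : GL (Fin d) F :=
  ⟨Matrix.diagonal ε, Matrix.diagonal (fun k => (ε k)⁻¹), by
    rw [Matrix.diagonal_mul_diagonal]
    have : (fun k => ε k * (ε k)⁻¹) = fun _ => (1 : F) := by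
      funext k
      exact mul_inv_cancel₀ (hε k)
    rw [this, Matrix.diagonal_one], by
    rw [Matrix.diagonal_mul_diagonal]
    have : (fun k => (ε k)⁻¹ * ε k) = fun _ => (1 : F) := by
      funext k
      exact inv_mul_cancel₀ (hε k)
    rw [this, Matrix.diagonal_one]⟩

theorem conj_of_adapted (d : ℕ) (e : (Fin d ⊕ Fin d) ≃ Fin 2 × Fin d) (P : GL (Fin d ⊕ Fin d) F)
    (c γ : F) (G₂ : Matrix (Fin d) (Fin d) F)
    (hSf : ∀ X Y : Fin 2 × Fin d → F,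
      Cfsg.sympForm d F (P.val *ᵥ (X ∘ e)) (P.val *ᵥ (Y ∘ e)) =
        c * Cfsg.Geo.formOfGram id ((!![0, γ; -γ, 0] : Matrix (Fin 2) (Fin 2) F) ⊗ₖ G₂) X Y)
    (T : GL (Fin d) F) (δ : Fin d → F) (hT : T.valᵀ * G₂ * T.val = Matrix.diagonal δ)
    (hκ : ∀ k, c * γ * δ k ≠ 0)
    (x : GL (Fin d ⊕ Fin d) F) (A₀ : GL (Fin 2) F) (u v : Fin d → (Fin d ⊕ Fin d → F))
    (ε : Fin d → F) (hε : ∀ k, ε k ≠ 0)
    (huu : ∀ k k', Cfsg.sympForm d F (u k) (u k') = 0)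
    (hvv : ∀ k k', Cfsg.sympForm d F (v k) (v k') = 0)
    (huv : ∀ k k', Cfsg.sympForm d F (u k) (v k') = if k = k' then c * γ * δ k else 0)
    (hmode : ∀ k, Matrix.toLin' x.val (u k) = ε k • (A₀.val 0 0 • u k + A₀.val 1 0 • v k) ∧
      Matrix.toLin' x.val (v k) = ε k • (A₀.val 0 1 • u k + A₀.val 1 1 • v k)) :
    ∃ g ∈ Cfsg.spGL d F, g⁻¹ * x * g ∈ Cfsg.Geo.tensorProductSubgroup 2 d e P := by
  classical
  have hform := sympForm_altForm (F := F) d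
  have hdim : finrank F (Fin d ⊕ Fin d → F) = 2 * d := by
    rw [Module.finrank_fintype_fun_eq_card, Fintype.card_sum, Fintype.card_fin]
    ring
  have hbij := Cfsg.Agent.Helper71.TSP.adaptedMap_bijective (Cfsg.sympForm d F) hform hdim u v
    (fun k => c * γ * δ k) hκ huu hvv huv
  set Θ₀ : (Fin 2 × Fin d → F) ≃ₗ[F] (Fin d ⊕ Fin d → F) :=
    LinearEquiv.ofBijective (adaptedMap (F := F) u v) hbij with hΘ₀
  have hΘ₀app : ∀ Y, Θ₀ Y = adaptedMap u v Y := fun Y => rfl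
  set τ : (Fin 2 × Fin d → F) ≃ₗ[F] (Fin 2 × Fin d → F) := glLinS (kronGL (1 : GL (Fin 2) F) T)
    with hτ
  have hτapp : ∀ Y, τ Y = ((1 : Matrix (Fin 2) (Fin 2) F) ⊗ₖ T.val) *ᵥ Y := by
    intro Y
    rw [hτ, glLinS_apply]
    rfl
  set Θ : (Fin 2 × Fin d → F) ≃ₗ[F] (Fin d ⊕ Fin d → F) := τ.symm.trans Θ₀ with hΘ
  have hΘτ : ∀ Y, Θ (τ Y) = adaptedMap u v Y := by
    intro Y
    rw [hΘ, LinearEquiv.trans_apply, LinearEquiv.symm_apply_apply, hΘ₀app]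
  set B : GL (Fin d) F := T * diagGL ε hε * T⁻¹ with hB
  refine Cfsg.Agent.Helper74.TSP.conj_mem_of_isometry e P
    (fun X Y => c * Cfsg.Geo.formOfGram id
      ((!![0, γ; -γ, 0] : Matrix (Fin 2) (Fin 2) F) ⊗ₖ G₂) X Y) hSf x Θ ?_ A₀ B ?_
  · intro X X'
    obtain ⟨Y, rfl⟩ := τ.surjective X
    obtain ⟨Y', rfl⟩ := τ.surjective X'
    rw [hΘτ, hΘτ, Cfsg.Agent.Helper71.TSP.adaptedMap_form (Cfsg.sympForm d F) hform u v
      (fun k => c * γ * δ k) huu hvv huv, hτapp, hτapp,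
      Cfsg.Agent.Helper71.TSP.formOfGram_twist γ G₂ T.val δ hT, Finset.mul_sum]
    apply Finset.sum_congr rfl
    intro k _
    ring
  · intro X
    obtain ⟨Y, rfl⟩ := τ.surjective X
    rw [hΘτ]
    have h1 := Cfsg.Agent.Helper71.TSP.adaptedMap_intertwine (Matrix.toLin' x.val) u v ε A₀.val
      hmode Y
    rw [Matrix.toLin'_apply] at h1
    rw [h1, ← hΘτ]
    congr 1
    rw [hτapp, hτapp, Matrix.mulVec_mulVec, Matrix.mulVec_mulVec, ← Matrix.mul_kronecker_mul,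
      ← Matrix.mul_kronecker_mul, Matrix.one_mul, Matrix.mul_one, hB, Units.val_mul,
      Units.val_mul, Matrix.mul_assoc, Matrix.mul_assoc, ← Units.val_mul, inv_mul_cancel,
      Units.val_one, Matrix.mul_one]
    rfl

variable [Fintype F]

/-- (ECONV) -/
theorem conj_mem_tensor_two (h2 : (2 : F) ≠ 0) (d b : ℕ) (hd : 1 ≤ d) (hab : 2 * d = 2 * b)
    (e : (Fin d ⊕ Fin d) ≃ Fin 2 × Fin b) (P : GL (Fin d ⊕ Fin d) F)
    (f₁ : (Fin 2 → F) → (Fin 2 → F) → F) (f₂ : (Fin b → F) → (Fin b → F) → F)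
    (hf₁ : Cfsg.Geo.IsSymplecticForm f₁) (hf₂ : Cfsg.Geo.IsSymmetricForm f₂)
    (hS : Cfsg.Geo.IsTensorFormStructure id (Cfsg.sympForm d F) f₁ f₂ e P)
    (x : GL (Fin d ⊕ Fin d) F) (hx : x ∈ Cfsg.spGL d F) (z : F)
    (hz : x.val ^ 2 = z • (1 : Matrix (Fin d ⊕ Fin d) (Fin d ⊕ Fin d) F)) :
    ∃ g ∈ Cfsg.spGL d F, g⁻¹ * x * g ∈ Cfsg.Geo.tensorProductSubgroup 2 b e P := by
  classical
  obtain rfl : b = d := by omega
  obtain ⟨c, hc, hSf⟩ := hS
  obtain ⟨γ, hγ, hG₁⟩ := Cfsg.Agent.Helper70.TSP.gram_symplectic_two f₁ hf₁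
  obtain ⟨T, δ, hδ, hT⟩ := Cfsg.Agent.Helper70.TSP.gram_symmetric_diag h2 f₂ hf₂
  rw [hG₁] at hSf
  have hκ : ∀ k, c * γ * δ k ≠ 0 := fun k => mul_ne_zero (mul_ne_zero hc hγ) (hδ k)
  have hform := sympForm_altForm (F := F) b
  have hnd : ∀ u : Fin b ⊕ Fin b → F, u ≠ 0 → ∃ w, Cfsg.sympForm b F u w ≠ 0 := by
    intro u hu
    obtain ⟨w, hw⟩ := Cfsg.Agent.Helper13.exists_partner hu
    exact ⟨w, by rw [hw]; exact one_ne_zero⟩
  have hxf : ∀ u w, Cfsg.sympForm b F (Matrix.toLin' x.val u) (Matrix.toLin' x.val w) =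
      Cfsg.sympForm b F u w := by
    intro u w
    rw [Matrix.toLin'_apply, Matrix.toLin'_apply]
    exact hx u w
  have hmul : x.val * x.val = z • (1 : Matrix (Fin b ⊕ Fin b) (Fin b ⊕ Fin b) F) := by
    rw [← hz, pow_two]
  have hxx : ∀ w, Matrix.toLin' x.val (Matrix.toLin' x.val w) = z • w := by
    intro w
    rw [← LinearMap.comp_apply, ← Matrix.toLin'_mul, hmul]
    simp
  have hdim : finrank F (Fin b ⊕ Fin b → F) = 2 * b := by
    rw [Module.finrank_fintype_fun_eq_card, Fintype.card_sum, Fintype.card_fin]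
    ring
  rcases Cfsg.Agent.Helper70.TSP.sq_scalar_cases b hd x hx z hz with hz1 | hz1
  · -- involution
    subst hz1
    obtain ⟨u, v, ε, hε, huu, hvv, huv, hmode⟩ :=
      Cfsg.Agent.Helper96.TSP.exists_adapted_of_pick (Cfsg.sympForm b F) hform
        (Matrix.toLin' x.val) hxf (1 : Matrix (Fin 2) (Fin 2) F)
        (fun C hC hCnd hC0 κ hκ' => Cfsg.Agent.Helper71.TSP.pick_pos h2 (Cfsg.sympForm b F) hform
          (Matrix.toLin' x.val) hxf (fun w => by rw [hxx w, one_smul]) C hC hCnd hC0 κ hκ')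
        hnd b hdim (fun k => c * γ * δ k) hκ
    exact conj_of_adapted b e P c γ _ hSf T δ hT hκ x (1 : GL (Fin 2) F) u v ε hε huu hvv huv hmode
  · subst hz1
    let J₀ : GL (Fin 2) F := ⟨!![0, -1; 1, 0], !![0, 1; -1, 0], by
      ext i j
      fin_cases i <;> fin_cases j <;> simp [Matrix.mul_apply, Fin.sum_univ_two], by
      ext i j
      fin_cases i <;> fin_cases j <;> simp [Matrix.mul_apply, Fin.sum_univ_two]⟩
    obtain ⟨u, v, ε, hε, huu, hvv, huv, hmode⟩ :=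
      Cfsg.Agent.Helper96.TSP.exists_adapted_of_pick (Cfsg.sympForm b F) hform
        (Matrix.toLin' x.val) hxf (!![0, -1; 1, 0] : Matrix (Fin 2) (Fin 2) F)
        (fun C hC hCnd hC0 κ hκ' => Cfsg.Agent.Helper9.TSP.pick_neg h2 (Cfsg.sympForm b F) hform
          (Matrix.toLin' x.val) hxf (fun w => by rw [hxx w, neg_one_smul]) C hC hCnd hC0 κ hκ')
        hnd b hdim (fun k => c * γ * δ k) hκ
    exact conj_of_adapted b e P c γ _ hSf T δ hT hκ x J₀ u v ε hε huu hvv huv hmode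

end Cfsg.Agent.Helper14.TSPECONV
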