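import Mathlib
import Cfsg.Prelude.Def_GeometricClasses
import Cfsg.Agent.Lib.Helper14.TensorStab
import Cfsg.Agent.Lib.Helper14.DiagKd
import Cfsg.Agent.Lib.Helper14.InvolSL
import Cfsg.Agent.Lib.Helper14.SpDerange

set_option autoImplicit false

/-!
Elements of prime order of `SL_n(q)` that are not Kronecker products `A ⊗ B`.
-/

namespace Cfsg.Agent.Helper14.TensorDerange

open Matrix Module Polynomial
open Cfsg.Agent.Helper14.TensorStab Cfsg.Agent.Helper14.DiagKd
open Cfsg.Agent.Helper42.SemiConj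

universe u

variable {F : Type u} [Field F] {n a b : ℕ}

/-- there is an element of `SL_n` of order `r` modulo scalars that is not a Kronecker product -/
def Derange (n a b r : ℕ) (F : Type u) [Field F] : Prop :=
  ∃ x : GL (Fin n) F, x ∈ Cfsg.Geo.specialLinear (Fin n) F ∧
    (∃ z : F, ((x ^ r : GL (Fin n) F) : Matrix (Fin n) (Fin n) F) =
      z • (1 : Matrix (Fin n) (Fin n) F)) ∧
    (∀ z : F, (x : Matrix (Fin n) (Fin n) F) ≠ z • (1 : Matrix (Fin n) (Fin n) F)) ∧
    ¬ IsKron a b (x : Matrix (Fin n) (Fin n) F)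

theorem derange_of_matrix (r : ℕ) (M : Matrix (Fin n) (Fin n) F) (hdet : M.det = 1) (z : F)
    (hMr : M ^ r = z • (1 : Matrix (Fin n) (Fin n) F))
    (hns : ∀ z : F, M ≠ z • (1 : Matrix (Fin n) (Fin n) F)) (hk : ¬ IsKron a b M) :
    Derange n a b r F := by
  refine ⟨Matrix.SpecialLinearGroup.toGL ⟨M, hdet⟩, ?_, ⟨z, ?_⟩, hns, hk⟩
  · unfold Cfsg.Geo.specialLinear
    rw [MonoidHom.mem_ker]
    exact Matrix.SpecialLinearGroup.coeToGL_det _
  · rw [Units.val_pow_eq_pow_val]
    exact hMr

section crit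

variable [Fintype F]

theorem dvd_of_isRepeated (M : Matrix (Fin n) (Fin n) F) (h : IsRepeated a b M) (f : F[X])
    (hirr : Irreducible f) :
    a * f.natDegree ∣ finrank F (LinearMap.ker (aeval (Matrix.toLin' M) f)) := by
  obtain ⟨N, hN⟩ := h
  rw [hN f]
  exact Nat.mul_dvd_mul_left a (natDegree_dvd_finrank_ker (Matrix.toLin' N) f hirr)

theorem not_isKron_of_large (hn : n = a * b) (M : Matrix (Fin n) (Fin n) F) (l : F)
    (hlarge : n < finrank F (LinearMap.ker (aeval (Matrix.toLin' M) (X - C l))) + b)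
    (f : F[X]) (hirr : Irreducible f)
    (hnd : ¬ a * f.natDegree ∣ finrank F (LinearMap.ker (aeval (Matrix.toLin' M) f))) :
    ¬ IsKron a b M := fun hk =>
  hnd (dvd_of_isRepeated M (isRepeated_of_large_ker hn M hk l hlarge) f hirr)

theorem not_isKron_of_pow (hb : 0 < b) (M : Matrix (Fin n) (Fin n) F) (r : ℕ) (hr : r.Prime)
    (hMr : M ^ r = 1) (hr2 : ¬ r ∣ Nat.card (GL (Fin a) F))
    (f : F[X]) (hirr : Irreducible f)
    (hnd : ¬ a * f.natDegree ∣ finrank F (LinearMap.ker (aeval (Matrix.toLin' M) f))) :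
    ¬ IsKron a b M := fun hk =>
  hnd (dvd_of_isRepeated M (isRepeated_of_pow_eq_one hb M hk r hr hMr hr2) f hirr)

end crit

theorem natDegree_X_sub_C' (l : F) : (X - C l : F[X]).natDegree = 1 := Polynomial.natDegree_X_sub_C l

/-! ### transvections -/

section transv

theorem transvection_pow (i j : Fin n) (hij : i ≠ j) (k : ℕ) :
    (Matrix.transvection i j (1 : F)) ^ k = Matrix.transvection i j (k : F) := by
  induction k with
  | zero => rw [pow_zero, Nat.cast_zero, Matrix.transvection_zero]
  | succ k ih =>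
    rw [pow_succ, ih, Matrix.transvection_mul_transvection_same i j hij, Nat.cast_succ]

theorem derange_transvection [Fintype F] (p : ℕ) [Fact p.Prime] [CharP F p] (hn : n = a * b)
    (ha : 2 ≤ a) (hb : 2 ≤ b) : Derange n a b p F := by
  classical
  have hn4 : 4 ≤ n := by nlinarith
  let i : Fin n := ⟨0, by omega⟩
  let j : Fin n := ⟨1, by omega⟩
  have hij : i ≠ j := by
    intro h
    have := congrArg Fin.val h
    simp [i, j] at this
  set M := Matrix.transvection i j (1 : F) with hM
  have hM1 : M - (1 : F) • (1 : Matrix (Fin n) (Fin n) F) = Matrix.single i j (1 : F) := by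
    rw [hM, Matrix.transvection, one_smul, add_sub_cancel_left]
  have hvv : Matrix.single i j (1 : F) = Matrix.vecMulVec (Pi.single i 1) (Pi.single j 1) := by
    ext k l
    rw [Matrix.vecMulVec_apply, Matrix.single_apply, Pi.single_apply, Pi.single_apply]
    by_cases h1 : k = i
    · by_cases h2 : l = j
      · subst h1; subst h2; simp
      · have h2' : ¬ j = l := fun h => h2 h.symm
        simp [h1, h2, h2']
    · have h1' : ¬ i = k := fun h => h1 h.symm
      simp [h1, h1']
  have hrank : (Matrix.single i j (1 : F)).rank ≤ 1 := by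
    rw [hvv]
    exact Matrix.rank_vecMulVec_le _ _
  have hker := finrank_ker_toLin' (Matrix.single i j (1 : F))
  have hkd : finrank F (LinearMap.ker (aeval (Matrix.toLin' M) (X - C (1 : F)))) = n - 1 := by
    rw [aeval_toLin'_X_sub_C, hM1]
    have hne : finrank F (LinearMap.ker (Matrix.toLin' (Matrix.single i j (1 : F)))) ≠ n := by
      intro h
      have h1 : finrank F (LinearMap.ker (Matrix.toLin' (Matrix.single i j (1 : F)))) =
          finrank F (Fin n → F) := by rw [h, Module.finrank_fin_fun]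
      have h2 := Submodule.eq_top_of_finrank_eq h1
      rw [LinearMap.ker_eq_top] at h2
      have h3 : Matrix.single i j (1 : F) = 0 := by
        apply Matrix.toLin'.injective
        rw [h2, map_zero]
      have h4 := congrFun (congrFun h3 i) j
      rw [Matrix.single_apply_same, Matrix.zero_apply] at h4
      exact one_ne_zero h4
    omega
  refine derange_of_matrix p M (Matrix.det_transvection_of_ne i j hij 1) 1 ?_ ?_ ?_
  · rw [hM, transvection_pow i j hij, CharP.cast_eq_zero, Matrix.transvection_zero, one_smul]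
  · intro z hz
    have h4 := congrFun (congrFun hz i) j
    rw [hM, Matrix.transvection, Matrix.add_apply, Matrix.one_apply_ne hij,
      Matrix.single_apply_same, Matrix.smul_apply, Matrix.one_apply_ne hij, smul_zero,
      zero_add] at h4
    exact one_ne_zero h4
  · apply not_isKron_of_large hn M 1 (by rw [hkd]; omega) (X - C (1 : F))
      (Polynomial.irreducible_X_sub_C 1)
    rw [hkd, natDegree_X_sub_C', mul_one]
    intro hdvd
    have h1 : a ∣ n := ⟨b, hn⟩
    have h2 : a ∣ 1 := by
      have := (Nat.dvd_sub h1 hdvd)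
      have h3 : n - (n - 1) = 1 := by omega
      rwa [h3] at this
    have := Nat.le_of_dvd one_pos h2
    omega

end transv

/-! ### involutions -/

section invol

variable [Fintype F]

/-- `diag(-1,-1,1,…,1)` when `a ≥ 3` -/
theorem derange_invol_ge (hn : n = a * b) (ha : 3 ≤ a) (hb : 3 ≤ b) (h2 : (2 : F) ≠ 0) :
    Derange n a b 2 F := by
  have hn9 : 9 ≤ n := by nlinarith
  have hne : (-1 : F) ≠ 1 := by
    intro h
    apply h2
    have : (2 : F) = 1 - (-1) := by ring
    rw [this, h, sub_self]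
  set M := Matrix.diagonal (two n 2 (-1 : F) 1) with hM
  refine derange_of_matrix 2 M ?_ 1 ?_ ?_ ?_
  · rw [hM, det_two 2 (by omega)]
    simp
  · rw [pow_two, hM]
    exact two_sq 2 (-1) 1 1 (by ring) (by ring)
  · exact two_ne_scalar 2 (by omega) (by omega) (-1) 1 hne
  · apply not_isKron_of_large hn M 1
      (by rw [hM, kd_two_right 2 (by omega) (-1) 1 hne]; omega) (X - C (-1 : F))
      (Polynomial.irreducible_X_sub_C _)
    rw [hM, kd_two_left 2 (by omega) (-1) 1 hne, natDegree_X_sub_C', mul_one]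
    intro hdvd
    have := Nat.le_of_dvd (by norm_num) hdvd
    omega

/-- `w · diag(-1,1,…,1)` with `w ^ n = -1` when `a = 2` -/
theorem derange_invol_two (hn : n = 2 * b) (hb : 2 ≤ b) (h2 : (2 : F) ≠ 0) (w : F)
    (hw : w ^ n = -1) : Derange n 2 b 2 F := by
  have hn4 : 4 ≤ n := by omega
  have hw0 : w ≠ 0 := by
    rintro rfl
    rw [zero_pow (by omega)] at hw
    exact neg_ne_zero.mpr one_ne_zero hw.symm
  have hne : -w ≠ w := by
    intro h
    have h3 : (2 : F) * w = 0 := by linear_combination -h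
    rcases mul_eq_zero.mp h3 with h4 | h4
    · exact h2 h4
    · exact hw0 h4
  set M := Matrix.diagonal (two n 1 (-w) w) with hM
  refine derange_of_matrix 2 M ?_ (w * w) ?_ ?_ ?_
  · rw [hM, det_two 1 (by omega), pow_one]
    have : n = (n - 1) + 1 := by omega
    calc -w * w ^ (n - 1) = -(w ^ (n - 1 + 1)) := by rw [pow_succ]; ring
      _ = -(w ^ n) := by rw [← this]
      _ = 1 := by rw [hw, neg_neg]
  · rw [pow_two, hM]
    exact two_sq 1 (-w) w (w * w) (by ring) rfl
  · exact two_ne_scalar 1 (by omega) (by omega) (-w) w hne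
  · apply not_isKron_of_large hn M w
      (by rw [hM, kd_two_right 1 (by omega) (-w) w hne]; omega) (X - C (-w))
      (Polynomial.irreducible_X_sub_C _)
    rw [hM, kd_two_left 1 (by omega) (-w) w hne, natDegree_X_sub_C', mul_one]
    intro hdvd
    have := Nat.le_of_dvd (by norm_num) hdvd
    omega

end invol

/-! ### diagonal elements of odd prime order -/

section root

variable [Fintype F]

/-- `diag(l, l⁻¹, 1, …, 1)` with `l` of odd prime order `r` -/
theorem derange_root (hn : n = a * b) (ha : 2 ≤ a) (hb : 3 ≤ b) (r : ℕ) [Fact r.Prime]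
    (hr2 : r ≠ 2) (hdvd : r ∣ Fintype.card F - 1) : Derange n a b r F := by
  classical
  have hr : r.Prime := Fact.out
  have hn6 : 6 ≤ n := by nlinarith
  obtain ⟨u, hu⟩ := exists_prime_orderOf_dvd_card' (G := Fˣ) r
    (by rw [Cfsg.Agent.Helper14.InvolSL.natCard_units]; exact hdvd)
  set l : F := (u : F) with hl
  have hl0 : l ≠ 0 := u.ne_zero
  have hlr : l ^ r = 1 := by
    rw [hl, ← Units.val_pow_eq_pow_val, ← hu, pow_orderOf_eq_one, Units.val_one]
  have hl1 : l ≠ 1 := by
    intro h
    have : u = 1 := Units.ext h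
    rw [this, orderOf_one] at hu
    exact hr.one_lt.ne hu
  have hl2 : l⁻¹ ≠ l := by
    intro h
    have h1 : l * l = 1 := by
      nth_rewrite 1 [← h]
      exact inv_mul_cancel₀ hl0
    have h2 : u ^ 2 = 1 := by
      apply Units.ext
      rw [Units.val_pow_eq_pow_val, pow_two]
      exact h1
    have h3 := orderOf_dvd_of_pow_eq_one h2
    rw [hu] at h3
    exact hr2 ((Nat.prime_dvd_prime_iff_eq hr Nat.prime_two).mp h3)
  have hl3 : l⁻¹ ≠ 1 := by
    intro h
    apply hl1
    rw [← inv_inv l, h, inv_one]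
  obtain ⟨n', rfl⟩ : ∃ n', n = n' + 2 := ⟨n - 2, by omega⟩
  set d : Fin (n' + 2) → F := Fin.cons l (Fin.cons l⁻¹ (fun _ => 1)) with hd
  set M := Matrix.diagonal d with hM
  have hd0 : d 0 = l := rfl
  have hd2 : ∀ k : Fin n', d k.succ.succ = 1 := fun _ => rfl
  have hkd1 : finrank F (LinearMap.ker (aeval (Matrix.toLin' M) (X - C (1 : F)))) = n' := by
    rw [hM, kd_diagonal, Finset.card_filter, Fin.sum_univ_succ, Fin.sum_univ_succ]
    simp [hd, hl1, hl3]
  have hkdl : finrank F (LinearMap.ker (aeval (Matrix.toLin' M) (X - C l))) = 1 := by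
    rw [hM, kd_diagonal, Finset.card_filter, Fin.sum_univ_succ, Fin.sum_univ_succ]
    simp [hd, hl1.symm, hl2]
  refine derange_of_matrix r M ?_ 1 ?_ ?_ ?_
  · rw [hM, Matrix.det_diagonal, hd, Fin.prod_cons, Fin.prod_cons, Finset.prod_const_one, mul_one,
      mul_inv_cancel₀ hl0]
  · rw [hM, Matrix.diagonal_pow, one_smul, ← Matrix.diagonal_one]
    congr 1
    funext i
    rw [Pi.pow_apply]
    refine Fin.cases ?_ (fun i' => ?_) i
    · exact hlr
    · refine Fin.cases ?_ (fun i'' => ?_) i'
      · show (l⁻¹) ^ r = 1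
        rw [inv_pow, hlr, inv_one]
      · show (1 : F) ^ r = 1
        exact one_pow r
  · intro z hz
    have h0 := congrFun (congrFun hz 0) 0
    have hn' : 0 < n' := by omega
    have h1 := congrFun (congrFun hz (Fin.succ (Fin.succ ⟨0, hn'⟩))) (Fin.succ (Fin.succ ⟨0, hn'⟩))
    rw [hM, Matrix.diagonal_apply_eq, Matrix.smul_apply, Matrix.one_apply_eq, smul_eq_mul, mul_one]
      at h0 h1
    rw [hd0] at h0
    rw [hd2] at h1
    exact hl1 (h0.trans h1.symm)
  · apply not_isKron_of_large hn M 1 (by rw [hkd1]; omega) (X - C l)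
      (Polynomial.irreducible_X_sub_C _)
    rw [hkdl, natDegree_X_sub_C', mul_one]
    intro hdvd'
    have := Nat.le_of_dvd (by norm_num) hdvd'
    omega

end root

/-! ### arithmetic -/

section arith

variable [Fintype F] (p : ℕ) [Fact p.Prime] [CharP F p]

theorem not_dvd_card (r : ℕ) (hr : r.Prime) (hrp : r ≠ p) : ¬ r ∣ Fintype.card F := by
  obtain ⟨k, hp, hk⟩ := FiniteField.card F p
  intro h
  rw [hk] at h
  exact hrp ((Nat.prime_dvd_prime_iff_eq hr hp).mp (hr.dvd_of_dvd_pow h))

theorem zmod_pow_eq_one_iff (r q j : ℕ) (hq : 1 ≤ q) :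
    ((q : ℕ) : ZMod r) ^ j = 1 ↔ r ∣ q ^ j - 1 := by
  rw [← ZMod.natCast_eq_zero_iff, Nat.cast_sub (Nat.one_le_pow _ _ hq), Nat.cast_pow, Nat.cast_one,
    sub_eq_zero]

theorem order_le_of_dvd_card_GL (r : ℕ) (hr : r.Prime) (hrp : r ≠ p) (m : ℕ)
    (h : r ∣ Nat.card (GL (Fin m) F)) : orderOf ((Fintype.card F : ℕ) : ZMod r) ≤ m := by
  rw [Matrix.card_GL_field] at h
  obtain ⟨i, -, hi⟩ := (Prime.dvd_finsetProd_iff hr.prime _).mp h
  have hq1 : 1 ≤ Fintype.card F := Fintype.card_pos
  have him : (i : ℕ) < m := i.2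
  have h1 : Fintype.card F ^ m - Fintype.card F ^ (i : ℕ) =
      Fintype.card F ^ (i : ℕ) * (Fintype.card F ^ (m - (i : ℕ)) - 1) := by
    rw [Nat.mul_sub_one, ← pow_add]
    congr 2
    omega
  rw [h1] at hi
  rcases (Nat.Prime.dvd_mul hr).mp hi with h2 | h2
  · exact absurd (hr.dvd_of_dvd_pow h2) (not_dvd_card p r hr hrp)
  · have h3 := (zmod_pow_eq_one_iff r _ _ hq1).mpr h2
    have h4 := orderOf_dvd_of_pow_eq_one h3
    have := Nat.le_of_dvd (by omega) h4
    omega

end arith

/-! ### elements acting irreducibly on a subspace of dimension `e ≥ 2` -/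

section field

variable [Fintype F] (p : ℕ) [Fact p.Prime] [CharP F p]

theorem kd_one_X_sub_one :
    finrank F (LinearMap.ker (aeval (Matrix.toLin' (1 : Matrix (Fin n) (Fin n) F))
      (X - C (1 : F)))) = n := by
  rw [aeval_toLin'_X_sub_C, one_smul, sub_self, map_zero, LinearMap.ker_zero, finrank_top,
    Module.finrank_fin_fun]

theorem derange_field (hn : n = a * b) (ha : 2 ≤ a) (hab : a < b) (r : ℕ) [Fact r.Prime]
    (hrp : r ≠ p) (he2 : 2 ≤ orderOf ((Fintype.card F : ℕ) : ZMod r))
    (hen : orderOf ((Fintype.card F : ℕ) : ZMod r) ≤ n) : Derange n a b r F := by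
  classical
  have hr : r.Prime := Fact.out
  set e := orderOf ((Fintype.card F : ℕ) : ZMod r) with he
  have hq1 : 1 ≤ Fintype.card F := Fintype.card_pos
  have hr1 : ¬ r ∣ Fintype.card F - 1 := by
    intro h
    have h1 := (zmod_pow_eq_one_iff r (Fintype.card F) 1 hq1).mpr (by rwa [pow_one])
    have h2 := orderOf_dvd_of_pow_eq_one h1
    have := Nat.le_of_dvd one_pos h2
    omega
  have hcard := cyc_card (F := F) r hr hrp
  have hne : (cycFactors F r).Nonempty := by
    rw [← Finset.card_pos]
    by_contra h0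
    have h0' : (cycFactors F r).card = 0 := by omega
    rw [h0', zero_mul] at hcard
    have := hr.two_le
    omega
  obtain ⟨f₀, hf₀⟩ := hne
  have hdeg : f₀.natDegree = e := cyc_natDegree r hr hrp f₀ hf₀
  have hX1 : (X - 1 : F[X]) = X - C 1 := by rw [map_one]
  have hXmem : (X - 1 : F[X]) ∈ powFactors F r := by
    unfold powFactors
    exact Finset.mem_insert_self _ _
  have hf₀mem : f₀ ∈ powFactors F r := by
    unfold powFactors
    exact Finset.mem_insert_of_mem hf₀
  have hf₀ne : f₀ ≠ X - 1 := fun h => X_sub_one_notMem_cyc r hr hrp (h ▸ hf₀)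
  let m : F[X] → ℕ := fun f => if f = X - 1 then n - e else if f = f₀ then 1 else 0
  have hsum : ∑ f ∈ powFactors F r, f.natDegree * m f = n := by
    unfold powFactors
    rw [Finset.sum_insert (X_sub_one_notMem_cyc r hr hrp),
      Finset.sum_eq_single_of_mem f₀ hf₀]
    · simp only [m, if_pos, hf₀ne, if_false, hdeg, mul_one]
      rw [hX1, Polynomial.natDegree_X_sub_C, one_mul]
      omega
    · intro f hf hne
      have h1 : f ≠ X - 1 := fun h => X_sub_one_notMem_cyc r hr hrp (h ▸ hf)
      simp only [m, h1, hne, if_false, mul_zero]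
  obtain ⟨A, hA0, hAkd⟩ := exists_matrix_of_kd (powFactors F r) (powFactors_irr r)
    (powFactors_coprime r hr hrp) m hsum
  have hAr : A ^ r = 1 := by
    rw [powFactors_prod r hr hrp, aeval_pow_sub_one, sub_eq_zero] at hA0
    exact hA0
  have hkd1 : finrank F (LinearMap.ker (aeval (Matrix.toLin' A) (X - C (1 : F)))) = n - e := by
    have := hAkd _ hXmem
    unfold kd at this
    rw [← hX1, this]
    simp only [m, if_pos]
    rw [hX1, Polynomial.natDegree_X_sub_C, one_mul]
  have hkd0 : finrank F (LinearMap.ker (aeval (Matrix.toLin' A) f₀)) = e := by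
    have := hAkd _ hf₀mem
    unfold kd at this
    rw [this]
    simp only [m, hf₀ne, if_false, if_pos, mul_one]
    exact hdeg
  have hn0 : 0 < n := by omega
  have hirr : Irreducible f₀ := cyc_irr r f₀ hf₀
  have hnd : ¬ a * f₀.natDegree ∣ finrank F (LinearMap.ker (aeval (Matrix.toLin' A) f₀)) := by
    rw [hkd0, hdeg]
    intro hdvd
    have h1 := Nat.le_of_dvd (by omega) hdvd
    have : 2 * e ≤ a * e := Nat.mul_le_mul_right e ha
    omega
  refine derange_of_matrix r A ?_ 1 ?_ ?_ ?_
  · apply Cfsg.Agent.Helper14.SpDerange.root_eq_one r hr1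
    rw [← Matrix.det_pow, hAr, Matrix.det_one]
  · rw [hAr, one_smul]
  · intro z hz
    have hz1 : z = 1 := by
      apply Cfsg.Agent.Helper14.SpDerange.root_eq_one r hr1
      have h1 := hAr
      rw [hz, _root_.smul_pow, one_pow] at h1
      have h2 := congrFun (congrFun h1 ⟨0, hn0⟩) ⟨0, hn0⟩
      rw [Matrix.smul_apply, Matrix.one_apply_eq, smul_eq_mul, mul_one] at h2
      exact h2
    rw [hz1, one_smul] at hz
    rw [hz, kd_one_X_sub_one] at hkd1
    omega
  · by_cases hlt : e < b
    · exact not_isKron_of_large hn A 1 (by rw [hkd1]; omega) f₀ hirr hnd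
    · apply not_isKron_of_pow (by omega) A r hr hAr ?_ f₀ hirr hnd
      intro hdvd
      have := order_le_of_dvd_card_GL p r hr hrp a hdvd
      omega

end field

end Cfsg.Agent.Helper14.TensorDerange
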