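import Mathlib
import Cfsg.Prelude.Def_GeometricClasses
import Cfsg.Agent.Lib.Helper14.TensorStab
import Cfsg.Agent.Lib.Helper14.TensorMem
import Cfsg.Agent.Lib.Helper14.DiagKd
import Cfsg.Agent.Lib.Helper14.InvolSL

set_option autoImplicit false

/-!
Elements `x` of `SL_{2b}(q)` with `x²` scalar are Kronecker products `A ⊗ B` with `A` of size 2,
when `(q - 1)_2 ≤ (2b)_2`.
-/

namespace Cfsg.Agent.Helper14.TensorFix

open Matrix Module Polynomial
open scoped Kronecker
open Cfsg.Agent.Helper14.TensorStab Cfsg.Agent.Helper14.DiagKd Cfsg.Agent.Helper14.TensorMem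
open Cfsg.Agent.Helper42.SemiConj

universe u

variable {F : Type u} [Field F]

section gen

variable {ι : Type} [Fintype ι] [DecidableEq ι]

theorem aeval_toLin'_gen (A : Matrix ι ι F) (q : F[X]) :
    aeval (Matrix.toLin' A) q = Matrix.toLin' (aeval A q) := by
  have := Polynomial.aeval_algHom_apply (Matrix.toLinAlgEquiv' (R := F) (n := ι)) A q
  exact this

theorem aeval_sq_mat (N : Matrix ι ι F) (z : F) (h : N * N = z • (1 : Matrix ι ι F)) :
    aeval N (X ^ 2 - C z : F[X]) = 0 := by
  rw [map_sub, map_pow, aeval_X, aeval_C, Algebra.algebraMap_eq_smul_one, pow_two, h, sub_self]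

theorem aeval_sq_lin (N : Matrix ι ι F) (z : F) (h : N * N = z • (1 : Matrix ι ι F)) :
    aeval (Matrix.toLin' N) (X ^ 2 - C z : F[X]) = 0 := by
  rw [aeval_toLin'_gen, aeval_sq_mat N z h, map_zero]

/-- a matrix with invertible scalar square, as an element of `GL` -/
def unitOfSq (N : Matrix ι ι F) (z : F) (hz : z ≠ 0) (h : N * N = z • (1 : Matrix ι ι F)) :
    GL ι F :=
  ⟨N, z⁻¹ • N, by rw [Matrix.mul_smul, h, smul_smul, inv_mul_cancel₀ hz, one_smul],
    by rw [Matrix.smul_mul, h, smul_smul, inv_mul_cancel₀ hz, one_smul]⟩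

theorem unitOfSq_val (N : Matrix ι ι F) (z : F) (hz : z ≠ 0) (h : N * N = z • (1 : Matrix ι ι F)) :
    (unitOfSq N z hz h).val = N := rfl

theorem prod_pm (w : F) : (X - C w : F[X]) * (X - C (-w)) = X ^ 2 - C (w * w) := by
  rw [map_neg, map_mul]
  ring

theorem pm_ne (w : F) (hw : w ≠ 0) (h2 : (2 : F) ≠ 0) : w ≠ -w := by
  intro h
  have h3 : (2 : F) * w = 0 := by linear_combination h
  rcases mul_eq_zero.mp h3 with h4 | h4
  · exact h2 h4
  · exact hw h4

theorem pm_poly_ne (w : F) (hw : w ≠ 0) (h2 : (2 : F) ≠ 0) : (X - C w : F[X]) ≠ X - C (-w) := by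
  intro h
  have h1 : (C w : F[X]) = C (-w) := by
    have := congrArg (fun f : F[X] => X - f) h
    simpa using this
  exact pm_ne w hw h2 (Polynomial.C_injective h1)

/-- the two linear factors of `X² - w²` -/
noncomputable def pmSet (w : F) : Finset F[X] := by
  classical
  exact {X - C w, X - C (-w)}

theorem pm_coprime (w : F) (hw : w ≠ 0) (h2 : (2 : F) ≠ 0) :
    ((pmSet w : Finset F[X]) : Set F[X]).Pairwise IsCoprime := by
  classical
  unfold pmSet
  have hne : w - -w ≠ 0 := by
    intro h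
    exact pm_ne w hw h2 (sub_eq_zero.mp h)
  have hc : IsCoprime (X - C w : F[X]) (X - C (-w)) :=
    Polynomial.isCoprime_X_sub_C_of_isUnit_sub hne.isUnit
  intro f hf g hg hfg
  simp only [Finset.coe_insert, Finset.coe_singleton, Set.mem_insert_iff,
    Set.mem_singleton_iff] at hf hg
  rcases hf with rfl | rfl <;> rcases hg with rfl | rfl
  · exact absurd rfl hfg
  · exact hc
  · exact hc.symm
  · exact absurd rfl hfg

theorem pm_irr (w : F) : ∀ f ∈ pmSet w, Irreducible f := by
  classical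
  intro f hf
  unfold pmSet at hf
  simp only [Finset.mem_insert, Finset.mem_singleton] at hf
  rcases hf with rfl | rfl
  · exact Polynomial.irreducible_X_sub_C _
  · exact Polynomial.irreducible_X_sub_C _

theorem pm_prod (w : F) (hw : w ≠ 0) (h2 : (2 : F) ≠ 0) :
    ∏ f ∈ pmSet w, f = X ^ 2 - C (w * w) := by
  classical
  unfold pmSet
  rw [Finset.prod_pair (pm_poly_ne w hw h2), prod_pm]

end gen

section det

variable [Fintype F] {n : ℕ}

/-- the determinant of a matrix with square `w²` in terms of its eigenspace dimensions -/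
theorem det_of_sq (x : Matrix (Fin n) (Fin n) F) (w : F) (hw : w ≠ 0) (h2 : (2 : F) ≠ 0)
    (hx : x * x = (w * w) • (1 : Matrix (Fin n) (Fin n) F)) :
    ∃ k, k ≤ n ∧ finrank F (LinearMap.ker (aeval (Matrix.toLin' x) (X - C w))) = k ∧
      finrank F (LinearMap.ker (aeval (Matrix.toLin' x) (X - C (-w)))) = n - k ∧
      x.det = w ^ k * (-w) ^ (n - k) := by
  classical
  set S : Finset F[X] := pmSet w with hS
  have hSmem : ∀ f, f ∈ S ↔ f = X - C w ∨ f = X - C (-w) := by
    intro f
    rw [hS]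
    unfold pmSet
    simp only [Finset.mem_insert, Finset.mem_singleton]
  have hSsum : ∀ g : F[X] → ℕ, ∑ f ∈ S, g f = g (X - C w) + g (X - C (-w)) := by
    intro g
    rw [hS]
    unfold pmSet
    rw [Finset.sum_pair (pm_poly_ne w hw h2)]
  have hne := pm_ne w hw h2
  have hcop := pm_coprime w hw h2
  have hirr := pm_irr w
  have hA : aeval x (∏ f ∈ S, f) = 0 := by
    rw [hS, pm_prod w hw h2]
    exact aeval_sq_mat x _ hx
  have hsum := sum_kd S hcop x hA
  rw [hSsum] at hsum
  set k := kd x (X - C w) with hk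
  have hkn : k ≤ n := by omega
  have hk2 : kd x (X - C (-w)) = n - k := by omega
  set D := Matrix.diagonal (two n k w (-w)) with hD
  have hB : aeval D (∏ f ∈ S, f) = 0 := by
    rw [hS, pm_prod w hw h2]
    exact aeval_sq_mat D _ (two_sq k w (-w) (w * w) rfl (by ring))
  have hkd : ∀ f ∈ S, kd x f = kd D f := by
    intro f hf
    rcases (hSmem f).mp hf with rfl | rfl
    · unfold kd
      rw [hD, kd_two_left k hkn w (-w) hne]
      rfl
    · rw [hk2]
      unfold kd
      rw [hD, kd_two_right k hkn w (-w) hne]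
  obtain ⟨P, hP⟩ := exists_GL_conj_of_kd_eq S hirr hcop x D hA hB hkd
  refine ⟨k, hkn, rfl, hk2, ?_⟩
  have h1 := congrArg Matrix.det hP
  rw [Matrix.det_mul, Matrix.det_mul, hD, det_two k hkn] at h1
  have hPdet : P.val.det ≠ 0 := by
    have := (Matrix.GeneralLinearGroup.det P).ne_zero
    exact this
  rw [mul_comm] at h1
  exact mul_right_cancel₀ hPdet h1

end det

section model

variable [Fintype F] {n b : ℕ}

theorem irreducible_sq_sub (z : F) (hz : ¬ ∃ w : F, z = w * w) :
    Irreducible (X ^ 2 - C z : F[X]) := by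
  have hmonic : (X ^ 2 - C z : F[X]).Monic := monic_X_pow_sub_C z (by norm_num)
  have hdeg : (X ^ 2 - C z : F[X]).natDegree = 2 := natDegree_X_pow_sub_C
  rw [Polynomial.Monic.irreducible_iff_roots_eq_zero_of_degree_le_three hmonic
    (by rw [hdeg]) (by rw [hdeg]; norm_num)]
  apply Multiset.eq_zero_of_forall_notMem
  intro c hc
  rw [Polynomial.mem_roots hmonic.ne_zero, IsRoot.def, eval_sub, eval_pow, eval_X, eval_C,
    sub_eq_zero] at hc
  exact hz ⟨c, by rw [← hc, pow_two]⟩

theorem finrank_ker_of_aeval_eq_zero {V : Type*} [AddCommGroup V] [Module F V]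
    (g : V →ₗ[F] V) (f : F[X]) (h : aeval g f = 0) :
    finrank F (LinearMap.ker (aeval g f)) = finrank F V := by
  rw [h, LinearMap.ker_zero, finrank_top]

/-- the model of an element with scalar square as a Kronecker product -/
theorem exists_model (hn : n = 2 * b) (hb : 0 < b) (h2 : (2 : F) ≠ 0)
    (hpad : padicValNat 2 (Fintype.card F - 1) ≤ padicValNat 2 n)
    (x : Matrix (Fin n) (Fin n) F) (hdet : x.det = 1) (z : F)
    (hx : x * x = z • (1 : Matrix (Fin n) (Fin n) F)) :
    ∃ (A : GL (Fin 2) F) (B : GL (Fin b) F) (T : (Fin n → F) ≃ₗ[F] (Fin 2 × Fin b → F)),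
      ∀ v, T (x *ᵥ v) = (A.val ⊗ₖ B.val) *ᵥ T v := by
  classical
  have hn0 : n ≠ 0 := by omega
  have hz0 : z ≠ 0 := by
    rintro rfl
    have h1 := congrArg Matrix.det hx
    rw [Matrix.det_mul, hdet, zero_smul] at h1
    haveI : Nonempty (Fin n) := ⟨⟨0, by omega⟩⟩
    rw [Matrix.det_zero, mul_one] at h1
    exact one_ne_zero h1
  by_cases hsq : ∃ w : F, z = w * w
  · obtain ⟨w, rfl⟩ := hsq
    have hw : w ≠ 0 := fun h => hz0 (by rw [h, mul_zero])
    have hne := pm_ne w hw h2
    obtain ⟨k, hkn, hk1, hk2, hdetk⟩ := det_of_sq x w hw h2 hx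
    have heven : Even (n - k) := by
      by_contra hodd
      rw [Nat.not_even_iff_odd] at hodd
      rw [hdet, hodd.neg_pow, mul_neg, ← pow_add] at hdetk
      have h3 : k + (n - k) = n := by omega
      rw [h3] at hdetk
      apply Cfsg.Agent.Helper14.InvolSL.pow_ne_neg_one h2 n hn0 hpad w
      rw [hdetk, neg_neg]
    have hkeven : Even k := by
      have hne' : Even n := ⟨b, by omega⟩
      obtain ⟨c, hc⟩ := heven
      obtain ⟨c', hc'⟩ := hne'
      exact ⟨c' - c, by omega⟩
    obtain ⟨k', hk'⟩ := hkeven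
    have hk'b : k' ≤ b := by omega
    set D := Matrix.diagonal (two b k' w (-w)) with hD
    have hDsq : D * D = (w * w) • (1 : Matrix (Fin b) (Fin b) F) :=
      two_sq k' w (-w) (w * w) rfl (by ring)
    set M := (1 : Matrix (Fin 2) (Fin 2) F) ⊗ₖ D with hM
    have hMsq : M * M = (w * w) • (1 : Matrix (Fin 2 × Fin b) (Fin 2 × Fin b) F) := by
      rw [hM, ← Matrix.mul_kronecker_mul, one_mul, hDsq, Matrix.kronecker_smul,
        Matrix.one_kronecker_one]
    have hkM1 : finrank F (LinearMap.ker (aeval (Matrix.toLin' M) (X - C w))) = k := by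
      rw [hM, finrank_ker_one_kron, hD, kd_two_left k' hk'b w (-w) hne]
      omega
    have hkM2 : finrank F (LinearMap.ker (aeval (Matrix.toLin' M) (X - C (-w)))) = n - k := by
      rw [hM, finrank_ker_one_kron, hD, kd_two_right k' hk'b w (-w) hne]
      omega
    have hSmem : ∀ f, f ∈ pmSet w ↔ f = X - C w ∨ f = X - C (-w) := by
      intro f
      unfold pmSet
      simp only [Finset.mem_insert, Finset.mem_singleton]
    obtain ⟨T, hT⟩ := exists_conj_of_prod (pmSet w) (Fin n → F) (Fin 2 × Fin b → F)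
      (Matrix.toLin' x) (Matrix.toLin' M) (pm_irr w) (pm_coprime w hw h2)
      (by rw [pm_prod w hw h2]; exact aeval_sq_lin x _ hx)
      (by rw [pm_prod w hw h2]; exact aeval_sq_lin M _ hMsq)
      (by
        intro f hf
        rcases (hSmem f).mp hf with rfl | rfl
        · rw [hk1, hkM1]
        · rw [hk2, hkM2])
    refine ⟨1, unitOfSq D (w * w) hz0 hDsq, T, ?_⟩
    intro v
    have := hT v
    rw [Matrix.toLin'_apply, Matrix.toLin'_apply] at this
    rw [this]
    rfl
  · have hirr := irreducible_sq_sub z hsq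
    set A₀ : Matrix (Fin 2) (Fin 2) F := !![0, z; 1, 0] with hA₀
    have hA₀sq : A₀ * A₀ = z • (1 : Matrix (Fin 2) (Fin 2) F) := by
      rw [hA₀]
      ext i j
      fin_cases i <;> fin_cases j <;> simp
    set M := A₀ ⊗ₖ (1 : Matrix (Fin b) (Fin b) F) with hM
    have hMsq : M * M = z • (1 : Matrix (Fin 2 × Fin b) (Fin 2 × Fin b) F) := by
      rw [hM, ← Matrix.mul_kronecker_mul, one_mul, hA₀sq, Matrix.smul_kronecker,
        Matrix.one_kronecker_one]
    have h1 := aeval_sq_lin x z hx
    have h2' := aeval_sq_lin M z hMsq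
    obtain ⟨T, hT⟩ := exists_conj_of_prod ({X ^ 2 - C z} : Finset F[X]) (Fin n → F)
      (Fin 2 × Fin b → F) (Matrix.toLin' x) (Matrix.toLin' M)
      (by
        intro f hf
        rw [Finset.mem_singleton] at hf
        rw [hf]
        exact hirr)
      (by
        rw [Finset.coe_singleton]
        exact Set.pairwise_singleton _ _)
      (by rw [Finset.prod_singleton]; exact h1)
      (by rw [Finset.prod_singleton]; exact h2')
      (by
        intro f hf
        rw [Finset.mem_singleton] at hf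
        rw [hf, finrank_ker_of_aeval_eq_zero _ _ h1, finrank_ker_of_aeval_eq_zero _ _ h2',
          Module.finrank_fin_fun, finrank_W]
        exact hn)
    refine ⟨unitOfSq A₀ z hz0 hA₀sq, 1, T, ?_⟩
    intro v
    have := hT v
    rw [Matrix.toLin'_apply, Matrix.toLin'_apply] at this
    rw [this]
    rfl

end model

section final

variable [Fintype F] {n b : ℕ}

/-- every element of `SL_{2b}(q)` with scalar square is conjugate in `SL` into the stabiliser of a
tensor decomposition `2 ⊗ b`, when `(q - 1)_2 ≤ (2b)_2` -/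
theorem exists_conj_mem (hn : n = 2 * b) (hb : 0 < b) (h2 : (2 : F) ≠ 0)
    (hpad : padicValNat 2 (Fintype.card F - 1) ≤ padicValNat 2 n)
    (e : Fin n ≃ Fin 2 × Fin b) (P : GL (Fin n) F) (x : GL (Fin n) F)
    (hx : x ∈ Cfsg.Geo.specialLinear (Fin n) F) (z : F)
    (hz : ((x ^ 2 : GL (Fin n) F) : Matrix (Fin n) (Fin n) F) =
      z • (1 : Matrix (Fin n) (Fin n) F))
    (hns : ∀ z : F, (x : Matrix (Fin n) (Fin n) F) ≠ z • (1 : Matrix (Fin n) (Fin n) F)) :
    ∃ g ∈ Cfsg.Geo.specialLinear (Fin n) F,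
      g⁻¹ * x * g ∈ Cfsg.Geo.tensorProductSubgroup 2 b e P := by
  have hdet : x.val.det = 1 := by
    unfold Cfsg.Geo.specialLinear at hx
    rw [MonoidHom.mem_ker] at hx
    have := congrArg Units.val hx
    rwa [Matrix.GeneralLinearGroup.val_det_apply, Units.val_one] at this
  have hxx : x.val * x.val = z • (1 : Matrix (Fin n) (Fin n) F) := by
    rw [← pow_two, ← Units.val_pow_eq_pow_val]
    exact hz
  obtain ⟨A, B, T, hT⟩ := exists_model hn hb h2 hpad x.val hdet z hxx
  let x' : Matrix.SpecialLinearGroup (Fin n) F := ⟨x.val, hdet⟩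
  have hz' : ((x' ^ 2 : Matrix.SpecialLinearGroup (Fin n) F) : Matrix (Fin n) (Fin n) F) =
      z • (1 : Matrix (Fin n) (Fin n) F) := by
    rw [Matrix.SpecialLinearGroup.coe_pow, pow_two]
    exact hxx
  let Aut : (Fin n → F) ≃ₗ[F] (Fin n → F) := T.trans (phi e P).symm
  obtain ⟨Pm, hPm⟩ := Cfsg.Agent.Helper14.InvolSL.exists_SL_conj (by omega) x' z hz' hns Aut
  refine ⟨Matrix.SpecialLinearGroup.toGL Pm, ?_, ?_⟩
  · unfold Cfsg.Geo.specialLinear
    rw [MonoidHom.mem_ker]
    exact Matrix.SpecialLinearGroup.coeToGL_det _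
  · rw [mem_tensor_iff]
    refine ⟨A, B, ?_⟩
    intro v
    have hval : ((Matrix.SpecialLinearGroup.toGL Pm)⁻¹ * x * Matrix.SpecialLinearGroup.toGL Pm).val =
        (Pm⁻¹ * x' * Pm).val := by
      have hx' : x = Matrix.SpecialLinearGroup.toGL x' := Units.ext rfl
      rw [hx', ← map_inv, ← map_mul, ← map_mul]
      rfl
    rw [hval, hPm v]
    show phi e P ((phi e P).symm (T (Matrix.toLin' x.val (T.symm (phi e P v))))) = _
    rw [LinearEquiv.apply_symm_apply, Matrix.toLin'_apply, hT, LinearEquiv.apply_symm_apply]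

end final

end Cfsg.Agent.Helper14.TensorFix
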