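import Mathlib
import Cfsg.Agent.Lib.Helper14.JordanRk

set_option autoImplicit false

/-!
Models: non-degenerate alternating spaces with a unipotent isometry of prescribed Jordan type.
-/

namespace Cfsg.Agent.Helper14.UnipAlt

open Module Cfsg.Agent.Helper42.Jordan Cfsg.Agent.Helper14.JordanRk

universe u

/-- a non-degenerate alternating space with a unipotent isometry -/
structure AltModel (F : Type u) [Field F] where
  V : Type u
  [acg : AddCommGroup V]
  [mod : Module F V]
  [fd : FiniteDimensional F V]
  B : LinearMap.BilinForm F V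
  A : Module.End F V
  nondeg : B.Nondegenerate
  alt : B.IsAlt
  isom : ∀ x y, B (A x) (A y) = B x y
  nil : IsNilpotent (A - 1)

attribute [instance] AltModel.acg AltModel.mod AltModel.fd

variable {F : Type u} [Field F]

/-- the Jordan type `L` is realised by an alternating model -/
def AltReal (F : Type u) [Field F] (L : Multiset ℕ) : Prop :=
  ∃ M : AltModel F, ∀ i, rk (M.A - 1) i = (L.map (fun e => e - i)).sum

lemma nondeg_of_left {V : Type*} [AddCommGroup V] [Module F V] (B : LinearMap.BilinForm F V)
    (halt : B.IsAlt) (h : ∀ x, (∀ y, B x y = 0) → x = 0) : B.Nondegenerate := by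
  refine ⟨h, ?_⟩
  intro y hy
  apply h
  intro x
  rw [← LinearMap.IsAlt.neg halt, hy, neg_zero]

/-! ### the zero model -/

abbrev zeroModel (F : Type u) [Field F] : AltModel F where
  V := PUnit.{u+1}
  B := 0
  A := 1
  nondeg := ⟨fun _ _ => Subsingleton.elim _ _, fun _ _ => Subsingleton.elim _ _⟩
  alt := fun _ => rfl
  isom := fun _ _ => rfl
  nil := ⟨1, Subsingleton.elim _ _⟩

theorem altReal_zero : AltReal F 0 := by
  refine ⟨zeroModel F, fun i => ?_⟩
  rw [Multiset.map_zero, Multiset.sum_zero, rk_eq_zero_iff]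
  exact Subsingleton.elim _ _

/-! ### orthogonal sums -/

section sum

variable {V₁ V₂ : Type u} [AddCommGroup V₁] [Module F V₁] [AddCommGroup V₂] [Module F V₂]

/-- orthogonal sum of bilinear forms -/
def sumForm (B₁ : LinearMap.BilinForm F V₁) (B₂ : LinearMap.BilinForm F V₂) :
    LinearMap.BilinForm F (V₁ × V₂) :=
  B₁.compl₁₂ (LinearMap.fst F V₁ V₂) (LinearMap.fst F V₁ V₂) +
    B₂.compl₁₂ (LinearMap.snd F V₁ V₂) (LinearMap.snd F V₁ V₂)

@[simp] lemma sumForm_apply (B₁ : LinearMap.BilinForm F V₁) (B₂ : LinearMap.BilinForm F V₂)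
    (p q : V₁ × V₂) : sumForm B₁ B₂ p q = B₁ p.1 q.1 + B₂ p.2 q.2 := rfl

lemma prodMap_sub_one (A₁ : Module.End F V₁) (A₂ : Module.End F V₂) :
    A₁.prodMap A₂ - 1 = (A₁ - 1).prodMap (A₂ - 1) := by
  apply LinearMap.ext
  rintro ⟨x, y⟩
  rfl

lemma isNilpotent_prodMap (N₁ : Module.End F V₁) (N₂ : Module.End F V₂) (h₁ : IsNilpotent N₁)
    (h₂ : IsNilpotent N₂) : IsNilpotent (N₁.prodMap N₂) := by
  obtain ⟨n₁, hn₁⟩ := h₁
  obtain ⟨n₂, hn₂⟩ := h₂
  refine ⟨n₁ + n₂, ?_⟩
  rw [prodMap_pow', pow_add, hn₁, zero_mul, pow_add, hn₂, mul_zero]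
  apply LinearMap.ext
  rintro ⟨x, y⟩
  rfl

end sum

abbrev sumModel (M₁ M₂ : AltModel F) : AltModel F where
  V := M₁.V × M₂.V
  B := sumForm M₁.B M₂.B
  A := M₁.A.prodMap M₂.A
  nondeg := by
    apply nondeg_of_left
    · intro p
      rw [sumForm_apply, M₁.alt, M₂.alt, add_zero]
    · rintro ⟨x₁, x₂⟩ h
      have h1 : x₁ = 0 := by
        apply M₁.nondeg.1
        intro y
        have := h (y, 0)
        simpa using this
      have h2 : x₂ = 0 := by
        apply M₂.nondeg.1
        intro y
        have := h (0, y)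
        simpa using this
      rw [h1, h2]; rfl
  alt := by
    intro p
    rw [sumForm_apply, M₁.alt, M₂.alt, add_zero]
  isom := by
    intro p q
    simp only [sumForm_apply, LinearMap.prodMap_apply, M₁.isom, M₂.isom]
  nil := by
    rw [prodMap_sub_one]
    exact isNilpotent_prodMap _ _ M₁.nil M₂.nil

theorem altReal_add {L₁ L₂ : Multiset ℕ} (h₁ : AltReal F L₁) (h₂ : AltReal F L₂) :
    AltReal F (L₁ + L₂) := by
  obtain ⟨M₁, hM₁⟩ := h₁
  obtain ⟨M₂, hM₂⟩ := h₂
  refine ⟨sumModel M₁ M₂, fun i => ?_⟩
  show @rk F _ (M₁.V × M₂.V) _ _ (M₁.A.prodMap M₂.A - 1) i = _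
  rw [prodMap_sub_one, rk_prodMap, hM₁, hM₂, Multiset.map_add, Multiset.sum_add]

/-! ### hyperbolic pairs -/

section hyp

variable {W : Type u} [AddCommGroup W] [Module F W]

lemma dualMap_pow (f : Module.End F W) (n : ℕ) :
    (f.dualMap : Module.End F (Module.Dual F W)) ^ n = (f ^ n).dualMap := by
  induction n with
  | zero => rw [pow_zero, pow_zero]; rfl
  | succ n ih =>
    rw [pow_succ, ih, pow_succ', Module.End.mul_eq_comp, LinearMap.dualMap_comp_dualMap]
    rfl

lemma rk_dualMap [FiniteDimensional F W] (f : Module.End F W) (i : ℕ) :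
    rk (f.dualMap : Module.End F (Module.Dual F W)) i = rk f i := by
  rw [rk, rk, dualMap_pow, LinearMap.finrank_range_dualMap_eq_finrank_range]

lemma isNilpotent_dualMap (f : Module.End F W) (h : IsNilpotent f) :
    IsNilpotent (f.dualMap : Module.End F (Module.Dual F W)) := by
  obtain ⟨n, hn⟩ := h
  refine ⟨n, ?_⟩
  rw [dualMap_pow, hn]
  apply LinearMap.ext; intro ξ
  apply LinearMap.ext; intro x
  simp [LinearMap.dualMap_apply]

variable (W) in
/-- the alternating pairing on `W × Dual W` -/
def hypForm : LinearMap.BilinForm F (W × Module.Dual F W) :=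
  (LinearMap.id : Module.Dual F W →ₗ[F] W →ₗ[F] F).compl₁₂
      (LinearMap.snd F W (Module.Dual F W)) (LinearMap.fst F W (Module.Dual F W)) -
    ((LinearMap.id : Module.Dual F W →ₗ[F] W →ₗ[F] F).compl₁₂
      (LinearMap.snd F W (Module.Dual F W)) (LinearMap.fst F W (Module.Dual F W))).flip

@[simp] lemma hypForm_apply (p q : W × Module.Dual F W) :
    hypForm W p q = p.2 q.1 - q.2 p.1 := rfl

lemma dualMap_sub_one (f : Module.End F W) :
    (f.dualMap : Module.End F (Module.Dual F W)) - 1 = (f - 1).dualMap := by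
  apply LinearMap.ext; intro ξ
  apply LinearMap.ext; intro x
  simp [LinearMap.dualMap_apply]

end hyp

abbrev hypModel {W : Type u} [AddCommGroup W] [Module F W] [FiniteDimensional F W]
    (T T' : Module.End F W) (hTT' : T' * T = 1) (hnil : IsNilpotent (T - 1))
    (hnil' : IsNilpotent (T' - 1)) : AltModel F where
  V := W × Module.Dual F W
  B := hypForm W
  A := T.prodMap T'.dualMap
  nondeg := by
    apply nondeg_of_left
    · intro p
      rw [hypForm_apply, sub_self]
    · rintro ⟨x, ξ⟩ h
      have h1 : ξ = 0 := by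
        apply LinearMap.ext; intro y
        have := h (y, 0)
        simpa using this
      have h2 : x = 0 := by
        rw [← Module.forall_dual_apply_eq_zero_iff F]
        intro η
        have := h (0, η)
        simpa using this
      rw [h1, h2]; rfl
  alt := by
    intro p
    rw [hypForm_apply, sub_self]
  isom := by
    intro p q
    have h : ∀ x, T' (T x) = x := fun x => by
      rw [← Module.End.mul_apply, hTT', Module.End.one_apply]
    simp only [hypForm_apply, LinearMap.prodMap_apply, LinearMap.dualMap_apply, h]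
  nil := by
    rw [prodMap_sub_one, dualMap_sub_one]
    exact isNilpotent_prodMap _ _ hnil (isNilpotent_dualMap _ hnil')

theorem altReal_pair (a : ℕ) : AltReal F {a, a} := by
  have hs : IsNilpotent (shift F a) := ⟨a, by rw [← rk_eq_zero_iff, rk_shift]; omega⟩
  obtain ⟨u, hu⟩ := hs.isUnit_one_add
  have hTT' : (↑u⁻¹ : Module.End F (Fin a → F)) * (1 + shift F a) = 1 := by
    rw [← hu]; exact u.inv_mul
  have hT'T : (1 + shift F a) * (↑u⁻¹ : Module.End F (Fin a → F)) = 1 := by
    rw [← hu]; exact u.mul_inv
  set T' : Module.End F (Fin a → F) := ↑u⁻¹ with hT'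
  have hT1 : (1 + shift F a) - 1 = shift F a := by abel
  have hcomm : Commute T' (shift F a) := by
    have h1 : Commute T' (1 + shift F a) := by
      rw [Commute, SemiconjBy, hTT', hT'T]
    have := h1.sub_right (Commute.one_right T')
    rwa [hT1] at this
  have hT'1 : T' - 1 = -(T' * shift F a) := by
    have : T' * (1 + shift F a) = 1 := hTT'
    rw [mul_add, mul_one] at this
    rw [← this]; abel
  have hnil' : IsNilpotent (T' - 1) := by
    rw [hT'1]
    exact (hcomm.isNilpotent_mul_left hs).neg
  have hker : finrank F (LinearMap.ker (T' - 1)) ≤ 1 := by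
    have hle : LinearMap.ker (T' - 1) ≤ LinearMap.ker (shift F a) := by
      intro x hx
      rw [LinearMap.mem_ker] at hx ⊢
      have h1 : T' x = x := by
        rw [LinearMap.sub_apply, Module.End.one_apply, sub_eq_zero] at hx; exact hx
      have h2 : (1 + shift F a) (T' x) = x := by
        rw [← Module.End.mul_apply, hT'T, Module.End.one_apply]
      rw [h1, LinearMap.add_apply, Module.End.one_apply] at h2
      simpa using h2
    have h3 : rk (shift F a) 1 + finrank F (LinearMap.ker (shift F a)) = finrank F (Fin a → F) := by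
      rw [rk, pow_one]; exact LinearMap.finrank_range_add_finrank_ker _
    rw [rk_shift, Module.finrank_fin_fun] at h3
    have := Submodule.finrank_mono hle
    omega
  refine ⟨hypModel (1 + shift F a) T' hTT' (by rw [hT1]; exact hs) hnil', fun i => ?_⟩
  show @rk F _ ((Fin a → F) × Module.Dual F (Fin a → F)) _ _
    ((1 + shift F a).prodMap T'.dualMap - 1) i = _
  rw [prodMap_sub_one, dualMap_sub_one, rk_prodMap, rk_dualMap, hT1, rk_shift,
    rk_of_ker_le_one _ hnil' hker, Module.finrank_fin_fun]
  simp

/-! ### the extension `F × V × F` -/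

section ext

variable {V : Type u} [AddCommGroup V] [Module F V]

/-- the form `a b' - b a' + B(v, v')` on `F × V × F` -/
def extForm (B : LinearMap.BilinForm F V) : LinearMap.BilinForm F (F × V × F) :=
  (LinearMap.mul F F).compl₁₂ (LinearMap.fst F F (V × F))
      (LinearMap.snd F V F ∘ₗ LinearMap.snd F F (V × F)) -
    (LinearMap.mul F F).compl₁₂ (LinearMap.snd F V F ∘ₗ LinearMap.snd F F (V × F))
      (LinearMap.fst F F (V × F)) +
    B.compl₁₂ (LinearMap.fst F V F ∘ₗ LinearMap.snd F F (V × F))
      (LinearMap.fst F V F ∘ₗ LinearMap.snd F F (V × F))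

@[simp] lemma extForm_apply (B : LinearMap.BilinForm F V) (p q : F × V × F) :
    extForm B p q = p.1 * q.2.2 - p.2.2 * q.1 + B p.2.1 q.2.1 := rfl

/-- the extended map -/
def extMap (B : LinearMap.BilinForm F V) (A : Module.End F V) (w : V) (c : F) :
    Module.End F (F × V × F) where
  toFun p := (p.1 - B (A p.2.1) w + c * p.2.2, A p.2.1 + p.2.2 • w, p.2.2)
  map_add' p q := by
    refine Prod.ext ?_ (Prod.ext ?_ rfl)
    · simp only [Prod.fst_add, Prod.snd_add, map_add, LinearMap.add_apply]
      ring
    · simp only [Prod.fst_add, Prod.snd_add, map_add, add_smul]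
      abel
  map_smul' a p := by
    refine Prod.ext ?_ (Prod.ext ?_ rfl)
    · simp only [Prod.smul_fst, Prod.smul_snd, map_smul, LinearMap.smul_apply, smul_eq_mul,
        RingHom.id_apply]
      ring
    · simp only [Prod.smul_fst, Prod.smul_snd, map_smul, smul_eq_mul, RingHom.id_apply, smul_add,
        mul_smul]

@[simp] lemma extMap_apply (B : LinearMap.BilinForm F V) (A : Module.End F V) (w : V) (c : F)
    (p : F × V × F) :
    extMap B A w c p = (p.1 - B (A p.2.1) w + c * p.2.2, A p.2.1 + p.2.2 • w, p.2.2) := rfl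

lemma extMap_sub_one_apply (B : LinearMap.BilinForm F V) (A : Module.End F V) (w : V) (c : F)
    (p : F × V × F) :
    (extMap B A w c - 1) p = (- B (A p.2.1) w + c * p.2.2, (A - 1) p.2.1 + p.2.2 • w, 0) := by
  rw [LinearMap.sub_apply, extMap_apply, Module.End.one_apply]
  refine Prod.ext ?_ (Prod.ext ?_ ?_)
  · simp only [Prod.fst_sub]; ring
  · simp only [Prod.snd_sub, Prod.fst_sub, LinearMap.sub_apply, Module.End.one_apply]; abel
  · simp

lemma extMap_pow (B : LinearMap.BilinForm F V) (A : Module.End F V) (w : V) (c : F) (j : ℕ)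
    (p : F × V × F) :
    (((extMap B A w c - 1) ^ (j + 1)) p).2.2 = 0 ∧
    (((extMap B A w c - 1) ^ (j + 1)) p).2.1 = ((A - 1) ^ j) ((A - 1) p.2.1 + p.2.2 • w) := by
  induction j with
  | zero =>
    rw [zero_add, pow_one, extMap_sub_one_apply]
    simp
  | succ j ih =>
    rw [pow_succ', Module.End.mul_apply, extMap_sub_one_apply]
    refine ⟨rfl, ?_⟩
    show (A - 1) (((extMap B A w c - 1) ^ (j + 1)) p).2.1 +
      (((extMap B A w c - 1) ^ (j + 1)) p).2.2 • w = _
    rw [ih.1, ih.2, zero_smul, add_zero, pow_succ' (A - 1) j, Module.End.mul_apply]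

lemma isNilpotent_extMap (B : LinearMap.BilinForm F V) (A : Module.End F V) (w : V) (c : F)
    (h : IsNilpotent (A - 1)) : IsNilpotent (extMap B A w c - 1) := by
  obtain ⟨n, hn⟩ := h
  refine ⟨n + 2, ?_⟩
  apply LinearMap.ext; intro p
  rw [pow_succ', Module.End.mul_apply, extMap_sub_one_apply]
  obtain ⟨h1, h2⟩ := extMap_pow B A w c n p
  rw [h1, h2, hn]
  simp

end ext

/-- regular models: the kernel of `A - 1` is a line -/
def AltReg (F : Type u) [Field F] (n : ℕ) : Prop :=
  ∃ M : AltModel F, finrank F M.V = n ∧ finrank F (LinearMap.ker (M.A - 1)) = 1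

theorem altReal_of_reg {n : ℕ} (h : AltReg F n) : AltReal F {n} := by
  obtain ⟨M, hn, hk⟩ := h
  refine ⟨M, fun i => ?_⟩
  rw [rk_of_ker_le_one _ M.nil hk.le, hn]
  simp

/-- the extension of a model -/
abbrev extModel (M : AltModel F) (w : M.V) : AltModel F where
  V := F × M.V × F
  B := extForm M.B
  A := extMap M.B M.A w 0
  nondeg := by
    apply nondeg_of_left
    · intro p
      rw [extForm_apply, M.alt]; ring
    · rintro ⟨a, v, b⟩ h
      have h1 : a = 0 := by
        have := h (0, 0, 1)
        simpa using this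
      have h2 : b = 0 := by
        have := h (1, 0, 0)
        simpa using this
      have h3 : v = 0 := by
        apply M.nondeg.1
        intro y
        have := h (0, y, 0)
        simpa using this
      rw [h1, h2, h3]; rfl
  alt := by
    intro p
    rw [extForm_apply, M.alt]; ring
  isom := by
    rintro ⟨a, v, b⟩ ⟨a', v', b'⟩
    have h1 := LinearMap.IsAlt.neg M.alt w (M.A v')
    have h2 := M.alt w
    simp only [extForm_apply, extMap_apply, map_add, map_smul, LinearMap.add_apply,
      LinearMap.smul_apply, smul_eq_mul, M.isom, h2, ← h1]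
    ring
  nil := isNilpotent_extMap _ _ _ _ M.nil

theorem altReg_ext {n : ℕ} (h : AltReg F n) : AltReg F (n + 2) := by
  obtain ⟨M, hn, hk⟩ := h
  obtain ⟨⟨v₀, hv₀mem⟩, hv₀ne, hspan⟩ := finrank_eq_one_iff'.mp hk
  have hv₀ : v₀ ≠ 0 := fun h0 => hv₀ne (Subtype.ext h0)
  have hNv₀ : (M.A - 1) v₀ = 0 := hv₀mem
  have hAv₀ : M.A v₀ = v₀ := by
    rw [LinearMap.sub_apply, Module.End.one_apply, sub_eq_zero] at hNv₀; exact hNv₀
  obtain ⟨w, hw⟩ : ∃ w, M.B v₀ w = 1 := by
    obtain ⟨w', hw'⟩ : ∃ w', M.B v₀ w' ≠ 0 := by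
      by_contra hcon
      exact hv₀ (M.nondeg.1 v₀ (fun y => by_contra fun hy => hcon ⟨y, hy⟩))
    refine ⟨(M.B v₀ w')⁻¹ • w', ?_⟩
    rw [map_smul, smul_eq_mul, inv_mul_cancel₀ hw']
  have hBN : ∀ v, M.B v₀ ((M.A - 1) v) = 0 := by
    intro v
    rw [LinearMap.sub_apply, Module.End.one_apply, map_sub]
    nth_rewrite 1 [← hAv₀]
    rw [M.isom, sub_self]
  have hkerN' : ∀ p : F × M.V × F, (extMap M.B M.A w 0 - 1) p = 0 → p.2.1 = 0 ∧ p.2.2 = 0 := by
    rintro ⟨a, v, b⟩ hp
    rw [extMap_sub_one_apply] at hp
    have hp1 : - M.B (M.A v) w + 0 * b = 0 := congrArg Prod.fst hp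
    have hp2 : (M.A - 1) v + b • w = 0 := congrArg (fun q : F × M.V × F => q.2.1) hp
    have hb : b = 0 := by
      have := congrArg (M.B v₀) hp2
      rw [map_add, hBN, map_smul, hw, map_zero, zero_add, smul_eq_mul, mul_one] at this
      exact this
    rw [hb, zero_smul, add_zero] at hp2
    obtain ⟨t, ht⟩ := hspan ⟨v, hp2⟩
    have ht' : t • v₀ = v := congrArg Subtype.val ht
    have hAv : M.A v = v := by
      rw [LinearMap.sub_apply, Module.End.one_apply, sub_eq_zero] at hp2; exact hp2
    rw [hAv, ← ht', map_smul, LinearMap.smul_apply, hw] at hp1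
    have ht0 : t = 0 := by simpa using hp1
    refine ⟨?_, hb⟩
    show v = 0
    rw [← ht', ht0, zero_smul]
  refine ⟨extModel M w, ?_, ?_⟩
  · show finrank F (F × M.V × F) = n + 2
    rw [Module.finrank_prod, Module.finrank_prod, hn, Module.finrank_self]
    omega
  · show finrank F (LinearMap.ker (extMap M.B M.A w 0 - 1)) = 1
    rw [finrank_eq_one_iff']
    refine ⟨⟨(1, 0, 0), ?_⟩, ?_, ?_⟩
    · rw [LinearMap.mem_ker, extMap_sub_one_apply]
      simp
    · intro h0
      have := congrArg (fun q : LinearMap.ker (extMap M.B M.A w 0 - 1) => q.1.1) h0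
      simp at this
    · rintro ⟨⟨a, v, b⟩, hp⟩
      obtain ⟨h1, h2⟩ := hkerN' _ hp
      refine ⟨a, ?_⟩
      apply Subtype.ext
      show a • ((1 : F), (0 : M.V), (0 : F)) = (a, v, b)
      have h1' : v = 0 := h1
      have h2' : b = 0 := h2
      rw [h1', h2']
      simp

/-- the base case: the hyperbolic plane with a transvection -/
abbrev baseModel (F : Type u) [Field F] : AltModel F where
  V := F × F
  B := (LinearMap.mul F F).compl₁₂ (LinearMap.fst F F F) (LinearMap.snd F F F) -
    (LinearMap.mul F F).compl₁₂ (LinearMap.snd F F F) (LinearMap.fst F F F)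
  A := LinearMap.prod (LinearMap.fst F F F + LinearMap.snd F F F) (LinearMap.snd F F F)
  nondeg := by
    apply nondeg_of_left
    · intro p
      show p.1 * p.2 - p.2 * p.1 = 0
      ring
    · rintro ⟨a, b⟩ h
      have h1 : a = 0 := by
        have : a * 1 - b * 0 = 0 := h (0, 1)
        simpa using this
      have h2 : b = 0 := by
        have : a * 0 - b * 1 = 0 := h (1, 0)
        simpa using this
      rw [h1, h2]; rfl
  alt := by
    intro p
    show p.1 * p.2 - p.2 * p.1 = 0
    ring
  isom := by
    rintro ⟨a, b⟩ ⟨a', b'⟩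
    show (a + b) * b' - b * (a' + b') = a * b' - b * a'
    ring
  nil := by
    refine ⟨2, ?_⟩
    apply LinearMap.ext
    rintro ⟨a, b⟩
    rw [pow_two, Module.End.mul_apply]
    simp

theorem altReg_two : AltReg F 2 := by
  refine ⟨baseModel F, ?_, ?_⟩
  · show finrank F (F × F) = 2
    rw [Module.finrank_prod, Module.finrank_self]
  · show finrank F (LinearMap.ker
      ((LinearMap.prod (LinearMap.fst F F F + LinearMap.snd F F F) (LinearMap.snd F F F) :
        Module.End F (F × F)) - 1)) = 1
    rw [finrank_eq_one_iff']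
    refine ⟨⟨(1, 0), ?_⟩, ?_, ?_⟩
    · rw [LinearMap.mem_ker]
      simp
    · intro h0
      have := congrArg (fun q : LinearMap.ker
        ((LinearMap.prod (LinearMap.fst F F F + LinearMap.snd F F F) (LinearMap.snd F F F) :
          Module.End F (F × F)) - 1) => q.1.1) h0
      simp at this
    · rintro ⟨⟨a, b⟩, hp⟩
      refine ⟨a, ?_⟩
      apply Subtype.ext
      rw [LinearMap.mem_ker] at hp
      have hb : b = 0 := by
        have := congrArg Prod.fst hp
        simpa using this
      show a • ((1 : F), (0 : F)) = (a, b)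
      rw [hb]; simp

theorem altReg_even (r : ℕ) : AltReg F (2 * (r + 1)) := by
  induction r with
  | zero => exact altReg_two
  | succ r ih => exact altReg_ext ih

/-! ### assembling by parity -/

theorem real_of_parity (P : Multiset ℕ → Prop) (par : ℕ → Prop) (h0 : P 0)
    (hadd : ∀ s t, P s → P t → P (s + t)) (hsingle : ∀ a, ¬ par a → P {a})
    (hpair : ∀ a, P {a, a}) :
    ∀ L : Multiset ℕ, (∀ j, par j → Even (L.count j)) → P L := by
  intro L
  induction' hn : Multiset.card L using Nat.strong_induction_on with n ih generalizing L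
  intro hpar
  rcases Multiset.empty_or_exists_mem L with rfl | ⟨a, ha⟩
  · exact h0
  · obtain ⟨L', rfl⟩ := Multiset.exists_cons_of_mem ha
    by_cases hp : par a
    · have h1 := hpar a hp
      rw [Multiset.count_cons_self] at h1
      have h2 : 0 < L'.count a := by
        rcases h1 with ⟨c, hc⟩; omega
      have ha' : a ∈ L' := Multiset.count_pos.mp h2
      obtain ⟨L'', rfl⟩ := Multiset.exists_cons_of_mem ha'
      have e : a ::ₘ a ::ₘ L'' = {a, a} + L'' := by
        rw [Multiset.insert_eq_cons, ← Multiset.singleton_add a L'', ← Multiset.singleton_add,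
          ← Multiset.singleton_add, add_assoc]
      rw [e]
      apply hadd _ _ (hpair a)
      apply ih (Multiset.card L'') (by simp at hn; omega) L'' rfl
      intro j hj
      have := hpar j hj
      rw [Multiset.count_cons, Multiset.count_cons] at this
      by_cases hja : j = a
      · rw [if_pos hja] at this
        rcases this with ⟨c, hc⟩
        exact ⟨c - 1, by omega⟩
      · rw [if_neg hja] at this
        simpa using this
    · have e : a ::ₘ L' = {a} + L' := (Multiset.singleton_add a L').symm
      rw [e]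
      apply hadd _ _ (hsingle a hp)
      apply ih (Multiset.card L') (by simp at hn; omega) L' rfl
      intro j hj
      have := hpar j hj
      rw [Multiset.count_cons] at this
      by_cases hja : j = a
      · exact absurd (hja ▸ hj) hp
      · rw [if_neg hja] at this
        simpa using this

/-- every Jordan type in which odd sizes have even multiplicity is realised -/
theorem altReal_of_parity (L : Multiset ℕ) (h : ∀ j, Odd j → Even (L.count j)) : AltReal F L := by
  refine real_of_parity (AltReal F) Odd altReal_zero (fun _ _ => altReal_add) ?_ altReal_pair L h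
  intro a ha
  rcases Nat.even_or_odd a with he | ho
  · obtain ⟨r, hr⟩ := he
    rcases Nat.eq_zero_or_pos r with rfl | hpos
    · have : a = 0 := by omega
      subst this
      obtain ⟨M, hM⟩ := (altReal_zero : AltReal F 0)
      refine ⟨M, fun i => ?_⟩
      rw [hM i]; simp
    · apply altReal_of_reg
      have : a = 2 * ((r - 1) + 1) := by omega
      rw [this]
      exact altReg_even (r - 1)
  · exact absurd ho ha

end Cfsg.Agent.Helper14.UnipAlt
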