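import Mathlib
import Cfsg.Agent.Lib.Helper14.JordanRk

set_option autoImplicit false

/-!
Rank sequences under reindexing and conjugation; conjugacy of matrices from equal rank sequences.
-/

namespace Cfsg.Agent.Helper14.UnipConj

open Module Cfsg.Agent.Helper42.Jordan Cfsg.Agent.Helper14.JordanRk

universe u

variable {F : Type u} [Field F]

section

variable {I J : Type*} [Fintype I] [DecidableEq I] [Fintype J] [DecidableEq J]

omit [Fintype I] [Fintype J] in
lemma reindex_sub_one (e : I ≃ J) (X : Matrix I I F) :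
    Matrix.reindex e e X - 1 = Matrix.reindex e e (X - 1) := by
  ext a b
  simp [Matrix.reindex_apply, Matrix.submatrix_apply, Matrix.sub_apply, Matrix.one_apply]

lemma rk_reindex (e : I ≃ J) (X : Matrix I I F) (i : ℕ) :
    rk (Matrix.toLin' (Matrix.reindex e e X)) i = rk (Matrix.toLin' X) i := by
  symm
  apply rk_conj _ _ (LinearEquiv.funCongrLeft F F e.symm)
  intro v
  rw [Matrix.toLin'_apply, Matrix.toLin'_apply, Matrix.reindex_apply]
  funext j
  rw [LinearEquiv.funCongrLeft_apply, LinearMap.funLeft_apply]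
  have h := Matrix.submatrix_mulVec_equiv X (LinearEquiv.funCongrLeft F F e.symm v) e.symm e.symm
  rw [h]
  simp only [Function.comp_apply]
  congr 2
  funext a
  simp [LinearEquiv.funCongrLeft_apply, LinearMap.funLeft_apply]

end

section

variable {J : Type*} [Fintype J] [DecidableEq J]

/-- the linear equivalence of a unit matrix -/
noncomputable def unitEquiv (c : (Matrix J J F)ˣ) : (J → F) ≃ₗ[F] (J → F) :=
  LinearEquiv.ofLinearMap (Matrix.toLin' (c : Matrix J J F)) (Matrix.toLin' ((c⁻¹ : (Matrix J J F)ˣ) : Matrix J J F))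
    (by rw [← Matrix.toLin'_mul, Units.mul_inv, Matrix.toLin'_one])
    (by rw [← Matrix.toLin'_mul, Units.inv_mul, Matrix.toLin'_one])

lemma rk_of_semiconj (c : (Matrix J J F)ˣ) (X Y : Matrix J J F)
    (h : (c : Matrix J J F) * X = Y * c) (i : ℕ) :
    rk (Matrix.toLin' (X - 1)) i = rk (Matrix.toLin' (Y - 1)) i := by
  apply rk_conj _ _ (unitEquiv c)
  intro v
  show Matrix.toLin' (c : Matrix J J F) (Matrix.toLin' (X - 1) v) =
    Matrix.toLin' (Y - 1) (Matrix.toLin' (c : Matrix J J F) v)
  rw [← Matrix.toLin'_mul_apply, ← Matrix.toLin'_mul_apply, mul_sub, sub_mul, h, mul_one, one_mul]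

/-- equal rank sequences of the nilpotent parts give conjugate matrices -/
theorem isConj_of_rk_eq (X Y : Matrix J J F) (hnil : IsNilpotent (Matrix.toLin' (X - 1)))
    (h : ∀ i, rk (Matrix.toLin' (X - 1)) i = rk (Matrix.toLin' (Y - 1)) i) : IsConj X Y := by
  obtain ⟨P, hP⟩ := exists_conj_of_rk_eq (finrank F (J → F)) (J → F) (J → F)
    (Matrix.toLin' (X - 1)) (Matrix.toLin' (Y - 1)) rfl hnil h
  have h1 : LinearMap.toMatrix' (P : (J → F) →ₗ[F] (J → F)) *
      LinearMap.toMatrix' (P.symm : (J → F) →ₗ[F] (J → F)) = 1 := by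
    rw [← LinearMap.toMatrix'_comp, LinearEquiv.comp_coe, LinearEquiv.symm_trans_self,
      LinearEquiv.refl_toLinearMap, LinearMap.toMatrix'_id]
  have h2 : LinearMap.toMatrix' (P.symm : (J → F) →ₗ[F] (J → F)) *
      LinearMap.toMatrix' (P : (J → F) →ₗ[F] (J → F)) = 1 := by
    rw [← LinearMap.toMatrix'_comp, LinearEquiv.comp_coe, LinearEquiv.self_trans_symm,
      LinearEquiv.refl_toLinearMap, LinearMap.toMatrix'_id]
  refine ⟨⟨_, _, h1, h2⟩, ?_⟩
  show LinearMap.toMatrix' (P : (J → F) →ₗ[F] (J → F)) * X =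
    Y * LinearMap.toMatrix' (P : (J → F) →ₗ[F] (J → F))
  have h3 : LinearMap.toMatrix' (P : (J → F) →ₗ[F] (J → F)) * (X - 1) =
      (Y - 1) * LinearMap.toMatrix' (P : (J → F) →ₗ[F] (J → F)) := by
    have e1 : (P : (J → F) →ₗ[F] (J → F)) ∘ₗ Matrix.toLin' (X - 1) =
        Matrix.toLin' (Y - 1) ∘ₗ (P : (J → F) →ₗ[F] (J → F)) := by
      apply LinearMap.ext; intro v
      exact hP v
    have := congrArg LinearMap.toMatrix' e1
    rwa [LinearMap.toMatrix'_comp, LinearMap.toMatrix'_comp, LinearMap.toMatrix'_toLin',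
      LinearMap.toMatrix'_toLin'] at this
  rw [mul_sub, sub_mul, mul_one, one_mul] at h3
  exact sub_left_injective h3

end

section jordan

variable {t : ℕ} (d : Fin t → ℕ) {J : Type*} [Fintype J] [DecidableEq J]
  (e : ((k : Fin t) × Fin (d k)) ≃ J)

theorem rk_jordan_reindex (i : ℕ) :
    rk (Matrix.toLin' (Matrix.reindex e e (Cfsg.jordanTypeMatrix d F) - 1)) i = ∑ k, (d k - i) := by
  rw [reindex_sub_one, rk_reindex, rk_jordanType]

theorem isNilpotent_jordan_reindex :
    IsNilpotent (Matrix.toLin' (Matrix.reindex e e (Cfsg.jordanTypeMatrix d F) - 1)) := by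
  refine ⟨Finset.univ.sup d, ?_⟩
  rw [← rk_eq_zero_iff, rk_jordan_reindex]
  apply Finset.sum_eq_zero
  intro k _
  have : d k ≤ Finset.univ.sup d := Finset.le_sup (Finset.mem_univ k)
  omega

/-- multiset form of the rank sequence -/
lemma sum_map_sub (i : ℕ) :
    ((Finset.univ.val.map d).map (fun a => a - i)).sum = ∑ k, (d k - i) := by
  rw [Multiset.map_map]
  rfl

lemma count_map_eq (j : ℕ) :
    (Finset.univ.val.map d).count j = (Finset.univ.filter (fun k : Fin t => d k = j)).card := by
  rw [Multiset.count_map, Finset.card_def, Finset.filter_val]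
  congr 1
  apply Multiset.filter_congr
  intro k _
  exact eq_comm

end jordan

end Cfsg.Agent.Helper14.UnipConj
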