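import Mathlib
import Cfsg.Agent.Lib.Helper14.UnipAlt

set_option autoImplicit false

/-!
Models: quadratic spaces with non-degenerate polar form and a unipotent isometry of prescribed
Jordan type.
-/

namespace Cfsg.Agent.Helper14.UnipQuad

open Module Cfsg.Agent.Helper42.Jordan Cfsg.Agent.Helper14.JordanRk Cfsg.Agent.Helper14.UnipAlt

universe u

/-- a quadratic space with non-degenerate polar form and a unipotent isometry -/
structure QuadModel (F : Type u) [Field F] where
  V : Type u
  [acg : AddCommGroup V]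
  [mod : Module F V]
  [fd : FiniteDimensional F V]
  Q : QuadraticForm F V
  A : Module.End F V
  nondeg : (QuadraticMap.polarBilin Q).Nondegenerate
  isom : ∀ x, Q (A x) = Q x
  nil : IsNilpotent (A - 1)

attribute [instance] QuadModel.acg QuadModel.mod QuadModel.fd

variable {F : Type u} [Field F]

/-- the Jordan type `L` is realised by a quadratic model -/
def QuadReal (F : Type u) [Field F] (L : Multiset ℕ) : Prop :=
  ∃ M : QuadModel F, ∀ i, rk (M.A - 1) i = (L.map (fun e => e - i)).sum

lemma polar_nondeg_of_left {V : Type*} [AddCommGroup V] [Module F V] (Q : QuadraticForm F V)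
    (h : ∀ x, (∀ y, QuadraticMap.polar Q x y = 0) → x = 0) :
    (QuadraticMap.polarBilin Q).Nondegenerate := by
  refine ⟨fun x hx => h x hx, ?_⟩
  intro y hy
  apply h
  intro x
  rw [QuadraticMap.polar_comm]
  exact hy x

lemma polar_isom {V : Type*} [AddCommGroup V] [Module F V] (Q : QuadraticForm F V)
    (A : Module.End F V) (hA : ∀ x, Q (A x) = Q x) (x y : V) :
    QuadraticMap.polar Q (A x) (A y) = QuadraticMap.polar Q x y := by
  rw [QuadraticMap.polar, QuadraticMap.polar, ← map_add, hA, hA, hA]

/-! ### the zero model -/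

abbrev zeroModel (F : Type u) [Field F] : QuadModel F where
  V := PUnit.{u+1}
  Q := 0
  A := 1
  nondeg := ⟨fun _ _ => Subsingleton.elim _ _, fun _ _ => Subsingleton.elim _ _⟩
  isom := fun _ => rfl
  nil := ⟨1, Subsingleton.elim _ _⟩

theorem quadReal_zero : QuadReal F 0 := by
  refine ⟨zeroModel F, fun i => ?_⟩
  rw [Multiset.map_zero, Multiset.sum_zero, rk_eq_zero_iff]
  exact Subsingleton.elim _ _

/-! ### orthogonal sums -/

abbrev sumModel (M₁ M₂ : QuadModel F) : QuadModel F where
  V := M₁.V × M₂.V
  Q := M₁.Q.prod M₂.Q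
  A := M₁.A.prodMap M₂.A
  nondeg := by
    apply polar_nondeg_of_left
    rintro ⟨x₁, x₂⟩ h
    have h1 : x₁ = 0 := by
      apply M₁.nondeg.1
      intro y
      have := h (y, 0)
      rw [QuadraticMap.polar_prod] at this
      simpa using this
    have h2 : x₂ = 0 := by
      apply M₂.nondeg.1
      intro y
      have := h (0, y)
      rw [QuadraticMap.polar_prod] at this
      simpa using this
    rw [h1, h2]; rfl
  isom := by
    intro p
    simp only [QuadraticMap.prod_apply, LinearMap.prodMap_apply, M₁.isom, M₂.isom]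
  nil := by
    rw [prodMap_sub_one]
    exact isNilpotent_prodMap _ _ M₁.nil M₂.nil

theorem quadReal_add {L₁ L₂ : Multiset ℕ} (h₁ : QuadReal F L₁) (h₂ : QuadReal F L₂) :
    QuadReal F (L₁ + L₂) := by
  obtain ⟨M₁, hM₁⟩ := h₁
  obtain ⟨M₂, hM₂⟩ := h₂
  refine ⟨sumModel M₁ M₂, fun i => ?_⟩
  show @rk F _ (M₁.V × M₂.V) _ _ (M₁.A.prodMap M₂.A - 1) i = _
  rw [prodMap_sub_one, rk_prodMap, hM₁, hM₂, Multiset.map_add, Multiset.sum_add]

/-! ### hyperbolic pairs -/

abbrev hypModel {W : Type u} [AddCommGroup W] [Module F W] [FiniteDimensional F W]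
    (T T' : Module.End F W) (hTT' : T' * T = 1) (hnil : IsNilpotent (T - 1))
    (hnil' : IsNilpotent (T' - 1)) : QuadModel F where
  V := Module.Dual F W × W
  Q := QuadraticForm.dualProd F W
  A := (T'.dualMap : Module.End F (Module.Dual F W)).prodMap T
  nondeg := by
    apply polar_nondeg_of_left
    rintro ⟨ξ, x⟩ h
    have hpol : ∀ q : Module.Dual F W × W,
        QuadraticMap.polar (QuadraticForm.dualProd F W) (ξ, x) q = ξ q.2 + q.1 x := by
      intro q
      simp only [QuadraticMap.polar, QuadraticForm.dualProd_apply, Prod.fst_add, Prod.snd_add,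
        LinearMap.add_apply, map_add]
      abel
    have h1 : ξ = 0 := by
      apply LinearMap.ext; intro y
      have := h (0, y)
      rw [hpol] at this
      simpa using this
    have h2 : x = 0 := by
      rw [← Module.forall_dual_apply_eq_zero_iff F]
      intro η
      have := h (η, 0)
      rw [hpol] at this
      simpa using this
    rw [h1, h2]; rfl
  isom := by
    intro p
    have h : ∀ x, T' (T x) = x := fun x => by
      rw [← Module.End.mul_apply, hTT', Module.End.one_apply]
    simp only [QuadraticForm.dualProd_apply, LinearMap.prodMap_apply, LinearMap.dualMap_apply, h]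
  nil := by
    rw [prodMap_sub_one, dualMap_sub_one]
    exact isNilpotent_prodMap _ _ (isNilpotent_dualMap _ hnil') hnil

/-- the inverse of `1 + shift` and its properties -/
lemma shift_data (a : ℕ) : ∃ T' : Module.End F (Fin a → F),
    T' * (1 + shift F a) = 1 ∧ IsNilpotent (T' - 1) ∧ finrank F (LinearMap.ker (T' - 1)) ≤ 1 ∧
      (1 + shift F a) - 1 = shift F a ∧ IsNilpotent (shift F a) := by
  have hs : IsNilpotent (shift F a) := ⟨a, by rw [← rk_eq_zero_iff, rk_shift]; omega⟩
  obtain ⟨u, hu⟩ := hs.isUnit_one_add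
  have hTT' : (↑u⁻¹ : Module.End F (Fin a → F)) * (1 + shift F a) = 1 := by
    rw [← hu]; exact u.inv_mul
  have hT'T : (1 + shift F a) * (↑u⁻¹ : Module.End F (Fin a → F)) = 1 := by
    rw [← hu]; exact u.mul_inv
  set T' : Module.End F (Fin a → F) := ↑u⁻¹ with hT'
  have hT1 : (1 + shift F a) - 1 = shift F a := by abel
  have hcomm : Commute T' (shift F a) := by
    have h1 : Commute T' (1 + shift F a) := by
      rw [Commute, SemiconjBy, hTT', hT'T]
    have := h1.sub_right (Commute.one_right T')
    rwa [hT1] at this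
  have hT'1 : T' - 1 = -(T' * shift F a) := by
    have : T' * (1 + shift F a) = 1 := hTT'
    rw [mul_add, mul_one] at this
    rw [← this]; abel
  have hnil' : IsNilpotent (T' - 1) := by
    rw [hT'1]
    exact (hcomm.isNilpotent_mul_left hs).neg
  have hker : finrank F (LinearMap.ker (T' - 1)) ≤ 1 := by
    have hle : LinearMap.ker (T' - 1) ≤ LinearMap.ker (shift F a) := by
      intro x hx
      rw [LinearMap.mem_ker] at hx ⊢
      have h1 : T' x = x := by
        rw [LinearMap.sub_apply, Module.End.one_apply, sub_eq_zero] at hx; exact hx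
      have h2 : (1 + shift F a) (T' x) = x := by
        rw [← Module.End.mul_apply, hT'T, Module.End.one_apply]
      rw [h1, LinearMap.add_apply, Module.End.one_apply] at h2
      simpa using h2
    have h3 : rk (shift F a) 1 + finrank F (LinearMap.ker (shift F a)) = finrank F (Fin a → F) := by
      rw [rk, pow_one]; exact LinearMap.finrank_range_add_finrank_ker _
    rw [rk_shift, Module.finrank_fin_fun] at h3
    have := Submodule.finrank_mono hle
    omega
  exact ⟨T', hTT', hnil', hker, hT1, hs⟩

theorem quadReal_pair (a : ℕ) : QuadReal F {a, a} := by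
  obtain ⟨T', hTT', hnil', hker, hT1, hs⟩ := shift_data (F := F) a
  refine ⟨hypModel (1 + shift F a) T' hTT' (by rw [hT1]; exact hs) hnil', fun i => ?_⟩
  show @rk F _ (Module.Dual F (Fin a → F) × (Fin a → F)) _ _
    ((T'.dualMap : Module.End F (Module.Dual F (Fin a → F))).prodMap (1 + shift F a) - 1) i = _
  rw [prodMap_sub_one, dualMap_sub_one, rk_prodMap, rk_dualMap, hT1, rk_shift,
    rk_of_ker_le_one _ hnil' hker, Module.finrank_fin_fun]
  simp

/-! ### the extension `F × V × F` -/

section ext

variable {V : Type u} [AddCommGroup V] [Module F V]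

/-- the quadratic form `a b + Q v` on `F × V × F` -/
def extQuad (Q : QuadraticForm F V) : QuadraticForm F (F × V × F) :=
  LinearMap.BilinMap.toQuadraticMap
      ((LinearMap.mul F F).compl₁₂ (LinearMap.fst F F (V × F))
        (LinearMap.snd F V F ∘ₗ LinearMap.snd F F (V × F))) +
    Q.comp (LinearMap.fst F V F ∘ₗ LinearMap.snd F F (V × F))

@[simp] lemma extQuad_apply (Q : QuadraticForm F V) (p : F × V × F) :
    extQuad Q p = p.1 * p.2.2 + Q p.2.1 := rfl

lemma extQuad_polar (Q : QuadraticForm F V) (p q : F × V × F) :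
    QuadraticMap.polar (extQuad Q) p q =
      p.1 * q.2.2 + q.1 * p.2.2 + QuadraticMap.polar Q p.2.1 q.2.1 := by
  simp only [QuadraticMap.polar, extQuad_apply, Prod.fst_add, Prod.snd_add]
  ring

/-- kernel of the extended map minus one -/
lemma ext_ker (B : LinearMap.BilinForm F V) (A : Module.End F V)
    (hA : ∀ x y, B (A x) (A y) = B x y) (v₀ w : V) (c : F) (hAv₀ : A v₀ = v₀)
    (hw : B v₀ w = 1)
    (hspan : ∀ v, (A - 1) v = 0 → ∃ t : F, t • v₀ = v)
    (p : F × V × F) (hp : (extMap B A w c - 1) p = 0) : p.2.1 = 0 ∧ p.2.2 = 0 := by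
  obtain ⟨a, v, b⟩ := p
  have hBN : ∀ v, B v₀ ((A - 1) v) = 0 := by
    intro v
    rw [LinearMap.sub_apply, Module.End.one_apply, map_sub]
    nth_rewrite 1 [← hAv₀]
    rw [hA, sub_self]
  rw [extMap_sub_one_apply] at hp
  have hp1 : - B (A v) w + c * b = 0 := congrArg Prod.fst hp
  have hp2 : (A - 1) v + b • w = 0 := congrArg (fun q : F × V × F => q.2.1) hp
  have hb : b = 0 := by
    have := congrArg (B v₀) hp2
    rw [map_add, hBN, map_smul, hw, map_zero, zero_add, smul_eq_mul, mul_one] at this
    exact this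
  rw [hb, zero_smul, add_zero] at hp2
  obtain ⟨t, ht⟩ := hspan v hp2
  have hAv : A v = v := by
    rw [LinearMap.sub_apply, Module.End.one_apply, sub_eq_zero] at hp2; exact hp2
  rw [hAv, ← ht, map_smul, LinearMap.smul_apply, hw, hb] at hp1
  have ht0 : t = 0 := by simpa using hp1
  refine ⟨?_, hb⟩
  show v = 0
  rw [← ht, ht0, zero_smul]

end ext

/-- the extension of a model -/
abbrev extModel (M : QuadModel F) (w : M.V) : QuadModel F where
  V := F × M.V × F
  Q := extQuad M.Q
  A := extMap (QuadraticMap.polarBilin M.Q) M.A w (- M.Q w)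
  nondeg := by
    apply polar_nondeg_of_left
    rintro ⟨a, v, b⟩ h
    have h1 : a = 0 := by
      have := h (0, 0, 1)
      rw [extQuad_polar] at this
      simpa using this
    have h2 : b = 0 := by
      have := h (1, 0, 0)
      rw [extQuad_polar] at this
      simpa using this
    have h3 : v = 0 := by
      apply M.nondeg.1
      intro y
      have := h (0, y, 0)
      rw [extQuad_polar] at this
      simpa using this
    rw [h1, h2, h3]; rfl
  isom := by
    rintro ⟨a, v, b⟩
    simp only [extQuad_apply, extMap_apply, QuadraticMap.polarBilin_apply_apply]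
    rw [QuadraticMap.map_add (⇑M.Q) (M.A v) (b • w), QuadraticMap.map_smul,
      QuadraticMap.polar_smul_right, M.isom, smul_eq_mul, smul_eq_mul]
    ring
  nil := isNilpotent_extMap _ _ _ _ M.nil

/-- regular models: the kernel of `A - 1` is a line -/
def QuadReg (F : Type u) [Field F] (n : ℕ) : Prop :=
  ∃ M : QuadModel F, finrank F M.V = n ∧ finrank F (LinearMap.ker (M.A - 1)) = 1

theorem quadReal_of_reg {n : ℕ} (h : QuadReg F n) : QuadReal F {n} := by
  obtain ⟨M, hn, hk⟩ := h
  refine ⟨M, fun i => ?_⟩
  rw [rk_of_ker_le_one _ M.nil hk.le, hn]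
  simp

theorem quadReg_ext {n : ℕ} (h : QuadReg F n) : QuadReg F (n + 2) := by
  obtain ⟨M, hn, hk⟩ := h
  obtain ⟨⟨v₀, hv₀mem⟩, hv₀ne, hspan⟩ := finrank_eq_one_iff'.mp hk
  have hv₀ : v₀ ≠ 0 := fun h0 => hv₀ne (Subtype.ext h0)
  have hNv₀ : (M.A - 1) v₀ = 0 := hv₀mem
  have hAv₀ : M.A v₀ = v₀ := by
    rw [LinearMap.sub_apply, Module.End.one_apply, sub_eq_zero] at hNv₀; exact hNv₀
  obtain ⟨w, hw⟩ : ∃ w, QuadraticMap.polarBilin M.Q v₀ w = 1 := by
    obtain ⟨w', hw'⟩ : ∃ w', QuadraticMap.polarBilin M.Q v₀ w' ≠ 0 := by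
      by_contra hcon
      exact hv₀ (M.nondeg.1 v₀ (fun y => by_contra fun hy => hcon ⟨y, hy⟩))
    refine ⟨(QuadraticMap.polarBilin M.Q v₀ w')⁻¹ • w', ?_⟩
    rw [map_smul, smul_eq_mul, inv_mul_cancel₀ hw']
  have hkerN' := ext_ker (QuadraticMap.polarBilin M.Q) M.A
    (fun x y => polar_isom M.Q M.A M.isom x y) v₀ w (- M.Q w) hAv₀ hw
    (fun v hv => by
      obtain ⟨t, ht⟩ := hspan ⟨v, hv⟩
      exact ⟨t, congrArg Subtype.val ht⟩)
  refine ⟨extModel M w, ?_, ?_⟩
  · show finrank F (F × M.V × F) = n + 2
    rw [Module.finrank_prod, Module.finrank_prod, hn, Module.finrank_self]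
    omega
  · show finrank F (LinearMap.ker
      (extMap (QuadraticMap.polarBilin M.Q) M.A w (- M.Q w) - 1)) = 1
    rw [finrank_eq_one_iff']
    refine ⟨⟨(1, 0, 0), ?_⟩, ?_, ?_⟩
    · rw [LinearMap.mem_ker, extMap_sub_one_apply]
      simp
    · intro h0
      have := congrArg (fun q : LinearMap.ker
        (extMap (QuadraticMap.polarBilin M.Q) M.A w (- M.Q w) - 1) => q.1.1) h0
      simp at this
    · rintro ⟨⟨a, v, b⟩, hp⟩
      obtain ⟨h1, h2⟩ := hkerN' _ hp
      refine ⟨a, ?_⟩
      apply Subtype.ext
      show a • ((1 : F), (0 : M.V), (0 : F)) = (a, v, b)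
      have h1' : v = 0 := h1
      have h2' : b = 0 := h2
      rw [h1', h2']
      simp

/-- base case in characteristic not two: the line with `x ↦ x * x` -/
abbrev lineModel (F : Type u) [Field F] (h2 : (2 : F) ≠ 0) : QuadModel F where
  V := F
  Q := QuadraticMap.sq
  A := 1
  nondeg := by
    apply polar_nondeg_of_left
    intro x h
    have := h 1
    simp only [QuadraticMap.polar, QuadraticMap.sq_apply] at this
    have h3 : 2 * x = 0 := by
      rw [← this]; ring
    exact (mul_eq_zero.mp h3).resolve_left h2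
  isom := fun _ => rfl
  nil := ⟨1, by rw [sub_self, pow_one]⟩

theorem quadReg_one (h2 : (2 : F) ≠ 0) : QuadReg F 1 := by
  refine ⟨lineModel F h2, ?_, ?_⟩
  · show finrank F F = 1
    exact Module.finrank_self F
  · show finrank F (LinearMap.ker ((1 : Module.End F F) - 1)) = 1
    rw [sub_self, LinearMap.ker_zero, finrank_top, Module.finrank_self]

theorem quadReg_odd (h2 : (2 : F) ≠ 0) (r : ℕ) : QuadReg F (2 * r + 1) := by
  induction r with
  | zero => exact quadReg_one h2
  | succ r ih => exact quadReg_ext ih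

/-- base case in characteristic two: the hyperbolic plane with the swap -/
abbrev swapModel (F : Type u) [Field F] (h2 : (2 : F) = 0) : QuadModel F where
  V := F × F
  Q := LinearMap.BilinMap.toQuadraticMap
    ((LinearMap.mul F F).compl₁₂ (LinearMap.fst F F F) (LinearMap.snd F F F))
  A := LinearMap.prod (LinearMap.snd F F F) (LinearMap.fst F F F)
  nondeg := by
    apply polar_nondeg_of_left
    rintro ⟨a, b⟩ h
    have hpol : ∀ q : F × F, QuadraticMap.polar (LinearMap.BilinMap.toQuadraticMap
        ((LinearMap.mul F F).compl₁₂ (LinearMap.fst F F F) (LinearMap.snd F F F))) (a, b) q =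
        a * q.2 + q.1 * b := by
      intro q
      show (a + q.1) * (b + q.2) - a * b - q.1 * q.2 = _
      ring
    have h1 : a = 0 := by
      have := h (0, 1)
      rw [hpol] at this
      simpa using this
    have h2 : b = 0 := by
      have := h (1, 0)
      rw [hpol] at this
      simpa using this
    rw [h1, h2]; rfl
  isom := by
    rintro ⟨a, b⟩
    show b * a = a * b
    ring
  nil := by
    refine ⟨2, ?_⟩
    apply LinearMap.ext
    rintro ⟨a, b⟩
    rw [pow_two, Module.End.mul_apply]
    show ((a - b) - (b - a), (b - a) - (a - b)) = (0, 0)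
    have e1 : (a - b) - (b - a) = 2 * (a - b) := by ring
    have e2 : (b - a) - (a - b) = 2 * (b - a) := by ring
    rw [e1, e2, h2, zero_mul, zero_mul]

theorem quadReg_two (h2 : (2 : F) = 0) : QuadReg F 2 := by
  refine ⟨swapModel F h2, ?_, ?_⟩
  · show finrank F (F × F) = 2
    rw [Module.finrank_prod, Module.finrank_self]
  · show finrank F (LinearMap.ker
      ((LinearMap.prod (LinearMap.snd F F F) (LinearMap.fst F F F) : Module.End F (F × F)) - 1)) = 1
    rw [finrank_eq_one_iff']
    refine ⟨⟨(1, 1), ?_⟩, ?_, ?_⟩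
    · rw [LinearMap.mem_ker]
      simp
    · intro h0
      have := congrArg (fun q : LinearMap.ker
        ((LinearMap.prod (LinearMap.snd F F F) (LinearMap.fst F F F) :
          Module.End F (F × F)) - 1) => q.1.1) h0
      simp at this
    · rintro ⟨⟨a, b⟩, hp⟩
      refine ⟨a, ?_⟩
      apply Subtype.ext
      rw [LinearMap.mem_ker] at hp
      have hb : b = a := by
        have := congrArg Prod.fst hp
        simp at this
        exact sub_eq_zero.mp this
      show a • ((1 : F), (1 : F)) = (a, b)
      rw [hb]; simp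

theorem quadReg_even (h2 : (2 : F) = 0) (r : ℕ) : QuadReg F (2 * (r + 1)) := by
  induction r with
  | zero => exact quadReg_two h2
  | succ r ih => exact quadReg_ext ih

/-! ### assembling by parity -/

/-- characteristic two: odd sizes with even multiplicity -/
theorem quadReal_of_parity_two (h2 : (2 : F) = 0) (L : Multiset ℕ)
    (h : ∀ j, Odd j → Even (L.count j)) : QuadReal F L := by
  refine real_of_parity (QuadReal F) Odd quadReal_zero (fun _ _ => quadReal_add) ?_
    quadReal_pair L h
  intro a ha
  rcases Nat.even_or_odd a with he | ho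
  · obtain ⟨r, hr⟩ := he
    rcases Nat.eq_zero_or_pos r with rfl | hpos
    · have : a = 0 := by omega
      subst this
      obtain ⟨M, hM⟩ := (quadReal_zero : QuadReal F 0)
      refine ⟨M, fun i => ?_⟩
      rw [hM i]; simp
    · apply quadReal_of_reg
      have : a = 2 * ((r - 1) + 1) := by omega
      rw [this]
      exact quadReg_even h2 (r - 1)
  · exact absurd ho ha

/-- characteristic not two: even positive sizes with even multiplicity -/
theorem quadReal_of_parity_odd (h2 : (2 : F) ≠ 0) (L : Multiset ℕ)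
    (h : ∀ j, Even j → 0 < j → Even (L.count j)) : QuadReal F L := by
  refine real_of_parity (QuadReal F) (fun j => Even j ∧ 0 < j) quadReal_zero
    (fun _ _ => quadReal_add) ?_ quadReal_pair L (fun j hj => h j hj.1 hj.2)
  intro a ha
  rcases Nat.even_or_odd a with he | ho
  · have : a = 0 := by
      by_contra h0
      exact ha ⟨he, Nat.pos_of_ne_zero h0⟩
    subst this
    obtain ⟨M, hM⟩ := (quadReal_zero : QuadReal F 0)
    refine ⟨M, fun i => ?_⟩
    rw [hM i]; simp
  · obtain ⟨r, hr⟩ := ho
    apply quadReal_of_reg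
    rw [hr]
    exact quadReg_odd h2 r

end Cfsg.Agent.Helper14.UnipQuad
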