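import Mathlib
import Cfsg.Prelude.Def_Classical
import Cfsg.Agent.Lib.Helper14.UnipConj
import Cfsg.Agent.Lib.Helper14.UnipParity
import Cfsg.Agent.Lib.Helper14.UnipQuad
import Cfsg.Agent.Lib.Helper14.IsomTransfer

set_option autoImplicit false

/-!
Unipotent Jordan types in orthogonal groups: both directions, in terms of quadratic models.
-/

namespace Cfsg.Agent.Helper14.UnipQuadConj

open Module Matrix Cfsg.Agent.Helper42.Jordan Cfsg.Agent.Helper14.JordanRk
  Cfsg.Agent.Helper14.UnipConj Cfsg.Agent.Helper14.UnipParity Cfsg.Agent.Helper14.UnipQuad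

universe u

variable {F : Type u} [Field F] {n : ℕ}

lemma toLin'_sub_one {J : Type*} [Fintype J] [DecidableEq J] (M : Matrix J J F) :
    Matrix.toLin' M - 1 = Matrix.toLin' (M - 1) := by
  rw [map_sub, Matrix.toLin'_one]; rfl

lemma isNilpotent_matrix_of_toLin' {J : Type*} [Fintype J] [DecidableEq J] (N : Matrix J J F)
    (h : IsNilpotent (Matrix.toLin' N)) : IsNilpotent N := by
  obtain ⟨k, hk⟩ := h
  refine ⟨k, ?_⟩
  apply Matrix.toLin'.injective
  rw [Matrix.toLin'_pow, hk, map_zero]

/-- a quadratic model with the rank sequence of `d` gives a quadratic form on `F^n` and an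
isometry conjugate to the Jordan matrix -/
theorem exists_of_model (M : QuadModel F) {t : ℕ} (d : Fin t → ℕ) (hsum : ∑ k, d k = n)
    (hM : ∀ i, rk (M.A - 1) i = ∑ k, (d k - i)) :
    ∃ Q : QuadraticForm F (Fin n → F), (QuadraticMap.polarBilin Q).Nondegenerate ∧
      ∃ e : ((k : Fin t) × Fin (d k)) ≃ Fin n, ∃ A : ↥(Cfsg.isometryGroup F ⇑Q),
        IsConj (Matrix.reindex e e (Cfsg.jordanTypeMatrix d F))
          ((A : Matrix.GeneralLinearGroup (Fin n) F) : Matrix (Fin n) (Fin n) F) := by
  have e : ((k : Fin t) × Fin (d k)) ≃ Fin n := by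
    apply Fintype.equivOfCardEq
    rw [Fintype.card_sigma]
    simp only [Fintype.card_fin]
    exact hsum
  set U' : Matrix (Fin n) (Fin n) F := Matrix.reindex e e (Cfsg.jordanTypeMatrix d F) with hU'
  have hnil : IsNilpotent (Matrix.toLin' (U' - 1)) := isNilpotent_jordan_reindex d e
  obtain ⟨P, hP⟩ := exists_conj_of_rk_eq (finrank F (Fin n → F)) (Fin n → F) M.V
    (Matrix.toLin' (U' - 1)) (M.A - 1) rfl hnil
    (fun i => by rw [hU', rk_jordan_reindex, hM])
  have hPU : ∀ x, P (U' *ᵥ x) = M.A (P x) := by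
    intro x
    have := hP x
    rw [← toLin'_sub_one, LinearMap.sub_apply, LinearMap.sub_apply, map_sub, Module.End.one_apply,
      Module.End.one_apply, Matrix.toLin'_apply] at this
    exact sub_left_injective this
  let Q : QuadraticForm F (Fin n → F) := M.Q.comp (P : (Fin n → F) →ₗ[F] M.V)
  have hQ : ∀ x, Q x = M.Q (P x) := fun x => rfl
  have hnd : (QuadraticMap.polarBilin Q).Nondegenerate := by
    apply polar_nondeg_of_left
    intro x hx
    have h1 : P x = 0 := by
      apply M.nondeg.1
      intro z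
      obtain ⟨y, rfl⟩ := P.surjective z
      have := hx y
      simp only [QuadraticMap.polar, hQ, map_add] at this
      simpa [QuadraticMap.polar] using this
    exact P.map_eq_zero_iff.mp h1
  have hunit : IsUnit U' := by
    have h1 : IsNilpotent (U' - 1) := isNilpotent_matrix_of_toLin' _ hnil
    have := h1.isUnit_one_add
    rwa [add_sub_cancel] at this
  obtain ⟨g, hg⟩ := hunit
  have hmem : g ∈ Cfsg.isometryGroup F ⇑Q := by
    rw [mem_isometryGroup_iff]
    intro x
    rw [hg, hQ, hPU, M.isom, hQ]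
  refine ⟨Q, hnd, e, ⟨g, hmem⟩, ?_⟩
  show IsConj U' (g : Matrix (Fin n) (Fin n) F)
  rw [hg]

section onlyif

variable {t : ℕ} (d : Fin t → ℕ) (Q : QuadraticForm F (Fin n → F))
  (hQ : (QuadraticMap.polarBilin Q).Nondegenerate)
  (e : ((k : Fin t) × Fin (d k)) ≃ Fin n) (A : ↥(Cfsg.isometryGroup F ⇑Q))
  (hconj : IsConj (Matrix.reindex e e (Cfsg.jordanTypeMatrix d F))
    ((A : Matrix.GeneralLinearGroup (Fin n) F) : Matrix (Fin n) (Fin n) F))

include hconj in
lemma rk_isometry (i : ℕ) :
    rk (Matrix.toLin' ((A : Matrix.GeneralLinearGroup (Fin n) F) : Matrix (Fin n) (Fin n) F) - 1) i =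
      ∑ k, (d k - i) := by
  obtain ⟨c, hc⟩ := hconj
  rw [toLin'_sub_one, ← rk_of_semiconj c _ _ hc i, rk_jordan_reindex]

lemma isom_polar (x y : Fin n → F) :
    QuadraticMap.polarBilin Q
      (Matrix.toLin' ((A : Matrix.GeneralLinearGroup (Fin n) F) : Matrix (Fin n) (Fin n) F) x)
      (Matrix.toLin' ((A : Matrix.GeneralLinearGroup (Fin n) F) : Matrix (Fin n) (Fin n) F) y) =
      QuadraticMap.polarBilin Q x y := by
  have hA := (mem_isometryGroup_iff (⇑Q) (A : Matrix.GeneralLinearGroup (Fin n) F)).mp A.2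
  simp only [QuadraticMap.polarBilin_apply_apply, QuadraticMap.polar, Matrix.toLin'_apply,
    ← Matrix.mulVec_add, hA]

include hQ hconj in
/-- characteristic two: odd sizes have even multiplicity -/
theorem only_if_two (h2 : (2 : F) = 0) (j : ℕ) (hj : Odd j) :
    Even (Finset.univ.filter (fun k : Fin t => d k = j)).card := by
  have halt : (QuadraticMap.polarBilin Q).IsAlt := by
    intro x
    rw [QuadraticMap.polarBilin_apply_apply, QuadraticMap.polar_self, two_smul, ← two_mul, h2,
      zero_mul]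
  have heven : ∀ k, Even (∑ l, (d l - 2 * k)) := by
    intro k
    rw [← rk_isometry d Q e A hconj]
    exact even_rk_even (QuadraticMap.polarBilin Q) hQ halt _ (isom_polar Q A) k
  obtain ⟨r, hr⟩ := hj
  have h1 := card_filter_add d j (by omega)
  have h3 := heven r
  have h4 := heven (r + 1)
  rw [show j - 1 = 2 * r by omega, show j + 1 = 2 * (r + 1) by omega] at h1
  obtain ⟨a, ha⟩ := h3
  obtain ⟨b, hb⟩ := h4
  exact ⟨a + b - ∑ k, (d k - j), by omega⟩

include hQ hconj in
/-- characteristic not two: even positive sizes have even multiplicity -/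
theorem only_if_odd (h2 : (2 : F) ≠ 0) (j : ℕ) (hj : Even j) (hpos : 0 < j) :
    Even (Finset.univ.filter (fun k : Fin t => d k = j)).card := by
  have hsymm : ∀ x y, QuadraticMap.polarBilin Q x y = QuadraticMap.polarBilin Q y x := by
    intro x y
    rw [QuadraticMap.polarBilin_apply_apply, QuadraticMap.polarBilin_apply_apply,
      QuadraticMap.polar_comm]
  have hnil : IsNilpotent
      (Matrix.toLin' ((A : Matrix.GeneralLinearGroup (Fin n) F) : Matrix (Fin n) (Fin n) F) - 1) := by
    refine ⟨Finset.univ.sup d, ?_⟩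
    rw [← rk_eq_zero_iff, rk_isometry d Q e A hconj]
    apply Finset.sum_eq_zero
    intro k _
    have : d k ≤ Finset.univ.sup d := Finset.le_sup (Finset.mem_univ k)
    omega
  have heven : ∀ k, Even (∑ l, (d l - (2 * k + 1))) := by
    intro k
    rw [← rk_isometry d Q e A hconj]
    exact even_rk_odd h2 (QuadraticMap.polarBilin Q) hQ hsymm _ (isom_polar Q A) hnil k
  obtain ⟨r, hr⟩ := hj
  have h1 := card_filter_add d j (by omega)
  have h3 := heven (r - 1)
  have h4 := heven r
  rw [show j - 1 = 2 * (r - 1) + 1 by omega, show j + 1 = 2 * r + 1 by omega] at h1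
  obtain ⟨a, ha⟩ := h3
  obtain ⟨b, hb⟩ := h4
  exact ⟨a + b - ∑ k, (d k - j), by omega⟩

end onlyif

end Cfsg.Agent.Helper14.UnipQuadConj
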