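import Mathlib
import Cfsg.Agent.Lib.Helper14.UnipQuad
import Cfsg.Agent.Lib.Helper14.JType

set_option autoImplicit false

/-!
Tracking a Witt decomposition (a totally singular subspace plus mutually orthogonal
non-singular vectors) through the constructions of quadratic models.
-/

namespace Cfsg.Agent.Helper14.UnipWitt

open Module QuadraticMap Cfsg.Agent.Helper42.Jordan Cfsg.Agent.Helper14.JordanRk
  Cfsg.Agent.Helper14.UnipAlt Cfsg.Agent.Helper14.UnipQuad Cfsg.Agent.Helper14.JType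

universe u

variable {F : Type u} [Field F]

section hasW

/-- `dim V = 2 r + |κ|`, with a totally singular subspace of dimension `r` and an orthogonal
family `w` orthogonal to it with `Q (w l) = c l`. -/
def HasW {V : Type*} [AddCommGroup V] [Module F V] (Q : QuadraticForm F V) (r : ℕ)
    {κ : Type} [Fintype κ] (c : κ → F) : Prop :=
  finrank F V = 2 * r + Fintype.card κ ∧
  ∃ (U : Submodule F V) (w : κ → V), finrank F U = r ∧ (∀ u ∈ U, Q u = 0) ∧
    (∀ l, Q (w l) = c l) ∧ (∀ l, ∀ u ∈ U, polar Q (w l) u = 0) ∧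
    (∀ l l', l ≠ l' → polar Q (w l) (w l') = 0)

variable {V : Type*} [AddCommGroup V] [Module F V]

theorem hasW_congr {Q : QuadraticForm F V} {r : ℕ} {κ κ' : Type} [Fintype κ] [Fintype κ']
    {c : κ → F} (e : κ' ≃ κ) (h : HasW Q r c) : HasW Q r (c ∘ e) := by
  obtain ⟨hdim, U, w, hU, hts, hw, hwU, hww⟩ := h
  refine ⟨by rw [hdim, Fintype.card_congr e], U, w ∘ e, hU, hts, fun l => hw (e l),
    fun l => hwU (e l), fun l l' hll' => hww _ _ (fun h => hll' (e.injective h))⟩

theorem hasW_empty {Q : QuadraticForm F V} {r : ℕ} {c c' : Empty → F} (h : HasW Q r c) :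
    HasW Q r c' := by
  have : c = c' := funext (fun x => x.elim)
  rw [← this]; exact h

theorem hasW_prod {V₁ V₂ : Type*} [AddCommGroup V₁] [Module F V₁] [AddCommGroup V₂] [Module F V₂]
    [FiniteDimensional F V₁] [FiniteDimensional F V₂]
    {Q₁ : QuadraticForm F V₁} {Q₂ : QuadraticForm F V₂} {r₁ r₂ : ℕ} {κ₁ κ₂ : Type} [Fintype κ₁]
    [Fintype κ₂] {c₁ : κ₁ → F} {c₂ : κ₂ → F} (h₁ : HasW Q₁ r₁ c₁) (h₂ : HasW Q₂ r₂ c₂) :
    HasW (Q₁.prod Q₂) (r₁ + r₂) (Sum.elim c₁ c₂) := by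
  obtain ⟨hdim₁, U₁, w₁, hU₁, hts₁, hw₁, hwU₁, hww₁⟩ := h₁
  obtain ⟨hdim₂, U₂, w₂, hU₂, hts₂, hw₂, hwU₂, hww₂⟩ := h₂
  refine ⟨?_, U₁.prod U₂, Sum.elim (fun l => (w₁ l, 0)) (fun l => (0, w₂ l)), ?_, ?_, ?_, ?_, ?_⟩
  · rw [Module.finrank_prod, hdim₁, hdim₂, Fintype.card_sum]; ring
  · rw [(prodSubEquiv U₁ U₂).finrank_eq, Module.finrank_prod, hU₁, hU₂]
  · rintro ⟨x, y⟩ ⟨hx, hy⟩
    rw [QuadraticMap.prod_apply]
    simp only at hx hy
    rw [hts₁ x hx, hts₂ y hy, add_zero]
  · rintro (l | l)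
    · simp only [Sum.elim_inl, QuadraticMap.prod_apply, hw₁, map_zero, add_zero]
    · simp only [Sum.elim_inr, QuadraticMap.prod_apply, hw₂, map_zero, zero_add]
  · rintro (l | l) ⟨x, y⟩ ⟨hx, hy⟩
    · simp only at hx hy
      rw [QuadraticMap.polar_prod]
      simp only [Sum.elim_inl, hwU₁ l x hx, polar_zero_left, add_zero]
    · simp only at hx hy
      rw [QuadraticMap.polar_prod]
      simp only [Sum.elim_inr, hwU₂ l y hy, polar_zero_left, add_zero]
  · rintro (l | l) (l' | l') hll'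
    · rw [QuadraticMap.polar_prod]
      simp only [Sum.elim_inl, polar_zero_left, add_zero]
      exact hww₁ l l' (fun h => hll' (by rw [h]))
    · rw [QuadraticMap.polar_prod]
      simp only [Sum.elim_inl, Sum.elim_inr, polar_zero_left, polar_zero_right, add_zero]
    · rw [QuadraticMap.polar_prod]
      simp only [Sum.elim_inl, Sum.elim_inr, polar_zero_left, polar_zero_right, add_zero]
    · rw [QuadraticMap.polar_prod]
      simp only [Sum.elim_inr, polar_zero_left, zero_add]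
      exact hww₂ l l' (fun h => hll' (by rw [h]))

theorem hasW_dualProd (W : Type*) [AddCommGroup W] [Module F W] [FiniteDimensional F W] :
    HasW (QuadraticForm.dualProd F W) (finrank F W) (Empty.elim : Empty → F) := by
  refine ⟨?_, Submodule.prod ⊥ ⊤, fun l => l.elim, ?_, ?_, fun l => l.elim, fun l => l.elim,
    fun l => l.elim⟩
  · rw [Module.finrank_prod, Subspace.dual_finrank_eq]
    simp
    ring
  · rw [(prodSubEquiv _ _).finrank_eq, Module.finrank_prod, finrank_bot, finrank_top, zero_add]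
  · rintro ⟨ξ, x⟩ ⟨hξ, -⟩
    have hξ0 : ξ = 0 := (Submodule.mem_bot F).mp hξ
    rw [QuadraticForm.dualProd_apply]
    simp only [hξ0, LinearMap.zero_apply]

theorem hasW_ext {V : Type u} [AddCommGroup V] [Module F V] [FiniteDimensional F V] {Q : QuadraticForm F V} {r : ℕ} {κ : Type} [Fintype κ]
    {c : κ → F} (h : HasW Q r c) : HasW (extQuad Q) (r + 1) c := by
  obtain ⟨hdim, U, w, hU, hts, hw, hwU, hww⟩ := h
  refine ⟨?_, Submodule.prod ⊤ (Submodule.prod U ⊥), fun l => (0, w l, 0), ?_, ?_, ?_, ?_, ?_⟩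
  · rw [Module.finrank_prod, Module.finrank_prod, hdim, Module.finrank_self]; ring
  · rw [(prodSubEquiv _ _).finrank_eq, Module.finrank_prod, (prodSubEquiv _ _).finrank_eq,
      Module.finrank_prod, finrank_bot, finrank_top, hU, Module.finrank_self]
    ring
  · rintro ⟨a, v, b⟩ ⟨-, hv, hb⟩
    have hv' : v ∈ U := hv
    have hb' : b = 0 := (Submodule.mem_bot F).mp hb
    rw [extQuad_apply]
    simp only [hb', mul_zero, zero_add]
    exact hts v hv'
  · intro l
    rw [extQuad_apply]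
    simp only [mul_zero, zero_add]
    exact hw l
  · rintro l ⟨a, v, b⟩ ⟨-, hv, hb⟩
    have hv' : v ∈ U := hv
    have hb' : b = 0 := (Submodule.mem_bot F).mp hb
    rw [extQuad_polar]
    simp only [hb', mul_zero, zero_add]
    exact hwU l v hv'
  · intro l l' hll'
    rw [extQuad_polar]
    simp only [mul_zero, zero_add]
    exact hww l l' hll'

theorem hasW_line (c : F) :
    HasW (c • (QuadraticMap.sq : QuadraticForm F F)) 0 (fun _ : Unit => c) := by
  refine ⟨by simp, ⊥, fun _ => 1, finrank_bot F F, ?_, ?_, ?_, ?_⟩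
  · intro u hu
    rw [Submodule.mem_bot] at hu
    rw [hu, map_zero]
  · intro _
    simp
  · intro l u hu
    rw [Submodule.mem_bot] at hu
    rw [hu, polar_zero_right]
  · intro l l' h
    exact absurd (Subsingleton.elim l l') h

theorem hasW_pair [FiniteDimensional F V] (h2 : (2 : F) ≠ 0) {Q : QuadraticForm F V} {r : ℕ}
    {c : Unit ⊕ Unit → F} (a : F) (ha : a ≠ 0) (hc1 : c (Sum.inl ()) = a)
    (hc2 : c (Sum.inr ()) = -a) (h : HasW Q r c) : HasW Q (r + 1) (Empty.elim : Empty → F) := by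
  obtain ⟨hdim, U, w, hU, hts, hw, hwU, hww⟩ := h
  set v : V := w (Sum.inl ()) + w (Sum.inr ()) with hv
  have h12 : polar Q (w (Sum.inl ())) (w (Sum.inr ())) = 0 := hww _ _ (by simp)
  have hQv : Q v = 0 := by
    have : Q v = Q (w (Sum.inl ())) + Q (w (Sum.inr ())) + polar Q (w (Sum.inl ())) (w (Sum.inr ())) := by
      rw [polar]; ring
    rw [this, hw, hw, hc1, hc2, h12]; ring
  have hvU : ∀ u ∈ U, polar Q v u = 0 := by
    intro u hu
    rw [hv, polar_add_left, hwU _ u hu, hwU _ u hu, add_zero]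
  have hvw : polar Q v (w (Sum.inl ())) = 2 * a := by
    rw [hv, polar_add_left, polar_comm Q (w (Sum.inr ())), h12, add_zero, polar_self, hw, hc1]
    simp
  have hvnot : v ∉ U := by
    intro hmem
    have h1 := hwU (Sum.inl ()) v hmem
    rw [polar_comm, hvw] at h1
    exact (mul_ne_zero h2 ha) h1
  let f : U × F →ₗ[F] V := U.subtype.coprod (LinearMap.toSpanSingleton F V v)
  have hf : ∀ p : U × F, f p = (p.1 : V) + p.2 • v := by
    intro p
    simp [f, LinearMap.coprod_apply, LinearMap.toSpanSingleton_apply]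
  have hinj : Function.Injective f := by
    rw [← LinearMap.ker_eq_bot, LinearMap.ker_eq_bot']
    rintro ⟨u, t⟩ hp
    rw [hf] at hp
    simp only at hp
    have ht : t = 0 := by
      by_contra ht
      apply hvnot
      have : v = -(t⁻¹ • (u : V)) := by
        have h1 : t • v = -(u : V) := by
          rw [eq_neg_iff_add_eq_zero, add_comm]; exact hp
        rw [← smul_neg, ← h1, smul_smul, inv_mul_cancel₀ ht, one_smul]
      rw [this]
      exact U.neg_mem (U.smul_mem _ u.2)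
    rw [ht, zero_smul, add_zero] at hp
    have hu : u = 0 := Subtype.ext hp
    rw [hu, ht]; rfl
  refine ⟨?_, LinearMap.range f, fun l => l.elim, ?_, ?_, fun l => l.elim, fun l => l.elim,
    fun l => l.elim⟩
  · rw [hdim]
    simp
    ring
  · rw [LinearMap.finrank_range_of_inj hinj, Module.finrank_prod, hU, Module.finrank_self]
  · rintro _ ⟨⟨u, t⟩, rfl⟩
    rw [hf]
    simp only
    have : Q ((u : V) + t • v) = Q (u : V) + Q (t • v) + polar Q (u : V) (t • v) := by
      rw [polar]; ring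
    rw [this, hts _ u.2, QuadraticMap.map_smul, hQv, polar_smul_right, polar_comm, hvU _ u.2]
    simp

end hasW

/-! ### models -/

/-- the Jordan type `L` is realised by a model with a Witt decomposition -/
def WReal (F : Type u) [Field F] (L : Multiset ℕ) (r : ℕ) {κ : Type} [Fintype κ] (c : κ → F) :
    Prop :=
  ∃ M : QuadModel F, (∀ i, rk (M.A - 1) i = rsum L i) ∧ HasW M.Q r c

theorem wreal_congr {L : Multiset ℕ} {r : ℕ} {κ κ' : Type} [Fintype κ] [Fintype κ']
    {c : κ → F} (e : κ' ≃ κ) (h : WReal F L r c) : WReal F L r (c ∘ e) := by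
  obtain ⟨M, hM, hW⟩ := h
  exact ⟨M, hM, hasW_congr e hW⟩

theorem wreal_empty {L : Multiset ℕ} {r : ℕ} {c c' : Empty → F} (h : WReal F L r c) :
    WReal F L r c' := by
  obtain ⟨M, hM, hW⟩ := h
  exact ⟨M, hM, hasW_empty hW⟩

theorem wreal_of_eq {L L' : Multiset ℕ} {r r' : ℕ} {κ : Type} [Fintype κ] {c : κ → F}
    (h : WReal F L r c) (hL : L = L') (hr : r = r') : WReal F L' r' c := by
  subst hL; subst hr; exact h

theorem wreal_zero : WReal F 0 0 (Empty.elim : Empty → F) := by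
  refine ⟨zeroModel F, fun i => ?_, ?_⟩
  · rw [rsum, Multiset.map_zero, Multiset.sum_zero, rk_eq_zero_iff]
    exact Subsingleton.elim _ _
  · refine ⟨?_, ⊥, fun l => l.elim, finrank_bot _ _, ?_, fun l => l.elim, fun l => l.elim,
      fun l => l.elim⟩
    · show finrank F PUnit.{u+1} = _
      rw [Module.finrank_zero_of_subsingleton]
      simp
    · intro u _
      rfl

theorem wreal_add {L₁ L₂ : Multiset ℕ} {r₁ r₂ : ℕ} {κ₁ κ₂ : Type} [Fintype κ₁] [Fintype κ₂]
    {c₁ : κ₁ → F} {c₂ : κ₂ → F} (h₁ : WReal F L₁ r₁ c₁) (h₂ : WReal F L₂ r₂ c₂) :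
    WReal F (L₁ + L₂) (r₁ + r₂) (Sum.elim c₁ c₂) := by
  obtain ⟨M₁, hM₁, hW₁⟩ := h₁
  obtain ⟨M₂, hM₂, hW₂⟩ := h₂
  refine ⟨sumModel M₁ M₂, fun i => ?_, ?_⟩
  · show @rk F _ (M₁.V × M₂.V) _ _ (M₁.A.prodMap M₂.A - 1) i = _
    rw [prodMap_sub_one, rk_prodMap, hM₁, hM₂, rsum_add]
  · exact hasW_prod hW₁ hW₂

theorem wreal_pair (h2 : (2 : F) ≠ 0) {L : Multiset ℕ} {r : ℕ} {c : Unit ⊕ Unit → F} (a : F)
    (ha : a ≠ 0) (hc1 : c (Sum.inl ()) = a) (hc2 : c (Sum.inr ()) = -a) (h : WReal F L r c) :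
    WReal F L (r + 1) (Empty.elim : Empty → F) := by
  obtain ⟨M, hM, hW⟩ := h
  exact ⟨M, hM, hasW_pair h2 a ha hc1 hc2 hW⟩

theorem wreal_hyp (a : ℕ) : WReal F {a, a} a (Empty.elim : Empty → F) := by
  obtain ⟨T', hTT', hnil', hker, hT1, hs⟩ := shift_data (F := F) a
  refine ⟨hypModel (1 + shift F a) T' hTT' (by rw [hT1]; exact hs) hnil', fun i => ?_, ?_⟩
  · show @rk F _ (Module.Dual F (Fin a → F) × (Fin a → F)) _ _
      ((T'.dualMap : Module.End F (Module.Dual F (Fin a → F))).prodMap (1 + shift F a) - 1) i = _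
    rw [prodMap_sub_one, dualMap_sub_one, rk_prodMap, rk_dualMap, hT1, rk_shift,
      rk_of_ker_le_one _ hnil' hker, Module.finrank_fin_fun]
    simp [rsum]
  · have := hasW_dualProd (F := F) (Fin a → F)
    rw [Module.finrank_fin_fun] at this
    exact this

/-! ### regular odd blocks -/

/-- the line with the form `c x²` -/
abbrev lineModelC (F : Type u) [Field F] (h2 : (2 : F) ≠ 0) (c : F) (hc : c ≠ 0) : QuadModel F where
  V := F
  Q := c • QuadraticMap.sq
  A := 1
  nondeg := by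
    apply polar_nondeg_of_left
    intro x h
    have := h 1
    simp only [QuadraticMap.polar, _root_.smul_apply, QuadraticMap.sq_apply,
      smul_eq_mul] at this
    have h3 : 2 * c * x = 0 := by
      rw [← this]; ring
    exact (mul_eq_zero.mp h3).resolve_left (mul_ne_zero h2 hc)
  isom := fun _ => rfl
  nil := ⟨1, by rw [sub_self, pow_one]⟩

/-- regular models with a Witt decomposition `H^r ⊥ ⟨c⟩` -/
def WReg (F : Type u) [Field F] (c : F) (r : ℕ) : Prop :=
  ∃ M : QuadModel F, finrank F (LinearMap.ker (M.A - 1)) = 1 ∧ HasW M.Q r (fun _ : Unit => c)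

theorem wreg_zero (h2 : (2 : F) ≠ 0) (c : F) (hc : c ≠ 0) : WReg F c 0 := by
  refine ⟨lineModelC F h2 c hc, ?_, hasW_line c⟩
  show finrank F (LinearMap.ker ((1 : Module.End F F) - 1)) = 1
  rw [sub_self, LinearMap.ker_zero, finrank_top, Module.finrank_self]

theorem wreg_succ {c : F} {r : ℕ} (h : WReg F c r) : WReg F c (r + 1) := by
  obtain ⟨M, hk, hW⟩ := h
  obtain ⟨⟨v₀, hv₀mem⟩, hv₀ne, hspan⟩ := finrank_eq_one_iff'.mp hk
  have hv₀ : v₀ ≠ 0 := fun h0 => hv₀ne (Subtype.ext h0)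
  have hNv₀ : (M.A - 1) v₀ = 0 := hv₀mem
  have hAv₀ : M.A v₀ = v₀ := by
    rw [LinearMap.sub_apply, Module.End.one_apply, sub_eq_zero] at hNv₀; exact hNv₀
  obtain ⟨w, hw⟩ : ∃ w, QuadraticMap.polarBilin M.Q v₀ w = 1 := by
    obtain ⟨w', hw'⟩ : ∃ w', QuadraticMap.polarBilin M.Q v₀ w' ≠ 0 := by
      by_contra hcon
      exact hv₀ (M.nondeg.1 v₀ (fun y => by_contra fun hy => hcon ⟨y, hy⟩))
    refine ⟨(QuadraticMap.polarBilin M.Q v₀ w')⁻¹ • w', ?_⟩
    rw [map_smul, smul_eq_mul, inv_mul_cancel₀ hw']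
  have hkerN' := ext_ker (QuadraticMap.polarBilin M.Q) M.A
    (fun x y => polar_isom M.Q M.A M.isom x y) v₀ w (- M.Q w) hAv₀ hw
    (fun v hv => by
      obtain ⟨t, ht⟩ := hspan ⟨v, hv⟩
      exact ⟨t, congrArg Subtype.val ht⟩)
  refine ⟨extModel M w, ?_, hasW_ext hW⟩
  show finrank F (LinearMap.ker
    (extMap (QuadraticMap.polarBilin M.Q) M.A w (- M.Q w) - 1)) = 1
  rw [finrank_eq_one_iff']
  refine ⟨⟨(1, 0, 0), ?_⟩, ?_, ?_⟩
  · rw [LinearMap.mem_ker, extMap_sub_one_apply]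
    simp
  · intro h0
    have := congrArg (fun q : LinearMap.ker
      (extMap (QuadraticMap.polarBilin M.Q) M.A w (- M.Q w) - 1) => q.1.1) h0
    simp at this
  · rintro ⟨⟨a, v, b⟩, hp⟩
    obtain ⟨h1, h2⟩ := hkerN' _ hp
    refine ⟨a, ?_⟩
    apply Subtype.ext
    show a • ((1 : F), (0 : M.V), (0 : F)) = (a, v, b)
    have h1' : v = 0 := h1
    have h2' : b = 0 := h2
    rw [h1', h2']
    simp

theorem wreg_all (h2 : (2 : F) ≠ 0) (c : F) (hc : c ≠ 0) (r : ℕ) : WReg F c r := by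
  induction r with
  | zero => exact wreg_zero h2 c hc
  | succ r ih => exact wreg_succ ih

theorem wreal_odd (h2 : (2 : F) ≠ 0) (c : F) (hc : c ≠ 0) (r : ℕ) :
    WReal F {2 * r + 1} r (fun _ : Unit => c) := by
  obtain ⟨M, hk, hW⟩ := wreg_all h2 c hc r
  refine ⟨M, fun i => ?_, hW⟩
  rw [rk_of_ker_le_one _ M.nil hk.le, hW.1]
  simp [rsum]

/-! ### assembling -/

theorem even_sum_of_all_even (L : Multiset ℕ) (h : ∀ e ∈ L, Even e) : Even L.sum := by
  induction L using Multiset.induction_on with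
  | empty => simp
  | cons a L ih =>
    rw [Multiset.sum_cons]
    exact (h a (Multiset.mem_cons_self a L)).add (ih (fun e he => h e (Multiset.mem_cons_of_mem he)))

theorem exists_odd_mem (L : Multiset ℕ) (h : Odd L.sum) : ∃ e ∈ L, Odd e := by
  by_contra hcon
  have : ∀ e ∈ L, Even e := by
    intro e he
    rw [← Nat.not_odd_iff_even]
    exact fun ho => hcon ⟨e, he, ho⟩
  have := even_sum_of_all_even L this
  rw [← Nat.not_odd_iff_even] at this
  exact this h

/-- an admissible multiset of even sum splits off a pair of equal or odd parts -/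
theorem exists_pair_split (L : Multiset ℕ) (hL : L ≠ 0)
    (hadm : ∀ e, Even e → Even (L.count e)) (hsum : Even L.sum) :
    ∃ e₁ e₂ t, L = e₁ ::ₘ e₂ ::ₘ t ∧ (e₁ = e₂ ∨ (Odd e₁ ∧ Odd e₂)) ∧
      (∀ e, Even e → Even (t.count e)) := by
  by_cases h : ∃ e, 2 ≤ L.count e
  · obtain ⟨e, he⟩ := h
    have hmem : e ∈ L := Multiset.count_pos.mp (by omega)
    obtain ⟨t₁, rfl⟩ := Multiset.exists_cons_of_mem hmem
    rw [Multiset.count_cons_self] at he
    have hmem₁ : e ∈ t₁ := Multiset.count_pos.mp (by omega)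
    obtain ⟨t, rfl⟩ := Multiset.exists_cons_of_mem hmem₁
    refine ⟨e, e, t, rfl, Or.inl rfl, ?_⟩
    intro a ha
    have := hadm a ha
    rw [Multiset.count_cons, Multiset.count_cons] at this
    by_cases hae : a = e
    · rw [if_pos hae] at this
      obtain ⟨k, hk⟩ := this
      exact ⟨k - 1, by omega⟩
    · rw [if_neg hae] at this
      simpa using this
  · have hlt : ∀ e, L.count e < 2 := fun e => by
      by_contra hc
      exact h ⟨e, by omega⟩
    have hodd : ∀ e ∈ L, Odd e := by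
      intro e he
      rw [← Nat.not_even_iff_odd]
      intro hev
      have h1 := hadm e hev
      have h2 := Multiset.count_pos.mpr he
      have h3 := hlt e
      have : L.count e = 1 := by omega
      rw [this] at h1
      exact absurd h1 (by decide)
    obtain ⟨e₁, he₁⟩ := Multiset.exists_mem_of_ne_zero hL
    obtain ⟨t₁, rfl⟩ := Multiset.exists_cons_of_mem he₁
    have ho₁ := hodd e₁ he₁
    rw [Multiset.sum_cons] at hsum
    have hsum₁ : Odd t₁.sum := by
      rw [← Nat.not_even_iff_odd]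
      intro hev
      have := (Nat.even_add.mp hsum).mpr hev
      rw [← Nat.not_odd_iff_even] at this
      exact this ho₁
    obtain ⟨e₂, he₂, ho₂⟩ := exists_odd_mem t₁ hsum₁
    obtain ⟨t, rfl⟩ := Multiset.exists_cons_of_mem he₂
    refine ⟨e₁, e₂, t, rfl, Or.inr ⟨ho₁, ho₂⟩, ?_⟩
    intro a ha
    have : a ∉ t := by
      intro hmem
      have := hodd a (Multiset.mem_cons_of_mem (Multiset.mem_cons_of_mem hmem))
      rw [← Nat.not_even_iff_odd] at this
      exact this ha
    rw [Multiset.count_eq_zero_of_notMem this]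
    exact ⟨0, rfl⟩

theorem wreal_two (h2 : (2 : F) ≠ 0) (e₁ e₂ : ℕ) (h : e₁ = e₂ ∨ (Odd e₁ ∧ Odd e₂)) :
    WReal F (e₁ ::ₘ e₂ ::ₘ 0) ((e₁ + e₂) / 2) (Empty.elim : Empty → F) := by
  rcases h with rfl | ⟨⟨r₁, hr₁⟩, ⟨r₂, hr₂⟩⟩
  · refine wreal_of_eq (wreal_hyp e₁) rfl (by omega)
  · have h1 := wreal_odd h2 (1 : F) one_ne_zero r₁
    have h2' := wreal_odd h2 (-1 : F) (neg_ne_zero.mpr one_ne_zero) r₂
    have h3 := wreal_pair h2 (1 : F) one_ne_zero (by simp) (by simp) (wreal_add h1 h2')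
    refine wreal_of_eq h3 ?_ (by omega)
    rw [hr₁, hr₂]
    rfl

/-- every admissible Jordan type of even sum is realised in a hyperbolic space -/
theorem plus_real (h2 : (2 : F) ≠ 0) : ∀ (n : ℕ) (L : Multiset ℕ), Multiset.card L = n →
    (∀ e, Even e → Even (L.count e)) → Even L.sum →
    WReal F L (L.sum / 2) (Empty.elim : Empty → F) := by
  intro n
  induction n using Nat.strong_induction_on with
  | _ n ih =>
    intro L hcard hadm hsum
    by_cases hL : L = 0
    · subst hL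
      exact wreal_of_eq wreal_zero rfl (by simp)
    · obtain ⟨e₁, e₂, t, rfl, hpair, hadm'⟩ := exists_pair_split L hL hadm hsum
      have hsum' : Even t.sum := by
        rw [Multiset.sum_cons, Multiset.sum_cons] at hsum
        rcases hpair with rfl | ⟨ho₁, ho₂⟩
        · obtain ⟨k, hk⟩ := hsum
          exact ⟨k - e₁, by omega⟩
        · obtain ⟨k, hk⟩ := hsum
          obtain ⟨a, ha⟩ := ho₁
          obtain ⟨b, hb⟩ := ho₂
          exact ⟨k - a - b - 1, by omega⟩
      have hcard' : Multiset.card t < n := by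
        rw [← hcard, Multiset.card_cons, Multiset.card_cons]; omega
      have h1 := ih _ hcard' t rfl hadm' hsum'
      have h3 := wreal_add (wreal_two h2 e₁ e₂ hpair) h1
      have h4 := wreal_congr (Equiv.sumEmpty Empty Empty).symm h3
      refine wreal_of_eq (wreal_empty h4) ?_ ?_
      · rw [Multiset.cons_add, Multiset.cons_add, Multiset.zero_add]
      · rw [Multiset.sum_cons, Multiset.sum_cons]
        obtain ⟨k, hk⟩ := hsum'
        have : Even (e₁ + e₂) := by
          rcases hpair with rfl | ⟨ho₁, ho₂⟩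
          · exact ⟨e₁, rfl⟩
          · exact ho₁.add_odd ho₂
        obtain ⟨j, hj⟩ := this
        omega

/-- odd sum: `H^d ⊥ ⟨c⟩` -/
theorem odd_real (h2 : (2 : F) ≠ 0) (c : F) (hc : c ≠ 0) (L : Multiset ℕ)
    (hadm : ∀ e, Even e → Even (L.count e)) (d : ℕ) (hsum : L.sum = 2 * d + 1) :
    WReal F L d (fun _ : Unit => c) := by
  obtain ⟨e₁, he₁, ⟨r₁, hr₁⟩⟩ := exists_odd_mem L (by rw [hsum]; exact ⟨d, rfl⟩)
  obtain ⟨t, rfl⟩ := Multiset.exists_cons_of_mem he₁
  rw [Multiset.sum_cons] at hsum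
  have hadm' : ∀ e, Even e → Even (t.count e) := by
    intro a ha
    have := hadm a ha
    rw [Multiset.count_cons, if_neg] at this
    · simpa using this
    · rintro rfl
      rw [← Nat.not_odd_iff_even] at ha
      exact ha ⟨r₁, hr₁⟩
  have hsum' : Even t.sum := ⟨d - r₁, by omega⟩
  have h1 := plus_real h2 _ t rfl hadm' hsum'
  have h3 := wreal_add (wreal_odd h2 c hc r₁) h1
  have h4 := wreal_congr (Equiv.sumEmpty Unit Empty).symm h3
  have hfun : (Sum.elim (fun _ : Unit => c) (Empty.elim : Empty → F)) ∘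
      ⇑(Equiv.sumEmpty Unit Empty).symm = fun _ : Unit => c := by
    funext x
    rfl
  rw [hfun] at h4
  refine wreal_of_eq h4 ?_ ?_
  · rw [hr₁, Multiset.singleton_add]
  · omega

/-- even sum with an odd part: `H^(d-1) ⊥ ⟨c₁, c₂⟩` -/
theorem minus_real (h2 : (2 : F) ≠ 0) (c₁ c₂ : F) (hc₁ : c₁ ≠ 0) (hc₂ : c₂ ≠ 0) (L : Multiset ℕ)
    (hadm : ∀ e, Even e → Even (L.count e)) (d : ℕ) (hsum : L.sum = 2 * d)
    (hodd : ∃ e ∈ L, Odd e) :
    WReal F L (d - 1) (Sum.elim (fun _ : Unit => c₁) (fun _ : Unit => c₂)) := by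
  obtain ⟨e₁, he₁, ⟨r₁, hr₁⟩⟩ := hodd
  obtain ⟨t₁, rfl⟩ := Multiset.exists_cons_of_mem he₁
  rw [Multiset.sum_cons] at hsum
  obtain ⟨e₂, he₂, ⟨r₂, hr₂⟩⟩ := exists_odd_mem t₁ ⟨d - r₁ - 1, by omega⟩
  obtain ⟨t, rfl⟩ := Multiset.exists_cons_of_mem he₂
  rw [Multiset.sum_cons] at hsum
  have hadm' : ∀ e, Even e → Even (t.count e) := by
    intro a ha
    have := hadm a ha
    have hne₁ : ¬ a = e₁ := by
      rintro rfl
      rw [← Nat.not_odd_iff_even] at ha
      exact ha ⟨r₁, hr₁⟩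
    have hne₂ : ¬ a = e₂ := by
      rintro rfl
      rw [← Nat.not_odd_iff_even] at ha
      exact ha ⟨r₂, hr₂⟩
    rw [Multiset.count_cons, if_neg hne₁, Multiset.count_cons, if_neg hne₂] at this
    simpa using this
  have hsum' : Even t.sum := ⟨d - r₁ - r₂ - 1, by omega⟩
  have h1 := plus_real h2 _ t rfl hadm' hsum'
  have h3 := wreal_add (wreal_add (wreal_odd h2 c₁ hc₁ r₁) (wreal_odd h2 c₂ hc₂ r₂)) h1
  have h4 := wreal_congr (Equiv.sumEmpty (Unit ⊕ Unit) Empty).symm h3
  have hfun : (Sum.elim (Sum.elim (fun _ : Unit => c₁) (fun _ : Unit => c₂))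
      (Empty.elim : Empty → F)) ∘ ⇑(Equiv.sumEmpty (Unit ⊕ Unit) Empty).symm =
      Sum.elim (fun _ : Unit => c₁) (fun _ : Unit => c₂) := by
    funext x
    rfl
  rw [hfun] at h4
  refine wreal_of_eq h4 ?_ ?_
  · rw [hr₁, hr₂, Multiset.singleton_add, Multiset.cons_add, Multiset.singleton_add]
  · omega

end Cfsg.Agent.Helper14.UnipWitt
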