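import Mathlib

set_option autoImplicit false

/-!
Standard coordinates for a non-degenerate quadratic space (characteristic not two) containing a
totally singular subspace `U` of dimension `r` and `k` mutually orthogonal non-singular vectors
orthogonal to `U`, when `dim V = 2 r + k`.
-/

namespace Cfsg.Agent.Helper14.WittIso

open Module QuadraticMap

variable {F : Type*} [Field F] {V : Type*} [AddCommGroup V] [Module F V]

section dual

variable {α : Type*} [Fintype α] [DecidableEq α]

theorem exists_dual_family (B : LinearMap.BilinForm F V) (hB : ∀ x, (∀ y, B x y = 0) → x = 0)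
    (x : α → V) (hli : LinearIndependent F x) :
    ∃ y : α → V, ∀ a b, B (x a) (y b) = if a = b then 1 else 0 := by
  let φ : V →ₗ[F] (α → F) := LinearMap.pi (fun a => B (x a))
  have hφ : ∀ v a, φ v a = B (x a) v := fun v a => rfl
  have hsurj : Function.Surjective φ := by
    rw [← LinearMap.range_eq_top]
    by_contra hne
    obtain ⟨g, hg0, hle⟩ := Submodule.exists_le_ker_of_lt_top _ (lt_top_iff_ne_top.mpr hne)
    apply hg0
    have hg : ∀ v, g (φ v) = 0 := fun v => hle (LinearMap.mem_range_self φ v)
    have hz : ∑ a, g (fun j => if a = j then 1 else 0) • x a = 0 := by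
      apply hB
      intro v
      rw [map_sum, LinearMap.sum_apply]
      simp only [map_smul, LinearMap.smul_apply, smul_eq_mul]
      have := hg v
      rw [LinearMap.pi_apply_eq_sum_univ g (φ v)] at this
      refine Eq.trans ?_ this
      apply Finset.sum_congr rfl
      intro a _
      rw [hφ, smul_eq_mul, mul_comm]
    have hcoef := Fintype.linearIndependent_iff.mp hli _ hz
    apply LinearMap.ext
    intro t
    rw [LinearMap.pi_apply_eq_sum_univ g t]
    simp only [hcoef, smul_zero, Finset.sum_const_zero, LinearMap.zero_apply]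
  choose y hy using fun b : α => hsurj (fun a => if a = b then 1 else 0)
  refine ⟨y, ?_⟩
  intro a b
  rw [← hφ, hy b]

/-- make the dual family totally isotropic, keeping orthogonality to a given set of vectors -/
theorem exists_hyp_family (h2 : (2 : F) ≠ 0) (B : LinearMap.BilinForm F V)
    (hsymm : ∀ x y, B x y = B y x) (x y₀ : α → V) (hxx : ∀ a b, B (x a) (x b) = 0)
    (hy₀ : ∀ a b, B (x a) (y₀ b) = if a = b then 1 else 0) :
    ∃ y : α → V, (∀ a b, B (x a) (y b) = if a = b then 1 else 0) ∧
      (∀ a b, B (y a) (y b) = 0) ∧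
      ∀ z, (∀ a, B (x a) z = 0) → (∀ b, B (y₀ b) z = 0) → ∀ b, B (y b) z = 0 := by
  set S : α → V := fun a => ∑ b, B (y₀ a) (y₀ b) • x b with hS
  have hxS : ∀ a b, B (x a) (S b) = 0 := by
    intro a b
    simp only [hS, map_sum, map_smul, smul_eq_mul, hxx, mul_zero, Finset.sum_const_zero]
  have hSy : ∀ a b, B (S a) (y₀ b) = B (y₀ a) (y₀ b) := by
    intro a b
    simp only [hS, map_sum, LinearMap.sum_apply, map_smul, LinearMap.smul_apply, smul_eq_mul,
      hy₀, mul_ite, mul_one, mul_zero, Finset.sum_ite_eq', Finset.mem_univ, if_true]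
  have hyS : ∀ a b, B (y₀ a) (S b) = B (y₀ a) (y₀ b) := by
    intro a b
    rw [hsymm, hSy, hsymm]
  have hgen : ∀ (a : α) (t : V), (∀ b', B (x b') t = 0) → B (S a) t = 0 := by
    intro a t ht
    have hSa : S a = ∑ b', B (y₀ a) (y₀ b') • x b' := rfl
    rw [hSa, map_sum, LinearMap.sum_apply]
    apply Finset.sum_eq_zero
    intro b' _
    rw [map_smul, LinearMap.smul_apply, ht, smul_zero]
  have hSS : ∀ a b, B (S a) (S b) = 0 := by
    intro a b
    exact hgen a (S b) (fun b' => hxS b' b)
  refine ⟨fun a => y₀ a - (2⁻¹ : F) • S a, ?_, ?_, ?_⟩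
  · intro a b
    simp only [map_sub, map_smul, smul_eq_mul, hxS, mul_zero, sub_zero, hy₀]
  · intro a b
    simp only [map_sub, map_smul, LinearMap.sub_apply, LinearMap.smul_apply, smul_eq_mul, hSy, hyS,
      hSS]
    have h22 : (2⁻¹ : F) + 2⁻¹ = 1 := by field_simp; norm_num
    linear_combination (-(B (y₀ a) (y₀ b))) * h22
  · intro z hxz hyz b
    simp only [map_sub, map_smul, LinearMap.sub_apply, LinearMap.smul_apply, smul_eq_mul, hyz,
      hgen b z hxz, mul_zero, sub_zero]

end dual

section quad

variable (Q : QuadraticForm F V)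

theorem Q_add (x y : V) : Q (x + y) = Q x + Q y + polar Q x y := by
  rw [polar]; ring

theorem Q_smul (a : F) (x : V) : Q (a • x) = a * a * Q x := by
  rw [QuadraticMap.map_smul, smul_eq_mul]

theorem polar_self' (x : V) : polar Q x x = 2 * Q x := by
  rw [QuadraticMap.polar_self]; simp

theorem polar_sum_left {ι : Type*} (s : Finset ι) (f : ι → V) (y : V) :
    polar Q (∑ i ∈ s, f i) y = ∑ i ∈ s, polar Q (f i) y := by
  have h := congrArg (fun g => g y) (map_sum (QuadraticMap.polarBilin Q) f s)
  simpa only [LinearMap.sum_apply, polarBilin_apply_apply] using h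

theorem polar_sum_right {ι : Type*} (s : Finset ι) (f : ι → V) (y : V) :
    polar Q y (∑ i ∈ s, f i) = ∑ i ∈ s, polar Q y (f i) := by
  rw [polar_comm, polar_sum_left]
  exact Finset.sum_congr rfl (fun i _ => polar_comm _ _ _)

/-- `Q` on a combination of mutually orthogonal vectors -/
theorem Q_sum_orth {ι : Type*} [DecidableEq ι] (z : ι → V)
    (horth : ∀ i j, i ≠ j → polar Q (z i) (z j) = 0) (c : ι → F) (s : Finset ι) :
    Q (∑ i ∈ s, c i • z i) = ∑ i ∈ s, c i * c i * Q (z i) := by
  induction s using Finset.induction_on with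
  | empty => simp
  | insert a s ha ih =>
    rw [Finset.sum_insert ha, Finset.sum_insert ha, Q_add, ih, Q_smul, polar_sum_right]
    have : ∑ i ∈ s, polar Q (c a • z a) (c i • z i) = 0 := by
      apply Finset.sum_eq_zero
      intro i hi
      rw [polar_smul_left, polar_smul_right, horth a i (fun h => ha (h ▸ hi))]
      simp
    rw [this, add_zero]

end quad

section main

variable [FiniteDimensional F V] (Q : QuadraticForm F V) {κ : Type*} [Fintype κ]

theorem exists_witt_family (h2 : (2 : F) ≠ 0) (hQ : (polarBilin Q).Nondegenerate)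
    {r : ℕ} (U : Submodule F V) (hU : finrank F U = r) (hts : ∀ u ∈ U, Q u = 0)
    (w : κ → V) (hwU : ∀ l, ∀ u ∈ U, polar Q (w l) u = 0)
    (hww : ∀ l l', l ≠ l' → polar Q (w l) (w l') = 0) (hw : ∀ l, Q (w l) ≠ 0) :
    ∃ (u y : Fin r → V), (∀ i, u i ∈ U) ∧ (∀ i j, polar Q (u i) (u j) = 0) ∧
      (∀ i j, polar Q (y i) (y j) = 0) ∧ (∀ i j, polar Q (u i) (y j) = if i = j then 1 else 0) ∧
      (∀ i l, polar Q (y i) (w l) = 0) := by
  classical
  let b := Module.finBasisOfFinrankEq F U hU
  let u : Fin r → V := fun i => (b i : V)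
  have huU : ∀ i, u i ∈ U := fun i => (b i).2
  have hli : LinearIndependent F u :=
    b.linearIndependent.map' U.subtype (Submodule.ker_subtype U)
  have huu : ∀ i j, polar Q (u i) (u j) = 0 := by
    intro i j
    rw [polar, hts _ (U.add_mem (huU i) (huU j)), hts _ (huU i), hts _ (huU j)]
    ring
  have hB1 : ∀ x, (∀ y, polarBilin Q x y = 0) → x = 0 := fun x hx => hQ.1 x hx
  obtain ⟨y₀, hy₀⟩ := exists_dual_family (polarBilin Q) hB1 u hli
  have hwl : ∀ l, polar Q (w l) (w l) ≠ 0 := by
    intro l
    rw [polar_self']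
    exact mul_ne_zero h2 (hw l)
  -- make `y₀` orthogonal to the `w l`
  let y₁ : Fin r → V := fun j =>
    y₀ j - ∑ l, (polar Q (y₀ j) (w l) * (polar Q (w l) (w l))⁻¹) • w l
  have huw : ∀ i l, polar Q (u i) (w l) = 0 := by
    intro i l
    rw [polar_comm]; exact hwU l _ (huU i)
  have hy₁ : ∀ i j, polarBilin Q (u i) (y₁ j) = if i = j then 1 else 0 := by
    intro i j
    simp only [y₁, map_sub, map_sum, map_smul, polarBilin_apply_apply, huw, smul_zero,
      Finset.sum_const_zero, sub_zero]
    have := hy₀ i j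
    rwa [polarBilin_apply_apply] at this
  have hy₁w : ∀ j l, polarBilin Q (y₁ j) (w l) = 0 := by
    intro j l
    simp only [y₁, map_sub, map_sum, map_smul, LinearMap.sub_apply, LinearMap.sum_apply,
      LinearMap.smul_apply, polarBilin_apply_apply, smul_eq_mul]
    rw [Finset.sum_eq_single l]
    · rw [mul_assoc, inv_mul_cancel₀ (hwl l), mul_one, sub_self]
    · intro l' _ hl'
      rw [hww l' l hl', mul_zero]
    · intro h
      exact absurd (Finset.mem_univ l) h
  obtain ⟨y, hy, hyy, hyz⟩ := exists_hyp_family h2 (polarBilin Q)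
    (fun x y => by rw [polarBilin_apply_apply, polarBilin_apply_apply, polar_comm]) u y₁
    (fun a b => by rw [polarBilin_apply_apply]; exact huu a b) hy₁
  refine ⟨u, y, huU, huu, ?_, ?_, ?_⟩
  · intro i j
    have := hyy i j
    rwa [polarBilin_apply_apply] at this
  · intro i j
    have := hy i j
    rwa [polarBilin_apply_apply] at this
  · intro i l
    have := hyz (w l) (fun a => by rw [polarBilin_apply_apply]; exact huw a l)
      (fun b => hy₁w b l) i
    rwa [polarBilin_apply_apply] at this

theorem exists_std_iso (h2 : (2 : F) ≠ 0) (hQ : (polarBilin Q).Nondegenerate)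
    {r : ℕ} (hdim : finrank F V = 2 * r + Fintype.card κ)
    (U : Submodule F V) (hU : finrank F U = r) (hts : ∀ u ∈ U, Q u = 0)
    (w : κ → V) (hwU : ∀ l, ∀ u ∈ U, polar Q (w l) u = 0)
    (hww : ∀ l l', l ≠ l' → polar Q (w l) (w l') = 0) (hw : ∀ l, Q (w l) ≠ 0) :
    ∃ φ : ((Fin r ⊕ Fin r) ⊕ κ → F) ≃ₗ[F] V, ∀ c, Q (φ c) =
      ∑ i, c (Sum.inl (Sum.inl i)) * c (Sum.inl (Sum.inr i)) +
        ∑ l, Q (w l) * c (Sum.inr l) ^ 2 := by
  classical
  obtain ⟨u, y, huU, huu, hyy, huy, hyw⟩ := exists_witt_family Q h2 hQ U hU hts w hwU hww hw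
  have huw : ∀ i l, polar Q (u i) (w l) = 0 := by
    intro i l
    rw [polar_comm]; exact hwU l _ (huU i)
  have hQy : ∀ i, Q (y i) = 0 := by
    intro i
    have := hyy i i
    rw [polar_self'] at this
    exact (mul_eq_zero.mp this).resolve_left h2
  let fam : (Fin r ⊕ Fin r) ⊕ κ → V := Sum.elim (Sum.elim u y) w
  let φ₀ : ((Fin r ⊕ Fin r) ⊕ κ → F) →ₗ[F] V := Fintype.linearCombination F fam
  have hφ₀ : ∀ c, φ₀ c = ∑ i, c (Sum.inl (Sum.inl i)) • u i + ∑ i, c (Sum.inl (Sum.inr i)) • y i
      + ∑ l, c (Sum.inr l) • w l := by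
    intro c
    show Fintype.linearCombination F fam c = _
    rw [Fintype.linearCombination_apply, Fintype.sum_sum_type, Fintype.sum_sum_type]
    rfl
  have hQφ : ∀ c, Q (φ₀ c) = ∑ i, c (Sum.inl (Sum.inl i)) * c (Sum.inl (Sum.inr i)) +
        ∑ l, Q (w l) * c (Sum.inr l) ^ 2 := by
    intro c
    rw [hφ₀, Q_add, Q_add]
    have e1 : Q (∑ i, c (Sum.inl (Sum.inl i)) • u i) = 0 := by
      apply hts
      exact Submodule.sum_mem _ (fun i _ => Submodule.smul_mem _ _ (huU i))
    have e2 : Q (∑ i, c (Sum.inl (Sum.inr i)) • y i) = 0 := by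
      rw [Q_sum_orth Q y (fun i j _ => hyy i j)]
      apply Finset.sum_eq_zero
      intro i _
      rw [hQy, mul_zero]
    have e3 : Q (∑ l, c (Sum.inr l) • w l) = ∑ l, Q (w l) * c (Sum.inr l) ^ 2 := by
      rw [Q_sum_orth Q w hww]
      apply Finset.sum_congr rfl
      intro l _
      ring
    have e4 : polar Q (∑ i, c (Sum.inl (Sum.inl i)) • u i) (∑ i, c (Sum.inl (Sum.inr i)) • y i)
        = ∑ i, c (Sum.inl (Sum.inl i)) * c (Sum.inl (Sum.inr i)) := by
      rw [polar_sum_left]
      apply Finset.sum_congr rfl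
      intro i _
      rw [polar_sum_right, Finset.sum_eq_single i]
      · rw [polar_smul_left, polar_smul_right, huy, if_pos rfl]
        simp
      · intro j _ hj
        rw [polar_smul_left, polar_smul_right, huy, if_neg (Ne.symm hj)]
        simp
      · intro h
        exact absurd (Finset.mem_univ i) h
    have e5 : polar Q (∑ i, c (Sum.inl (Sum.inl i)) • u i + ∑ i, c (Sum.inl (Sum.inr i)) • y i)
        (∑ l, c (Sum.inr l) • w l) = 0 := by
      rw [polar_add_left, polar_sum_left, polar_sum_left]
      have z1 : ∀ i, polar Q (c (Sum.inl (Sum.inl i)) • u i) (∑ l, c (Sum.inr l) • w l) = 0 := by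
        intro i
        rw [polar_sum_right]
        apply Finset.sum_eq_zero
        intro l _
        rw [polar_smul_left, polar_smul_right, huw]
        simp
      have z2 : ∀ i, polar Q (c (Sum.inl (Sum.inr i)) • y i) (∑ l, c (Sum.inr l) • w l) = 0 := by
        intro i
        rw [polar_sum_right]
        apply Finset.sum_eq_zero
        intro l _
        rw [polar_smul_left, polar_smul_right, hyw]
        simp
      simp only [z1, z2, Finset.sum_const_zero, add_zero]
    rw [e1, e2, e3, e4, e5]
    ring
  have hinj : Function.Injective φ₀ := by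
    rw [← LinearMap.ker_eq_bot, LinearMap.ker_eq_bot']
    intro c hc
    have hpol : ∀ t, polar Q (φ₀ c) t = ∑ i, c (Sum.inl (Sum.inl i)) * polar Q (u i) t +
        ∑ i, c (Sum.inl (Sum.inr i)) * polar Q (y i) t + ∑ l, c (Sum.inr l) * polar Q (w l) t := by
      intro t
      rw [hφ₀, polar_add_left, polar_add_left, polar_sum_left, polar_sum_left, polar_sum_left]
      simp only [polar_smul_left, smul_eq_mul]
    have hzero : ∀ t, polar Q (φ₀ c) t = 0 := by
      intro t
      rw [hc]
      simp [polar]
    funext j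
    rcases j with (i | i) | l
    · have := hpol (y i)
      rw [hzero] at this
      simp only [huy, hyy, mul_zero, Finset.sum_const_zero, add_zero, mul_ite, mul_one,
        Finset.sum_ite_eq', Finset.mem_univ, if_true] at this
      have hwy : ∀ l, polar Q (w l) (y i) = 0 := fun l => by rw [polar_comm]; exact hyw i l
      simp only [hwy, mul_zero, Finset.sum_const_zero, add_zero] at this
      exact this.symm
    · have := hpol (u i)
      rw [hzero] at this
      have hyu : ∀ j, polar Q (y j) (u i) = if i = j then 1 else 0 := fun j => by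
        rw [polar_comm]; exact huy i j
      have hwu : ∀ l, polar Q (w l) (u i) = 0 := fun l => hwU l _ (huU i)
      simp only [huu, hyu, hwu, mul_zero, Finset.sum_const_zero, add_zero, zero_add, mul_ite,
        mul_one, Finset.sum_ite_eq, Finset.mem_univ, if_true] at this
      exact this.symm
    · have := hpol (w l)
      rw [hzero] at this
      simp only [huw, hyw, mul_zero, Finset.sum_const_zero, zero_add] at this
      rw [Finset.sum_eq_single l] at this
      · rcases mul_eq_zero.mp this.symm with h | h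
        · exact h
        · rw [polar_self'] at h
          exact absurd h (mul_ne_zero h2 (hw l))
      · intro l' _ hl'
        rw [hww l' l hl', mul_zero]
      · intro h
        exact absurd (Finset.mem_univ l) h
  have hfin : finrank F ((Fin r ⊕ Fin r) ⊕ κ → F) = finrank F V := by
    rw [Module.finrank_pi, hdim]
    simp
    ring
  refine ⟨LinearEquiv.ofInjectiveOfFinrankEq φ₀ hinj hfin, ?_⟩
  intro c
  exact hQφ c

end main

end Cfsg.Agent.Helper14.WittIso
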