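import Mathlib
import Cfsg.Prelude.Def_GeometricClasses
import Cfsg.Prelude.Def_Classical
import Cfsg.Agent.Lib.Helper14.UnipWitt
import Cfsg.Agent.Lib.Helper14.UnipQuadConj
import Cfsg.Agent.Lib.Helper14.ReflGen
import Cfsg.Agent.Lib.Helper14.WittIso

set_option autoImplicit false

/-!
Unipotent elements of prescribed Jordan type in `Ω(Q)` (odd characteristic), and the Jordan type
of the restriction to an invariant non-degenerate subspace.
-/

namespace Cfsg.Agent.Helper14.UnipOmega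

open Module Matrix QuadraticMap Cfsg.Agent.Helper42.Jordan Cfsg.Agent.Helper14.JordanRk
  Cfsg.Agent.Helper14.UnipAlt Cfsg.Agent.Helper14.UnipQuad Cfsg.Agent.Helper14.JType
  Cfsg.Agent.Helper14.UnipParity Cfsg.Agent.Helper14.UnipQuadConj Cfsg.Agent.Helper14.UnipWitt

universe u

/-! ### squares lie in the commutator subgroup of a group generated by involutions -/

theorem sq_mem_commutator {G : Type*} [Group G] (S : Set G) (hS : Subgroup.closure S = ⊤)
    (hinv : ∀ s ∈ S, s * s = 1) (g : G) : g ^ 2 ∈ commutator G := by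
  let φ : G →* Abelianization G := (powMonoidHom 2).comp Abelianization.of
  have hker : Subgroup.closure S ≤ φ.ker := by
    rw [Subgroup.closure_le]
    intro s hs
    rw [SetLike.mem_coe, MonoidHom.mem_ker]
    show (Abelianization.of s) ^ 2 = 1
    rw [← map_pow, pow_two, hinv s hs, map_one]
  have hg : g ∈ φ.ker := hker (hS ▸ Subgroup.mem_top g)
  rw [MonoidHom.mem_ker] at hg
  have h2 : Abelianization.of (g ^ 2) = 1 := by rw [map_pow]; exact hg
  rwa [← MonoidHom.mem_ker, Abelianization.ker_of] at h2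

theorem count_add_rsum (ν : Multiset ℕ) (j : ℕ) (hj : 1 ≤ j) :
    ν.count j + 2 * rsum ν j = rsum ν (j - 1) + rsum ν (j + 1) := by
  induction ν using Multiset.induction_on with
  | empty => simp [rsum]
  | cons a ν ih =>
    simp only [rsum, Multiset.map_cons, Multiset.sum_cons, Multiset.count_cons] at ih ⊢
    split_ifs with h <;> omega

theorem even_count_of_even_rsum (ν : Multiset ℕ) (h : ∀ k, Even (rsum ν (2 * k + 1))) (e : ℕ)
    (he : Even e) (hpos : 0 < e) : Even (ν.count e) := by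
  obtain ⟨r, hr⟩ := he
  have h1 := count_add_rsum ν e (by omega)
  have h3 := h (r - 1)
  have h4 := h r
  rw [show e - 1 = 2 * (r - 1) + 1 by omega, show e + 1 = 2 * r + 1 by omega] at h1
  obtain ⟨a, ha⟩ := h3
  obtain ⟨b, hb⟩ := h4
  exact ⟨a + b - rsum ν e, by omega⟩

variable {F : Type u} [Field F]

/-! ### the type of the restriction to an invariant non-degenerate subspace -/

theorem sub_type_of_invariant (h2 : (2 : F) ≠ 0) {V : Type*} [AddCommGroup V] [Module F V]
    [FiniteDimensional F V] (Q : QuadraticForm F V) (X : Module.End F V)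
    (hX : ∀ v, Q (X v) = Q v) (hnil : IsNilpotent (X - 1))
    (μ : Multiset ℕ) (hμ0 : ∀ e ∈ μ, 0 < e) (hμ : ∀ k, rk (X - 1) k = rsum μ k)
    (W : Submodule F V) (hXW : ∀ x ∈ W, X x ∈ W)
    (hWnd : (LinearMap.BilinForm.restrict (polarBilin Q) W).Nondegenerate) :
    ∃ ν : Multiset ℕ, ν ≤ μ ∧ ν.sum = finrank F W ∧ (∀ e, Even e → Even (ν.count e)) ∧
      ∃ hW : ∀ x ∈ W, (X - 1) x ∈ W, ∀ k, rk ((X - 1).restrict hW) k = rsum ν k := by
  have hsymmB : ∀ x y, polarBilin Q x y = polarBilin Q y x := by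
    intro x y
    rw [polarBilin_apply_apply, polarBilin_apply_apply, polar_comm]
  have hrefl : (polarBilin Q).IsRefl := by
    intro x y hxy
    rw [hsymmB]; exact hxy
  have hc : IsCompl W (LinearMap.BilinForm.orthogonal (polarBilin Q) W) :=
    LinearMap.BilinForm.isCompl_orthogonal_of_restrict_nondegenerate hrefl hWnd
  have hW : ∀ x ∈ W, (X - 1) x ∈ W := by
    intro x hx
    rw [LinearMap.sub_apply, Module.End.one_apply]
    exact W.sub_mem (hXW x hx) hx
  have hXunit : IsUnit X := by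
    have := hnil.isUnit_one_add
    rwa [add_sub_cancel] at this
  have hXinj : Function.Injective X := ((Module.End.isUnit_iff X).mp hXunit).1
  have hXWinj : Function.Injective (X.restrict hXW) := by
    intro a b hab
    apply Subtype.ext
    apply hXinj
    exact congrArg Subtype.val hab
  have hXWsurj : Function.Surjective (X.restrict hXW) := LinearMap.surjective_of_injective hXWinj
  have hisomB : ∀ a b, polarBilin Q (X a) (X b) = polarBilin Q a b := by
    intro a b
    rw [polarBilin_apply_apply, polarBilin_apply_apply]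
    exact polar_isom Q X hX a b
  have hW' : ∀ x ∈ LinearMap.BilinForm.orthogonal (polarBilin Q) W, (X - 1) x ∈ LinearMap.BilinForm.orthogonal (polarBilin Q) W := by
    intro x hx
    rw [LinearMap.sub_apply, Module.End.one_apply]
    apply Submodule.sub_mem _ _ hx
    rw [LinearMap.BilinForm.mem_orthogonal_iff] at hx ⊢
    intro n hn
    obtain ⟨n₀, hn₀⟩ := hXWsurj ⟨n, hn⟩
    have hn₀' : X (n₀ : V) = n := congrArg Subtype.val hn₀
    rw [← hn₀', hisomB]
    exact hx n₀ n₀.2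
  obtain ⟨ν, hνle, hν0, hνs, hνr⟩ := exists_sub_jtype (X - 1) hnil W _ hc hW hW' μ hμ0 hμ
  refine ⟨ν, hνle, hνs, ?_, hW, hνr⟩
  have hres : X.restrict hXW - 1 = (X - 1).restrict hW := by
    apply LinearMap.ext
    intro x
    apply Subtype.ext
    simp
  have hnilW : IsNilpotent (X.restrict hXW - 1) := by
    rw [hres]; exact isNilpotent_restrict _ hnil W hW
  have hev : ∀ k, Even (rsum ν (2 * k + 1)) := by
    intro k
    rw [← hνr, ← hres]
    apply even_rk_odd h2 (LinearMap.BilinForm.restrict (polarBilin Q) W) hWnd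
    · intro x y
      simp only [LinearMap.BilinForm.restrict_apply, LinearMap.domRestrict_apply]
      exact hsymmB _ _
    · intro x y
      simp only [LinearMap.BilinForm.restrict_apply, LinearMap.domRestrict_apply,
        LinearMap.coe_restrict_apply]
      exact hisomB _ _
    · exact hnilW
  intro e he
  rcases Nat.eq_zero_or_pos e with rfl | hpos
  · rw [Multiset.count_eq_zero_of_notMem]
    · exact ⟨0, rfl⟩
    · intro h0
      exact absurd (hν0 0 h0) (lt_irrefl 0)
  · exact even_count_of_even_rsum ν hev e he hpos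

variable {ι : Type} [Fintype ι] [DecidableEq ι]

omit [Fintype ι] [DecidableEq ι] in
theorem restrict_nondeg_of_isNondegenerateOn (Q : QuadraticForm F (ι → F))
    (W : Submodule F (ι → F)) (hW : Cfsg.Geo.IsNondegenerateOn (polar ⇑Q) W) :
    (LinearMap.BilinForm.restrict (polarBilin Q) W).Nondegenerate := by
  constructor
  · intro x hx
    by_contra hne
    have hne' : (x : ι → F) ≠ 0 := fun h => hne (Subtype.ext h)
    obtain ⟨-, ⟨y, hy, hxy⟩⟩ := hW x.1 x.2 hne'
    apply hxy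
    have := hx ⟨y, hy⟩
    simpa [LinearMap.BilinForm.restrict_apply] using this
  · intro y hy
    by_contra hne
    have hne' : (y : ι → F) ≠ 0 := fun h => hne (Subtype.ext h)
    obtain ⟨⟨x, hx, hxy⟩, -⟩ := hW y.1 y.2 hne'
    apply hxy
    have := hy ⟨x, hx⟩
    simpa [LinearMap.BilinForm.restrict_apply] using this

theorem isNilpotent_of_rsum {V : Type*} [AddCommGroup V] [Module F V] [FiniteDimensional F V]
    (T : Module.End F V) (μ : Multiset ℕ) (hμ : ∀ k, rk T k = rsum μ k) : IsNilpotent T := by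
  refine ⟨μ.sum, ?_⟩
  rw [← rk_eq_zero_iff, hμ]
  exact rsum_eq_zero_of_le μ _ (fun e he => Multiset.le_sum_of_mem he)

theorem sub_type_matrix (h2 : (2 : F) ≠ 0) (Q : QuadraticForm F (ι → F)) (g : GL ι F)
    (hg : g ∈ Cfsg.isometryGroup F ⇑Q) (μ : Multiset ℕ) (hμ0 : ∀ e ∈ μ, 0 < e)
    (hμ : ∀ k, rk (Matrix.toLin' (g : Matrix ι ι F) - 1) k = rsum μ k)
    (W : Submodule F (ι → F)) (hgW : W.map (Matrix.toLin' (g : Matrix ι ι F)) ≤ W)
    (hWnd : Cfsg.Geo.IsNondegenerateOn (polar ⇑Q) W) :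
    ∃ ν : Multiset ℕ, ν ≤ μ ∧ ν.sum = finrank F W ∧ (∀ e, Even e → Even (ν.count e)) ∧
      ∃ hW : ∀ x ∈ W, (Matrix.toLin' (g : Matrix ι ι F) - 1) x ∈ W,
        ∀ k, rk ((Matrix.toLin' (g : Matrix ι ι F) - 1).restrict hW) k = rsum ν k := by
  apply sub_type_of_invariant h2 Q (Matrix.toLin' (g : Matrix ι ι F)) ?_
    (isNilpotent_of_rsum _ μ hμ) μ hμ0 hμ W ?_ (restrict_nondeg_of_isNondegenerateOn Q W hWnd)
  · intro v
    rw [Matrix.toLin'_apply]
    exact (mem_isometryGroup_iff (⇑Q) g).mp hg v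
  · intro x hx
    exact hgW (Submodule.mem_map_of_mem hx)

/-- if the restriction has type `(2^a)` then `W` is of plus type -/
theorem plus_of_sq_zero (h2 : (2 : F) ≠ 0) (Q : QuadraticForm F (ι → F)) (g : GL ι F)
    (hg : g ∈ Cfsg.isometryGroup F ⇑Q) (W : Submodule F (ι → F))
    (hW : ∀ x ∈ W, (Matrix.toLin' (g : Matrix ι ι F) - 1) x ∈ W) (ν : Multiset ℕ)
    (hr : ∀ k, rk ((Matrix.toLin' (g : Matrix ι ι F) - 1).restrict hW) k = rsum ν k)
    (hν2 : rsum ν 2 = 0) (hν1 : 2 * rsum ν 1 = finrank F W) :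
    Cfsg.Geo.IsPlusTypeOn ⇑Q W := by
  set X : Module.End F (ι → F) := Matrix.toLin' (g : Matrix ι ι F) with hXdef
  have hX : ∀ v, Q (X v) = Q v := by
    intro v
    rw [hXdef, Matrix.toLin'_apply]
    exact (mem_isometryGroup_iff (⇑Q) g).mp hg v
  have hsq : ((X - 1).restrict hW) ^ 2 = 0 := by
    rw [← rk_eq_zero_iff, hr, hν2]
  refine ⟨(LinearMap.range ((X - 1).restrict hW)).map W.subtype, Submodule.map_subtype_le _ _, ?_, ?_⟩
  · rintro _ ⟨_, ⟨w, rfl⟩, rfl⟩
    show Q ((X - 1) (w : ι → F)) = 0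
    have hNn' : (X - 1) ((X - 1) (w : ι → F)) = 0 := by
      have := congrArg (fun f => ((f w : W) : ι → F)) hsq
      simpa only [pow_two, Module.End.mul_apply, LinearMap.coe_restrict_apply,
        LinearMap.zero_apply, ZeroMemClass.coe_zero] using this
    set n : ι → F := (X - 1) (w : ι → F) with hn
    have hNn : (X - 1) n = 0 := hNn'
    have hXn : X n = n := by
      rw [LinearMap.sub_apply, Module.End.one_apply, sub_eq_zero] at hNn; exact hNn
    have hXw : X (w : ι → F) = w + n := by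
      rw [hn, LinearMap.sub_apply, Module.End.one_apply]; abel
    have e1 : polar Q n (X (w : ι → F)) = polar Q n w := by
      have := polar_isom Q X hX n w
      rwa [hXn] at this
    rw [hXw, polar_add_right, Cfsg.Agent.Helper14.WittIso.polar_self'] at e1
    have e2 : (2 : F) * Q n = 0 := by
      rw [add_eq_left] at e1
      exact e1
    exact (mul_eq_zero.mp e2).resolve_left h2
  · rw [Submodule.finrank_map_subtype_eq, ← hν1]
    have := hr 1
    rw [rk, pow_one] at this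
    rw [this]

/-! ### from a model to a matrix -/

theorem exists_matrix_model (Q : QuadraticForm F (ι → F)) (M : QuadModel F)
    (ψ : (ι → F) ≃ₗ[F] M.V) (hψ : ∀ c, M.Q (ψ c) = Q c) :
    (polarBilin Q).Nondegenerate ∧ ∃ g : GL ι F, g ∈ Cfsg.isometryGroup F ⇑Q ∧
      ∀ i, rk (Matrix.toLin' (g : Matrix ι ι F) - 1) i = rk (M.A - 1) i := by
  let X : Module.End F (ι → F) := ψ.symm.toLinearMap ∘ₗ M.A ∘ₗ ψ.toLinearMap
  have hXψ : ∀ c, ψ (X c) = M.A (ψ c) := by
    intro c
    simp [X]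
  set U' : Matrix ι ι F := LinearMap.toMatrix' X with hU'
  have hUX : Matrix.toLin' U' = X := by rw [hU', Matrix.toLin'_toMatrix']
  have hrk : ∀ i, rk (Matrix.toLin' U' - 1) i = rk (M.A - 1) i := by
    intro i
    rw [hUX]
    apply rk_conj _ _ ψ
    intro x
    rw [LinearMap.sub_apply, LinearMap.sub_apply, map_sub, Module.End.one_apply,
      Module.End.one_apply, hXψ]
  have hnil : IsNilpotent (Matrix.toLin' (U' - 1)) := by
    obtain ⟨k, hk⟩ := M.nil
    refine ⟨k, ?_⟩
    rw [← toLin'_sub_one, ← rk_eq_zero_iff, hrk, rk_eq_zero_iff, hk]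
  have hunit : IsUnit U' := by
    have h1 : IsNilpotent (U' - 1) := isNilpotent_matrix_of_toLin' _ hnil
    have := h1.isUnit_one_add
    rwa [add_sub_cancel] at this
  obtain ⟨g, hg⟩ := hunit
  have hmem : g ∈ Cfsg.isometryGroup F ⇑Q := by
    rw [mem_isometryGroup_iff]
    intro x
    rw [hg, ← Matrix.toLin'_apply, hUX, ← hψ, hXψ, M.isom, hψ]
  have hnd : (polarBilin Q).Nondegenerate := by
    apply polar_nondeg_of_left
    intro x hx
    have h1 : ψ x = 0 := by
      apply M.nondeg.1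
      intro z
      obtain ⟨y, rfl⟩ := ψ.surjective z
      have := hx y
      simp only [QuadraticMap.polar, ← hψ, map_add] at this
      simpa [QuadraticMap.polar] using this
    exact ψ.map_eq_zero_iff.mp h1
  refine ⟨hnd, g, hmem, ?_⟩
  intro i
  rw [hg]; exact hrk i

/-! ### membership in `Ω` -/

theorem mem_omegaGL_of_odd (h2 : (2 : F) ≠ 0) (Q : QuadraticForm F (ι → F))
    (hQ : (polarBilin Q).Nondegenerate) (g : GL ι F) (hg : g ∈ Cfsg.isometryGroup F ⇑Q)
    (p : ℕ) (hp : Odd p) (hgp : g ^ p = 1) : g ∈ Cfsg.Geo.omegaGL ⇑Q := by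
  have hF : (∃ s : F, s ≠ 0 ∧ s ≠ 1) ∨ Fintype.card ι ≠ 4 := by
    refine Or.inl ⟨-1, neg_ne_zero.mpr one_ne_zero, ?_⟩
    intro h
    apply h2
    linear_combination -h
  have hgen := Cfsg.Agent.Helper14.ReflGen.isometryGroup_closure_refl Q hQ hF
  have hsq := sq_mem_commutator _ hgen (by
    rintro s ⟨v, hv, hs⟩
    apply Subtype.ext
    apply Units.ext
    show ((s : GL ι F) : Matrix ι ι F) * ((s : GL ι F) : Matrix ι ι F) = 1
    rw [hs]
    exact Cfsg.Agent.Helper14.ReflGen.refl_sq Q v hv) (⟨g, hg⟩ : Cfsg.isometryGroup F ⇑Q)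
  obtain ⟨k, hk⟩ := hp
  have hgp' : (⟨g, hg⟩ : Cfsg.isometryGroup F ⇑Q) ^ p = 1 := by
    apply Subtype.ext
    simpa using hgp
  have heq : (⟨g, hg⟩ : Cfsg.isometryGroup F ⇑Q) = ((⟨g, hg⟩ : Cfsg.isometryGroup F ⇑Q) ^ 2) ^ (k + 1) := by
    rw [← pow_mul, show 2 * (k + 1) = p + 1 by omega, pow_succ, hgp', one_mul]
  refine ⟨⟨g, hg⟩, ?_, rfl⟩
  show (⟨g, hg⟩ : Cfsg.isometryGroup F ⇑Q) ∈ commutator (Cfsg.isometryGroup F ⇑Q)
  rw [heq]
  exact Subgroup.pow_mem _ hsq _

/-! ### unipotent facts -/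

theorem pow_p_eq_one [Nonempty ι] {p : ℕ} [Fact p.Prime] [CharP F p] (g : GL ι F)
    (μ : Multiset ℕ) (hμp : ∀ e ∈ μ, e ≤ p)
    (hμ : ∀ k, rk (Matrix.toLin' (g : Matrix ι ι F) - 1) k = rsum μ k) : g ^ p = 1 := by
  have h0 : (Matrix.toLin' (g : Matrix ι ι F) - 1) ^ p = 0 := by
    rw [← rk_eq_zero_iff, hμ, rsum_eq_zero_of_le μ p hμp]
  have h1 : ((g : Matrix ι ι F) - 1) ^ p = 0 := by
    apply Matrix.toLin'.injective
    rw [Matrix.toLin'_pow, ← toLin'_sub_one, h0, map_zero]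
  rw [sub_pow_char_of_commute p (Commute.one_right _), one_pow, sub_eq_zero] at h1
  apply Units.ext
  rw [Units.val_pow_eq_pow_val, h1]; rfl

theorem not_scalar [Nonempty ι] (g : GL ι F) (μ : Multiset ℕ) (hne : ¬ ∀ e ∈ μ, e ≤ 1)
    (hμ : ∀ k, rk (Matrix.toLin' (g : Matrix ι ι F) - 1) k = rsum μ k) (z : F) :
    (g : Matrix ι ι F) ≠ z • (1 : Matrix ι ι F) := by
  intro hz
  obtain ⟨k, hk⟩ := isNilpotent_of_rsum _ μ hμ
  have hN : Matrix.toLin' (g : Matrix ι ι F) - 1 = (z - 1) • (1 : Module.End F (ι → F)) := by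
    apply LinearMap.ext
    intro v
    rw [hz, map_smul, Matrix.toLin'_one, LinearMap.sub_apply, LinearMap.smul_apply,
      LinearMap.smul_apply, Module.End.one_apply, LinearMap.id_apply, sub_smul, one_smul]
  have hz1 : z = 1 := by
    rw [hN, smul_pow, one_pow] at hk
    obtain ⟨i⟩ := (inferInstance : Nonempty ι)
    have := congrArg (fun f : Module.End F (ι → F) => f (Pi.single i 1) i) hk
    simp only [LinearMap.smul_apply, Module.End.one_apply, Pi.smul_apply, Pi.single_eq_same,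
      smul_eq_mul, mul_one, LinearMap.zero_apply, Pi.zero_apply] at this
    apply sub_eq_zero.mp
    by_contra hne0
    exact pow_ne_zero k hne0 this
  apply hne
  rw [← rsum_one_eq_zero_iff, ← hμ, hN, hz1, sub_self, zero_smul, rk_eq_zero_iff, pow_one]

/-! ### the core statement -/

theorem two_ne_zero_of_odd {K : Type*} [Field K] [Fintype K] {p : ℕ} [Fact p.Prime] [CharP K p]
    (h : Odd (Fintype.card K)) : (2 : K) ≠ 0 ∧ Odd p := by
  have hp : p.Prime := Fact.out
  obtain ⟨n, -, hn⟩ := FiniteField.card K p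
  have hpodd : Odd p := by
    rw [hn] at h
    exact (Nat.odd_pow_iff n.ne_zero).mp h
  refine ⟨?_, hpodd⟩
  intro h2
  have : ((2 : ℕ) : K) = 0 := by exact_mod_cast h2
  rw [CharP.cast_eq_zero_iff K p] at this
  have := (Nat.prime_dvd_prime_iff_eq hp Nat.prime_two).mp this
  rw [this] at hpodd
  exact absurd hpodd (by decide)

theorem ones_case (μ : Multiset ℕ) (hμ0 : ∀ e ∈ μ, 0 < e) (hones : ∀ e ∈ μ, e ≤ 1) (m : ℕ)
    (hm : m ≤ μ.sum) :
    ∃ ν : Multiset ℕ, ν ≤ μ ∧ ν.sum = m ∧ ∀ e : ℕ, Even e → Even (ν.count e) := by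
  have h1 : ∀ e ∈ μ, e = 1 := fun e he => le_antisymm (hones e he) (hμ0 e he)
  have h2 := Multiset.eq_replicate_card.mpr h1
  have h3 : Multiset.card μ = μ.sum := by
    conv_rhs => rw [h2]
    rw [Multiset.sum_replicate, smul_eq_mul, mul_one]
  refine ⟨Multiset.replicate m 1, ?_, by simp, ?_⟩
  · rw [h2, h3, Multiset.replicate_le_replicate]
    exact hm
  · intro e he
    rw [Multiset.count_replicate, if_neg]
    · exact ⟨0, rfl⟩
    · rintro rfl
      exact absurd he (by decide)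

theorem core (h2 : (2 : F) ≠ 0) {p : ℕ} [Fact p.Prime] [CharP F p] (hpodd : Odd p) [Nonempty ι]
    (Q : QuadraticForm F (ι → F)) (μ : Multiset ℕ) (hμp : ∀ e ∈ μ, e ≤ p)
    (hne : ¬ ∀ e ∈ μ, e ≤ 1) (M : QuadModel F) (hM : ∀ i, rk (M.A - 1) i = rsum μ i)
    (ψ : (ι → F) ≃ₗ[F] M.V) (hψ : ∀ c, M.Q (ψ c) = Q c) :
    ∃ g : GL ι F, g ∈ Cfsg.Geo.omegaGL ⇑Q ∧ g ∈ Cfsg.isometryGroup F ⇑Q ∧ g ^ p = 1 ∧
      (∀ z : F, (g : Matrix ι ι F) ≠ z • (1 : Matrix ι ι F)) ∧
      ∀ k, rk (Matrix.toLin' (g : Matrix ι ι F) - 1) k = rsum μ k := by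
  obtain ⟨hnd, g, hg, hrk⟩ := exists_matrix_model Q M ψ hψ
  have hμr : ∀ k, rk (Matrix.toLin' (g : Matrix ι ι F) - 1) k = rsum μ k :=
    fun k => (hrk k).trans (hM k)
  have hgp : g ^ p = 1 := pow_p_eq_one g μ hμp hμr
  exact ⟨g, mem_omegaGL_of_odd h2 Q hnd g hg p hpodd hgp, hg, hgp, not_scalar g μ hne hμr, hμr⟩

theorem orderOf_eq_of_core {p : ℕ} [Fact p.Prime] (g : GL ι F) (hgp : g ^ p = 1)
    (hns : ∀ z : F, (g : Matrix ι ι F) ≠ z • (1 : Matrix ι ι F)) : orderOf g = p := by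
  apply orderOf_eq_prime hgp
  rintro rfl
  exact hns 1 (by simp)

end Cfsg.Agent.Helper14.UnipOmega
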